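import Mathlib

/-!
# Pure group theory for piece PAR of S1421 (helper70)

`A` of order `p ^ 2`, abelian, normalized by `E`, with `[E, E]` centralizing `A`.  If `E` normalizes
no subgroup of order `p` of `A`, then some element of `E` of prime power order normalizes no subgroup
of order `p` of `A`.
-/

set_option autoImplicit false

namespace Cfsg.Agent.Lib.helper70.BG8

variable {G : Type*} [Group G]

/-- `e` acts on `A` as a power map. -/
def IsSc (A : Subgroup G) (e : G) : Prop := ∃ k : ℕ, ∀ a ∈ A, e * a * e⁻¹ = a ^ k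

theorem isSc_one (A : Subgroup G) : IsSc A 1 := ⟨1, fun a _ => by simp⟩

theorem IsSc.mul {A : Subgroup G} {e f : G} (he : IsSc A e) (hf : IsSc A f) : IsSc A (e * f) := by
  obtain ⟨k, hk⟩ := he
  obtain ⟨l, hl⟩ := hf
  refine ⟨k * l, fun a ha => ?_⟩
  have : e * f * a * (e * f)⁻¹ = e * (f * a * f⁻¹) * e⁻¹ := by group
  rw [this, hl a ha, ← conj_pow, hk a ha, ← pow_mul]

theorem IsSc.pow {A : Subgroup G} {e : G} (he : IsSc A e) (n : ℕ) : IsSc A (e ^ n) := by
  induction n with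
  | zero => simpa using isSc_one A
  | succ n ih => rw [pow_succ]; exact ih.mul he

theorem IsSc.inv [Finite G] {A : Subgroup G} {e : G} (he : IsSc A e) : IsSc A e⁻¹ := by
  have h1 : e⁻¹ = e ^ (orderOf e - 1) := by
    apply inv_eq_of_mul_eq_one_right
    rw [← pow_succ', Nat.sub_add_cancel (orderOf_pos e), pow_orderOf_eq_one]
  rw [h1]; exact he.pow _

theorem IsSc.zpow [Finite G] {A : Subgroup G} {e : G} (he : IsSc A e) (z : ℤ) :
    IsSc A (e ^ z) := by
  cases z with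
  | ofNat n => simpa using he.pow n
  | negSucc n => rw [zpow_negSucc]; exact (he.pow _).inv

/-- A subgroup of prime order is generated by any of its non-identity elements. -/
theorem eq_zpowers_of_card_prime [Finite G] (p : ℕ) [Fact p.Prime] (Y : Subgroup G)
    (hYc : Nat.card Y = p) (y : G) (hy : y ∈ Y) (hy1 : y ≠ 1) : Subgroup.zpowers y = Y := by
  have hp : p.Prime := Fact.out
  have hle : Subgroup.zpowers y ≤ Y := by rw [Subgroup.zpowers_le]; exact hy
  apply Subgroup.eq_of_le_of_card_ge hle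
  have h1 : orderOf y ∣ p := hYc ▸ Subgroup.orderOf_dvd_natCard Y hy
  rcases (Nat.dvd_prime hp).mp h1 with h | h
  · exact absurd (orderOf_eq_one_iff.mp h) hy1
  · rw [Nat.card_zpowers, h, hYc]

/-- If `E` normalizes no line of `A`, an element of `E` normalizing a line acts as a power map. -/
theorem isSc_of_normalizes_line [Finite G] (p : ℕ) [Fact p.Prime] (A E : Subgroup G)
    (hAc : Nat.card A = p ^ 2) (hAab : ∀ a ∈ A, ∀ b ∈ A, a * b = b * a)
    (hEA : E ≤ Subgroup.normalizer (A : Set G))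
    (hcomm : ∀ x ∈ E, ∀ y ∈ E, x * y * x⁻¹ * y⁻¹ ∈ Subgroup.centralizer (A : Set G))
    (hno : ¬ ∃ Y : Subgroup G, Y ≤ A ∧ Nat.card Y = p ∧ E ≤ Subgroup.normalizer (Y : Set G))
    (e : G) (he : e ∈ E) (Y : Subgroup G) (hYA : Y ≤ A) (hYc : Nat.card Y = p)
    (heY : e ∈ Subgroup.normalizer (Y : Set G)) : IsSc A e := by
  have hp : p.Prime := Fact.out
  have hY1 : Y ≠ ⊥ := by
    intro h
    rw [h, Subgroup.card_bot] at hYc
    exact hp.ne_one hYc.symm
  obtain ⟨⟨y, hyY⟩, hy1'⟩ := (Subgroup.ne_bot_iff_exists_ne_one).mp hY1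
  have hy1 : y ≠ 1 := fun h => hy1' (Subtype.ext h)
  have hYz := eq_zpowers_of_card_prime p Y hYc y hyY hy1
  -- `e` acts on `y` as a power
  have h1 : e * y * e⁻¹ ∈ Subgroup.zpowers y := by
    rw [hYz]
    exact ((Subgroup.mem_normalizer_iff.mp heY) y).mp hyY
  rw [← mem_powers_iff_mem_zpowers, Submonoid.mem_powers_iff] at h1
  obtain ⟨k, hk⟩ := h1
  -- some `f ∈ E` moves the line
  have hf : ∃ f ∈ E, f * y * f⁻¹ ∉ Y := by
    by_contra hcon
    push Not at hcon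
    apply hno
    refine ⟨Y, hYA, hYc, ?_⟩
    rw [Subgroup.le_normalizer_iff]
    intro f hf n hn
    rw [← hYz] at hn
    obtain ⟨j, rfl⟩ := Subgroup.mem_zpowers_iff.mp hn
    rw [← conj_zpow]
    exact Y.zpow_mem (hcon f hf) j
  obtain ⟨f, hfE, hfy⟩ := hf
  have hyA : y ∈ A := hYA hyY
  -- the subgroup of `A` where `e` acts as the `k`-th power
  let T : Subgroup G :=
    { carrier := {a | a ∈ A ∧ e * a * e⁻¹ = a ^ k}
      mul_mem' := by
        rintro a b ⟨ha, ha'⟩ ⟨hb, hb'⟩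
        refine ⟨A.mul_mem ha hb, ?_⟩
        have : e * (a * b) * e⁻¹ = (e * a * e⁻¹) * (e * b * e⁻¹) := by group
        rw [this, ha', hb', (show Commute a b from hAab a ha b hb).mul_pow]
      one_mem' := ⟨A.one_mem, by simp⟩
      inv_mem' := by
        rintro a ⟨ha, ha'⟩
        refine ⟨A.inv_mem ha, ?_⟩
        have : e * a⁻¹ * e⁻¹ = (e * a * e⁻¹)⁻¹ := by group
        rw [this, ha', inv_pow] }
  have hTA : T ≤ A := fun a ha => ha.1
  have hyT : y ∈ T := ⟨hyA, hk.symm⟩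
  have hfN : f ∈ Subgroup.normalizer (A : Set G) := hEA hfE
  have hy2A : f * y * f⁻¹ ∈ A := ((Subgroup.mem_normalizer_iff.mp hfN) y).mp hyA
  have hy2T : f * y * f⁻¹ ∈ T := by
    refine ⟨hy2A, ?_⟩
    have hc := hcomm e⁻¹ (E.inv_mem he) f⁻¹ (E.inv_mem hfE)
    have hcy := Subgroup.mem_centralizer_iff.mp hc y hyA
    have h2 : e * (f * y * f⁻¹) * e⁻¹
        = f * (e * ((e⁻¹ * f⁻¹ * e⁻¹⁻¹ * f⁻¹⁻¹) * y * (e⁻¹ * f⁻¹ * e⁻¹⁻¹ * f⁻¹⁻¹)⁻¹) * e⁻¹) * f⁻¹ := by
      group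
    rw [h2, ← hcy, mul_inv_cancel_right, ← hk, conj_pow]
  have hYT : Y ≤ T := by rw [← hYz, Subgroup.zpowers_le]; exact hyT
  have hTc : Nat.card T = p ^ 2 := by
    have h3 : Nat.card T ∣ p ^ 2 := hAc ▸ Subgroup.card_dvd_of_le hTA
    obtain ⟨i, hi, hi'⟩ := (Nat.dvd_prime_pow hp).mp h3
    have h4 : p ∣ Nat.card T := hYc ▸ Subgroup.card_dvd_of_le hYT
    interval_cases i
    · rw [hi', pow_zero] at h4
      exact absurd (Nat.dvd_one.mp h4) hp.ne_one
    · exfalso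
      apply hfy
      have : Y = T := Subgroup.eq_of_le_of_card_ge hYT (by rw [hi', hYc, pow_one])
      rw [this]; exact hy2T
    · exact hi'
  have hTeq : T = A := Subgroup.eq_of_le_of_card_ge hTA (by rw [hTc, hAc])
  exact ⟨k, fun a ha => (hTeq ▸ ha : a ∈ T).2⟩

/-- If `E` normalizes no line of `A`, some element of `E` of prime power order normalizes no line. -/
theorem exists_irred_prime_power [Finite G] (p : ℕ) [Fact p.Prime] (A E : Subgroup G)
    (hAc : Nat.card A = p ^ 2) (hAab : ∀ a ∈ A, ∀ b ∈ A, a * b = b * a)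
    (hEA : E ≤ Subgroup.normalizer (A : Set G))
    (hcomm : ∀ x ∈ E, ∀ y ∈ E, x * y * x⁻¹ * y⁻¹ ∈ Subgroup.centralizer (A : Set G))
    (hno : ¬ ∃ Y : Subgroup G, Y ≤ A ∧ Nat.card Y = p ∧ E ≤ Subgroup.normalizer (Y : Set G)) :
    ∃ e ∈ E, ∃ r : ℕ, r.Prime ∧ ∃ k : ℕ, orderOf e = r ^ k ∧ ¬ IsSc A e ∧
      ∀ Y : Subgroup G, Y ≤ A → Nat.card Y = p → e ∉ Subgroup.normalizer (Y : Set G) := by
  have hp : p.Prime := Fact.out
  -- some element of `E` is not scalar
  have hex : ∃ n : ℕ, ∃ e ∈ E, ¬ IsSc A e ∧ orderOf e = n := by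
    by_contra hcon
    push Not at hcon
    have hall : ∀ e ∈ E, IsSc A e := by
      intro e he
      by_contra h
      exact hcon _ e he h rfl
    apply hno
    have hdvd : p ∣ Nat.card A := by rw [hAc]; exact dvd_pow_self p (by norm_num)
    obtain ⟨a, ha⟩ := exists_prime_orderOf_dvd_card' p hdvd
    have ha' : orderOf (a : G) = p := by rw [Subgroup.orderOf_coe]; exact ha
    refine ⟨Subgroup.zpowers (a : G), ?_, ?_, ?_⟩
    · rw [Subgroup.zpowers_le]; exact a.2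
    · rw [Nat.card_zpowers, ha']
    · rw [Subgroup.le_normalizer_iff]
      intro f hf n hn
      obtain ⟨j, rfl⟩ := Subgroup.mem_zpowers_iff.mp hn
      obtain ⟨k, hk⟩ := hall f hf
      rw [← conj_zpow, hk a a.2]
      exact Subgroup.zpow_mem _ (Subgroup.pow_mem _ (Subgroup.mem_zpowers _) k) j
  classical
  obtain ⟨e, heE, heS, heo⟩ := Nat.find_spec hex
  have hmin : ∀ f ∈ E, orderOf f < Nat.find hex → IsSc A f := by
    intro f hf hlt
    by_contra h
    exact Nat.find_min hex hlt ⟨f, hf, h, rfl⟩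
  rw [← heo] at hmin
  have he1 : e ≠ 1 := by
    rintro rfl
    exact heS (isSc_one A)
  have hn0 : orderOf e ≠ 0 := (orderOf_pos e).ne'
  have hn1 : orderOf e ≠ 1 := fun h => he1 (orderOf_eq_one_iff.mp h)
  obtain ⟨r, hrdef⟩ : ∃ r : ℕ, r = (orderOf e).minFac := ⟨_, rfl⟩
  have hr : r.Prime := hrdef ▸ Nat.minFac_prime hn1
  have hrd : r ∣ orderOf e := hrdef ▸ Nat.minFac_dvd _
  obtain ⟨k, m, hm, hn⟩ := Nat.exists_eq_pow_mul_and_not_dvd hn0 r hr.ne_one
  have hline : ∀ Y : Subgroup G, Y ≤ A → Nat.card Y = p →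
      e ∉ Subgroup.normalizer (Y : Set G) := fun Y hYA hYc heY =>
    heS (isSc_of_normalizes_line p A E hAc hAab hEA hcomm hno e heE Y hYA hYc heY)
  refine ⟨e, heE, r, hr, k, ?_, heS, hline⟩
  by_cases hm1 : m = 1
  · rw [hn, hm1, mul_one]
  exfalso
  have hm0 : m ≠ 0 := by
    rintro rfl
    rw [mul_zero] at hn
    exact hn0 hn
  have hk0 : k ≠ 0 := by
    rintro rfl
    rw [pow_zero, one_mul] at hn
    exact hm (hn ▸ hrd)
  have hrk : 2 ≤ r ^ k := le_trans hr.two_le (Nat.le_self_pow hk0 _)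
  have hrk0 : r ^ k ≠ 0 := pow_ne_zero k hr.ne_zero
  have hm2 : 2 ≤ m := by omega
  have ho1 : orderOf (e ^ (r ^ k)) = m := by
    rw [orderOf_pow_of_dvd hrk0 (Dvd.intro _ hn.symm)]
    conv_lhs => rw [hn]
    exact Nat.mul_div_cancel_left m (Nat.pos_of_ne_zero hrk0)
  have ho2 : orderOf (e ^ m) = r ^ k := by
    rw [orderOf_pow_of_dvd hm0 (Dvd.intro_left _ hn.symm)]
    conv_lhs => rw [hn]
    exact Nat.mul_div_cancel _ (Nat.pos_of_ne_zero hm0)
  have hs1 : IsSc A (e ^ (r ^ k)) := by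
    apply hmin _ (E.pow_mem heE _)
    rw [ho1]
    conv_rhs => rw [hn]
    nlinarith
  have hs2 : IsSc A (e ^ m) := by
    apply hmin _ (E.pow_mem heE _)
    rw [ho2]
    conv_rhs => rw [hn]
    nlinarith
  have hcop : Nat.Coprime (r ^ k) m :=
    Nat.Coprime.pow_left _ ((Nat.Prime.coprime_iff_not_dvd hr).mpr hm)
  have hb := Nat.gcd_eq_gcd_ab (r ^ k) m
  rw [hcop] at hb
  apply heS
  have : e = (e ^ (r ^ k)) ^ (Nat.gcdA (r ^ k) m) * (e ^ m) ^ (Nat.gcdB (r ^ k) m) := by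
    rw [← zpow_natCast, ← zpow_natCast, ← zpow_mul, ← zpow_mul, ← zpow_add, ← hb]
    simp
  rw [this]
  exact (hs1.zpow _).mul (hs2.zpow _)

end Cfsg.Agent.Lib.helper70.BG8
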