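import Mathlib
import Cfsg.Agent.S1403
import Cfsg.Agent.S1405
import Cfsg.Agent.S1406
import Cfsg.Agent.S1414
import Cfsg.Agent.Lib.helper1.BGStep1
import Cfsg.Agent.Lib.helper1.Coprime
import Cfsg.Agent.Lib.helper12.FrobFixB
import Cfsg.Agent.Lib.helper13.Count
import Cfsg.Agent.Lib.helper28.PConn
import Cfsg.Agent.Lib.helper71.BGTenA
import Cfsg.Agent.Lib.helper71.BGTwelveThree
import Cfsg.Agent.Lib.helper8.BGTen1
import Cfsg.Agent.Lib.helper8.BGTen3
import Cfsg.Agent.Lib.helper69.BGKappaA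
import Cfsg.Agent.Lib.helper70.BG8PARa

/-!
# The asymmetry lemma of Bender-Glauberman (B-G 13.5 / `tau1_mmaxI_asymmetry`), part A (helper70)

One-sided facts: `M` a maximal subgroup, `P ≤ M` of prime order `p ∈ τ₁(M)`, `Q` a `P`-invariant
Sylow `q`-subgroup of `M` with `C_Q(P) = 1` and `N_G(Q) ≤ L` for a maximal subgroup `L ≠ M`.
-/

set_option autoImplicit false

namespace Cfsg.Agent.Lib.helper70

open Cfsg
open scoped commutatorElement

variable {G : Type*} [Group G]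

/-- A maximal `q`-subgroup of `M` is (the image of) a Sylow `q`-subgroup of `M`. -/
theorem asym_sylow_of_max [Finite G] {M Q : Subgroup G} {q : ℕ} [Fact q.Prime]
    (hQ : IsPGroup q Q) (hQM : Q ≤ M)
    (hmax : ∀ Q1 : Subgroup G, IsPGroup q Q1 → Q1 ≤ M → Q ≤ Q1 → Q1 = Q) :
    ∃ S : Sylow q ↥M, (S : Subgroup ↥M).map M.subtype = Q := by
  have h1 : IsPGroup q (Q.subgroupOf M) := hQ.comap_subtype
  obtain ⟨S, hS⟩ := h1.exists_le_sylow
  refine ⟨S, ?_⟩
  apply hmax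
  · exact S.isPGroup'.map M.subtype
  · exact Subgroup.map_subtype_le _
  · have h2 := Subgroup.map_mono (f := M.subtype) hS
    rwa [Subgroup.map_subgroupOf_eq_of_le hQM] at h2

/-- A Sylow subgroup of `M ∩ L` whose normalizer lies in `L` is a Sylow subgroup of `M`. -/
theorem asym_syl [Finite G] {M L Q : Subgroup G} {q : ℕ} [Fact q.Prime]
    (hQL : Q ≤ L)
    (hQsyl : ∀ Q1 : Subgroup G, IsPGroup q Q1 → Q1 ≤ M → Q1 ≤ L → Q ≤ Q1 → Q1 = Q)
    (hNQ : Subgroup.normalizer (Q : Set G) ≤ L) :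
    ∀ Q1 : Subgroup G, IsPGroup q Q1 → Q1 ≤ M → Q ≤ Q1 → Q1 = Q := by
  intro Q1 hQ1 hQ1M hle
  by_contra hne
  have hlt : Q < Q1 := lt_of_le_of_ne hle (Ne.symm hne)
  obtain ⟨x, hxQ1, hxQ, hxN⟩ := Cfsg.Agent.Lib.helper1.bg1_exists_normalizing hQ1 hlt
  have hle2 : Q ⊔ Subgroup.zpowers x ≤ Q1 :=
    sup_le hle (by rw [Subgroup.zpowers_le]; exact hxQ1)
  have h2 := hQsyl (Q ⊔ Subgroup.zpowers x) (hQ1.to_le hle2) (hle2.trans hQ1M)
    (sup_le hQL (by rw [Subgroup.zpowers_le]; exact hNQ hxN)) le_sup_left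
  apply hxQ
  rw [← h2]
  exact (le_sup_right : Subgroup.zpowers x ≤ Q ⊔ Subgroup.zpowers x) (Subgroup.mem_zpowers x)

/-- `q ∉ α(M)`. -/
theorem asym_not_alpha [Finite G] (hG : IsMinSimpleOddOrder G) {M L Q : Subgroup G}
    (hM : IsCoatom M) (hL : IsCoatom L) (hne : L ≠ M) {q : ℕ} [Fact q.Prime]
    (hQ : IsPGroup q Q) (hQM : Q ≤ M) (hQL : Q ≤ L)
    (hmax : ∀ Q1 : Subgroup G, IsPGroup q Q1 → Q1 ≤ M → Q ≤ Q1 → Q1 = Q) : q ∉ alpha M := by
  intro hα
  have hq : q.Prime := Fact.out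
  obtain ⟨S, hS⟩ := asym_sylow_of_max hQ hQM hmax
  obtain ⟨B, hBM, hBe, hcard⟩ :=
    (Cfsg.Agent.Lib.helper28.not_pRankLE_subgroup_iff q 2 M).mp hα.2
  have h3 := Cfsg.Agent.Lib.helper71.BGA.not_prankLE_sylow_map S hBM hBe hcard
  rw [hS] at h3
  have hU : InUniqueMaximal Q := by
    apply Cfsg.Agent.S1403.result hG Q
    · rintro rfl
      exact hM.1 (top_le_iff.mp hQM)
    · intro h
      exact h3 (fun A hA hAe => (h q hq A hA hAe).trans
        (Nat.pow_le_pow_right hq.pos (by norm_num)))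
    · left
      intro h
      exact h3 (h q hq)
  obtain ⟨N, -, hN⟩ := hU
  exact hne ((hN L ⟨hL, hQL⟩).trans (hN M ⟨hM, hQM⟩).symm)

/-- A normal Hall `π`-subgroup of `M` contains every `π`-subgroup of `M`. -/
theorem asym_le_of_hall [Finite G] {π : Set ℕ} {K M Y : Subgroup G} (hK : IsPiHallOf π K M)
    (hn : M ≤ Subgroup.normalizer (K : Set G)) (hYM : Y ≤ M)
    (hY : ∀ p : ℕ, p.Prime → p ∣ Nat.card Y → p ∈ π) : Y ≤ K := by
  intro y hy
  have hyM := hYM hy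
  have : (K.subgroupOf M).Normal := Subgroup.normal_subgroupOf_of_le_normalizer hn
  have h1 : (⟨y, hyM⟩ : M) ^ (K.subgroupOf M).index ∈ K.subgroupOf M :=
    Subgroup.pow_index_mem _ _
  have h2 : y ^ K.relIndex M ∈ K := by
    rw [Subgroup.mem_subgroupOf] at h1
    simpa [Subgroup.relIndex] using h1
  have hcop : (K.relIndex M).Coprime (orderOf y) := by
    apply Nat.Coprime.symm
    apply Nat.coprime_of_dvd
    intro k hk hky
    exact hK.2.2 k hk (hY k hk (hky.trans (Subgroup.orderOf_dvd_natCard Y hy)))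
  obtain ⟨m, hm⟩ := exists_pow_eq_self_of_coprime hcop
  rw [← hm]
  exact pow_mem h2 m

/-- The prime divisors of the order of a `t`-group are `t`. -/
theorem asym_prime_of_dvd_card [Finite G] {t : ℕ} [Fact t.Prime] {B : Subgroup G}
    (hB : IsPGroup t B) {p : ℕ} (hp : p.Prime) (h : p ∣ Nat.card B) : p = t := by
  obtain ⟨n, hn⟩ := IsPGroup.iff_card.mp hB
  rw [hn] at h
  exact (Nat.prime_dvd_prime_iff_eq hp Fact.out).mp (hp.dvd_of_dvd_pow h)

theorem asym_isPGroup_of_elemAb {t : ℕ} {B : Subgroup G} (hB : IsElementaryAbelian t B) :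
    IsPGroup t B := by
  intro g
  refine ⟨1, ?_⟩
  rw [pow_one]
  exact Subtype.ext (by simpa using hB.2 g g.2)

/-- Frattini argument for a Sylow subgroup inside a normal subgroup that is nilpotent modulo `N`. -/
theorem asym_frattini_aux {X : Type*} [Group X] [Finite X] (N D : Subgroup X) [N.Normal]
    [D.Normal] (hnil : Group.IsNilpotent ↥(D.map (QuotientGroup.mk' N))) {q : ℕ} [Fact q.Prime]
    (S : Sylow q X) (hSD : (S : Subgroup X) ≤ D) :
    N ⊔ Subgroup.normalizer ((S : Subgroup X) : Set X) = ⊤ := by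
  have hφs : Function.Surjective (QuotientGroup.mk' N) := QuotientGroup.mk'_surjective N
  have hKn : (D.map (QuotientGroup.mk' N)).Normal := Subgroup.Normal.map inferInstance _ hφs
  have hSQK : ((S.mapSurjective hφs : Sylow q (X ⧸ N)) : Subgroup (X ⧸ N)) ≤
      D.map (QuotientGroup.mk' N) := by
    rw [Sylow.coe_mapSurjective]
    exact Subgroup.map_mono hSD
  have hSK : (((S.mapSurjective hφs).subtype hSQK : Sylow q ↥(D.map (QuotientGroup.mk' N))) :
      Subgroup ↥(D.map (QuotientGroup.mk' N))).Normal := by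
    have h0 := (Group.isNilpotent_of_finite_tfae (G := ↥(D.map (QuotientGroup.mk' N)))).out 0 3
    exact (h0.mp hnil) q inferInstance ((S.mapSurjective hφs).subtype hSQK)
  have hchar : (((S.mapSurjective hφs).subtype hSQK : Sylow q ↥(D.map (QuotientGroup.mk' N))) :
      Subgroup ↥(D.map (QuotientGroup.mk' N))).Characteristic :=
    Sylow.characteristic_of_normal _ hSK
  have h3 : ((((S.mapSurjective hφs).subtype hSQK : Sylow q ↥(D.map (QuotientGroup.mk' N))) :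
      Subgroup ↥(D.map (QuotientGroup.mk' N))).map (D.map (QuotientGroup.mk' N)).subtype).Normal :=
    ConjAct.normal_of_characteristic_of_normal
  rw [Sylow.coe_subtype, Subgroup.subgroupOf_map_subtype, inf_of_le_left hSQK] at h3
  have hcn : ((S : Subgroup X) ⊔ N).Normal := by
    have h4 := h3.comap (QuotientGroup.mk' N)
    rw [Sylow.coe_mapSurjective, Subgroup.comap_map_eq, QuotientGroup.ker_mk'] at h4
    exact h4
  have hfr := Sylow.normalizer_sup_eq_top' S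
    (le_sup_left : (S : Subgroup X) ≤ (S : Subgroup X) ⊔ N)
  rw [← top_le_iff, ← hfr]
  exact sup_le le_sup_right (sup_le (Subgroup.le_normalizer.trans le_sup_right) le_sup_left)

/-- Frattini: `M = M_α N_M(Q)` for a Sylow `q`-subgroup `Q` of `M` contained in `M'`. -/
theorem asym_frattini [Finite G] (hG : IsMinSimpleOddOrder G) {M Q : Subgroup G} (hM : IsCoatom M)
    {q : ℕ} [Fact q.Prime] (hQ : IsPGroup q Q) (hQM : Q ≤ M)
    (hmax : ∀ Q1 : Subgroup G, IsPGroup q Q1 → Q1 ≤ M → Q ≤ Q1 → Q1 = Q)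
    (hQc : Q ≤ ⁅M, M⁆) :
    ∀ m ∈ M, ∃ a ∈ alphaCore M, ∃ n ∈ M ⊓ Subgroup.normalizer (Q : Set G), m = a * n := by
  obtain ⟨S, hS⟩ := asym_sylow_of_max hQ hQM hmax
  have hnil := (Cfsg.Agent.S1405.result hG M hM).2.2.2.2
  have hSD : (S : Subgroup ↥M) ≤ commutator ↥M := by
    intro x hx
    rw [Cfsg.Agent.Lib.helper12.ff_mem_commutator]
    apply hQc
    rw [← hS]
    exact Subgroup.mem_map_of_mem _ hx
  have hfr2 := asym_frattini_aux (piCore (alpha M) ↥M) (commutator ↥M) hnil S hSD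
  intro m hm
  have hmem : (⟨m, hm⟩ : ↥M) ∈ ((piCore (alpha M) ↥M ⊔
      Subgroup.normalizer ((S : Subgroup ↥M) : Set ↥M) : Subgroup ↥M) : Set ↥M) := by
    rw [hfr2]; exact Subgroup.mem_top _
  rw [Subgroup.normal_mul, Set.mem_mul] at hmem
  obtain ⟨a, ha, n, hn, han⟩ := hmem
  refine ⟨(a : G), Subgroup.mem_map_of_mem M.subtype ha, (n : G), ⟨n.2, ?_⟩, ?_⟩
  · rw [← hS]
    exact Subgroup.le_normalizer_map M.subtype (Subgroup.mem_map_of_mem M.subtype hn)
  · have := congrArg (Subtype.val) han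
    simpa using this.symm

/-- `M_α ≠ 1`. -/
theorem asym_alphaCore_ne_bot [Finite G] (hG : IsMinSimpleOddOrder G) {M L Q : Subgroup G}
    (hM : IsCoatom M) (hL : IsCoatom L) (hne : L ≠ M) {q : ℕ} [Fact q.Prime]
    (hQ : IsPGroup q Q) (hQM : Q ≤ M)
    (hmax : ∀ Q1 : Subgroup G, IsPGroup q Q1 → Q1 ≤ M → Q ≤ Q1 → Q1 = Q)
    (hQc : Q ≤ ⁅M, M⁆) (hNQ : Subgroup.normalizer (Q : Set G) ≤ L) : alphaCore M ≠ ⊥ := by
  intro h
  have hML : M ≤ L := by
    intro m hm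
    obtain ⟨a, ha, n, hn, rfl⟩ := asym_frattini hG hM hQ hQM hmax hQc m hm
    rw [h, Subgroup.mem_bot] at ha
    rw [ha, one_mul]
    exact hNQ hn.2
  exact hne ((hM.le_iff.mp hML).resolve_left hL.1)

/-- Subgroups whose order is prime to `α(M)` have order prime to `|M_α|`. -/
theorem asym_coprime_alpha [Finite G] {M Y : Subgroup G}
    (hY : ∀ k : ℕ, k.Prime → k ∣ Nat.card Y → k ∉ alpha M) :
    (Nat.card Y).Coprime (Nat.card (alphaCore M)) := by
  apply Nat.coprime_of_dvd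
  intro k hk hkY hkα
  exact hY k hk hkY (Cfsg.Agent.Lib.helper71.BG12.mem_alpha_of_dvd_card_alphaCore M hk hkα)

theorem asym_coprime_alpha' [Finite G] {M Y Z : Subgroup G} (hZ : Z ≤ alphaCore M)
    (hY : ∀ k : ℕ, k.Prime → k ∣ Nat.card Y → k ∉ alpha M) :
    (Nat.card Y).Coprime (Nat.card Z) :=
  Nat.Coprime.coprime_dvd_right (Subgroup.card_dvd_of_le hZ) (asym_coprime_alpha hY)

/-- An el. ab. `t`-subgroup of order `> t ^ 2` of `M` in `L`, for `t ∈ α(M)`, forces `L = M`. -/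
theorem asym_uniq_of_alpha_le [Finite G] (hG : IsMinSimpleOddOrder G) {M L : Subgroup G}
    (hM : IsCoatom M) (hL : IsCoatom L) (hαL : alphaCore M ≤ L) (hα1 : alphaCore M ≠ ⊥) :
    L = M := by
  have h5 := Cfsg.Agent.S1405.result hG M hM
  have hαn : M ≤ Subgroup.normalizer (alphaCore M : Set G) :=
    Cfsg.Agent.Lib.helper71.BGA.le_normalizer_alphaCore M
  have hc1 : Nat.card (alphaCore M) ≠ 1 := fun h => hα1 (Subgroup.eq_bot_of_card_eq _ h)
  obtain ⟨t, htp, htd⟩ := Nat.exists_prime_and_dvd hc1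
  have ht : t ∈ alpha M := Cfsg.Agent.Lib.helper71.BG12.mem_alpha_of_dvd_card_alphaCore M htp htd
  have : Fact t.Prime := ⟨htp⟩
  obtain ⟨B, hBM, hBe, hcard⟩ :=
    (Cfsg.Agent.Lib.helper28.not_pRankLE_subgroup_iff t 2 M).mp ht.2
  have hBα : B ≤ alphaCore M := asym_le_of_hall h5.1 hαn hBM (by
    intro k hk hkB
    rw [asym_prime_of_dvd_card (asym_isPGroup_of_elemAb hBe) hk hkB]
    exact ht)
  have hU : InUniqueMaximal B := by
    apply Cfsg.Agent.S1403.result hG B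
    · rintro rfl
      exact hM.1 (top_le_iff.mp hBM)
    · exact Cfsg.Agent.Lib.helper8.bg_not_rankLE_of_elemAb htp hBe
        (lt_of_le_of_lt (Nat.pow_le_pow_right htp.pos (by norm_num)) hcard)
    · left
      exact Cfsg.Agent.Lib.helper8.bg_not_rankLE_of_elemAb htp hBe hcard
  obtain ⟨N, -, hN⟩ := hU
  exact (hN L ⟨hL, hBα.trans hαL⟩).trans (hN M ⟨hM, hBM⟩).symm

/-- `α(M) ⊆ β(M)`. -/
theorem asym_alpha_beta [Finite G] (hG : IsMinSimpleOddOrder G) {M L Q : Subgroup G}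
    (hM : IsCoatom M) (hL : IsCoatom L) (hne : L ≠ M) {q : ℕ} [Fact q.Prime]
    (hQ : IsPGroup q Q) (hQM : Q ≤ M) (hqα : q ∉ alpha M) (hQc : Q ≤ ⁅M, M⁆)
    (hNQ : Subgroup.normalizer (Q : Set G) ≤ L) {t : ℕ} (ht : t ∈ alpha M) : t ∈ beta M := by
  by_contra htβ
  have hq : q.Prime := Fact.out
  have htp : t.Prime := ht.1
  have : Fact t.Prime := ⟨htp⟩
  obtain ⟨hodd, -, -, hsolv⟩ := id hG
  have h5 := Cfsg.Agent.S1405.result hG M hM
  have hαn : M ≤ Subgroup.normalizer (alphaCore M : Set G) :=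
    Cfsg.Agent.Lib.helper71.BGA.le_normalizer_alphaCore M
  have hαM : alphaCore M ≤ M := Cfsg.Agent.Lib.helper71.BGA.alphaCore_le M
  have hqt : q ≠ t := by rintro rfl; exact hqα ht
  have hQα : ∀ k : ℕ, k.Prime → k ∣ Nat.card Q → k ∉ alpha M := by
    intro k hk hkQ
    rw [asym_prime_of_dvd_card hQ hk hkQ]
    exact hqα
  obtain ⟨B, hBM, hBe, hcard⟩ :=
    (Cfsg.Agent.Lib.helper28.not_pRankLE_subgroup_iff t 2 M).mp ht.2
  have hBα : B ≤ alphaCore M := asym_le_of_hall h5.1 hαn hBM (by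
    intro k hk hkB
    rw [asym_prime_of_dvd_card (asym_isPGroup_of_elemAb hBe) hk hkB]
    exact ht)
  have hαsolv : Group.IsSolvable (alphaCore M) := hsolv _ (by
    intro h
    exact hM.1 (top_le_iff.mp (h ▸ hαM)))
  obtain ⟨T, hT⟩ := Cfsg.Agent.Lib.helper1.exists_invariant_sylow (p := t) Q (alphaCore M)
    (hQM.trans hαn) (asym_coprime_alpha hQα) (Or.inr hαsolv)
  have hTr := Cfsg.Agent.Lib.helper71.BGA.not_prankLE_sylow_map T hBα hBe hcard
  have hTp : IsPGroup t ((T : Subgroup (alphaCore M)).map (alphaCore M).subtype) :=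
    T.isPGroup'.map _
  have hTα : (T : Subgroup (alphaCore M)).map (alphaCore M).subtype ≤ alphaCore M :=
    Subgroup.map_subtype_le _
  -- the normal `t`-complement of `M'`
  obtain ⟨Pt, Nt, hNtn, hcompl⟩ := ((Cfsg.Agent.S1414.result hG M hM).2.2.2.2 t htp
    (Cfsg.Agent.Lib.helper8.bg_dvd_card_of_alpha M ht) htβ).1
  have hkey : ∀ (y : G) (hy : y ∈ ⁅M, M⁆), (orderOf y).Coprime t →
      (⟨y, hy⟩ : ↥⁅M, M⁆) ∈ Nt := by
    intro y hy hcop
    have h1 : (⟨y, hy⟩ : ↥⁅M, M⁆) ^ Nt.index ∈ Nt := Subgroup.pow_index_mem _ _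
    have h2 : Nt.index = Nat.card Pt := hcompl.symm.index_eq_card
    obtain ⟨n, hn⟩ := IsPGroup.iff_card.mp Pt.isPGroup'
    have h3 : (Nt.index).Coprime (orderOf (⟨y, hy⟩ : ↥⁅M, M⁆)) := by
      rw [h2, hn, Subgroup.orderOf_mk]
      exact (Nat.Coprime.pow_right n hcop).symm
    obtain ⟨m, hm⟩ := exists_pow_eq_self_of_coprime h3
    rw [← hm]
    exact pow_mem h1 m
  have hNtcard : ¬ t ∣ Nat.card Nt := by
    have h1 : (Pt : Subgroup ↥⁅M, M⁆).index = Nat.card Nt := hcompl.index_eq_card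
    rw [← h1]
    exact Pt.not_dvd_index
  have hMn : ∀ m ∈ M, ∀ y ∈ ⁅M, M⁆, m * y * m⁻¹ ∈ ⁅M, M⁆ := by
    intro m hm y hy
    have hyM : y ∈ M := Subgroup.commutator_le_self M hy
    have h1 : (⟨y, hyM⟩ : ↥M) ∈ commutator ↥M :=
      (Cfsg.Agent.Lib.helper12.ff_mem_commutator M ⟨y, hyM⟩).mpr hy
    have h2 : (⟨m, hm⟩ : ↥M) * ⟨y, hyM⟩ * (⟨m, hm⟩ : ↥M)⁻¹ ∈ commutator ↥M :=
      (inferInstance : (commutator ↥M).Normal).conj_mem _ h1 _
    exact (Cfsg.Agent.Lib.helper12.ff_mem_commutator M _).mp h2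
  have hTQ : (T : Subgroup (alphaCore M)).map (alphaCore M).subtype
      ≤ Subgroup.centralizer (Q : Set G) := by
    intro x hx
    rw [Subgroup.mem_centralizer_iff]
    intro u hu
    have huc : u ∈ ⁅M, M⁆ := hQc hu
    have hxM : x ∈ M := hαM (hTα hx)
    have hou : (orderOf u).Coprime t := by
      obtain ⟨k, hk⟩ := hQ ⟨u, hu⟩
      have h1 : u ^ q ^ k = 1 := by simpa using congrArg Subtype.val hk
      exact Nat.Coprime.coprime_dvd_left (orderOf_dvd_of_pow_eq_one h1)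
        (Nat.Coprime.pow_left k ((Nat.coprime_primes hq htp).mpr hqt))
    have hconj : x * u * x⁻¹ ∈ ⁅M, M⁆ := hMn x hxM u huc
    have hoc : (orderOf (x * u * x⁻¹)).Coprime t := by
      have h1 : orderOf (x * u * x⁻¹) = orderOf u := by
        have := (MulAut.conj x).orderOf_eq u
        simpa using this
      rw [h1]; exact hou
    have hv1 := hkey _ hconj hoc
    have hv2 := hkey _ huc hou
    have hv := Nt.mul_mem hv1 (Nt.inv_mem hv2)
    have hcT : x * u * x⁻¹ * u⁻¹ ∈ (T : Subgroup (alphaCore M)).map (alphaCore M).subtype := by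
      have h1 := (Subgroup.mem_normalizer_iff.mp (hT hu) x⁻¹).mp (inv_mem hx)
      have e : x * u * x⁻¹ * u⁻¹ = x * (u * x⁻¹ * u⁻¹) := by group
      rw [e]
      exact mul_mem hx h1
    have hord1 : orderOf (x * u * x⁻¹ * u⁻¹) ∣ Nat.card Nt := by
      have h1 := Subgroup.orderOf_dvd_natCard Nt hv
      have h2 : orderOf ((⟨x * u * x⁻¹, hconj⟩ : ↥⁅M, M⁆) * (⟨u, huc⟩ : ↥⁅M, M⁆)⁻¹)
          = orderOf (x * u * x⁻¹ * u⁻¹) := by
        rw [← Subgroup.orderOf_coe]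
        rfl
      rwa [h2] at h1
    obtain ⟨k, hk⟩ := hTp ⟨_, hcT⟩
    have hk' : (x * u * x⁻¹ * u⁻¹) ^ t ^ k = 1 := by simpa using congrArg Subtype.val hk
    have hord2 : orderOf (x * u * x⁻¹ * u⁻¹) ∣ t ^ k := orderOf_dvd_of_pow_eq_one hk'
    have hone : orderOf (x * u * x⁻¹ * u⁻¹) = 1 := by
      obtain ⟨j, -, hj⟩ := (Nat.dvd_prime_pow htp).mp hord2
      rcases Nat.eq_zero_or_pos j with rfl | hjpos
      · simpa using hj
      · exfalso
        apply hNtcard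
        exact (dvd_pow_self t hjpos.ne').trans (hj ▸ hord1)
    have hc1 : x * u * x⁻¹ * u⁻¹ = 1 := orderOf_eq_one_iff.mp hone
    have e : u * x = (x * u * x⁻¹ * u⁻¹)⁻¹ * (x * u) := by group
    rw [e, hc1, inv_one, one_mul]
  -- rank of `M_α ∩ C(Q)`
  have hr : ¬ RankLE 1 ↥(alphaCore M ⊓ Subgroup.centralizer (Q : Set G)) := by
    intro h
    obtain ⟨B2, hB2T, hB2e, hB2c⟩ := (Cfsg.Agent.Lib.helper28.not_pRankLE_subgroup_iff t 2
      ((T : Subgroup (alphaCore M)).map (alphaCore M).subtype)).mp hTr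
    apply (Cfsg.Agent.Lib.helper28.not_pRankLE_subgroup_iff t 1
      (alphaCore M ⊓ Subgroup.centralizer (Q : Set G))).mpr ⟨B2, hB2T.trans (le_inf hTα hTQ), hB2e,
        lt_of_le_of_lt (Nat.pow_le_pow_right htp.pos (by norm_num)) hB2c⟩
    exact h t htp
  obtain ⟨N, -, hN⟩ := Cfsg.Agent.S1406.result hG M hM Q hQM hQα hr
  apply hne
  exact (hN L ⟨hL, inf_le_right.trans ((Subgroup.centralizer_le_normalizer (Q : Set G)).trans hNQ)⟩).trans
    (hN M ⟨hM, inf_le_left⟩).symm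

/-- Elements of a subgroup of prime order commute. -/
theorem asym_comm_of_card_prime {P : Subgroup G} {p : ℕ} (hp : p.Prime)
    (hP : Nat.card P = p) : ∀ x ∈ P, ∀ y ∈ P, x * y = y * x := by
  have : Fact p.Prime := ⟨hp⟩
  have hc : IsCyclic P := isCyclic_of_prime_card hP
  intro x hx y hy
  obtain ⟨g, hg⟩ := hc.exists_generator
  obtain ⟨a, ha⟩ := Subgroup.mem_zpowers_iff.mp (hg ⟨x, hx⟩)
  obtain ⟨b, hb⟩ := Subgroup.mem_zpowers_iff.mp (hg ⟨y, hy⟩)
  have hx' : x = (g : G) ^ a := by simpa using (congrArg Subtype.val ha).symm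
  have hy' : y = (g : G) ^ b := by simpa using (congrArg Subtype.val hb).symm
  rw [hx', hy', ← zpow_add, ← zpow_add, add_comm]

theorem asym_ne_bot_of_card_prime {P : Subgroup G} {p : ℕ} (hp : p.Prime)
    (hP : Nat.card P = p) : P ≠ ⊥ := by
  rintro rfl
  rw [Subgroup.card_bot] at hP
  exact hp.one_lt.ne hP

theorem asym_le_centralizer_of_card_prime {P : Subgroup G} {p : ℕ} (hp : p.Prime)
    (hP : Nat.card P = p) : P ≤ Subgroup.centralizer (P : Set G) := by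
  intro x hx
  rw [Subgroup.mem_centralizer_iff]
  intro y hy
  exact asym_comm_of_card_prime hp hP y hy x hx

/-- `q ≠ p`. -/
theorem asym_ne [Finite G] {M P Q : Subgroup G} {p q : ℕ} [Fact q.Prime] (hp : p.Prime)
    (hP : Nat.card P = p) (hPM : P ≤ M) (hQ : IsPGroup q Q) (hQM : Q ≤ M)
    (hmax : ∀ Q1 : Subgroup G, IsPGroup q Q1 → Q1 ≤ M → Q ≤ Q1 → Q1 = Q)
    (hPQ : P ≤ Subgroup.normalizer (Q : Set G))
    (hQP : Q ⊓ Subgroup.centralizer (P : Set G) = ⊥) : q ≠ p := by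
  rintro rfl
  have hPp : IsPGroup q P := IsPGroup.of_card (n := 1) (by rw [hP, pow_one])
  have hsup : IsPGroup q (Q ⊔ P : Subgroup G) := IsPGroup.to_sup_of_normal_left' hQ hPp hPQ
  have h1 := hmax (Q ⊔ P) hsup (sup_le hQM hPM) le_sup_left
  have hPleQ : P ≤ Q := by
    have h2 : P ≤ Q ⊔ P := le_sup_right
    rwa [h1] at h2
  have h3 : P ≤ Q ⊓ Subgroup.centralizer (P : Set G) :=
    le_inf hPleQ (asym_le_centralizer_of_card_prime hp hP)
  rw [hQP] at h3
  exact asym_ne_bot_of_card_prime hp hP (le_bot_iff.mp h3)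

/-- `|P|` and `|Q|` are coprime. -/
theorem asym_coprime_PQ [Finite G] {P Q : Subgroup G} {p q : ℕ} [Fact q.Prime] (hp : p.Prime)
    (hP : Nat.card P = p) (hQ : IsPGroup q Q) (hqp : q ≠ p) :
    (Nat.card P).Coprime (Nat.card Q) := by
  rw [hP]
  obtain ⟨n, hn⟩ := IsPGroup.iff_card.mp hQ
  rw [hn]
  exact Nat.Coprime.pow_right n ((Nat.coprime_primes hp Fact.out).mpr hqp.symm)

/-- `Q = [Q, P] ≤ M'`. -/
theorem asym_le_comm [Finite G] {M P Q : Subgroup G} {p q : ℕ} [Fact q.Prime] (hp : p.Prime)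
    (hP : Nat.card P = p) (hPM : P ≤ M) (hQ : IsPGroup q Q) (hQM : Q ≤ M) (hqp : q ≠ p)
    (hPQ : P ≤ Subgroup.normalizer (Q : Set G))
    (hQP : Q ⊓ Subgroup.centralizer (P : Set G) = ⊥) : Q ≤ ⁅M, M⁆ := by
  have hnil : Group.IsNilpotent Q := hQ.isNilpotent
  have hsolv : Group.IsSolvable Q := inferInstance
  have h := Cfsg.Agent.Lib.helper1.commutator_sup_fixed P Q hPQ (asym_coprime_PQ hp hP hQ hqp)
    (Or.inr hsolv)
  rw [hQP, sup_bot_eq] at h
  rw [← h]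
  exact Subgroup.commutator_mono hQM hPM

/-- Prime divisors of `|Q P|` are `q` or `p`. -/
theorem asym_prime_dvd_sup [Finite G] {P Q : Subgroup G} {p q : ℕ} [Fact q.Prime] (hp : p.Prime)
    (hP : Nat.card P = p) (hQ : IsPGroup q Q) (hPQ : P ≤ Subgroup.normalizer (Q : Set G))
    {k : ℕ} (hk : k.Prime) (hkd : k ∣ Nat.card (Q ⊔ P : Subgroup G)) : k = q ∨ k = p := by
  have h1 := Cfsg.Agent.Lib.helper13.card_sup_mul_card_inf' Q P hPQ
  have h2 : k ∣ Nat.card Q * Nat.card P := h1 ▸ Dvd.dvd.mul_right hkd _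
  rcases (Nat.Prime.dvd_mul hk).mp h2 with h | h
  · left
    exact asym_prime_of_dvd_card hQ hk h
  · right
    rw [hP] at h
    exact (Nat.prime_dvd_prime_iff_eq hk hp).mp h

/-- Step 2: `C_{M_α}(P) ≰ L`. -/
theorem asym_cent_not_le [Finite G] (hG : IsMinSimpleOddOrder G) {M L P Q : Subgroup G}
    (hM : IsCoatom M) (hL : IsCoatom L) (hne : L ≠ M) {p q : ℕ} [Fact q.Prime] (hp : p.Prime)
    (hpα : p ∉ alpha M) (hqα : q ∉ alpha M)
    (hP : Nat.card P = p) (hPM : P ≤ M) (hPL : P ≤ L) (hQ : IsPGroup q Q) (hQM : Q ≤ M)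
    (hPQ : P ≤ Subgroup.normalizer (Q : Set G))
    (hQP : Q ⊓ Subgroup.centralizer (P : Set G) = ⊥)
    (hNQ : Subgroup.normalizer (Q : Set G) ≤ L) (hα1 : alphaCore M ≠ ⊥) :
    ¬ (alphaCore M ⊓ Subgroup.centralizer (P : Set G) ≤ L) := by
  intro hX
  have : Fact p.Prime := ⟨hp⟩
  obtain ⟨hodd, -, -, hsolv⟩ := id hG
  have hαn : M ≤ Subgroup.normalizer (alphaCore M : Set G) :=
    Cfsg.Agent.Lib.helper71.BGA.le_normalizer_alphaCore M
  have hαM : alphaCore M ≤ M := Cfsg.Agent.Lib.helper71.BGA.alphaCore_le M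
  have hαsolv : Group.IsSolvable (alphaCore M) := hsolv _ (by
    intro h
    exact hM.1 (top_le_iff.mp (h ▸ hαM)))
  have hQL : Q ≤ L := Subgroup.le_normalizer.trans hNQ
  have hE1 : P ≠ ⊥ := asym_ne_bot_of_card_prime hp hP
  have hUn : ∀ e ∈ P, ∀ u ∈ Q, e * u * e⁻¹ ∈ Q := fun e he u hu =>
    (Subgroup.mem_normalizer_iff.mp (hPQ he) u).mp hu
  have hfpf : ∀ e ∈ P, e ≠ 1 → ∀ u ∈ Q, e * u = u * e → u = 1 := by
    intro e he he1 u hu hcomm
    have hz := BG8.eq_zpowers_of_card_prime p P hP e he he1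
    have huC : u ∈ Subgroup.centralizer (P : Set G) := by
      rw [← hz, Subgroup.mem_centralizer_iff]
      intro y hy
      obtain ⟨n, rfl⟩ := Subgroup.mem_zpowers_iff.mp hy
      exact ((Commute.zpow_left (show Commute e u from hcomm) n).eq)
    have h1 : u ∈ Q ⊓ Subgroup.centralizer (P : Set G) := ⟨hu, huC⟩
    rw [hQP] at h1
    exact Subgroup.mem_bot.mp h1
  have hsupM : Q ⊔ P ≤ M := sup_le hQM hPM
  have hsupL : Q ⊔ P ≤ L := sup_le hQL hPL
  have hcopα : ∀ Z : Subgroup G, Z ≤ alphaCore M →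
      (Nat.card Z).Coprime (Nat.card ↥(Q ⊔ P : Subgroup G)) := by
    intro Z hZ
    apply Nat.Coprime.symm
    apply asym_coprime_alpha' hZ
    intro k hk hkd
    rcases asym_prime_dvd_sup hp hP hQ hPQ hk hkd with rfl | rfl
    · exact hqα
    · exact hpα
  have hconjα : ∀ x ∈ M, ∀ h ∈ alphaCore M, x * h * x⁻¹ ∈ alphaCore M := fun x hx h hh =>
    (Subgroup.mem_normalizer_iff.mp (hαn hx) h).mp hh
  -- the two fixed-point formulas
  have f1 := Cfsg.Agent.Lib.helper12.ff_formula Q P (alphaCore M) hE1 hUn hfpf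
    (fun x hx h hh => hconjα x (hsupM hx) h hh) hαsolv (hcopα _ le_rfl)
  have hsolv0 : Group.IsSolvable ↥(alphaCore M ⊓ L) := hsolv _ (by
    intro h
    exact hL.1 (top_le_iff.mp (h ▸ inf_le_right)))
  have f2 := Cfsg.Agent.Lib.helper12.ff_formula Q P (alphaCore M ⊓ L) hE1 hUn hfpf
    (fun x hx h hh => ⟨hconjα x (hsupM hx) h hh.1,
      L.mul_mem (L.mul_mem (hsupL hx) hh.2) (L.inv_mem (hsupL hx))⟩) hsolv0
    (hcopα _ inf_le_left)
  have hCQ : Subgroup.centralizer (Q : Set G) ≤ L :=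
    (Subgroup.centralizer_le_normalizer (Q : Set G)).trans hNQ
  have e1 : alphaCore M ⊓ L ⊓ Subgroup.centralizer (Q : Set G)
      = alphaCore M ⊓ Subgroup.centralizer (Q : Set G) := by
    apply le_antisymm
    · exact inf_le_inf_right _ inf_le_left
    · exact le_inf (le_inf inf_le_left (inf_le_right.trans hCQ)) inf_le_right
  have e2 : alphaCore M ⊓ L ⊓ Subgroup.centralizer ((Q ⊔ P : Subgroup G) : Set G)
      = alphaCore M ⊓ Subgroup.centralizer ((Q ⊔ P : Subgroup G) : Set G) := by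
    apply le_antisymm
    · exact inf_le_inf_right _ inf_le_left
    · refine le_inf (le_inf inf_le_left (inf_le_right.trans ?_)) inf_le_right
      exact (Subgroup.centralizer_le (show (Q : Set G) ⊆ ((Q ⊔ P : Subgroup G) : Set G) from
        fun x hx => (le_sup_left : Q ≤ Q ⊔ P) hx)).trans hCQ
  have e3 : alphaCore M ⊓ L ⊓ Subgroup.centralizer (P : Set G)
      = alphaCore M ⊓ Subgroup.centralizer (P : Set G) := by
    apply le_antisymm
    · exact inf_le_inf_right _ inf_le_left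
    · exact le_inf (le_inf inf_le_left hX) inf_le_right
  rw [e1, e2, e3, ← f1] at f2
  have hpos : 0 < Nat.card ↥(alphaCore M ⊓
      Subgroup.centralizer ((Q ⊔ P : Subgroup G) : Set G)) ^ Nat.card ↥P :=
    pow_pos Nat.card_pos _
  have hcard : Nat.card ↥(alphaCore M ⊓ L) = Nat.card ↥(alphaCore M) :=
    Nat.eq_of_mul_eq_mul_left hpos f2
  have heq : alphaCore M ⊓ L = alphaCore M :=
    Subgroup.eq_of_le_of_card_ge inf_le_left hcard.ge
  exact hne (asym_uniq_of_alpha_le hG hM hL (heq ▸ inf_le_right) hα1)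

/-- Step 6 helper: `C_M(P) = C_{M_α}(P) C_{N_M(Q)}(P)`. -/
theorem asym_cent_split [Finite G] {M P Q : Subgroup G}
    {p : ℕ} (hp : p.Prime) (hpα : p ∉ alpha M)
    (hP : Nat.card P = p) (hPM : P ≤ M) (hPQ : P ≤ Subgroup.normalizer (Q : Set G))
    (hfr : ∀ m ∈ M, ∃ a ∈ alphaCore M, ∃ n ∈ M ⊓ Subgroup.normalizer (Q : Set G), m = a * n) :
    ∀ g ∈ M ⊓ Subgroup.centralizer (P : Set G),
      ∃ x ∈ alphaCore M ⊓ Subgroup.centralizer (P : Set G),
      ∃ d ∈ M ⊓ Subgroup.normalizer (Q : Set G) ⊓ Subgroup.centralizer (P : Set G),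
        g = x * d := by
  intro g hg
  have : Fact p.Prime := ⟨hp⟩
  have hαn : M ≤ Subgroup.normalizer (alphaCore M : Set G) :=
    Cfsg.Agent.Lib.helper71.BGA.le_normalizer_alphaCore M
  have hαM : alphaCore M ≤ M := Cfsg.Agent.Lib.helper71.BGA.alphaCore_le M
  obtain ⟨a, ha, n, hn, hgan⟩ := hfr g hg.1
  have hcopPα : (Nat.card P).Coprime (Nat.card (alphaCore M)) := asym_coprime_alpha (by
    intro k hk hkd
    rw [hP] at hkd
    rw [(Nat.prime_dvd_prime_iff_eq hk hp).mp hkd]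
    exact hpα)
  have hPα : P ⊓ alphaCore M = ⊥ := Subgroup.inf_eq_bot_of_coprime hcopPα
  have hconjα : ∀ x ∈ M, ∀ h ∈ alphaCore M, x * h * x⁻¹ ∈ alphaCore M := fun x hx h hh =>
    (Subgroup.mem_normalizer_iff.mp (hαn hx) h).mp hh
  have hCle : alphaCore M ⊓ Subgroup.normalizer (Q : Set G) ≤ alphaCore M := inf_le_left
  -- `P` normalizes `C = M_α ∩ N(Q)`
  have hPC : P ≤ Subgroup.normalizer
      ((alphaCore M ⊓ Subgroup.normalizer (Q : Set G) : Subgroup G) : Set G) := by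
    intro e he
    rw [Subgroup.mem_normalizer_iff]
    intro h
    constructor
    · rintro ⟨h1, h2⟩
      exact ⟨hconjα e (hPM he) h h1, Subgroup.mul_mem _ (Subgroup.mul_mem _ (hPQ he) h2) (Subgroup.inv_mem _ (hPQ he))⟩
    · rintro ⟨h1, h2⟩
      have e1 : h = e⁻¹ * (e * h * e⁻¹) * e⁻¹⁻¹ := by group
      rw [e1]
      exact ⟨hconjα e⁻¹ (Subgroup.inv_mem _ (hPM he)) _ h1,
        Subgroup.mul_mem _ (Subgroup.mul_mem _ (Subgroup.inv_mem _ (hPQ he)) h2) (Subgroup.inv_mem _ (Subgroup.inv_mem _ (hPQ he)))⟩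
  have hkey : ∀ e ∈ P, a⁻¹ * e * a ∈ P ⊔ (alphaCore M ⊓ Subgroup.normalizer (Q : Set G)) := by
    intro e he
    have hge : g * e = e * g := ((Subgroup.mem_centralizer_iff.mp hg.2) e he).symm
    have h1 : a⁻¹ * e * a = n * e * n⁻¹ := by
      have h0 : a * n * e = e * (a * n) := by rw [← hgan]; exact hge
      calc a⁻¹ * e * a = a⁻¹ * (e * (a * n)) * n⁻¹ := by group
        _ = a⁻¹ * (a * n * e) * n⁻¹ := by rw [h0]
        _ = n * e * n⁻¹ := by group
    have h2 : a⁻¹ * e * a * e⁻¹ ∈ alphaCore M ⊓ Subgroup.normalizer (Q : Set G) := by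
      refine ⟨?_, ?_⟩
      · have e2 : a⁻¹ * e * a * e⁻¹ = a⁻¹ * (e * a * e⁻¹) := by group
        rw [e2]
        exact Subgroup.mul_mem _ (Subgroup.inv_mem _ ha) (hconjα e (hPM he) a ha)
      · rw [h1]
        exact Subgroup.mul_mem _ (Subgroup.mul_mem _ (Subgroup.mul_mem _ hn.2 (hPQ he)) (Subgroup.inv_mem _ hn.2)) (Subgroup.inv_mem _ (hPQ he))
    have e1 : a⁻¹ * e * a = (a⁻¹ * e * a * e⁻¹) * e := by group
    rw [e1]
    exact Subgroup.mul_mem _ ((le_sup_right : alphaCore M ⊓ Subgroup.normalizer (Q : Set G) ≤ _) h2)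
      ((le_sup_left : P ≤ _) he)
  -- `P` is a Hall `{p}`-subgroup of `P C`
  have hHall : IsPiHallOf ({p} : Set ℕ) P
      (P ⊔ (alphaCore M ⊓ Subgroup.normalizer (Q : Set G))) := by
    refine ⟨le_sup_left, ?_, ?_⟩
    · intro k hk hkd
      rw [hP] at hkd
      exact (Nat.prime_dvd_prime_iff_eq hk hp).mp hkd
    · intro k hk hkp hkd
      rw [Set.mem_singleton_iff] at hkp
      subst hkp
      have h1 := Cfsg.Agent.Lib.helper13.relIndex_mul_card_of_le
        (le_sup_left : P ≤ P ⊔ (alphaCore M ⊓ Subgroup.normalizer (Q : Set G)))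
      have h2 := Cfsg.Agent.Lib.helper13.card_sup_mul_card_inf'
        (alphaCore M ⊓ Subgroup.normalizer (Q : Set G)) P hPC
      have h3 : (alphaCore M ⊓ Subgroup.normalizer (Q : Set G)) ⊓ P = ⊥ := by
        rw [eq_bot_iff, ← hPα]
        exact le_inf inf_le_right (inf_le_left.trans hCle)
      rw [h3, Subgroup.card_bot, mul_one, sup_comm, ← h1] at h2
      have h4 : P.relIndex (P ⊔ (alphaCore M ⊓ Subgroup.normalizer (Q : Set G)))
          = Nat.card ↥(alphaCore M ⊓ Subgroup.normalizer (Q : Set G)) :=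
        Nat.eq_of_mul_eq_mul_right Nat.card_pos h2
      rw [h4] at hkd
      exact hpα (Cfsg.Agent.Lib.helper71.BG12.mem_alpha_of_dvd_card_alphaCore M hk
        (hkd.trans (Subgroup.card_dvd_of_le hCle)))
  have hP'le : P.map (MulAut.conj a⁻¹).toMonoidHom
      ≤ P ⊔ (alphaCore M ⊓ Subgroup.normalizer (Q : Set G)) := by
    rintro _ ⟨e, he, rfl⟩
    have := hkey e he
    simpa [MulAut.conj_apply] using this
  have hPp : IsPGroup p P := IsPGroup.of_card (n := 1) (by rw [hP, pow_one])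
  obtain ⟨y, hy, hyP⟩ := Cfsg.Agent.Lib.helper69.bgk_conj_into_hall hHall
    (Set.mem_singleton p) hP'le (hPp.map _)
  have hy' : y ∈ ((P ⊔ (alphaCore M ⊓ Subgroup.normalizer (Q : Set G)) : Subgroup G) : Set G) :=
    hy
  rw [Subgroup.coe_mul_of_left_le_normalizer_right P _ hPC, Set.mem_mul] at hy'
  obtain ⟨e', he', c', hc', rfl⟩ := hy'
  have hc'α : c' ∈ alphaCore M := hc'.1
  have hwα : c' * a⁻¹ ∈ alphaCore M := Subgroup.mul_mem _ hc'α (Subgroup.inv_mem _ ha)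
  have hwP : ∀ e ∈ P, (c' * a⁻¹) * e = e * (c' * a⁻¹) := by
    intro e he
    have h1 : e' * c' * (a⁻¹ * e * a) * (e' * c')⁻¹ ∈ P := by
      apply hyP
      exact ⟨e, he, by simp [MulAut.conj_apply]⟩
    have h2 : (c' * a⁻¹) * e * (c' * a⁻¹)⁻¹ ∈ P := by
      have e1 : (c' * a⁻¹) * e * (c' * a⁻¹)⁻¹
          = e'⁻¹ * (e' * c' * (a⁻¹ * e * a) * (e' * c')⁻¹) * e' := by group
      rw [e1]
      exact Subgroup.mul_mem _ (Subgroup.mul_mem _ (Subgroup.inv_mem _ he') h1) he'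
    have h3 : (c' * a⁻¹) * e * (c' * a⁻¹)⁻¹ * e⁻¹ ∈ P ⊓ alphaCore M := by
      refine ⟨Subgroup.mul_mem _ h2 (Subgroup.inv_mem _ he), ?_⟩
      have e1 : (c' * a⁻¹) * e * (c' * a⁻¹)⁻¹ * e⁻¹
          = (c' * a⁻¹) * (e * (c' * a⁻¹)⁻¹ * e⁻¹) := by group
      rw [e1]
      exact Subgroup.mul_mem _ hwα (hconjα e (hPM he) _ (Subgroup.inv_mem _ hwα))
    rw [hPα, Subgroup.mem_bot] at h3
    have e2 : (c' * a⁻¹) * e = ((c' * a⁻¹) * e * (c' * a⁻¹)⁻¹ * e⁻¹) * (e * (c' * a⁻¹)) := by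
      group
    rw [e2, h3, one_mul]
  have hxC : a * c'⁻¹ ∈ Subgroup.centralizer (P : Set G) := by
    rw [Subgroup.mem_centralizer_iff]
    intro e he
    have h1 := hwP e he
    have e1 : e * (a * c'⁻¹) = (c' * a⁻¹)⁻¹ * ((c' * a⁻¹) * e) * (c' * a⁻¹)⁻¹ := by group
    rw [e1, h1]
    group
  have hxα : a * c'⁻¹ ∈ alphaCore M := Subgroup.mul_mem _ ha (Subgroup.inv_mem _ hc'α)
  refine ⟨a * c'⁻¹, ⟨hxα, hxC⟩, c' * n, ⟨⟨Subgroup.mul_mem _ (hαM hc'α) hn.1, Subgroup.mul_mem _ hc'.2 hn.2⟩, ?_⟩, ?_⟩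
  · have e1 : c' * n = (a * c'⁻¹)⁻¹ * g := by rw [hgan]; group
    rw [e1]
    exact Subgroup.mul_mem _ (Subgroup.inv_mem _ hxC) hg.2
  · rw [hgan]; group

end Cfsg.Agent.Lib.helper70
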