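import Mathlib
import Cfsg.Agent.S1404
import Cfsg.Agent.S1409
import Cfsg.Agent.S1415
import Cfsg.Agent.S1418
import Cfsg.Agent.S1423
import Cfsg.Agent.S1428
import Cfsg.Agent.Lib.helper60.BGCentU
import Cfsg.Agent.Lib.lead.Hall
import Cfsg.Agent.Lib.helper76.BGTwelveThree
import Cfsg.Agent.Lib.helper71.BGTenB
import Cfsg.Agent.Lib.helper87.BG1425Main
import Cfsg.Agent.Lib.helper97.BGSeven1
import Cfsg.Agent.Lib.helper12.SameOrder
import Cfsg.Agent.Lib.helper13.BG11a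
import Cfsg.Agent.Lib.helper70.BGAsymA

/-!
# The asymmetry lemma of Bender-Glauberman (B-G 13.5 / `tau1_mmaxI_asymmetry`) (helper70)

`bg_tau1_asymmetry`: for non-conjugate maximal subgroups `M`, `L` sharing a subgroup `P` of prime
order `p ∈ τ₁(M) ∩ τ₁(L)`, one cannot have simultaneously a `P`-invariant Sylow subgroup `Q` of
`M ∩ L` with `C_Q(P) = 1`, `N_G(Q) ≤ L` and a `P`-invariant Sylow subgroup `R` of `M ∩ L` with
`C_R(P) = 1`, `N_G(R) ≤ M`.
-/

set_option autoImplicit false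

namespace Cfsg.Agent.Lib.helper70

open Cfsg
open scoped commutatorElement

variable {G : Type*} [Group G]

theorem asym_mem_map_conj {Y : Subgroup G} {c x : G} :
    x ∈ Y.map (MulAut.conj c).toMonoidHom ↔ c⁻¹ * x * c ∈ Y := by
  constructor
  · rintro ⟨y, hy, rfl⟩
    simpa [MulAut.conj_apply, mul_assoc] using hy
  · intro h
    exact ⟨c⁻¹ * x * c, h, by simp [MulAut.conj_apply, mul_assoc]⟩

theorem asym_cent_conj {Y : Subgroup G} {c x : G} :
    x ∈ Subgroup.centralizer ((Y.map (MulAut.conj c).toMonoidHom : Subgroup G) : Set G) ↔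
      c⁻¹ * x * c ∈ Subgroup.centralizer (Y : Set G) := by
  rw [Subgroup.mem_centralizer_iff, Subgroup.mem_centralizer_iff]
  constructor
  · intro h y hy
    have h1 := h (c * y * c⁻¹) ⟨y, hy, by simp [MulAut.conj_apply]⟩
    have e1 : y * (c⁻¹ * x * c) = c⁻¹ * (c * y * c⁻¹ * x) * c := by group
    rw [e1, h1]; group
  · rintro h _ ⟨y, hy, rfl⟩
    have h1 := h y hy
    simp only [MulEquiv.coe_toMonoidHom, MulAut.conj_apply]
    have e1 : c * y * c⁻¹ * x = c * (y * (c⁻¹ * x * c)) * c⁻¹ := by group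
    rw [e1, h1]; group

theorem asym_norm_conj {Y : Subgroup G} {c x : G} :
    x ∈ Subgroup.normalizer ((Y.map (MulAut.conj c).toMonoidHom : Subgroup G) : Set G) ↔
      c⁻¹ * x * c ∈ Subgroup.normalizer (Y : Set G) := by
  rw [Subgroup.mem_normalizer_iff, Subgroup.mem_normalizer_iff]
  constructor
  · intro h y
    have h1 := h (c * y * c⁻¹)
    rw [asym_mem_map_conj, asym_mem_map_conj] at h1
    have e1 : c⁻¹ * (c * y * c⁻¹) * c = y := by group
    have e2 : c⁻¹ * (x * (c * y * c⁻¹) * x⁻¹) * c = c⁻¹ * x * c * y * (c⁻¹ * x * c)⁻¹ := by group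
    rw [e1, e2] at h1
    exact h1
  · intro h y
    have h1 := h (c⁻¹ * y * c)
    rw [asym_mem_map_conj, asym_mem_map_conj]
    have e2 : c⁻¹ * (x * y * x⁻¹) * c = c⁻¹ * x * c * (c⁻¹ * y * c) * (c⁻¹ * x * c)⁻¹ := by group
    rw [e2]
    exact h1

/-- `p ∈ τ₁(M)` is not in `α(M)`. -/
theorem asym_tau1_not_alpha {M : Subgroup G} {p : ℕ} (hpM : p ∈ tau1 M) : p ∉ alpha M := by
  intro h
  apply h.2
  intro A hA1 hA2
  exact (hpM.2.2.2.2 A hA1 hA2).trans (Nat.pow_le_pow_right hpM.1.pos (by norm_num))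

/-- The one-sided package. -/
theorem asym_side [Finite G] (hG : IsMinSimpleOddOrder G) {M L P Q : Subgroup G}
    (hM : IsCoatom M) (hL : IsCoatom L) (hne : L ≠ M) {p q : ℕ} (hq : q.Prime)
    (hpM : p ∈ tau1 M) (hP : Nat.card P = p) (hPM : P ≤ M) (hPL : P ≤ L)
    (hQ : IsPGroup q Q) (hQM : Q ≤ M) (hQL : Q ≤ L)
    (hQsyl : ∀ Q1 : Subgroup G, IsPGroup q Q1 → Q1 ≤ M → Q1 ≤ L → Q ≤ Q1 → Q1 = Q)
    (hPQ : P ≤ Subgroup.normalizer (Q : Set G))
    (hQP : Q ⊓ Subgroup.centralizer (P : Set G) = ⊥)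
    (hNQ : Subgroup.normalizer (Q : Set G) ≤ L) :
    p ∉ alpha M ∧
    (∀ m ∈ M, ∃ a ∈ alphaCore M, ∃ n ∈ M ⊓ Subgroup.normalizer (Q : Set G), m = a * n) ∧
    (∀ t ∈ alpha M, t ∈ beta M) ∧
    ¬ (alphaCore M ⊓ Subgroup.centralizer (P : Set G) ≤ L) := by
  have : Fact q.Prime := ⟨hq⟩
  have hp : p.Prime := hpM.1
  have hpα : p ∉ alpha M := asym_tau1_not_alpha hpM
  have hmax := asym_syl hQL hQsyl hNQ
  have hqα := asym_not_alpha hG hM hL hne hQ hQM hQL hmax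
  have hqp := asym_ne hp hP hPM hQ hQM hmax hPQ hQP
  have hQc := asym_le_comm hp hP hPM hQ hQM hqp hPQ hQP
  have hfr := asym_frattini hG hM hQ hQM hmax hQc
  have hα1 := asym_alphaCore_ne_bot hG hM hL hne hQ hQM hmax hQc hNQ
  refine ⟨hpα, hfr, ?_, ?_⟩
  · intro t ht
    exact asym_alpha_beta hG hM hL hne hQ hQM hqα hQc hNQ ht
  · exact asym_cent_not_le hG hM hL hne hp hpα hqα hP hPM hPL hQ hQM hPQ hQP hNQ hα1

/-- A nontrivial subgroup has a subgroup of prime order. -/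
theorem asym_exists_prime_sub [Finite G] {X : Subgroup G} (hX : X ≠ ⊥) :
    ∃ t : ℕ, t.Prime ∧ t ∣ Nat.card X ∧ ∃ Xt : Subgroup G, Xt ≤ X ∧ Nat.card Xt = t := by
  have hc1 : Nat.card X ≠ 1 := fun h => hX (Subgroup.eq_bot_of_card_eq _ h)
  obtain ⟨t, htp, htd⟩ := Nat.exists_prime_and_dvd hc1
  have : Fact t.Prime := ⟨htp⟩
  obtain ⟨x, hx⟩ := exists_prime_orderOf_dvd_card' t htd
  refine ⟨t, htp, htd, Subgroup.zpowers (x : G), ?_, ?_⟩
  · rw [Subgroup.zpowers_le]; exact x.2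
  · rw [Nat.card_zpowers, Subgroup.orderOf_coe, hx]

/-- For `t ∈ β(M)` and `X ≤ M` of order `t`: `C(X) ≤ M` uniquely and `N(X) ≤ M`. -/
theorem asym_beta_cent [Finite G] (hG : IsMinSimpleOddOrder G) {M X : Subgroup G}
    (hM : IsCoatom M) {t : ℕ} (ht : t ∈ beta M) (hXM : X ≤ M) (hX : Nat.card X = t) :
    Subgroup.centralizer (X : Set G) ≤ M ∧
    (∀ L : Subgroup G, IsCoatom L → Subgroup.centralizer (X : Set G) ≤ L → L = M) ∧
    Subgroup.normalizer (X : Set G) ≤ M := by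
  have htp : t.Prime := ht.1.1
  have : Fact t.Prime := ⟨htp⟩
  have hσ : t ∈ sigma M := Cfsg.Agent.Lib.helper8.bg_alpha_sub_sigma hG
    (Cfsg.Agent.Lib.helper13.bgx_uniq hG) M hM ht.1
  obtain ⟨S⟩ := (inferInstance : Nonempty (Sylow t ↥(sigmaCore M)))
  have h23 := (Cfsg.Agent.S1423.result hG M hM t hσ X hXM hX S (Or.inl ht)).1
  refine ⟨h23.1, h23.2, ?_⟩
  have hXp : IsPGroup t X := IsPGroup.of_card (n := 1) (by rw [hX, pow_one])
  have h04 := (Cfsg.Agent.S1404.result hG M hM t hσ X hXp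
    (asym_ne_bot_of_card_prime htp hX) hXM).2
  rw [h04]
  exact sup_le inf_le_left h23.1

/-- A maximal subgroup containing `N_G(P)`. -/
theorem asym_exists_coatom [Finite G] (hG : IsMinSimpleOddOrder G) {M P : Subgroup G}
    (hM : IsCoatom M) {p : ℕ} (hp : p.Prime) (hP : Nat.card P = p) (hPM : P ≤ M) :
    ∃ H : Subgroup G, IsCoatom H ∧ Subgroup.normalizer (P : Set G) ≤ H := by
  obtain ⟨hodd, hsimple, -, hsolv⟩ := id hG
  have hN : Subgroup.normalizer (P : Set G) ≠ ⊤ := by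
    intro h
    have hn : P.Normal := Subgroup.normalizer_eq_top_iff.mp h
    rcases hn.eq_bot_or_eq_top with h1 | h1
    · exact asym_ne_bot_of_card_prime hp hP h1
    · exact hM.1 (top_le_iff.mp (h1 ▸ hPM))
  exact (eq_top_or_exists_le_coatom _).resolve_left hN

/-- Primes of `α(M)` are not in `σ(H)` for a maximal subgroup `H ≥ N_G(P)`. -/
theorem asym_not_sigma [Finite G] (hG : IsMinSimpleOddOrder G) {M H P : Subgroup G}
    (hM : IsCoatom M) (hH : IsCoatom H) {p : ℕ} (hpM : p ∈ tau1 M) (hP : Nat.card P = p)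
    (hNP : Subgroup.normalizer (P : Set G) ≤ H) {t : ℕ} (ht : t ∈ alpha M) :
    t ∉ sigma H := by
  intro hσ
  have hp : p.Prime := hpM.1
  have : Fact p.Prime := ⟨hp⟩
  obtain ⟨g, hg⟩ := Cfsg.Agent.Lib.helper76.bg123_conj_of_alpha_sigma
    (Cfsg.Agent.Lib.helper13.bgx_uniq hG) M H hM hH ht hσ
  have hX : Nat.card (P.map (MulAut.conj g).toMonoidHom) = p := by
    rw [Subgroup.card_map_of_injective (MulAut.conj g).injective, hP]
  have hNX : Subgroup.normalizer ((P.map (MulAut.conj g).toMonoidHom : Subgroup G) : Set G)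
      ≤ M := by
    intro x hx
    rw [asym_norm_conj] at hx
    rw [hg, asym_mem_map_conj]
    exact hNP hx
  have h9 := (Cfsg.Agent.S1409.result hG M hM p hpM.2.1 _ hX hNX).1.2
  exact h9 hpM.2.2.2.2

/-- Subgroups of coprime orders normalizing each other commute. -/
theorem asym_comm_of_normal_coprime [Finite G] {A B : Subgroup G}
    (hAB : A ≤ Subgroup.normalizer (B : Set G)) (hBA : B ≤ Subgroup.normalizer (A : Set G))
    (hcop : (Nat.card A).Coprime (Nat.card B)) : A ≤ Subgroup.centralizer (B : Set G) := by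
  have hbot : A ⊓ B = ⊥ := Subgroup.inf_eq_bot_of_coprime hcop
  intro a ha
  rw [Subgroup.mem_centralizer_iff]
  intro b hb
  have h1 : a * b * a⁻¹ * b⁻¹ ∈ A ⊓ B := by
    refine ⟨?_, ?_⟩
    · have e : a * b * a⁻¹ * b⁻¹ = a * (b * a⁻¹ * b⁻¹) := by group
      rw [e]
      exact Subgroup.mul_mem _ ha
        ((Subgroup.mem_normalizer_iff.mp (hBA hb) a⁻¹).mp (Subgroup.inv_mem _ ha))
    · exact Subgroup.mul_mem _ ((Subgroup.mem_normalizer_iff.mp (hAB ha) b).mp hb)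
        (Subgroup.inv_mem _ hb)
  rw [hbot, Subgroup.mem_bot] at h1
  have e : a * b = (a * b * a⁻¹ * b⁻¹) * (b * a) := by group
  rw [e, h1, one_mul]

/-- `t ∉ τ₂(H)`. -/
theorem asym_not_tau2 [Finite G] (hG : IsMinSimpleOddOrder G) {M H P X : Subgroup G}
    (hM : IsCoatom M) (hH : IsCoatom H) {p : ℕ} (hpM : p ∈ tau1 M) (hP : Nat.card P = p)
    (hNP : Subgroup.normalizer (P : Set G) ≤ H) {t : ℕ} (ht : t ∈ beta M)
    (hXM : X ≤ M) (hXP : X ≤ Subgroup.centralizer (P : Set G)) (hX : Nat.card X = t) :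
    t ∉ tau2 H := by
  intro hτ
  have hp : p.Prime := hpM.1
  have htp : t.Prime := ht.1.1
  have : Fact p.Prime := ⟨hp⟩
  have : Fact t.Prime := ⟨htp⟩
  obtain ⟨hCM, huniq, -⟩ := asym_beta_cent hG hM ht hXM hX
  have hCN : Subgroup.centralizer (P : Set G) ≤ Subgroup.normalizer (P : Set G) :=
    Subgroup.centralizer_le_normalizer _
  have hXH : X ≤ H := hXP.trans (hCN.trans hNP)
  have hXσ : ∀ k : ℕ, k.Prime → k ∣ Nat.card X → k ∉ sigma H := by
    intro k hk hkd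
    rw [hX] at hkd
    rw [(Nat.prime_dvd_prime_iff_eq hk htp).mp hkd]
    exact hτ.2.1
  obtain ⟨E, hE, hXE⟩ := Cfsg.Agent.Lib.helper60.BGCentU.exists_compl_ge hG H hH X hXH hXσ
  obtain ⟨A, hAE, hAe, hA2⟩ := Cfsg.Agent.Lib.helper97.bg7_exists_elemAb_compl H E hE t hτ
  have h18 := Cfsg.Agent.S1418.result hG H hH E hE t hτ A ⟨hAE, hAe, hA2⟩
  have hXA : X ≤ A := h18.1.2 X hXE hX
  have hptne : p ≠ t := by
    rintro rfl
    exact asym_tau1_not_alpha hpM ht.1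
  by_cases hpσ : p ∈ sigma H
  · have hPH : P ≤ H := Subgroup.le_normalizer.trans hNP
    have hPσ : P ≤ sigmaCore H :=
      Cfsg.Agent.Lib.helper87.BG133.le_sigmaCore_of_pi hG H hH P hPH (by
        intro k hk hkd
        rw [hP] at hkd
        rw [(Nat.prime_dvd_prime_iff_eq hk hp).mp hkd]
        exact hpσ)
    have hne : sigmaCore H ⊓ Subgroup.centralizer (X : Set G) ≠ ⊥ := by
      intro h
      have h1 : P ≤ sigmaCore H ⊓ Subgroup.centralizer (X : Set G) := le_inf hPσ (by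
        intro e he
        rw [Subgroup.mem_centralizer_iff]
        intro x hx
        exact ((Subgroup.mem_centralizer_iff.mp (hXP hx)) e he).symm)
      rw [h] at h1
      exact asym_ne_bot_of_card_prime hp hP (le_bot_iff.mp h1)
    have h3 : M = H := (h18.2.2 X hXA hX hne).2 M hM hCM
    rw [← h3] at hpσ
    exact hpM.2.1 hpσ
  · have h9 := Cfsg.Agent.S1409.result hG H hH p hpσ P hP hNP
    have hpτ : p ∈ tau2 H := ⟨hp, hpσ, h9.1.1, h9.1.2⟩
    obtain ⟨A', hA'E, hA'e, hA'2⟩ :=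
      Cfsg.Agent.Lib.helper97.bg7_exists_elemAb_compl H E hE p hpτ
    have h18' := Cfsg.Agent.S1418.result hG H hH E hE p hpτ A' ⟨hA'E, hA'e, hA'2⟩
    have hcop : (Nat.card A').Coprime (Nat.card A) := by
      rw [hA'2, hA2]
      exact Nat.Coprime.pow _ _ ((Nat.coprime_primes hp htp).mpr hptne)
    have hAA : A' ≤ Subgroup.centralizer (A : Set G) :=
      asym_comm_of_normal_coprime (hA'E.trans h18.1.1) (hAE.trans h18'.1.1) hcop
    have hA'M : A' ≤ M :=
      (hAA.trans (Subgroup.centralizer_le (show (X : Set G) ⊆ A from hXA))).trans hCM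
    exact (Cfsg.Agent.Lib.helper28.not_pRankLE_subgroup_iff p 1 M).mpr
      ⟨A', hA'M, hA'e, by rw [hA'2]; exact Nat.pow_lt_pow_right hp.one_lt (by norm_num)⟩
      hpM.2.2.2.2

/-- The `τ₁/τ₃` alternative. -/
theorem asym_tau13 [Finite G] (hG : IsMinSimpleOddOrder G) {H X : Subgroup G} (hH : IsCoatom H)
    {t : ℕ} (htp : t.Prime) (hXH : X ≤ H) (hX : Nat.card X = t) (hσ : t ∉ sigma H)
    (hτ : t ∉ tau2 H) : t ∈ tau1 H ∨ t ∈ tau3 H := by
  have hα : t ∉ alpha H := fun h => hσ (Cfsg.Agent.Lib.helper8.bg_alpha_sub_sigma hG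
    (Cfsg.Agent.Lib.helper13.bgx_uniq hG) H hH h)
  have h2 : PRankLE t 2 H := by
    by_contra h
    exact hα ⟨htp, h⟩
  have h1 : PRankLE t 1 H := by
    by_contra h
    exact hτ ⟨htp, hσ, h2, h⟩
  have hd : t ∣ Nat.card H := hX ▸ Subgroup.card_dvd_of_le hXH
  by_cases hc : t ∣ Nat.card ↥⁅H, H⁆
  · right; exact ⟨htp, hσ, hc, h1⟩
  · left; exact ⟨htp, hσ, hd, hc, h1⟩

/-- A subgroup of prime order `t ∈ τ₃(H)` of a complement `E` is normal in `E`. -/
theorem asym_tau3_normal [Finite G] (hG : IsMinSimpleOddOrder G) {H E X : Subgroup G}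
    (hH : IsCoatom H) (hE : IsComplIn E (sigmaCore H) H) {t : ℕ} (ht : t ∈ tau3 H)
    (hXE : X ≤ E) (hX : Nat.card X = t) : E ≤ Subgroup.normalizer (X : Set G) := by
  obtain ⟨hodd, -, -, hsolv⟩ := id hG
  have hEsolv : Group.IsSolvable E := hsolv E (by
    intro h; exact hH.1 (top_le_iff.mp (h ▸ hE.1)))
  obtain ⟨K, hK⟩ := (Cfsg.Agent.Lib.lead.hall_solvable (tau3 H) ↥E).1
  have hE3 : IsPiHallOf (tau3 H) (K.map E.subtype) E := by
    refine ⟨Subgroup.map_subtype_le K, ?_, ?_⟩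
    · intro k hk hkd
      apply hK.1 k hk
      rwa [Subgroup.card_map_of_injective E.subtype_injective] at hkd
    · intro k hk hkπ hkd
      apply hK.2 k hk hkπ
      have e1 : (K.map E.subtype).relIndex E = K.index := by
        unfold Subgroup.relIndex Subgroup.subgroupOf
        rw [Subgroup.comap_map_eq_self_of_injective E.subtype_injective]
      rwa [e1] at hkd
  obtain ⟨hcyc, -, hEn⟩ := (Cfsg.Agent.S1415.result hG H hH E hE).2.2 _ hE3
  have hXE3 : X ≤ K.map E.subtype := asym_le_of_hall hE3 hEn hXE (by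
    intro k hk hkd
    rw [hX] at hkd
    rw [(Nat.prime_dvd_prime_iff_eq hk ht.1).mp hkd]
    exact ht)
  intro g hg
  have hconj : X.map (MulAut.conj g).toMonoidHom ≤ K.map E.subtype := by
    rintro _ ⟨x, hx, rfl⟩
    exact (Subgroup.mem_normalizer_iff.mp (hEn hg) x).mp (hXE3 hx)
  have heq : X.map (MulAut.conj g).toMonoidHom = X :=
    Cfsg.Agent.Lib.helper12.so_eq_of_le_cyclic (K.map E.subtype) _ _ hconj hXE3
      (Subgroup.card_map_of_injective (MulAut.conj g).injective)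
  rw [Subgroup.mem_normalizer_iff]
  intro x
  constructor
  · intro hx
    have h1 : g * x * g⁻¹ ∈ X.map (MulAut.conj g).toMonoidHom :=
      ⟨x, hx, by simp [MulAut.conj_apply]⟩
    rwa [heq] at h1
  · intro hx
    rw [← heq, asym_mem_map_conj] at hx
    have e : g⁻¹ * (g * x * g⁻¹) * g = x := by group
    rwa [e] at hx

/-- A `{t, s}`-subgroup of `H` with `t, s ∈ τ₁(H)` is abelian. -/
theorem asym_tau1_comm [Finite G] {H F : Subgroup G} {t s : ℕ} (ht : t ∈ tau1 H)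
    (hs : s ∈ tau1 H) (hFH : F ≤ H)
    (hF : ∀ k : ℕ, k.Prime → k ∣ Nat.card F → k = t ∨ k = s) :
    ∀ x ∈ F, ∀ y ∈ F, x * y = y * x := by
  have hcop : (Nat.card F).Coprime (Nat.card ↥⁅H, H⁆) := by
    apply Nat.coprime_of_dvd
    intro k hk hkF hkH
    rcases hF k hk hkF with rfl | rfl
    · exact ht.2.2.2.1 hkH
    · exact hs.2.2.2.1 hkH
  have hbot : F ⊓ ⁅H, H⁆ = ⊥ := Subgroup.inf_eq_bot_of_coprime hcop
  intro x hx y hy
  have h1 : x * y * x⁻¹ * y⁻¹ ∈ F ⊓ ⁅H, H⁆ := by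
    refine ⟨F.mul_mem (F.mul_mem (F.mul_mem hx hy) (F.inv_mem hx)) (F.inv_mem hy), ?_⟩
    have h2 := Subgroup.commutator_mem_commutator (hFH hx) (hFH hy)
    rwa [commutatorElement_def] at h2
  rw [hbot, Subgroup.mem_bot] at h1
  have e : x * y = (x * y * x⁻¹ * y⁻¹) * (y * x) := by group
  rw [e, h1, one_mul]

/-- Two subgroups of prime orders `t`, `s` of a solvable subgroup `C` lie, up to conjugating the
second one inside `C`, in a common `{t, s}`-subgroup of `C`. -/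
theorem asym_hall_pair [Finite G] {C X Y : Subgroup G} (hC : Group.IsSolvable C) (hXC : X ≤ C)
    (hYC : Y ≤ C) {t s : ℕ} (hX : Nat.card X = t) (hY : Nat.card Y = s) (ht : t.Prime)
    (hs : s.Prime) :
    ∃ c ∈ C, ∃ F : Subgroup G, F ≤ C ∧ X ≤ F ∧ Y.map (MulAut.conj c).toMonoidHom ≤ F ∧
      ∀ k : ℕ, k.Prime → k ∣ Nat.card F → k = t ∨ k = s := by
  obtain ⟨⟨F0, hF0⟩, hconj⟩ := Cfsg.Agent.Lib.lead.hall_solvable ({t, s} : Set ℕ) ↥C
  have hXn : Cfsg.Agent.Lib.lead.PiNum ({t, s} : Set ℕ) (Nat.card (X.subgroupOf C)) := by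
    intro k hk hkd
    rw [Nat.card_congr (Subgroup.subgroupOfEquivOfLe hXC).toEquiv, hX] at hkd
    left
    exact (Nat.prime_dvd_prime_iff_eq hk ht).mp hkd
  have hYn : Cfsg.Agent.Lib.lead.PiNum ({t, s} : Set ℕ) (Nat.card (Y.subgroupOf C)) := by
    intro k hk hkd
    rw [Nat.card_congr (Subgroup.subgroupOfEquivOfLe hYC).toEquiv, hY] at hkd
    right
    exact (Nat.prime_dvd_prime_iff_eq hk hs).mp hkd
  obtain ⟨g₁, hg₁⟩ := hconj F0 (X.subgroupOf C) hF0 hXn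
  obtain ⟨g₂, hg₂⟩ := hconj F0 (Y.subgroupOf C) hF0 hYn
  refine ⟨(g₁ : G) * (g₂ : G)⁻¹, C.mul_mem g₁.2 (C.inv_mem g₂.2),
    (F0.map (MulAut.conj g₁).toMonoidHom).map C.subtype, Subgroup.map_subtype_le _, ?_, ?_, ?_⟩
  · intro x hx
    exact ⟨⟨x, hXC hx⟩, hg₁ (Subgroup.mem_subgroupOf.mpr hx), rfl⟩
  · rintro _ ⟨y, hy, rfl⟩
    obtain ⟨f, hf, hfy⟩ := hg₂
      (Subgroup.mem_subgroupOf.mpr hy : (⟨y, hYC hy⟩ : C) ∈ Y.subgroupOf C)
    refine ⟨g₁ * f * g₁⁻¹, ⟨f, hf, by simp [MulAut.conj_apply]⟩, ?_⟩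
    have hfy' : (g₂ : G) * f * (g₂ : G)⁻¹ = y := by
      have := congrArg Subtype.val hfy
      simpa [MulAut.conj_apply] using this
    simp only [Subgroup.coe_subtype, Subgroup.coe_mul, InvMemClass.coe_inv,
      MulEquiv.coe_toMonoidHom, MulAut.conj_apply]
    rw [← hfy']; group
  · intro k hk hkd
    have h1 : Nat.card ((F0.map (MulAut.conj g₁).toMonoidHom).map C.subtype) = Nat.card F0 := by
      rw [Subgroup.card_map_of_injective C.subtype_injective,
        Subgroup.card_map_of_injective (MulAut.conj g₁).injective]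
    rw [h1] at hkd
    have h2 := hF0.1 k hk hkd
    simpa [Set.mem_insert_iff] using h2

/-- The chain step (S1428). -/
theorem asym_chain [Finite G] (hG : IsMinSimpleOddOrder G) {M P R : Subgroup G}
    (hM : IsCoatom M) {p s : ℕ} (hpM : p ∈ tau1 M) (hP : Nat.card P = p) (hPM : P ≤ M)
    (hRM : R ≤ M) (hRP : R ≤ Subgroup.centralizer (P : Set G)) (hR : Nat.card R = s)
    (hs : s.Prime) (hsσ : s ∉ sigma M) :
    sigmaCore M ⊓ Subgroup.centralizer (P : Set G) ≤ Subgroup.centralizer (R : Set G) := by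
  have hp : p.Prime := hpM.1
  have hRn : R ≤ Subgroup.normalizer (P : Set G) :=
    hRP.trans (Subgroup.centralizer_le_normalizer _)
  have hσ' : ∀ k : ℕ, k.Prime → k ∣ Nat.card (P ⊔ R : Subgroup G) → k ∉ sigma M := by
    intro k hk hkd
    have h1 := Cfsg.Agent.Lib.helper13.card_sup_mul_card_inf' P R hRn
    have h2 : k ∣ Nat.card P * Nat.card R := h1 ▸ Dvd.dvd.mul_right hkd _
    rw [hP, hR] at h2
    rcases (Nat.Prime.dvd_mul hk).mp h2 with h | h
    · rw [(Nat.prime_dvd_prime_iff_eq hk hp).mp h]; exact hpM.2.1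
    · rw [(Nat.prime_dvd_prime_iff_eq hk hs).mp h]; exact hsσ
  obtain ⟨E, hE, hle⟩ := Cfsg.Agent.Lib.helper60.BGCentU.exists_compl_ge hG M hM (P ⊔ R)
    (sup_le hPM hRM) hσ'
  have h28 := Cfsg.Agent.S1428.result hG M hM E hE p hpM P (le_sup_left.trans hle) hP R
    (le_inf (le_sup_right.trans hle) hRP) (by rw [hR]; exact hs)
  exact h28.trans inf_le_right

/-- **The asymmetry lemma** (B-G 13.5 / `tau1_mmaxI_asymmetry`). -/
theorem bg_tau1_asymmetry {G : Type*} [Group G] [Finite G] (hG : Cfsg.IsMinSimpleOddOrder G)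
    (M L : Subgroup G) (hM : IsCoatom M) (hL : IsCoatom L)
    (hnc : ∀ g : G, L ≠ M.map (MulAut.conj g).toMonoidHom) (p : ℕ) (hpM : p ∈ Cfsg.tau1 M)
    (hpL : p ∈ Cfsg.tau1 L) (P : Subgroup G) (hPM : P ≤ M) (hPL : P ≤ L) (hP : Nat.card P = p)
    (q : ℕ) (hq : q.Prime) (Q : Subgroup G) (hQ : IsPGroup q Q) (hQ1 : Q ≠ ⊥) (hQM : Q ≤ M)
    (hQL : Q ≤ L)
    (hQsyl : ∀ Q1 : Subgroup G, IsPGroup q Q1 → Q1 ≤ M → Q1 ≤ L → Q ≤ Q1 → Q1 = Q)
    (hPQ : P ≤ Subgroup.normalizer (Q : Set G))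
    (hQP : Q ⊓ Subgroup.centralizer (P : Set G) = ⊥)
    (hNQ : Subgroup.normalizer (Q : Set G) ≤ L) (r : ℕ) (hr : r.Prime) (R : Subgroup G)
    (hR : IsPGroup r R) (hR1 : R ≠ ⊥) (hRM : R ≤ M) (hRL : R ≤ L)
    (hRsyl : ∀ R1 : Subgroup G, IsPGroup r R1 → R1 ≤ M → R1 ≤ L → R ≤ R1 → R1 = R)
    (hPR : P ≤ Subgroup.normalizer (R : Set G))
    (hRP : R ⊓ Subgroup.centralizer (P : Set G) = ⊥)
    (hNR : Subgroup.normalizer (R : Set G) ≤ M) : False := by
  have hp : p.Prime := hpM.1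
  have hU := Cfsg.Agent.Lib.helper13.bgx_uniq hG
  have hneLM : L ≠ M := by
    intro h
    apply hnc 1
    rw [h]
    ext x
    rw [asym_mem_map_conj]
    simp
  have hneML : M ≠ L := fun h => hneLM h.symm
  have hncML : ∀ g : G, M ≠ L.map (MulAut.conj g).toMonoidHom := by
    intro g h
    apply hnc g⁻¹
    ext x
    rw [asym_mem_map_conj, h, asym_mem_map_conj]
    have e : g⁻¹ * (g⁻¹⁻¹ * x * g⁻¹) * g = x := by group
    rw [e]
  -- the two one-sided packages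
  obtain ⟨hpαM, hfrM, hαβM, hXL⟩ := asym_side hG hM hL hneLM hq hpM hP hPM hPL hQ hQM hQL
    hQsyl hPQ hQP hNQ
  obtain ⟨hpαL, hfrL, hαβL, hYM⟩ := asym_side hG hL hM hneML hr hpL hP hPL hPM hR hRL hRM
    (fun R1 h1 h2 h3 h4 => hRsyl R1 h1 h3 h2 h4) hPR hRP hNR
  have hX1 : alphaCore M ⊓ Subgroup.centralizer (P : Set G) ≠ ⊥ := by
    intro h; apply hXL; rw [h]; exact bot_le
  have hY1 : alphaCore L ⊓ Subgroup.centralizer (P : Set G) ≠ ⊥ := by
    intro h; apply hYM; rw [h]; exact bot_le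
  obtain ⟨t, htp, htd, Xt, hXt, hXtc⟩ := asym_exists_prime_sub hX1
  obtain ⟨s, hsp, hsd, Ys, hYs, hYsc⟩ := asym_exists_prime_sub hY1
  have htα : t ∈ alpha M := Cfsg.Agent.Lib.helper71.BG12.mem_alpha_of_dvd_card_alphaCore M htp
    (htd.trans (Subgroup.card_dvd_of_le inf_le_left))
  have hsα : s ∈ alpha L := Cfsg.Agent.Lib.helper71.BG12.mem_alpha_of_dvd_card_alphaCore L hsp
    (hsd.trans (Subgroup.card_dvd_of_le inf_le_left))
  have htβ := hαβM t htα
  have hsβ := hαβL s hsα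
  have hαM : alphaCore M ≤ M := Cfsg.Agent.Lib.helper71.BGA.alphaCore_le M
  have hαL : alphaCore L ≤ L := Cfsg.Agent.Lib.helper71.BGA.alphaCore_le L
  have hXtM : Xt ≤ M := hXt.trans (inf_le_left.trans hαM)
  have hXtP : Xt ≤ Subgroup.centralizer (P : Set G) := hXt.trans inf_le_right
  have hYsL : Ys ≤ L := hYs.trans (inf_le_left.trans hαL)
  have hYsP : Ys ≤ Subgroup.centralizer (P : Set G) := hYs.trans inf_le_right
  obtain ⟨hCXt, huXt, hNXt⟩ := asym_beta_cent hG hM htβ hXtM hXtc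
  obtain ⟨hCYs, huYs, hNYs⟩ := asym_beta_cent hG hL hsβ hYsL hYsc
  have hασ : ∀ k, k ∈ alpha M → k ∉ sigma L := by
    intro k hk hkσ
    obtain ⟨g, hg⟩ := Cfsg.Agent.Lib.helper76.bg123_conj_of_alpha_sigma hU M L hM hL hk hkσ
    exact hncML g hg
  have hασ' : ∀ k, k ∈ alpha L → k ∉ sigma M := by
    intro k hk hkσ
    obtain ⟨g, hg⟩ := Cfsg.Agent.Lib.helper76.bg123_conj_of_alpha_sigma hU L M hL hM hk hkσ
    exact hnc g hg
  have htσL : t ∉ sigma L := hασ t htα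
  have hsσM : s ∉ sigma M := hασ' s hsα
  -- the maximal subgroup `H ≥ N_G(P)`
  obtain ⟨H, hH, hNP⟩ := asym_exists_coatom hG hM hp hP hPM
  have hCN : Subgroup.centralizer (P : Set G) ≤ Subgroup.normalizer (P : Set G) :=
    Subgroup.centralizer_le_normalizer _
  have hCH : Subgroup.centralizer (P : Set G) ≤ H := hCN.trans hNP
  have htσH : t ∉ sigma H := asym_not_sigma hG hM hH hpM hP hNP htα
  have hsσH : s ∉ sigma H := asym_not_sigma hG hL hH hpL hP hNP hsα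
  have htτ2 : t ∉ tau2 H := asym_not_tau2 hG hM hH hpM hP hNP htβ hXtM hXtP hXtc
  have hsτ2 : s ∉ tau2 H := asym_not_tau2 hG hL hH hpL hP hNP hsβ hYsL hYsP hYsc
  have ht13 := asym_tau13 hG hH htp (hXtP.trans hCH) hXtc htσH htτ2
  have hs13 := asym_tau13 hG hH hsp (hYsP.trans hCH) hYsc hsσH hsτ2
  -- a common Hall `{t, s}`-subgroup of `C_G(P)`
  obtain ⟨hodd, -, -, hsolv⟩ := id hG
  have hCsolv : Group.IsSolvable (Subgroup.centralizer (P : Set G)) := hsolv _ (by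
    intro h; exact hH.1 (top_le_iff.mp (h ▸ hCH)))
  obtain ⟨c, hc, F, hFC, hXtF, hYF, hFpi⟩ :=
    asym_hall_pair hCsolv hXtP hYsP hXtc hYsc htp hsp
  have hFσ : ∀ k : ℕ, k.Prime → k ∣ Nat.card F → k ∉ sigma H := by
    intro k hk hkd
    rcases hFpi k hk hkd with rfl | rfl
    · exact htσH
    · exact hsσH
  obtain ⟨E, hE, hFE⟩ := Cfsg.Agent.Lib.helper60.BGCentU.exists_compl_ge hG H hH F
    (hFC.trans hCH) hFσ
  have hY2c : Nat.card (Ys.map (MulAut.conj c).toMonoidHom) = s := by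
    rw [Subgroup.card_map_of_injective (MulAut.conj c).injective, hYsc]
  -- step 4
  have hstep4 : Ys.map (MulAut.conj c).toMonoidHom ≤ Subgroup.normalizer (Xt : Set G) ∨
      Xt ≤ Subgroup.normalizer ((Ys.map (MulAut.conj c).toMonoidHom : Subgroup G) : Set G) := by
    rcases ht13 with ht1 | ht3
    · rcases hs13 with hs1 | hs3
      · left
        have hcomm := asym_tau1_comm ht1 hs1 (hFC.trans hCH) hFpi
        intro y hy
        apply Subgroup.centralizer_le_normalizer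
        rw [Subgroup.mem_centralizer_iff]
        intro x hx
        exact hcomm x (hXtF hx) y (hYF hy)
      · right
        exact (hXtF.trans hFE).trans (asym_tau3_normal hG hH hE hs3 (hYF.trans hFE) hY2c)
    · left
      exact (hYF.trans hFE).trans (asym_tau3_normal hG hH hE ht3 (hXtF.trans hFE) hXtc)
  -- step 5
  have h5M := Cfsg.Agent.S1405.result hG M hM
  have h5L := Cfsg.Agent.S1405.result hG L hL
  have hασM : alphaCore M ≤ sigmaCore M := h5M.2.2.1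
  have hασL : alphaCore L ≤ sigmaCore L := h5L.2.2.1
  have hαnM : M ≤ Subgroup.normalizer (alphaCore M : Set G) :=
    Cfsg.Agent.Lib.helper71.BGA.le_normalizer_alphaCore M
  have hαnL : L ≤ Subgroup.normalizer (alphaCore L : Set G) :=
    Cfsg.Agent.Lib.helper71.BGA.le_normalizer_alphaCore L
  have hcP : ∀ y ∈ Subgroup.centralizer (P : Set G),
      c * y * c⁻¹ ∈ Subgroup.centralizer (P : Set G) := fun y hy =>
    Subgroup.mul_mem _ (Subgroup.mul_mem _ hc hy) (Subgroup.inv_mem _ hc)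
  have hcP' : ∀ y ∈ Subgroup.centralizer (P : Set G),
      c⁻¹ * y * c ∈ Subgroup.centralizer (P : Set G) := fun y hy =>
    Subgroup.mul_mem _ (Subgroup.mul_mem _ (Subgroup.inv_mem _ hc) hy) hc
  have hY2P : Ys.map (MulAut.conj c).toMonoidHom ≤ Subgroup.centralizer (P : Set G) := by
    rintro _ ⟨y, hy, rfl⟩
    simpa [MulAut.conj_apply] using hcP y (hYsP hy)
  have hI : Ys.map (MulAut.conj c).toMonoidHom ≤ M →
      ∀ x ∈ sigmaCore M ⊓ Subgroup.centralizer (P : Set G), c⁻¹ * x * c ∈ L := by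
    intro hY2M x hx
    have h1 := asym_chain hG hM hpM hP hPM hY2M hY2P hY2c hsp hsσM
    exact hCYs (asym_cent_conj.mp (h1 hx))
  have hII : (∀ x ∈ Xt, c⁻¹ * x * c ∈ L) →
      ∀ y ∈ sigmaCore L ⊓ Subgroup.centralizer (P : Set G), c * y * c⁻¹ ∈ M := by
    intro hX3 y hy
    have hX3L : Xt.map (MulAut.conj c⁻¹).toMonoidHom ≤ L := by
      rintro _ ⟨x, hx, rfl⟩
      simpa [MulAut.conj_apply] using hX3 x hx
    have hX3P : Xt.map (MulAut.conj c⁻¹).toMonoidHom ≤ Subgroup.centralizer (P : Set G) := by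
      rintro _ ⟨x, hx, rfl⟩
      simpa [MulAut.conj_apply] using hcP' x (hXtP hx)
    have hX3c : Nat.card (Xt.map (MulAut.conj c⁻¹).toMonoidHom) = t := by
      rw [Subgroup.card_map_of_injective (MulAut.conj c⁻¹).injective, hXtc]
    have h1 := asym_chain hG hL hpL hP hPL hX3L hX3P hX3c htp htσL
    have h2 := hCXt (asym_cent_conj.mp (h1 hy))
    simpa using h2
  have hXtσ : Xt ≤ sigmaCore M ⊓ Subgroup.centralizer (P : Set G) := fun x hx =>
    ⟨hασM (hXt hx).1, (hXt hx).2⟩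
  have hYsσ : Ys ≤ sigmaCore L ⊓ Subgroup.centralizer (P : Set G) := fun y hy =>
    ⟨hασL (hYs hy).1, (hYs hy).2⟩
  have hY2M_of : (∀ y ∈ sigmaCore L ⊓ Subgroup.centralizer (P : Set G), c * y * c⁻¹ ∈ M) →
      Ys.map (MulAut.conj c).toMonoidHom ≤ M := by
    intro h
    rintro _ ⟨y, hy, rfl⟩
    simpa [MulAut.conj_apply] using h y (hYsσ hy)
  have hboth : (∀ x ∈ sigmaCore M ⊓ Subgroup.centralizer (P : Set G), c⁻¹ * x * c ∈ L) ∧
      (∀ y ∈ sigmaCore L ⊓ Subgroup.centralizer (P : Set G), c * y * c⁻¹ ∈ M) := by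
    rcases hstep4 with h | h
    · have hY2M : Ys.map (MulAut.conj c).toMonoidHom ≤ M := h.trans hNXt
      have h1 := hI hY2M
      exact ⟨h1, hII (fun x hx => h1 x (hXtσ hx))⟩
    · have h2 := hII (fun x hx => hNYs (asym_norm_conj.mp (h hx)))
      exact ⟨hI (hY2M_of h2), h2⟩
  obtain ⟨hXL', hYM'⟩ := hboth
  -- step 6
  have hcopαα : (Nat.card (alphaCore M)).Coprime (Nat.card (alphaCore L)) := by
    apply Nat.coprime_of_dvd
    intro k hk hkM hkL
    have h1 := Cfsg.Agent.Lib.helper71.BG12.mem_alpha_of_dvd_card_alphaCore M hk hkM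
    have h2 := Cfsg.Agent.Lib.helper71.BG12.mem_alpha_of_dvd_card_alphaCore L hk hkL
    exact hασ k h1 (Cfsg.Agent.Lib.helper8.bg_alpha_sub_sigma hG hU L hL h2)
  have hbot : alphaCore M ⊓ (alphaCore L).map (MulAut.conj c).toMonoidHom = ⊥ := by
    apply Subgroup.inf_eq_bot_of_coprime
    rw [Subgroup.card_map_of_injective (MulAut.conj c).injective]
    exact hcopαα
  have hcomm : ∀ x ∈ alphaCore M ⊓ Subgroup.centralizer (P : Set G),
      ∀ y ∈ alphaCore L ⊓ Subgroup.centralizer (P : Set G),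
        x * (c * y * c⁻¹) = (c * y * c⁻¹) * x := by
    intro x hx y hy
    have hy'M : c * y * c⁻¹ ∈ M := hYM' y ⟨hασL hy.1, hy.2⟩
    have hx'L : c⁻¹ * x * c ∈ L := hXL' x ⟨hασM hx.1, hx.2⟩
    have ha : (c * y * c⁻¹) * x⁻¹ * (c * y * c⁻¹)⁻¹ ∈ alphaCore M :=
      (Subgroup.mem_normalizer_iff.mp (hαnM hy'M) x⁻¹).mp (Subgroup.inv_mem _ hx.1)
    have hb : (c⁻¹ * x * c) * y * (c⁻¹ * x * c)⁻¹ ∈ alphaCore L :=
      (Subgroup.mem_normalizer_iff.mp (hαnL hx'L) y).mp hy.1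
    have hk1 : x * (c * y * c⁻¹) * x⁻¹ * (c * y * c⁻¹)⁻¹ ∈ alphaCore M := by
      have e : x * (c * y * c⁻¹) * x⁻¹ * (c * y * c⁻¹)⁻¹
          = x * ((c * y * c⁻¹) * x⁻¹ * (c * y * c⁻¹)⁻¹) := by group
      rw [e]; exact Subgroup.mul_mem _ hx.1 ha
    have hk2 : x * (c * y * c⁻¹) * x⁻¹ * (c * y * c⁻¹)⁻¹
        ∈ (alphaCore L).map (MulAut.conj c).toMonoidHom := by
      rw [asym_mem_map_conj]
      have e : c⁻¹ * (x * (c * y * c⁻¹) * x⁻¹ * (c * y * c⁻¹)⁻¹) * c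
          = ((c⁻¹ * x * c) * y * (c⁻¹ * x * c)⁻¹) * y⁻¹ := by group
      rw [e]; exact Subgroup.mul_mem _ hb (Subgroup.inv_mem _ hy.1)
    have hk : x * (c * y * c⁻¹) * x⁻¹ * (c * y * c⁻¹)⁻¹
        ∈ alphaCore M ⊓ (alphaCore L).map (MulAut.conj c).toMonoidHom := ⟨hk1, hk2⟩
    rw [hbot, Subgroup.mem_bot] at hk
    have e : x * (c * y * c⁻¹)
        = (x * (c * y * c⁻¹) * x⁻¹ * (c * y * c⁻¹)⁻¹) * ((c * y * c⁻¹) * x) := by group
    rw [e, hk, one_mul]
  have hY2L : Ys.map (MulAut.conj c).toMonoidHom ≤ L := by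
    rintro _ ⟨y, hy, rfl⟩
    have hyY := hYs hy
    have hy'M : c * y * c⁻¹ ∈ M := hYM' y ⟨hασL hyY.1, hyY.2⟩
    have hy'P := hcP y hyY.2
    obtain ⟨x, hx, d, hd, hxd⟩ := asym_cent_split hp hpαM hP hPM hPQ hfrM (c * y * c⁻¹)
      ⟨hy'M, hy'P⟩
    have hxy := hcomm x hx y hyY
    have hxdc : Commute x d := by
      have hd' : d = x⁻¹ * (c * y * c⁻¹) := by rw [hxd]; group
      rw [hd']
      exact (Commute.refl x).inv_right.mul_right (show Commute x (c * y * c⁻¹) from hxy)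
    have hpow : (c * y * c⁻¹) ^ orderOf x = d ^ orderOf x := by
      rw [hxd, hxdc.mul_pow, pow_orderOf_eq_one, one_mul]
    have hdL : d ^ orderOf x ∈ L := Subgroup.pow_mem _ (hNQ hd.1.2) _
    have hcop : (orderOf x).Coprime (orderOf (c * y * c⁻¹)) := by
      apply Nat.coprime_of_dvd
      intro k hk hk1 hk2
      have h1 : k ∣ Nat.card (alphaCore M) :=
        hk1.trans (Subgroup.orderOf_dvd_natCard _ hx.1)
      have h2 : orderOf (c * y * c⁻¹) = orderOf y := by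
        have := (MulAut.conj c).orderOf_eq y
        simpa using this
      have h3 : k ∣ Nat.card (alphaCore L) :=
        (h2 ▸ hk2).trans (Subgroup.orderOf_dvd_natCard _ hyY.1)
      exact hk.one_lt.ne' (Nat.Coprime.eq_one_of_dvd
        (Nat.Coprime.coprime_dvd_left h1 hcopαα) h3)
    obtain ⟨m, hm⟩ := exists_pow_eq_self_of_coprime hcop
    have hmem : c * y * c⁻¹ ∈ L := by
      rw [← hm, hpow]
      exact Subgroup.pow_mem _ hdL m
    simpa [MulAut.conj_apply] using hmem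
  obtain ⟨hCY2, huY2, -⟩ := asym_beta_cent hG hL hsβ hY2L hY2c
  have hCle : Subgroup.centralizer ((Ys.map (MulAut.conj c).toMonoidHom : Subgroup G) : Set G)
      ≤ L.map (MulAut.conj c).toMonoidHom := by
    intro x hx
    rw [asym_mem_map_conj]
    exact hCYs (asym_cent_conj.mp hx)
  have hLc : L.map (MulAut.conj c).toMonoidHom = L :=
    huY2 _ (Cfsg.Agent.Lib.helper71.BGA.isCoatom_map_conj hL c) hCle
  apply hXL
  intro x hx
  have h1 : c⁻¹ * x * c ∈ L := hXL' x ⟨hασM hx.1, hx.2⟩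
  rw [← hLc, asym_mem_map_conj]
  exact h1

end Cfsg.Agent.Lib.helper70
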