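import Mathlib
import Cfsg.Agent.Lib.helper8.BGT3Defs
import Cfsg.Agent.Lib.helper70.BGAsym

/-!
# The asymmetry lemma in the bundled form `helper8.BGT3.ASHyp` (helper70)
-/

set_option autoImplicit false

namespace Cfsg.Agent.Lib.helper70

open Cfsg

/-- The asymmetry lemma (Bender--Glauberman 13.5) in the for-all form of `helper8.BGT3.ASHyp`. -/
theorem asHyp {G : Type*} [Group G] [Finite G] (hG : IsMinSimpleOddOrder G) :
    Cfsg.Agent.Lib.helper8.BGT3.ASHyp G := by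
  intro M L hM hL hnc p hpM hpL P hP hPc q Q hq hQ hQp hQ1 hQmax hPQ hQP hNQ q' Q' hq' hQ'
    hQ'p hQ'1 hQ'max hPQ' hQ'P hNQ'
  exact bg_tau1_asymmetry hG M L hM hL hnc p hpM hpL P (hP.trans inf_le_left)
    (hP.trans inf_le_right) hPc q hq Q hQp hQ1 (hQ.trans inf_le_left) (hQ.trans inf_le_right)
    (fun Q1 h1 h2 h3 h4 => hQmax Q1 (le_inf h2 h3) h1 h4) hPQ hQP hNQ q' hq' Q' hQ'p hQ'1
    (hQ'.trans inf_le_left) (hQ'.trans inf_le_right)
    (fun Q1 h1 h2 h3 h4 => hQ'max Q1 (le_inf h2 h3) h1 h4) hPQ' hQ'P hNQ'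

end Cfsg.Agent.Lib.helper70
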