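import Mathlib
import Cfsg.Agent.Lib.helper29.Zipper

/-!
Flavell's generalisation of Wielandt's zipper lemma.

`FlvPerf A H` : `H` contains `A` and no proper subgroup of `H` containing `A` is normalised
by `H` (that is, `H` is generated by its own conjugates of `A`).

Main result `flv_main`: if `A ≠ ⊤` has normal closure `⊤` and lies in two distinct maximal
subgroups, then the proper `A`-perfect subgroups generate `G`.
-/

set_option autoImplicit false

namespace Cfsg.Agent.Lib.helper70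

open Pointwise
open Cfsg.Agent.Lib.helper12 Cfsg.Agent.Lib.helper29

variable {G : Type*} [Group G]

/-- `H` is `A`-perfect. -/
def FlvPerf (A H : Subgroup G) : Prop :=
  A ≤ H ∧ ∀ N : Subgroup G, A ≤ N → N ≤ H → H ≤ Subgroup.normalizer (N : Set G) → N = H

theorem flv_mem_normalizer_inf {N L : Subgroup G} {x : G}
    (hx : x ∈ Subgroup.normalizer (N : Set G)) (hxL : x ∈ L) :
    x ∈ Subgroup.normalizer ((N ⊓ L : Subgroup G) : Set G) := by
  rw [Subgroup.mem_normalizer_iff] at hx ⊢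
  intro y
  simp only [Subgroup.mem_inf]
  constructor
  · rintro ⟨h1, h2⟩
    exact ⟨(hx y).mp h1, L.mul_mem (L.mul_mem hxL h2) (L.inv_mem hxL)⟩
  · rintro ⟨h1, h2⟩
    refine ⟨(hx y).mpr h1, ?_⟩
    have := L.mul_mem (L.mul_mem (L.inv_mem hxL) h2) hxL
    simpa [mul_assoc] using this

theorem flvPerf_self (A : Subgroup G) : FlvPerf A A :=
  ⟨le_rfl, fun _ h1 h2 _ => le_antisymm h2 h1⟩

theorem flvPerf_sSup {A : Subgroup G} {S : Set (Subgroup G)} (hne : S.Nonempty)
    (h : ∀ H ∈ S, FlvPerf A H) : FlvPerf A (sSup S) := by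
  obtain ⟨H₀, hH₀⟩ := hne
  refine ⟨(h H₀ hH₀).1.trans (le_sSup hH₀), ?_⟩
  intro N hAN hNJ hJN
  refine le_antisymm hNJ (sSup_le ?_)
  intro H hH
  have h1 : N ⊓ H = H := (h H hH).2 (N ⊓ H) (le_inf hAN (h H hH).1) inf_le_right
    (fun x hx => flv_mem_normalizer_inf (hJN (le_sSup hH hx)) hx)
  calc H = N ⊓ H := h1.symm
    _ ≤ N := inf_le_left

theorem flvPerf_trans {A B H : Subgroup G} (hAB : FlvPerf A B) (hBH : FlvPerf B H) :
    FlvPerf A H := by
  refine ⟨hAB.1.trans hBH.1, ?_⟩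
  intro N h1 h2 h3
  have h4 : N ⊓ B = B := hAB.2 (N ⊓ B) (le_inf h1 hAB.1) inf_le_right
    (fun x hx => flv_mem_normalizer_inf (h3 (hBH.1 hx)) hx)
  exact hBH.2 N (h4 ▸ inf_le_left) h2 h3

theorem flvPerf_conj {A H : Subgroup G} (h : FlvPerf A H) (g : G) :
    FlvPerf (MulAut.conj g • A) (MulAut.conj g • H) := by
  refine ⟨conj_smul_mono g h.1, ?_⟩
  intro N h1 h2 h3
  have e1 : A ≤ MulAut.conj g⁻¹ • N := by
    have := conj_smul_mono g⁻¹ h1
    rwa [conj_inv_smul_conj_smul] at this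
  have e2 : MulAut.conj g⁻¹ • N ≤ H := by
    have := conj_smul_mono g⁻¹ h2
    rwa [conj_inv_smul_conj_smul] at this
  have e3 : H ≤ Subgroup.normalizer ((MulAut.conj g⁻¹ • N : Subgroup G) : Set G) := by
    have := Cfsg.Agent.S0538.conj_smul_le_normalizer g⁻¹ h3
    rwa [conj_inv_smul_conj_smul] at this
  have e4 := h.2 _ e1 e2 e3
  rw [← e4, conj_smul_conj_inv_smul]

theorem flv_snChain_inf {S H : Subgroup G} (h : SNChain S H) (L : Subgroup G) :
    SNChain (S ⊓ L) (H ⊓ L) := by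
  induction h with
  | refl H => exact SNChain.refl _
  | step S K H hSK hKS _ ih =>
    exact SNChain.step _ (K ⊓ L) _ (inf_le_inf_right L hSK)
      (fun x hx => flv_mem_normalizer_inf (hKS hx.1) hx.2) ih

theorem flv_snChain_exists_normal {S H : Subgroup G} (h : SNChain S H) (hne : S ≠ H) :
    ∃ N : Subgroup G, S ≤ N ∧ N ≤ H ∧ N ≠ H ∧ H ≤ Subgroup.normalizer (N : Set G) := by
  induction h with
  | refl H => exact absurd rfl hne
  | step S K H hSK hKS hK ih =>
    by_cases hKH : K = H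
    · subst hKH
      exact ⟨S, le_rfl, hSK, hne, hKS⟩
    · obtain ⟨N, h1, h2, h3, h4⟩ := ih hKH
      exact ⟨N, hSK.trans h1, h2, h3, h4⟩

/-- an `A`-perfect subgroup of `H` lies in every subnormal subgroup of `H` containing `A`. -/
theorem flvPerf_le_of_snChain {A S H L : Subgroup G} (hAS : A ≤ S) (hS : SNChain S H)
    (hL : FlvPerf A L) (hLH : L ≤ H) : L ≤ S := by
  have h1 : SNChain (S ⊓ L) (H ⊓ L) := flv_snChain_inf hS L
  rw [inf_eq_right.mpr hLH] at h1
  by_contra hcon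
  have hne : S ⊓ L ≠ L := fun h => hcon (inf_eq_right.mp h)
  obtain ⟨N, h2, h3, h4, h5⟩ := flv_snChain_exists_normal h1 hne
  exact h4 (hL.2 N ((le_inf hAS hL.1).trans h2) h3 h5)

/-- the subnormal closure: an `A`-perfect subnormal subgroup of `H`. -/
theorem flv_exists_perf [Finite G] (A : Subgroup G) : ∀ (n : ℕ) (H : Subgroup G),
    Nat.card H = n → A ≤ H → ∃ S : Subgroup G, FlvPerf A S ∧ SNChain S H := by
  intro n
  induction n using Nat.strong_induction_on with
  | _ n ih =>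
  intro H hn hAH
  by_cases hP : FlvPerf A H
  · exact ⟨H, hP, SNChain.refl H⟩
  · have hex : ∃ N : Subgroup G, A ≤ N ∧ N ≤ H ∧ H ≤ Subgroup.normalizer (N : Set G) ∧
        N ≠ H := by
      by_contra hcon
      push Not at hcon
      exact hP ⟨hAH, fun N h1 h2 h3 => hcon N h1 h2 h3⟩
    obtain ⟨N, h1, h2, h3, h4⟩ := hex
    have hlt : N < H := lt_of_le_of_ne h2 h4
    obtain ⟨S, hS1, hS2⟩ := ih _ (hn ▸ card_lt_card_of_lt hlt) N rfl h1
    exact ⟨S, hS1, hS2.trans (SNChain.of_normal h2 h3)⟩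

/-- the proper `A`-perfect subgroups. -/
def flvSet (A : Subgroup G) : Set (Subgroup G) := {H | H ≠ ⊤ ∧ FlvPerf A H}

/-- the normal closure of `A` is everything. -/
def FlvNC (A : Subgroup G) : Prop :=
  ∀ N : Subgroup G, A ≤ N → (⊤ : Subgroup G) ≤ Subgroup.normalizer (N : Set G) → N = ⊤

/-- `T` lies in two distinct maximal subgroups. -/
def FlvTwo (T : Subgroup G) : Prop :=
  ∃ L₁ L₂ : Subgroup G, IsCoatom L₁ ∧ IsCoatom L₂ ∧ L₁ ≠ L₂ ∧ T ≤ L₁ ∧ T ≤ L₂

/-- the induction hypothesis at order `n`. -/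
def FlvIH (G : Type*) [Group G] (n : ℕ) : Prop :=
  ∀ T : Subgroup G, n < Nat.card T → T ≠ ⊤ → FlvNC T → FlvTwo T → sSup (flvSet T) = ⊤

/-- `N` is a "home" of `D`. -/
structure FlvHome (n : ℕ) (D N : Subgroup G) : Prop where
  card : Nat.card D = n
  nc : FlvNC D
  le : D ≤ N
  coatom : IsCoatom N
  sn : ∀ L : Subgroup G, IsCoatom L → D ≤ L → L ≠ N → SNChain D L
  nz : Subgroup.normalizer (D : Set G) ≤ N

theorem flv_conj_top (g : G) : MulAut.conj g • (⊤ : Subgroup G) = ⊤ :=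
  Subgroup.conj_smul_eq_self_of_mem (Subgroup.mem_top g)

theorem flv_conj_le_iff (g : G) {A B : Subgroup G} :
    MulAut.conj g • A ≤ B ↔ A ≤ MulAut.conj g⁻¹ • B := by
  constructor
  · intro h
    have := conj_smul_mono g⁻¹ h
    rwa [conj_inv_smul_conj_smul] at this
  · intro h
    have := conj_smul_mono g h
    rwa [conj_smul_conj_inv_smul] at this

theorem flv_conj_inj (g : G) {A B : Subgroup G} (h : MulAut.conj g • A = MulAut.conj g • B) :
    A = B := by
  have := congrArg (fun X => MulAut.conj g⁻¹ • X) h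
  simpa [conj_inv_smul_conj_smul] using this

theorem flv_conj_eq_top {g : G} {N : Subgroup G} (h : MulAut.conj g • N = ⊤) : N = ⊤ := by
  have h1 : MulAut.conj g⁻¹ • MulAut.conj g • N = MulAut.conj g⁻¹ • (⊤ : Subgroup G) := by
    rw [h]
  rwa [conj_inv_smul_conj_smul, flv_conj_top] at h1

theorem flv_isCoatom_conj {N : Subgroup G} (hN : IsCoatom N) (g : G) :
    IsCoatom (MulAut.conj g • N) := by
  refine ⟨?_, ?_⟩
  · intro h
    exact hN.1 (flv_conj_eq_top h)
  · intro K hK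
    have h1 : N ≤ MulAut.conj g⁻¹ • K := (flv_conj_le_iff g).mp hK.le
    have h2 : N ≠ MulAut.conj g⁻¹ • K := by
      intro h
      apply hK.ne
      rw [h, conj_smul_conj_inv_smul]
    have h3 := hN.2 _ (lt_of_le_of_ne h1 h2)
    have := congrArg (fun X => MulAut.conj g • X) h3
    simpa [conj_smul_conj_inv_smul, flv_conj_top] using this

theorem FlvHome.conj {n : ℕ} {D N : Subgroup G} (h : FlvHome n D N) (g : G) :
    FlvHome n (MulAut.conj g • D) (MulAut.conj g • N) := by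
  refine ⟨?_, ?_, conj_smul_mono g h.le, flv_isCoatom_conj h.coatom g, ?_, ?_⟩
  · rw [card_conj_smul]; exact h.card
  · intro N' h1 h2
    apply h.nc N' ?_ h2
    have h3 : D ≤ MulAut.conj g⁻¹ • N' := (flv_conj_le_iff g).mp h1
    have h4 : MulAut.conj g⁻¹ • N' = N' :=
      mem_normalizer_iff_conj_smul_eq.mp (h2 (Subgroup.mem_top g⁻¹))
    rwa [h4] at h3
  · intro L hL hDL hLN
    have h1 : D ≤ MulAut.conj g⁻¹ • L := (flv_conj_le_iff g).mp hDL
    have h2 : MulAut.conj g⁻¹ • L ≠ N := by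
      intro h
      apply hLN
      rw [← h, conj_smul_conj_inv_smul]
    have h3 := (h.sn _ (flv_isCoatom_conj hL g⁻¹) h1 h2).conj g
    rwa [conj_smul_conj_inv_smul] at h3
  · intro y hy
    rw [mem_conj_smul_iff]
    apply h.nz
    rw [mem_normalizer_iff_conj_smul_eq] at hy ⊢
    rw [conj_mul_smul, conj_mul_smul, hy, conj_inv_smul_conj_smul]

theorem flv_exists_coatom [Finite G] {H : Subgroup G} (hH : H ≠ ⊤) :
    ∃ L : Subgroup G, IsCoatom L ∧ H ≤ L :=
  (eq_top_or_exists_le_coatom H).resolve_left hH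

/-- the pair lemma. -/
theorem flv_pair [Finite G] {n : ℕ} (hIH : FlvIH G n) {D E N_D N_E L₁ L₂ : Subgroup G}
    (hD : FlvHome n D N_D) (hE : FlvHome n E N_E) (hne : D ≠ E)
    (hL₁ : IsCoatom L₁) (hL₂ : IsCoatom L₂) (hL : L₁ ≠ L₂) (h1 : D ⊔ E ≤ L₁)
    (h2 : D ⊔ E ≤ L₂) : D ⊔ E ≤ N_D ∧ D ⊔ E ≤ N_E ∧ N_D ≠ N_E := by
  by_contra hcon
  have hDT : D < D ⊔ E := by
    refine lt_of_le_of_ne le_sup_left ?_
    intro h
    have hED : E ≤ D := by
      calc E ≤ D ⊔ E := le_sup_right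
        _ = D := h.symm
    exact hne (Subgroup.eq_of_le_of_card_ge hED (by rw [hD.card, hE.card])).symm
  have hcard : n < Nat.card (D ⊔ E : Subgroup G) := by
    have := card_lt_card_of_lt hDT
    rwa [hD.card] at this
  have hTtop : D ⊔ E ≠ ⊤ := fun h => hL₁.1 (top_le_iff.mp (h ▸ h1))
  have hTnc : FlvNC (D ⊔ E) := fun N hN hn => hD.nc N (hDT.le.trans hN) hn
  have htop := hIH (D ⊔ E) hcard hTtop hTnc ⟨L₁, L₂, hL₁, hL₂, hL, h1, h2⟩
  obtain ⟨Ms, hMs, hTMs, hprop⟩ : ∃ Ms : Subgroup G, IsCoatom Ms ∧ D ⊔ E ≤ Ms ∧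
      ∀ L : Subgroup G, D ⊔ E ≤ L → L ≠ Ms → L ≠ N_D ∧ L ≠ N_E := by
    by_cases hc1 : D ⊔ E ≤ N_D
    · refine ⟨N_D, hD.coatom, hc1, ?_⟩
      intro L hTL hLne
      refine ⟨hLne, ?_⟩
      intro hLE
      exact hcon ⟨hc1, hLE ▸ hTL, fun h => hLne (hLE.trans h.symm)⟩
    · by_cases hc2 : D ⊔ E ≤ N_E
      · refine ⟨N_E, hE.coatom, hc2, ?_⟩
        intro L hTL hLne
        exact ⟨fun h => hc1 (h ▸ hTL), hLne⟩
      · refine ⟨L₁, hL₁, h1, ?_⟩
        intro L hTL _
        exact ⟨fun h => hc1 (h ▸ hTL), fun h => hc2 (h ▸ hTL)⟩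
  have hle : sSup (flvSet (D ⊔ E)) ≤ Ms := by
    apply sSup_le
    rintro H ⟨hHtop, hHP⟩
    obtain ⟨L, hLc, hHL⟩ := flv_exists_coatom hHtop
    by_cases hLM : L = Ms
    · exact hLM ▸ hHL
    · obtain ⟨h3, h4⟩ := hprop L (hHP.1.trans hHL) hLM
      have h5 : SNChain D L := hD.sn L hLc ((le_sup_left.trans hHP.1).trans hHL) h3
      have h6 : SNChain E L := hE.sn L hLc ((le_sup_right.trans hHP.1).trans hHL) h4
      have h7 : SNChain (D ⊔ E) L := h5.sup h6
      have h8 : H ≤ D ⊔ E := flvPerf_le_of_snChain le_rfl h7 hHP hHL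
      exact h8.trans hTMs
  rw [htop] at hle
  exact hMs.1 (top_le_iff.mp hle)

/-- existence of a home for a counterexample. -/
theorem flv_exists_home [Finite G] {A : Subgroup G} (hIH : FlvIH G (Nat.card A))
    (hAtop : A ≠ ⊤) (hnc : FlvNC A) (hY : sSup (flvSet A) ≠ ⊤) :
    ∃ M : Subgroup G, FlvHome (Nat.card A) A M := by
  have hAmem : A ∈ flvSet A := ⟨hAtop, flvPerf_self A⟩
  have hAY : A ≤ sSup (flvSet A) := le_sSup hAmem
  have hYP : FlvPerf A (sSup (flvSet A)) := flvPerf_sSup ⟨A, hAmem⟩ (fun H hH => hH.2)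
  have hYsn : ∀ L : Subgroup G, sSup (flvSet A) ≤ L → L < ⊤ → SNChain (sSup (flvSet A)) L := by
    intro L hYL hL
    obtain ⟨S, hS1, hS2⟩ := flv_exists_perf A _ L rfl (hAY.trans hYL)
    have hStop : S ≠ ⊤ := fun h => hL.ne (top_le_iff.mp (h ▸ hS2.le))
    have h1 : S ≤ sSup (flvSet A) := le_sSup ⟨hStop, hS1⟩
    have h2 : sSup (flvSet A) ≤ S := flvPerf_le_of_snChain hS1.1 hS2 hYP hYL
    rw [← le_antisymm h1 h2]
    exact hS2
  have hYnot : ¬ SNChain (sSup (flvSet A)) ⊤ := by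
    intro h
    obtain ⟨N, h1, _, h3, h4⟩ := flv_snChain_exists_normal h hY
    exact h3 (hnc N (hAY.trans h1) h4)
  obtain ⟨M, hMtop, hYM, hM⟩ := zipper (⊤ : Subgroup G) _ (sSup (flvSet A)) rfl le_top
    (fun L hYL hL => hYsn L hYL hL) hYnot
  have hMco : IsCoatom M := by
    refine ⟨hMtop.ne, ?_⟩
    intro K hK
    by_contra hKtop
    have := hM K (lt_top_iff_ne_top.mpr hKtop) (hYM.trans hK.le)
    exact (lt_irrefl _ (lt_of_lt_of_le hK this))
  have hMnn : ¬ (⊤ : Subgroup G) ≤ Subgroup.normalizer (M : Set G) :=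
    fun h => hMtop.ne (hnc M (hAY.trans hYM) h)
  have hMN : Subgroup.normalizer (M : Set G) = M := by
    rcases (hMco.le_iff.mp (Subgroup.le_normalizer (H := M))) with h | h
    · exact absurd (h ▸ le_rfl) hMnn
    · exact h
  have hconjY : ∀ g ∈ Subgroup.normalizer (A : Set G),
      MulAut.conj g • sSup (flvSet A) ≤ sSup (flvSet A) := by
    intro g hg
    apply le_sSup
    refine ⟨?_, ?_⟩
    · intro h
      exact hY (flv_conj_eq_top h)
    · have := flvPerf_conj hYP g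
      rwa [mem_normalizer_iff_conj_smul_eq.mp hg] at this
  refine ⟨M, rfl, hnc, hAY.trans hYM, hMco, ?_, ?_⟩
  · intro L hL hAL hLM
    obtain ⟨B, hB1, hB2⟩ := flv_exists_perf A _ L rfl hAL
    have hBtop : B ≠ ⊤ := fun h => hL.1 (top_le_iff.mp (h ▸ hB2.le))
    have hBY : B ≤ sSup (flvSet A) := le_sSup ⟨hBtop, hB1⟩
    by_cases hBA : B = A
    · rw [← hBA]; exact hB2
    · exfalso
      have hlt : A < B := lt_of_le_of_ne hB1.1 (Ne.symm hBA)
      have hBnc : FlvNC B := fun N hN hn => hnc N (hB1.1.trans hN) hn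
      have htop := hIH B (card_lt_card_of_lt hlt) hBtop hBnc
        ⟨L, M, hL, hMco, hLM, hB2.le, hBY.trans hYM⟩
      apply hY
      rw [eq_top_iff, ← htop]
      apply sSup_le
      rintro H ⟨hH1, hH2⟩
      exact le_sSup ⟨hH1, flvPerf_trans hB1 hH2⟩
  · intro g hg
    rw [← hMN]
    apply mem_normalizer_of_conj_smul_le
    have hg' : g⁻¹ ∈ Subgroup.normalizer (A : Set G) := inv_mem hg
    have h1 : sSup (flvSet A) ≤ MulAut.conj g • sSup (flvSet A) := by
      have := conj_smul_mono g (hconjY g⁻¹ hg')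
      rwa [conj_smul_conj_inv_smul] at this
    have h2 : sSup (flvSet A) ≤ MulAut.conj g • M := h1.trans (conj_smul_mono g hYM)
    have h3 : MulAut.conj g • M < ⊤ := lt_top_iff_ne_top.mpr (flv_isCoatom_conj hMco g).1
    exact hM _ h3 h2

theorem flv_sn_aux {L K : Subgroup G} (h : SNChain L K) :
    ∀ S : Subgroup G, S ≤ L →
      (∀ l ∈ L, MulAut.conj l • S ≤ Subgroup.normalizer (S : Set G)) →
      (∀ k ∈ K, MulAut.conj k • S ≤ Subgroup.normalizer (S : Set G)) ∨
      ∃ a ∈ K, ¬ MulAut.conj a • S ≤ Subgroup.normalizer (S : Set G) ∧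
        ∀ e ∈ MulAut.conj a • S, MulAut.conj e • S ≤ Subgroup.normalizer (S : Set G) := by
  induction h with
  | refl H =>
    intro S _ h1
    exact Or.inl h1
  | step L K' K hLK hKL hK ih =>
    intro S hSL hL
    by_cases hcase : ∀ k ∈ K', MulAut.conj k • S ≤ Subgroup.normalizer (S : Set G)
    · exact ih S (hSL.trans hLK) hcase
    · push Not at hcase
      obtain ⟨a, haK', ha⟩ := hcase
      refine Or.inr ⟨a, hK.le haK', ha, ?_⟩
      intro e he
      have h1 : MulAut.conj a • L = L := mem_normalizer_iff_conj_smul_eq.mp (hKL haK')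
      have h2 : e ∈ L := by
        rw [← h1]
        exact conj_smul_mono a hSL he
      exact hL e h2

theorem flv_sn {A K : Subgroup G} (h : SNChain A K) :
    (∀ k ∈ K, MulAut.conj k • A ≤ Subgroup.normalizer (A : Set G)) ∨
      ∃ a ∈ K, ¬ MulAut.conj a • A ≤ Subgroup.normalizer (A : Set G) ∧
        ∀ e ∈ MulAut.conj a • A, MulAut.conj e • A ≤ Subgroup.normalizer (A : Set G) := by
  refine flv_sn_aux h A le_rfl ?_
  intro l hl
  rw [Subgroup.conj_smul_eq_self_of_mem hl]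
  exact Subgroup.le_normalizer

/-- the endgame: the normaliser of the join of the conjugates in `M_A ⊓ M_B` lies in no
maximal subgroup other than `M_B`. -/
theorem flv_endgame [Finite G] {n : ℕ} (hIH : FlvIH G n) {A M_A M_B : Subgroup G}
    (hA : FlvHome n A M_A) (hMB : IsCoatom M_B) (hAB : A ≤ M_B) (hM : M_A ≠ M_B)
    (𝒟 : Set (Subgroup G))
    (h𝒟 : ∀ D : Subgroup G, D ∈ 𝒟 ↔ (∃ N : Subgroup G, FlvHome n D N) ∧ D ≤ M_A ∧ D ≤ M_B)
    (L : Subgroup G) (hL : IsCoatom L)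
    (hUL : Subgroup.normalizer ((sSup 𝒟 : Subgroup G) : Set G) ≤ L) : L = M_B := by
  have hconjA : ∀ m ∈ M_A, MulAut.conj m • A ≤ M_A := by
    intro m hm
    have := conj_smul_mono m hA.le
    rwa [Subgroup.conj_smul_eq_self_of_mem hm] at this
  have hconjB : ∀ m ∈ M_B, ∀ X : Subgroup G, X ≤ M_B → MulAut.conj m • X ≤ M_B := by
    intro m hm X hX
    have := conj_smul_mono m hX
    rwa [Subgroup.conj_smul_eq_self_of_mem hm] at this
  -- (E0)
  have hE0 : M_A ⊓ M_B ≤ Subgroup.normalizer (A : Set G) := by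
    intro m hm
    rw [mem_normalizer_iff_conj_smul_eq]
    by_contra hne
    have hE := hA.conj m
    rw [Subgroup.conj_smul_eq_self_of_mem hm.1] at hE
    have := flv_pair hIH hA hE (Ne.symm hne) hA.coatom hMB hM
      (sup_le hA.le (hconjA m hm.1)) (sup_le hAB (hconjB m hm.2 A hAB))
    exact this.2.2 rfl
  -- (E1)
  have hRinv : ∀ k ∈ M_B, MulAut.conj k • A ≤ M_A → MulAut.conj k⁻¹ • A ≤ M_A := by
    intro k hk hkA
    by_cases heq : MulAut.conj k • A = A
    · have h1 : k ∈ Subgroup.normalizer (A : Set G) := mem_normalizer_iff_conj_smul_eq.mpr heq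
      have h2 : k⁻¹ ∈ Subgroup.normalizer (A : Set G) := inv_mem h1
      rw [mem_normalizer_iff_conj_smul_eq.mp h2]
      exact hA.le
    · have := flv_pair hIH hA (hA.conj k) (Ne.symm heq) hA.coatom hMB hM
        (sup_le hA.le hkA) (sup_le hAB (hconjB k hk A hAB))
      have h3 : A ≤ MulAut.conj k • M_A := le_sup_left.trans this.2.1
      have := conj_smul_mono k⁻¹ h3
      rwa [conj_inv_smul_conj_smul] at this
  -- (E2)
  have hRD : ∀ k ∈ M_B, MulAut.conj k • A ≤ M_A → ∀ D ∈ 𝒟, MulAut.conj k • D ∈ 𝒟 := by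
    intro k hk hkA D hD
    rw [h𝒟] at hD ⊢
    obtain ⟨⟨N, hDN⟩, hDA, hDB⟩ := hD
    refine ⟨⟨_, hDN.conj k⟩, ?_, hconjB k hk D hDB⟩
    rw [flv_conj_le_iff]
    have hA'' := hA.conj k⁻¹
    have hA''A : MulAut.conj k⁻¹ • A ≤ M_A := hRinv k hk hkA
    have hA''B : MulAut.conj k⁻¹ • A ≤ M_B := hconjB k⁻¹ (inv_mem hk) A hAB
    by_cases hDe : D = MulAut.conj k⁻¹ • A
    · rw [hDe]; exact hA''.le
    · have := flv_pair hIH hDN hA'' hDe hA.coatom hMB hM (sup_le hDA hA''A) (sup_le hDB hA''B)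
      exact le_sup_left.trans this.2.1
  -- (E3)
  have hR : ∀ k ∈ M_B, MulAut.conj k • A ≤ M_A →
      k ∈ Subgroup.normalizer ((sSup 𝒟 : Subgroup G) : Set G) := by
    intro k hk hkA
    apply mem_normalizer_of_conj_smul_le
    rw [flv_conj_le_iff]
    apply sSup_le
    intro D hD
    rw [← flv_conj_le_iff]
    exact le_sSup (hRD k hk hkA D hD)
  have hAL : A ≤ L := by
    intro e he
    apply hUL
    apply hR e (hAB he)
    rw [Subgroup.conj_smul_eq_self_of_mem he]
    exact hA.le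
  by_contra hLne
  have hsn : SNChain A M_B := hA.sn M_B hMB hAB (Ne.symm hM)
  rcases flv_sn hsn with hα | ⟨a, haM, ha, hβ⟩
  · have hle : M_B ≤ L := fun k hk => hUL (hR k hk ((hα k hk).trans hA.nz))
    rcases hMB.le_iff.mp hle with h | h
    · exact hL.1 h
    · exact hLne h
  · have hE := hA.conj a
    have hEB : MulAut.conj a • A ≤ M_B := hconjB a haM A hAB
    have hEL : MulAut.conj a • A ≤ L :=
      fun e he => hUL (hR e (hEB he) ((hβ e he).trans hA.nz))
    have hAE : A ≠ MulAut.conj a • A := by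
      intro h
      apply ha
      rw [← h]
      exact Subgroup.le_normalizer
    have := flv_pair hIH hA hE hAE hL hMB hLne (sup_le hAL hEL) (sup_le hAB hEB)
    have hEA : MulAut.conj a • A ≤ M_A := le_sup_right.trans this.1
    exact ha ((le_inf hEA hEB).trans hE0)

/-- **Flavell's theorem**, contrapositive form. -/
theorem flv_main [Finite G] : ∀ (n : ℕ) (A : Subgroup G), Nat.card G - Nat.card A = n →
    A ≠ ⊤ → FlvNC A → FlvTwo A → sSup (flvSet A) = ⊤ := by
  intro n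
  induction n using Nat.strong_induction_on with
  | _ n ih =>
  intro A hn hAtop hnc hTwo
  by_contra hY
  have hIH : FlvIH G (Nat.card A) := by
    intro T hT hTtop hTnc hTtwo
    have h1 : Nat.card T ≤ Nat.card G := Subgroup.card_le_card_group T
    exact ih (Nat.card G - Nat.card T) (by omega) T rfl hTtop hTnc hTtwo
  obtain ⟨M, hA⟩ := flv_exists_home hIH hAtop hnc hY
  obtain ⟨L₁, L₂, hL₁, hL₂, hL, hAL₁, hAL₂⟩ := hTwo
  obtain ⟨K, hK, hAK, hKM⟩ : ∃ K : Subgroup G, IsCoatom K ∧ A ≤ K ∧ K ≠ M := by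
    by_cases h : L₁ = M
    · exact ⟨L₂, hL₂, hAL₂, fun h' => hL (h.trans h'.symm)⟩
    · exact ⟨L₁, hL₁, hAL₁, h⟩
  have hsnK : SNChain A K := hA.sn K hK hAK hKM
  have hKN : ¬ K ≤ Subgroup.normalizer (A : Set G) := by
    intro h
    rcases hK.le_iff.mp (h.trans hA.nz) with h' | h'
    · exact hA.coatom.1 h'
    · exact hKM h'.symm
  obtain ⟨x, hxK, hxN, hxA⟩ := hsnK.exists_conj hKN
  have hB := hA.conj x
  have hAB' : A ≠ MulAut.conj x • A := by
    intro h
    apply hxN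
    rw [mem_normalizer_iff_conj_smul_eq]
    exact h.symm
  have hBM : MulAut.conj x • A ≤ M := hxA.trans hA.nz
  have hBK : MulAut.conj x • A ≤ K := by
    have := conj_smul_mono x hAK
    rwa [Subgroup.conj_smul_eq_self_of_mem hxK] at this
  obtain ⟨_, h2, h3⟩ := flv_pair hIH hA hB hAB' hA.coatom hK (Ne.symm hKM)
    (sup_le hA.le hBM) (sup_le hAK hBK)
  set 𝒟 : Set (Subgroup G) :=
    {D | (∃ N : Subgroup G, FlvHome (Nat.card A) D N) ∧ D ≤ M ∧ D ≤ MulAut.conj x • M} with h𝒟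
  have hT_le : sSup 𝒟 ≤ M := sSup_le (fun D hD => hD.2.1)
  by_cases hU : Subgroup.normalizer ((sSup 𝒟 : Subgroup G) : Set G) = ⊤
  · have hAT : A ≤ sSup 𝒟 := le_sSup ⟨⟨M, hA⟩, hA.le, le_sup_left.trans h2⟩
    have := hA.nc (sSup 𝒟) hAT (hU ▸ le_rfl)
    exact hA.coatom.1 (top_le_iff.mp (this ▸ hT_le))
  · obtain ⟨L, hLc, hUL⟩ := flv_exists_coatom hU
    have e1 : L = MulAut.conj x • M :=
      flv_endgame hIH hA hB.coatom (le_sup_left.trans h2) h3 𝒟 (fun D => Iff.rfl) L hLc hUL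
    have e2 : L = M :=
      flv_endgame hIH hB hA.coatom hBM (Ne.symm h3) 𝒟
        (fun D => by simp only [h𝒟, Set.mem_ofPred_eq]; tauto) L hLc hUL
    exact h3 (e2.symm.trans e1)

theorem flvPerf_iff_normalClosure {A H : Subgroup G} (hAH : A ≤ H) :
    Subgroup.normalClosure ((A.subgroupOf H : Subgroup ↥H) : Set ↥H) = ⊤ ↔ FlvPerf A H := by
  constructor
  · intro h
    refine ⟨hAH, fun N h1 h2 h3 => ?_⟩
    have hn : (N.subgroupOf H).Normal := (Subgroup.normal_subgroupOf_iff_le_normalizer h2).mpr h3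
    have hle : Subgroup.normalClosure ((A.subgroupOf H : Subgroup ↥H) : Set ↥H) ≤
        N.subgroupOf H := Subgroup.normalClosure_le_normal (fun x hx => h1 hx)
    rw [h] at hle
    exact le_antisymm h2 (Subgroup.subgroupOf_eq_top.mp (top_le_iff.mp hle))
  · intro h
    have hN : (Subgroup.normalClosure ((A.subgroupOf H : Subgroup ↥H) : Set ↥H)).map H.subtype
        = H := by
      apply h.2
      · intro a ha
        exact ⟨⟨a, hAH ha⟩, Subgroup.subset_normalClosure ha, rfl⟩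
      · exact Subgroup.map_subtype_le _
      · have h1 : (⊤ : Subgroup ↥H) ≤ Subgroup.normalizer
            ((Subgroup.normalClosure ((A.subgroupOf H : Subgroup ↥H) : Set ↥H) : Subgroup ↥H) :
              Set ↥H) := by
          rw [Subgroup.normalizer_eq_top]
        have h2 := (Subgroup.map_mono h1).trans (Subgroup.le_normalizer_map H.subtype)
        rwa [← MonoidHom.range_eq_map, Subgroup.range_subtype] at h2
    rw [eq_top_iff]
    intro x _
    have hx : (x : G) ∈ (Subgroup.normalClosure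
        ((A.subgroupOf H : Subgroup ↥H) : Set ↥H)).map H.subtype := by
      rw [hN]; exact x.2
    obtain ⟨y, hy, hyx⟩ := hx
    have : y = x := Subtype.ext hyx
    exact this ▸ hy

theorem flvSet_eq (A : Subgroup G) :
    {H : Subgroup G | A ≤ H ∧ H ≠ ⊤ ∧
      Subgroup.normalClosure ((A.subgroupOf H : Subgroup ↥H) : Set ↥H) = ⊤} = flvSet A := by
  ext H
  constructor
  · rintro ⟨h1, h2, h3⟩
    exact ⟨h2, (flvPerf_iff_normalClosure h1).mp h3⟩
  · rintro ⟨h2, hP⟩
    exact ⟨hP.1, h2, (flvPerf_iff_normalClosure hP.1).mpr hP⟩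

theorem flvNC_of_normalClosure {A : Subgroup G}
    (hA : Subgroup.normalClosure (A : Set G) = ⊤) : FlvNC A := by
  intro N hAN hN
  have hn : N.Normal := Subgroup.normalizer_eq_top_iff.mp (top_le_iff.mp hN)
  have hle : Subgroup.normalClosure (A : Set G) ≤ N := Subgroup.normalClosure_le_normal hAN
  rw [hA] at hle
  exact top_le_iff.mp hle

/-- **Flavell's theorem**: either the proper `A`-perfect subgroups generate `G`, or `A` lies
in exactly one maximal subgroup. -/
theorem flv_theorem [Finite G] (A : Subgroup G) (hnc : FlvNC A) (hAG : A ≠ ⊤) :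
    sSup (flvSet A) = ⊤ ∨ ∃! M : Subgroup G, IsCoatom M ∧ A ≤ M := by
  by_cases hTwo : FlvTwo A
  · exact Or.inl (flv_main _ A rfl hAG hnc hTwo)
  · right
    obtain ⟨M, hM, hAM⟩ := flv_exists_coatom hAG
    refine ⟨M, ⟨hM, hAM⟩, ?_⟩
    rintro M' ⟨hM', hAM'⟩
    by_contra hne
    exact hTwo ⟨M', M, hM', hM, hne, hAM', hAM⟩

end Cfsg.Agent.Lib.helper70
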