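import Mathlib
import Cfsg.Agent.Lib.helper70.FlavellA

/-!
Consequence of Flavell's theorem: if a finite group is generated by the conjugates of an
element `a`, it is generated by the values of any iterate of `β ↦ β a β⁻¹`; and the
automorphism version: `[G, α] = G` implies `[G, α, …, α] = G`.
-/

set_option autoImplicit false

namespace Cfsg.Agent.Lib.helper70

open Pointwise
open Cfsg.Agent.Lib.helper12 Cfsg.Agent.Lib.helper29

theorem flvNC_subtype {G : Type*} [Group G] {A L : Subgroup G} (h : FlvPerf A L)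
    (N' : Subgroup ↥L) (hA : ∀ x : ↥L, (x : G) ∈ A → x ∈ N')
    (hn : (⊤ : Subgroup ↥L) ≤ Subgroup.normalizer (N' : Set ↥L)) : N' = ⊤ := by
  have hN : N'.map L.subtype = L := by
    apply h.2
    · intro a ha
      exact ⟨⟨a, h.1 ha⟩, hA _ ha, rfl⟩
    · exact Subgroup.map_subtype_le _
    · have h2 := (Subgroup.map_mono hn).trans (Subgroup.le_normalizer_map L.subtype)
      rwa [← MonoidHom.range_eq_map, Subgroup.range_subtype] at h2
  rw [eq_top_iff]
  intro x _
  have hx : (x : G) ∈ N'.map L.subtype := by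
    rw [hN]; exact x.2
  obtain ⟨y, hy, hyx⟩ := hx
  have : y = x := Subtype.ext hyx
  exact this ▸ hy

/-- a finite group generated by the conjugates of `a` is generated by the values of every
iterate of `β ↦ β a β⁻¹`. -/
theorem flv_engel_aux.{u} : ∀ (n : ℕ) (Γ : Type u) [Group Γ] [Finite Γ], Nat.card Γ = n →
    ∀ a : Γ, FlvNC (Subgroup.zpowers a) → ∀ k : ℕ,
      Subgroup.closure (Set.range ((fun β : Γ => β * a * β⁻¹)^[k])) = ⊤ := by
  intro n
  induction n using Nat.strong_induction_on with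
  | _ n ih =>
  intro Γ _ _ hn a hnc k
  have hRa : (fun β : Γ => β * a * β⁻¹) a = a := by simp
  have hRka : ∀ j : ℕ, (fun β : Γ => β * a * β⁻¹)^[j] a = a :=
    fun j => Function.iterate_fixed hRa j
  by_cases hA : Subgroup.zpowers a = ⊤
  · rcases k with _ | k
    · simp
    · have hcomm : ∀ β : Γ, β * a * β⁻¹ = a := by
        intro β
        have hβ : β ∈ Subgroup.zpowers a := hA ▸ Subgroup.mem_top β
        obtain ⟨i, rfl⟩ := Subgroup.mem_zpowers_iff.mp hβ
        have hc : Commute (a ^ i) a := (Commute.refl a).zpow_left i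
        rw [hc.eq, mul_assoc, mul_inv_cancel, mul_one]
      have hrange : Set.range ((fun β : Γ => β * a * β⁻¹)^[k + 1]) = {a} := by
        ext x
        constructor
        · rintro ⟨β, rfl⟩
          rw [Function.iterate_succ_apply]
          show (fun β : Γ => β * a * β⁻¹)^[k] (β * a * β⁻¹) ∈ ({a} : Set Γ)
          rw [hcomm, hRka]
          rfl
        · rintro rfl
          exact ⟨x, hRka _⟩
      rw [hrange, ← Subgroup.zpowers_eq_closure, hA]
  · by_contra hΔ
    rcases flv_theorem (Subgroup.zpowers a) hnc hA with hsup | ⟨M, ⟨hM, hAM⟩, hMuniq⟩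
    · apply hΔ
      rw [eq_top_iff, ← hsup]
      apply sSup_le
      rintro L ⟨hLtop, hLP⟩
      have haL : a ∈ L := hLP.1 (Subgroup.mem_zpowers a)
      have hcard : Nat.card L < n := by
        have h1 := card_lt_card_of_lt (lt_top_iff_ne_top.mpr hLtop)
        rw [Subgroup.card_top] at h1
        omega
      have hNC' : FlvNC (Subgroup.zpowers (⟨a, haL⟩ : ↥L)) := by
        intro N' h1 h2
        apply flvNC_subtype hLP N' ?_ h2
        intro x hx
        obtain ⟨i, hi⟩ := Subgroup.mem_zpowers_iff.mp hx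
        have hx' : x = (⟨a, haL⟩ : ↥L) ^ i := by
          apply Subtype.ext
          rw [Subgroup.coe_zpow]
          exact hi.symm
        rw [hx']
        exact N'.zpow_mem (h1 (Subgroup.mem_zpowers _)) i
      have hres := ih _ hcard ↥L rfl ⟨a, haL⟩ hNC' k
      intro x hx
      have h1 : (⟨x, hx⟩ : ↥L) ∈ Subgroup.closure
          (Set.range ((fun β : ↥L => β * ⟨a, haL⟩ * β⁻¹)^[k])) := by
        rw [hres]; exact Subgroup.mem_top _
      have h2 : x ∈ (Subgroup.closure
          (Set.range ((fun β : ↥L => β * ⟨a, haL⟩ * β⁻¹)^[k]))).map L.subtype :=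
        ⟨⟨x, hx⟩, h1, rfl⟩
      rw [MonoidHom.map_closure] at h2
      refine Subgroup.closure_mono ?_ h2
      rintro _ ⟨_, ⟨y, rfl⟩, rfl⟩
      refine ⟨(y : Γ), ?_⟩
      have hsemi : Function.Semiconj (L.subtype : ↥L → Γ)
          (fun β : ↥L => β * ⟨a, haL⟩ * β⁻¹) (fun β : Γ => β * a * β⁻¹) := by
        intro z
        simp
      exact ((hsemi.iterate_right k) y).symm
    · have hMnn : ¬ (⊤ : Subgroup Γ) ≤ Subgroup.normalizer (M : Set Γ) :=
        fun h => hM.1 (hnc M hAM h)
      have hMN : Subgroup.normalizer (M : Set Γ) = M := by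
        rcases (hM.le_iff.mp (Subgroup.le_normalizer (H := M))) with h | h
        · exact absurd (h ▸ le_rfl) hMnn
        · exact h
      have hdesc : ∀ β : Γ, β * a * β⁻¹ ∈ M → β ∈ M := by
        intro β hβ
        have h1 : a ∈ MulAut.conj β⁻¹ • M := by
          rw [mem_conj_smul_iff]
          simpa using hβ
        have h2 : Subgroup.zpowers a ≤ MulAut.conj β⁻¹ • M := (Subgroup.zpowers_le).mpr h1
        have h3 := hMuniq _ ⟨flv_isCoatom_conj hM β⁻¹, h2⟩
        have h4 : β⁻¹ ∈ Subgroup.normalizer (M : Set Γ) := mem_normalizer_iff_conj_smul_eq.mpr h3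
        rw [hMN] at h4
        exact inv_mem_iff.mp h4
      have hdesc' : ∀ (j : ℕ) (β : Γ), (fun β : Γ => β * a * β⁻¹)^[j] β ∈ M → β ∈ M := by
        intro j
        induction j with
        | zero => intro β h; exact h
        | succ j ihj =>
          intro β h
          rw [Function.iterate_succ_apply] at h
          exact hdesc β (ihj _ h)
      obtain ⟨M', hM', hΔM'⟩ := flv_exists_coatom hΔ
      have haΔ : a ∈ Subgroup.closure (Set.range ((fun β : Γ => β * a * β⁻¹)^[k])) :=
        Subgroup.subset_closure ⟨a, hRka k⟩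
      have hM'M : M' = M := hMuniq M' ⟨hM', ((Subgroup.zpowers_le).mpr haΔ).trans hΔM'⟩
      apply hM.1
      rw [eq_top_iff]
      intro β _
      apply hdesc' k β
      rw [← hM'M]
      exact hΔM' (Subgroup.subset_closure ⟨β, rfl⟩)

/-- semidirect product form: an automorphism `φ t₀` with `[N, φ t₀] = N`. -/
theorem flv_sdp.{u} {N T : Type u} [Group N] [Group T] [Finite N] [Finite T]
    (φ : T →* MulAut N) (t₀ : T) (hcen : ∀ t : T, t * t₀ = t₀ * t)
    (hgen : ∀ t : T, t ∈ Subgroup.zpowers t₀)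
    (hG : Subgroup.closure (Set.range (fun c : N => c * (φ t₀ c)⁻¹)) = ⊤) (k : ℕ) :
    Subgroup.closure (Set.range ((fun c : N => c * (φ t₀ c)⁻¹)^[k + 1])) = ⊤ := by
  have : Finite (N ⋊[φ] T) := Finite.of_equiv _ SemidirectProduct.equivProd.symm
  -- the basic identity
  have hS1 : ∀ γ : N ⋊[φ] T, γ * SemidirectProduct.inr t₀ * γ⁻¹ =
      SemidirectProduct.inl (γ.left * (φ t₀ γ.left)⁻¹) * SemidirectProduct.inr t₀ := by
    intro γ
    have hr : γ.right * t₀ * γ.right⁻¹ = t₀ := by
      rw [hcen, mul_assoc, mul_inv_cancel, mul_one]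
    apply SemidirectProduct.ext
    · simp only [SemidirectProduct.mul_left, SemidirectProduct.mul_right,
        SemidirectProduct.inv_left, SemidirectProduct.left_inr, SemidirectProduct.right_inr,
        SemidirectProduct.left_inl, SemidirectProduct.right_inl, map_one, mul_one, map_inv]
      have e : (φ (γ.right * t₀)) ((φ γ.right)⁻¹ γ.left) = φ t₀ γ.left := by
        rw [hcen, map_mul]
        show φ t₀ (φ γ.right ((φ γ.right)⁻¹ γ.left)) = _
        rw [MulAut.apply_inv_self]
      rw [e]
    · simp only [SemidirectProduct.mul_right, SemidirectProduct.inv_right,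
        SemidirectProduct.right_inr, SemidirectProduct.right_inl, one_mul]
      exact hr
  have hS2 : ∀ (j : ℕ) (γ : N ⋊[φ] T),
      (fun β : N ⋊[φ] T => β * SemidirectProduct.inr t₀ * β⁻¹)^[j + 1] γ =
        SemidirectProduct.inl ((fun c : N => c * (φ t₀ c)⁻¹)^[j + 1] γ.left) *
          SemidirectProduct.inr t₀ := by
    intro j
    induction j with
    | zero =>
      intro γ
      simp only [zero_add, Function.iterate_one]
      exact hS1 γ
    | succ j ihj =>
      intro γ
      rw [Function.iterate_succ_apply', ihj γ, hS1]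
      congr 2
      rw [Function.iterate_succ_apply' (n := j + 1)]
      simp [SemidirectProduct.mul_left]
  -- normal closure
  have hnc : FlvNC (Subgroup.zpowers (SemidirectProduct.inr t₀ : N ⋊[φ] T)) := by
    intro N' h1 h2
    have ha : (SemidirectProduct.inr t₀ : N ⋊[φ] T) ∈ N' := h1 (Subgroup.mem_zpowers _)
    have hinl : ∀ g : N, (SemidirectProduct.inl g : N ⋊[φ] T) ∈ N' := by
      have hle : Subgroup.closure (Set.range (fun c : N => c * (φ t₀ c)⁻¹)) ≤
          N'.comap (SemidirectProduct.inl : N →* N ⋊[φ] T) := by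
        rw [Subgroup.closure_le]
        rintro _ ⟨c, rfl⟩
        show SemidirectProduct.inl (c * (φ t₀ c)⁻¹) ∈ N'
        have h3 := hS1 (SemidirectProduct.inl c : N ⋊[φ] T)
        rw [SemidirectProduct.left_inl] at h3
        have h4 : (SemidirectProduct.inl c : N ⋊[φ] T) * SemidirectProduct.inr t₀ *
            (SemidirectProduct.inl c)⁻¹ ∈ N' :=
          (Subgroup.mem_normalizer_iff.mp (h2 (Subgroup.mem_top _)) _).mp ha
        rw [h3] at h4
        have h5 := N'.mul_mem h4 (N'.inv_mem ha)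
        simpa [mul_assoc] using h5
      intro g
      have : g ∈ Subgroup.closure (Set.range (fun c : N => c * (φ t₀ c)⁻¹)) := by
        rw [hG]; exact Subgroup.mem_top g
      exact hle this
    have hinr : ∀ t : T, (SemidirectProduct.inr t : N ⋊[φ] T) ∈ N' := by
      intro t
      obtain ⟨i, rfl⟩ := Subgroup.mem_zpowers_iff.mp (hgen t)
      rw [map_zpow]
      exact N'.zpow_mem ha i
    rw [eq_top_iff]
    intro γ _
    rw [← SemidirectProduct.inl_left_mul_inr_right γ]
    exact N'.mul_mem (hinl _) (hinr _)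
  have hmain := flv_engel_aux _ (N ⋊[φ] T) rfl (SemidirectProduct.inr t₀) hnc (k + 1)
  -- invariance of the target subgroup
  have hcommf : ∀ (t : T) (c : N), φ t (c * (φ t₀ c)⁻¹) = φ t c * (φ t₀ (φ t c))⁻¹ := by
    intro t c
    rw [map_mul, map_inv]
    congr 2
    have e1 : φ t (φ t₀ c) = φ (t * t₀) c := by rw [map_mul]; rfl
    have e2 : φ t₀ (φ t c) = φ (t₀ * t) c := by rw [map_mul]; rfl
    rw [e1, e2, hcen]
  have hsemi : ∀ t : T, Function.Semiconj (φ t) (fun c : N => c * (φ t₀ c)⁻¹)
      (fun c : N => c * (φ t₀ c)⁻¹) := fun t c => hcommf t c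
  have hinv : ∀ t : T, ∀ h ∈ Subgroup.closure
      (Set.range ((fun c : N => c * (φ t₀ c)⁻¹)^[k + 1])),
      φ t h ∈ Subgroup.closure (Set.range ((fun c : N => c * (φ t₀ c)⁻¹)^[k + 1])) := by
    intro t h hh
    have hle : (Subgroup.closure (Set.range ((fun c : N => c * (φ t₀ c)⁻¹)^[k + 1]))).map
        (φ t).toMonoidHom ≤
        Subgroup.closure (Set.range ((fun c : N => c * (φ t₀ c)⁻¹)^[k + 1])) := by
      rw [MonoidHom.map_closure, Subgroup.closure_le]
      rintro _ ⟨_, ⟨c, rfl⟩, rfl⟩
      apply Subgroup.subset_closure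
      exact ⟨φ t c, (((hsemi t).iterate_right (k + 1)) c).symm⟩
    exact hle ⟨h, hh, rfl⟩
  let S : Subgroup (N ⋊[φ] T) :=
    { carrier := {γ | γ.left ∈ Subgroup.closure
        (Set.range ((fun c : N => c * (φ t₀ c)⁻¹)^[k + 1]))}
      mul_mem' := by
        intro x y hx hy
        rw [Set.mem_ofPred_eq] at hx hy ⊢
        rw [SemidirectProduct.mul_left]
        exact Subgroup.mul_mem _ hx (hinv _ _ hy)
      one_mem' := by
        rw [Set.mem_ofPred_eq, SemidirectProduct.one_left]
        exact Subgroup.one_mem _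
      inv_mem' := by
        intro x hx
        rw [Set.mem_ofPred_eq] at hx ⊢
        rw [SemidirectProduct.inv_left]
        exact hinv _ _ (Subgroup.inv_mem _ hx) }
  have hSmem : ∀ γ : N ⋊[φ] T, γ ∈ S ↔ γ.left ∈ Subgroup.closure
      (Set.range ((fun c : N => c * (φ t₀ c)⁻¹)^[k + 1])) := fun γ => Iff.rfl
  have hS : Subgroup.closure (Set.range
      ((fun β : N ⋊[φ] T => β * SemidirectProduct.inr t₀ * β⁻¹)^[k + 1])) ≤ S := by
    rw [Subgroup.closure_le]
    rintro _ ⟨γ, rfl⟩
    rw [SetLike.mem_coe, hSmem, hS2 k γ]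
    simp only [SemidirectProduct.mul_left, SemidirectProduct.left_inl,
      SemidirectProduct.right_inl, SemidirectProduct.left_inr, map_one, mul_one]
    exact Subgroup.subset_closure ⟨γ.left, rfl⟩
  rw [hmain] at hS
  rw [eq_top_iff]
  intro g _
  have : (SemidirectProduct.inl g : N ⋊[φ] T) ∈ S := hS (Subgroup.mem_top _)
  rw [hSmem] at this
  exact this

/-- **`[G, α] = G` implies `[G, α, …, α] = G`.** -/
theorem flv_aut_iter {G : Type*} [Group G] [Finite G] (α : MulAut G)
    (hG : Subgroup.closure (Set.range (fun c : G => c * (α c)⁻¹)) = ⊤) (k : ℕ) (hk : 1 ≤ k) :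
    Subgroup.closure (Set.range ((fun c : G => c * (α c)⁻¹)^[k])) = ⊤ := by
  obtain ⟨j, rfl⟩ : ∃ j, k = j + 1 := ⟨k - 1, by omega⟩
  have hcen : ∀ t : ↥(Subgroup.zpowers α),
      t * ⟨α, Subgroup.mem_zpowers α⟩ = ⟨α, Subgroup.mem_zpowers α⟩ * t := by
    intro t
    obtain ⟨i, hi⟩ := Subgroup.mem_zpowers_iff.mp t.2
    apply Subtype.ext
    show (t : MulAut G) * α = α * (t : MulAut G)
    rw [← hi]
    exact ((Commute.refl α).zpow_left i).eq
  have hgen : ∀ t : ↥(Subgroup.zpowers α),
      t ∈ Subgroup.zpowers (⟨α, Subgroup.mem_zpowers α⟩ : ↥(Subgroup.zpowers α)) := by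
    intro t
    obtain ⟨i, hi⟩ := Subgroup.mem_zpowers_iff.mp t.2
    rw [Subgroup.mem_zpowers_iff]
    refine ⟨i, ?_⟩
    apply Subtype.ext
    rw [Subgroup.coe_zpow]
    exact hi
  exact flv_sdp (Subgroup.zpowers α).subtype ⟨α, Subgroup.mem_zpowers α⟩ hcen hgen hG j

end Cfsg.Agent.Lib.helper70
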