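import Mathlib
import Cfsg.Agent.Lib.helper70.FlavellB

/-!
Connectedness of the "odd product" graph on a class of involutions `t` with `[G, t] = G`
(in particular in a non-abelian simple group), from `flv_aut_iter`.
-/

set_option autoImplicit false

namespace Cfsg.Agent.Lib.helper70

/-- on an element inverted by `α`, the map `c ↦ c * (α c)⁻¹` is squaring. -/
theorem flv_iter_pow {G : Type*} [Group G] (α : MulAut G) (x : G) (hx : α x = x⁻¹) (j : ℕ) :
    (fun c : G => c * (α c)⁻¹)^[j] x = x ^ (2 ^ j) ∧ α (x ^ (2 ^ j)) = (x ^ (2 ^ j))⁻¹ := by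
  induction j with
  | zero => simpa using hx
  | succ j ih =>
    have h2 : α (x ^ 2 ^ j) = (x ^ 2 ^ j)⁻¹ := ih.2
    constructor
    · rw [Function.iterate_succ_apply', ih.1]
      show x ^ 2 ^ j * (α (x ^ 2 ^ j))⁻¹ = x ^ 2 ^ (j + 1)
      rw [h2, inv_inv, ← pow_add, pow_succ, mul_two]
    · rw [pow_succ, pow_mul, map_pow, h2, inv_pow]

theorem flv_odd_order_pow {G : Type*} [Group G] [Finite G] (x : G) :
    Odd (orderOf (x ^ (2 ^ Nat.card G))) := by
  have hn : orderOf x ≠ 0 := (orderOf_pos x).ne'
  have hb : ¬ 2 ∣ (orderOf x) / 2 ^ (orderOf x).factorization 2 :=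
    Nat.not_dvd_ordCompl Nat.prime_two hn
  have ha : (orderOf x).factorization 2 ≤ Nat.card G :=
    ((Nat.factorization_lt 2 hn).le).trans (orderOf_le_card)
  have hdvd : orderOf x ∣ 2 ^ Nat.card G * ((orderOf x) / 2 ^ (orderOf x).factorization 2) := by
    have h1 := Nat.ordProj_mul_ordCompl_eq_self (orderOf x) 2
    calc orderOf x = 2 ^ (orderOf x).factorization 2 *
          ((orderOf x) / 2 ^ (orderOf x).factorization 2) := h1.symm
      _ ∣ 2 ^ Nat.card G * ((orderOf x) / 2 ^ (orderOf x).factorization 2) :=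
          Nat.mul_dvd_mul (pow_dvd_pow 2 ha) dvd_rfl
  have h1 : (x ^ (2 ^ Nat.card G)) ^ ((orderOf x) / 2 ^ (orderOf x).factorization 2) = 1 := by
    rw [← pow_mul]
    exact orderOf_dvd_iff_pow_eq_one.mp hdvd
  have h2 : orderOf (x ^ (2 ^ Nat.card G)) ∣ (orderOf x) / 2 ^ (orderOf x).factorization 2 :=
    orderOf_dvd_of_pow_eq_one h1
  rw [← Nat.not_even_iff_odd, even_iff_two_dvd]
  intro h
  exact hb (h.trans h2)

/-- if `[G, t] = G` for an involution `t`, the odd-product graph on the class of `t` is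
connected. -/
theorem flv_odd_graph {G : Type*} [Group G] [Finite G] (t : G) (ht : orderOf t = 2)
    (hG : Subgroup.closure (Set.range (fun c : G => c * (MulAut.conj t c)⁻¹)) = ⊤) :
    (SimpleGraph.fromRel fun x y : {x : G // IsConj t x} =>
      Odd (orderOf (x.1 * y.1))).Connected := by
  have ht2 : t * t = 1 := by
    have := pow_orderOf_eq_one t
    rwa [ht, pow_two] at this
  have htinv : t⁻¹ = t := inv_eq_of_mul_eq_one_right ht2
  -- conjugation action on the vertices
  have hconjmem : ∀ (g : G) (v : {x : G // IsConj t x}), IsConj t (g * v.1 * g⁻¹) := by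
    intro g v
    obtain ⟨c, hc⟩ := isConj_iff.mp v.2
    rw [isConj_iff]
    exact ⟨g * c, by rw [← hc]; group⟩
  let act : G → {x : G // IsConj t x} → {x : G // IsConj t x} :=
    fun g v => ⟨g * v.1 * g⁻¹, hconjmem g v⟩
  have hact_val : ∀ g v, (act g v).1 = g * v.1 * g⁻¹ := fun _ _ => rfl
  let t₀ : {x : G // IsConj t x} := ⟨t, IsConj.refl t⟩
  have hadj : ∀ (g : G) (u v : {x : G // IsConj t x}),
      (SimpleGraph.fromRel fun x y : {x : G // IsConj t x} => Odd (orderOf (x.1 * y.1))).Adj u v →
      (SimpleGraph.fromRel fun x y : {x : G // IsConj t x} => Odd (orderOf (x.1 * y.1))).Adj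
        (act g u) (act g v) := by
    intro g u v huv
    rw [SimpleGraph.fromRel_adj] at huv ⊢
    refine ⟨?_, ?_⟩
    · intro h
      apply huv.1
      apply Subtype.ext
      have h1 : g * u.1 * g⁻¹ = g * v.1 * g⁻¹ := congrArg Subtype.val h
      have h2 := congrArg (fun z => g⁻¹ * z * g) h1
      simpa [mul_assoc] using h2
    · have e : ∀ a b : G, orderOf (g * a * g⁻¹ * (g * b * g⁻¹)) = orderOf (a * b) := by
        intro a b
        have : g * a * g⁻¹ * (g * b * g⁻¹) = g * (a * b) * g⁻¹ := by group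
        rw [this]
        have h5 := MulEquiv.orderOf_eq (MulAut.conj g) (a * b)
        rwa [MulAut.conj_apply] at h5
      rcases huv.2 with h | h
      · left; rw [hact_val, hact_val, e]; exact h
      · right; rw [hact_val, hact_val, e]; exact h
  have hreach : ∀ (g : G) (u v : {x : G // IsConj t x}),
      (SimpleGraph.fromRel fun x y : {x : G // IsConj t x} =>
        Odd (orderOf (x.1 * y.1))).Reachable u v →
      (SimpleGraph.fromRel fun x y : {x : G // IsConj t x} =>
        Odd (orderOf (x.1 * y.1))).Reachable (act g u) (act g v) := by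
    intro g u v h
    exact h.map (⟨act g, fun {a b} hab => hadj g a b hab⟩ :
      (SimpleGraph.fromRel fun x y : {x : G // IsConj t x} => Odd (orderOf (x.1 * y.1))) →g
      (SimpleGraph.fromRel fun x y : {x : G // IsConj t x} => Odd (orderOf (x.1 * y.1))))
  have hact_mul : ∀ a b v, act (a * b) v = act a (act b v) := by
    intro a b v
    apply Subtype.ext
    show a * b * v.1 * (a * b)⁻¹ = a * (b * v.1 * b⁻¹) * a⁻¹
    group
  have hact_one : ∀ v, act 1 v = v := by
    intro v
    apply Subtype.ext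
    show 1 * v.1 * (1 : G)⁻¹ = v.1
    group
  let H : Subgroup G :=
    { carrier := {g | (SimpleGraph.fromRel fun x y : {x : G // IsConj t x} =>
        Odd (orderOf (x.1 * y.1))).Reachable t₀ (act g t₀)}
      mul_mem' := by
        intro a b ha hb
        rw [Set.mem_ofPred_eq] at ha hb ⊢
        rw [hact_mul]
        exact ha.trans (hreach a _ _ hb)
      one_mem' := by
        rw [Set.mem_ofPred_eq, hact_one]
      inv_mem' := by
        intro a ha
        rw [Set.mem_ofPred_eq] at ha ⊢
        have h1 := hreach a⁻¹ _ _ ha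
        rw [← hact_mul, inv_mul_cancel, hact_one] at h1
        exact h1.symm }
  have hHmem : ∀ g : G, g ∈ H ↔ (SimpleGraph.fromRel fun x y : {x : G // IsConj t x} =>
      Odd (orderOf (x.1 * y.1))).Reachable t₀ (act g t₀) := fun _ => Iff.rfl
  -- odd order elements inverted by `t` lie in `H`
  have hkey : ∀ y : G, MulAut.conj t y = y⁻¹ → Odd (orderOf y) → y ∈ H := by
    intro y hy hodd
    rw [hHmem]
    by_cases heq : y * t * y⁻¹ = t
    · have : act y t₀ = t₀ := Subtype.ext heq
      rw [this]
    · apply SimpleGraph.Adj.reachable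
      rw [SimpleGraph.fromRel_adj]
      refine ⟨fun h => heq (congrArg Subtype.val h).symm, Or.inl ?_⟩
      show Odd (orderOf (t * (y * t * y⁻¹)))
      have hy' : t * y * t⁻¹ = y⁻¹ := by simpa [MulAut.conj_apply] using hy
      have e : t * (y * t * y⁻¹) = (y ^ 2)⁻¹ := by
        have : t * (y * t * y⁻¹) = (t * y * t⁻¹) * y⁻¹ := by rw [htinv]; group
        rw [this, hy', pow_two, mul_inv_rev]
      rw [e, orderOf_inv]
      exact Odd.of_dvd_nat hodd (orderOf_pow_dvd 2)
  have hle : Subgroup.closure (Set.range ((fun c : G => c * (MulAut.conj t c)⁻¹)^[Nat.card G + 1]))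
      ≤ H := by
    rw [Subgroup.closure_le]
    rintro _ ⟨c, rfl⟩
    rw [Function.iterate_succ_apply]
    have hx : MulAut.conj t (c * (MulAut.conj t c)⁻¹) = (c * (MulAut.conj t c)⁻¹)⁻¹ := by
      simp only [MulAut.conj_apply, htinv]
      have h3 : t * (c * (t * c * t)⁻¹) * t = (t * c * t) * c⁻¹ := by
        have h4 : (t * c * t)⁻¹ = t * c⁻¹ * t := by
          rw [mul_inv_rev, mul_inv_rev, htinv, mul_assoc]
        rw [h4]
        calc t * (c * (t * c⁻¹ * t)) * t = t * c * (t * c⁻¹) * (t * t) := by group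
          _ = t * c * (t * c⁻¹) := by rw [ht2, mul_one]
          _ = t * c * t * c⁻¹ := by group
      rw [h3, mul_inv_rev, inv_inv]
    obtain ⟨h1, h2⟩ := flv_iter_pow (MulAut.conj t) _ hx (Nat.card G)
    rw [SetLike.mem_coe, h1]
    exact hkey _ h2 (flv_odd_order_pow _)
  rw [flv_aut_iter (MulAut.conj t) hG (Nat.card G + 1) (by omega)] at hle
  have hall : ∀ v : {x : G // IsConj t x}, (SimpleGraph.fromRel fun x y : {x : G // IsConj t x} =>
      Odd (orderOf (x.1 * y.1))).Reachable t₀ v := by
    intro v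
    obtain ⟨c, hc⟩ := isConj_iff.mp v.2
    have h1 : c ∈ H := hle (Subgroup.mem_top c)
    rw [hHmem] at h1
    have : act c t₀ = v := Subtype.ext hc
    rwa [this] at h1
  have : Nonempty {x : G // IsConj t x} := ⟨t₀⟩
  exact ⟨fun u v => (hall u).symm.trans (hall v)⟩

theorem flv_commutator_top_of_simple {G : Type*} [Group G] [IsSimpleGroup G]
    (hG : ¬ IsMulCommutative G) (t : G) (ht : t ≠ 1) :
    Subgroup.closure (Set.range (fun c : G => c * (MulAut.conj t c)⁻¹)) = ⊤ := by
  have hconj : ∀ g c : G, g * (c * (MulAut.conj t c)⁻¹) * g⁻¹ =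
      (g * c) * (MulAut.conj t (g * c))⁻¹ * (g * (MulAut.conj t g)⁻¹)⁻¹ := by
    intro g c
    simp only [MulAut.conj_apply]
    group
  have hnorm : (Subgroup.closure (Set.range (fun c : G => c * (MulAut.conj t c)⁻¹))).Normal := by
    refine ⟨fun n hn g => ?_⟩
    induction hn using Subgroup.closure_induction with
    | mem x hx =>
      obtain ⟨c, rfl⟩ := hx
      rw [hconj]
      exact Subgroup.mul_mem _ (Subgroup.subset_closure ⟨g * c, rfl⟩)
        (Subgroup.inv_mem _ (Subgroup.subset_closure ⟨g, rfl⟩))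
    | one => simp
    | mul a b _ _ iha ihb =>
      have : g * (a * b) * g⁻¹ = (g * a * g⁻¹) * (g * b * g⁻¹) := by group
      rw [this]
      exact Subgroup.mul_mem _ iha ihb
    | inv a _ iha =>
      have : g * a⁻¹ * g⁻¹ = (g * a * g⁻¹)⁻¹ := by group
      rw [this]
      exact Subgroup.inv_mem _ iha
  rcases hnorm.eq_bot_or_eq_top with h | h
  · exfalso
    have hcomm : ∀ c : G, c * t = t * c := by
      intro c
      have h1 : c * (MulAut.conj t c)⁻¹ ∈
          Subgroup.closure (Set.range (fun c : G => c * (MulAut.conj t c)⁻¹)) :=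
        Subgroup.subset_closure ⟨c, rfl⟩
      rw [h, Subgroup.mem_bot, MulAut.conj_apply] at h1
      have h2 : c = t * c * t⁻¹ := by
        have := mul_eq_one_iff_eq_inv.mp h1
        rwa [inv_inv] at this
      calc c * t = (t * c * t⁻¹) * t := by rw [← h2]
        _ = t * c := by group
    have htc : t ∈ Subgroup.center G := by
      rw [Subgroup.mem_center_iff]
      exact hcomm
    rcases (inferInstance : (Subgroup.center G).Normal).eq_bot_or_eq_top with h' | h'
    · rw [h', Subgroup.mem_bot] at htc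
      exact ht htc
    · apply hG
      refine ⟨⟨fun a b => ?_⟩⟩
      have hb : b ∈ Subgroup.center G := h' ▸ Subgroup.mem_top b
      exact (Subgroup.mem_center_iff.mp hb a)
  · exact h

end Cfsg.Agent.Lib.helper70
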