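import Mathlib

set_option autoImplicit false

namespace Cfsg.Agent.Lib.helper70

/-- `Nat.card` of a subtype as the cardinality of a filtered `Finset.univ`. -/
theorem natCard_subtype_eq_card_filter {α : Type*} [Fintype α] (P : α → Prop) [DecidablePred P] :
    Nat.card {a : α // P a} = (Finset.univ.filter P).card := by
  rw [Nat.card_eq_fintype_card, Fintype.card_subtype]

/-- Divisibility of a sum from divisibility of the contribution of each fibre of a
labelling. -/
theorem dvd_sum_of_fibers {Y κ : Type*} [DecidableEq κ] (S : Finset Y) (c : Y → κ) (f : Y → ℕ)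
    (d : ℕ) (hf : ∀ y ∈ S, ∀ y' ∈ S, c y' = c y → f y' = f y)
    (hd : ∀ y ∈ S, d ∣ (S.filter (fun y' => c y' = c y)).card * f y) : d ∣ ∑ y ∈ S, f y := by
  rw [← Finset.sum_fiberwise_of_maps_to (g := c) (t := S.image c)
    (fun y hy => Finset.mem_image_of_mem c hy)]
  apply Finset.dvd_sum
  intro k hk
  obtain ⟨y, hy, rfl⟩ := Finset.mem_image.1 hk
  have h1 : ∑ y' ∈ S.filter (fun y' => c y' = c y), f y' =
      (S.filter (fun y' => c y' = c y)).card * f y := by
    rw [Finset.sum_congr rfl (fun y' hy' => hf y hy y' (Finset.mem_filter.1 hy').1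
      (Finset.mem_filter.1 hy').2), Finset.sum_const, smul_eq_mul]
  rw [h1]; exact hd y hy

open Classical in
/-- Orbit-stabilizer for conjugation, in `Finset` form. -/
theorem card_conj_mul_card_comm {G : Type*} [Group G] [Fintype G] (y : G) :
    (Finset.univ.filter (fun y' : G => IsConj y' y)).card *
      (Finset.univ.filter (fun z : G => y * z = z * y)).card = Fintype.card G := by
  have hmaps : ((Finset.univ : Finset G) : Set G).MapsTo (fun g => g * y * g⁻¹)
      (Finset.univ.filter (fun y' : G => IsConj y' y)) := by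
    intro g _
    simp only [Finset.coe_filter, Finset.mem_univ, true_and, Set.mem_ofPred_eq]
    rw [isConj_comm, isConj_iff]
    exact ⟨g, rfl⟩
  rw [← Finset.card_univ, Finset.card_eq_sum_card_fiberwise hmaps]
  have hfib : ∀ w ∈ Finset.univ.filter (fun y' : G => IsConj y' y),
      (Finset.univ.filter (fun g : G => g * y * g⁻¹ = w)).card =
        (Finset.univ.filter (fun z : G => y * z = z * y)).card := by
    intro w hw
    rw [Finset.mem_filter, isConj_comm, isConj_iff] at hw
    obtain ⟨g₀, hg₀⟩ := hw.2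
    apply Finset.card_nbij' (fun g => g₀⁻¹ * g) (fun z => g₀ * z)
    · intro g hg
      simp only [Finset.coe_filter, Finset.mem_univ, true_and, Set.mem_ofPred_eq] at hg ⊢
      rw [← hg₀] at hg
      have h1 : g * y = g₀ * y * g₀⁻¹ * g := by rw [← hg]; group
      calc y * (g₀⁻¹ * g) = g₀⁻¹ * (g₀ * y * g₀⁻¹ * g) := by group
        _ = g₀⁻¹ * g * y := by rw [← h1]; group
    · intro z hz
      simp only [Finset.coe_filter, Finset.mem_univ, true_and, Set.mem_ofPred_eq] at hz ⊢
      rw [← hg₀]
      calc g₀ * z * y * (g₀ * z)⁻¹ = g₀ * (z * y) * z⁻¹ * g₀⁻¹ := by group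
        _ = g₀ * y * g₀⁻¹ := by rw [← hz]; group
    · intro g _; simp
    · intro z _; simp
  rw [Finset.sum_congr rfl hfib, Finset.sum_const, smul_eq_mul]

open Classical in
/-- The order of a centralizer as a `Finset` cardinality. -/
theorem natCard_centralizer {G : Type*} [Group G] [Fintype G] (y : G) :
    Nat.card (Subgroup.centralizer ({y} : Set G)) =
      (Finset.univ.filter (fun z : G => y * z = z * y)).card := by
  rw [← natCard_subtype_eq_card_filter]
  apply Nat.card_congr
  apply Equiv.subtypeEquivRight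
  intro z
  rw [Subgroup.mem_centralizer_iff]
  constructor
  · intro h; exact h y rfl
  · intro h w hw; rw [Set.mem_singleton_iff] at hw; rw [hw]; exact h

open Classical in
/-- The number of solutions of `z ^ s = 1` in a centralizer as a `Finset` cardinality. -/
theorem natCard_centralizer_pow {G : Type*} [Group G] [Fintype G] (y : G) (s : ℕ) :
    Nat.card {z : Subgroup.centralizer ({y} : Set G) // z ^ s = 1} =
      (Finset.univ.filter (fun z : G => y * z = z * y ∧ z ^ s = 1)).card := by
  rw [← natCard_subtype_eq_card_filter]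
  apply Nat.card_congr
  refine ⟨fun k => ⟨k.1.1, ?_, ?_⟩, fun z => ⟨⟨z.1, ?_⟩, ?_⟩, ?_, ?_⟩
  · exact (Subgroup.mem_centralizer_iff.1 k.1.2) y rfl
  · have := congrArg Subtype.val k.2
    simpa using this
  · rw [Subgroup.mem_centralizer_iff]
    intro w hw; rw [Set.mem_singleton_iff] at hw; rw [hw]; exact z.2.1
  · apply Subtype.ext
    simpa using z.2.2
  · intro k; rfl
  · intro z; rfl

open Classical in
/-- Class-sum divisibility: if `s ∣ |G|`, `Y` is a normal subset, and in each centralizer
`C(y)` the number of solutions of `z ^ s = 1` is a multiple of `gcd(s, |C(y)|)`, then `s`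
divides the sum over `y ∈ Y` of these numbers. -/
theorem class_sum_dvd {G : Type*} [Group G] [Fintype G] (Y : Finset G) (s : ℕ)
    (hY : ∀ y ∈ Y, ∀ g : G, g * y * g⁻¹ ∈ Y) (hs : s ∣ Fintype.card G)
    (h : ∀ y ∈ Y, Nat.gcd s (Nat.card (Subgroup.centralizer ({y} : Set G))) ∣
      Nat.card {z : Subgroup.centralizer ({y} : Set G) // z ^ s = 1}) :
    s ∣ ∑ y ∈ Y, Nat.card {z : Subgroup.centralizer ({y} : Set G) // z ^ s = 1} := by
  apply dvd_sum_of_fibers Y (ConjClasses.mk (α := G)) _ s
  · intro y _ y' _ hc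
    rw [ConjClasses.mk_eq_mk_iff_isConj, isConj_iff] at hc
    obtain ⟨g, hg⟩ := hc
    rw [natCard_centralizer_pow, natCard_centralizer_pow]
    apply Finset.card_nbij' (fun z => g * z * g⁻¹) (fun z => g⁻¹ * z * g)
    · intro z hz
      simp only [Finset.coe_filter, Finset.mem_univ, true_and, Set.mem_ofPred_eq] at hz ⊢
      refine ⟨?_, ?_⟩
      · rw [← hg]
        calc g * y' * g⁻¹ * (g * z * g⁻¹) = g * (y' * z) * g⁻¹ := by group
          _ = g * z * g⁻¹ * (g * y' * g⁻¹) := by rw [hz.1]; group
      · rw [conj_pow, hz.2]; group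
    · intro z hz
      simp only [Finset.coe_filter, Finset.mem_univ, true_and, Set.mem_ofPred_eq] at hz ⊢
      refine ⟨?_, ?_⟩
      · have h1 : y' = g⁻¹ * y * g := by rw [← hg]; group
        rw [h1]
        calc g⁻¹ * y * g * (g⁻¹ * z * g) = g⁻¹ * (y * z) * g := by group
          _ = g⁻¹ * z * g * (g⁻¹ * y * g) := by rw [hz.1]; group
      · have h2 : g⁻¹ * z * g = g⁻¹ * z * g⁻¹⁻¹ := by rw [inv_inv]
        rw [h2, conj_pow, hz.2]; group
    · intro z _; simp only; group
    · intro z _; simp only; group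
  · intro y hy
    have hfib : Y.filter (fun y' => ConjClasses.mk y' = ConjClasses.mk y) =
        Finset.univ.filter (fun y' : G => IsConj y' y) := by
      ext y'
      simp only [Finset.mem_filter, Finset.mem_univ, true_and, ConjClasses.mk_eq_mk_iff_isConj]
      constructor
      · exact fun h => h.2
      · intro hc
        refine ⟨?_, hc⟩
        rw [isConj_comm, isConj_iff] at hc
        obtain ⟨g, hg⟩ := hc
        rw [← hg]; exact hY y hy g
    rw [hfib]
    have h1 := card_conj_mul_card_comm y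
    rw [← natCard_centralizer] at h1
    have h2 : s ∣ (Finset.univ.filter (fun y' : G => IsConj y' y)).card *
        Nat.gcd s (Nat.card (Subgroup.centralizer ({y} : Set G))) := by
      rw [← Nat.gcd_mul_left]
      apply Nat.dvd_gcd (dvd_mul_left _ _)
      rw [h1]; exact hs
    exact h2.trans (mul_dvd_mul_left _ (h y hy))

open Classical in
/-- Splitting elements into commuting parts by a uniform power map: the elements `x` with
`x ^ (A * S) = 1` whose "`A`-part" `x ^ e` lies in `Y` are counted by the sum over `y ∈ Y` of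
the number of solutions of `z ^ S = 1` in `C(y)`. -/
theorem card_decomp {G : Type*} [Group G] [Fintype G] (A S e : ℕ) (he1 : e ≡ 1 [MOD A])
    (he0 : S ∣ e) (Y : Finset G) (hY : ∀ y ∈ Y, y ^ A = 1) :
    (Finset.univ.filter (fun x : G => x ^ (A * S) = 1 ∧ x ^ e ∈ Y)).card =
      ∑ y ∈ Y, Nat.card {z : Subgroup.centralizer ({y} : Set G) // z ^ S = 1} := by
  have hmaps : ((Finset.univ.filter (fun x : G => x ^ (A * S) = 1 ∧ x ^ e ∈ Y) : Finset G) :
      Set G).MapsTo (fun x => x ^ e) Y := by
    intro x hx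
    simp only [Finset.coe_filter, Finset.mem_univ, true_and, Set.mem_ofPred_eq] at hx
    exact hx.2
  rw [Finset.card_eq_sum_card_fiberwise hmaps]
  apply Finset.sum_congr rfl
  intro y hy
  rw [natCard_centralizer_pow]
  have hyA := hY y hy
  apply Finset.card_nbij' (fun x => y⁻¹ * x) (fun z => y * z)
  · intro x hx
    simp only [Finset.coe_filter, Finset.mem_filter, Finset.mem_univ, true_and,
      Set.mem_ofPred_eq] at hx ⊢
    obtain ⟨⟨hx1, -⟩, hx2⟩ := hx
    have hcomm : Commute x y := by rw [← hx2]; exact Commute.pow_right (Commute.refl x) e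
    refine ⟨?_, ?_⟩
    · rw [mul_inv_cancel_left, mul_assoc, hcomm.eq, inv_mul_cancel_left]
    · have h1 : y ^ S = x ^ S := by
        rw [← hx2, ← pow_mul, pow_eq_pow_iff_modEq]
        have h2 : e * S ≡ 1 * S [MOD A * S] := Nat.ModEq.mul_right' S he1
        rw [one_mul] at h2
        exact h2.of_dvd (orderOf_dvd_of_pow_eq_one hx1)
      rw [(hcomm.symm.inv_left).mul_pow, inv_pow, h1, inv_mul_cancel]
  · intro z hz
    simp only [Finset.coe_filter, Finset.mem_filter, Finset.mem_univ, true_and,
      Set.mem_ofPred_eq] at hz ⊢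
    obtain ⟨hz1, hz2⟩ := hz
    have hcomm : Commute y z := hz1
    have hze : z ^ e = 1 := by
      obtain ⟨k, rfl⟩ := he0
      rw [pow_mul, hz2, one_pow]
    have hye : y ^ e = y := by
      have h3 : y ^ e = y ^ 1 := by
        rw [pow_eq_pow_iff_modEq]
        exact he1.of_dvd (orderOf_dvd_of_pow_eq_one hyA)
      rw [h3, pow_one]
    have h4 : (y * z) ^ e = y := by rw [hcomm.mul_pow, hze, hye, mul_one]
    refine ⟨⟨?_, ?_⟩, h4⟩
    · rw [hcomm.mul_pow, pow_mul, hyA, one_pow, mul_comm A S, pow_mul, hz2, one_pow, one_mul]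
    · rw [h4]; exact hy
  · intro x _; simp
  · intro z _; simp

/-- The solutions of `h ^ m = 1` are those of `h ^ gcd(m, |H|) = 1`. -/
theorem card_pow_eq_one_gcd {H : Type*} [Group H] [Finite H] (m : ℕ) :
    Nat.card {h : H // h ^ m = 1} = Nat.card {h : H // h ^ (Nat.gcd m (Nat.card H)) = 1} := by
  apply Nat.card_congr
  apply Equiv.subtypeEquivRight
  intro h
  constructor
  · intro hm
    exact pow_gcd_eq_one.2 ⟨hm, pow_card_eq_one'⟩
  · intro hg
    obtain ⟨k, hk⟩ := Nat.gcd_dvd_left m (Nat.card H)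
    rw [hk, pow_mul, hg, one_pow]

/-- Passing to the quotient by a central subgroup of order prime to `s` does not change the
number of solutions of `k ^ s = 1`. -/
theorem card_pow_eq_one_quotient_central {K : Type*} [Group K] [Finite K] (Z : Subgroup K)
    [Z.Normal] (hZ : Z ≤ Subgroup.center K) (s : ℕ) (hcop : Nat.Coprime (Nat.card Z) s) :
    Nat.card {h : K ⧸ Z // h ^ s = 1} = Nat.card {k : K // k ^ s = 1} := by
  have hcomm : ∀ c ∈ Z, ∀ k : K, Commute k c := fun c hc k =>
    Subgroup.mem_center_iff.1 (hZ hc) k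
  symm
  apply Nat.card_congr
  refine Equiv.ofBijective (fun k => ⟨QuotientGroup.mk k.1, ?_⟩) ⟨?_, ?_⟩
  · rw [← QuotientGroup.mk_pow, k.2]; rfl
  · intro k k' hkk
    have h1 : (QuotientGroup.mk k.1 : K ⧸ Z) = QuotientGroup.mk k'.1 := congrArg Subtype.val hkk
    rw [QuotientGroup.eq] at h1
    have hc := hcomm _ h1 k.1
    have h2 : k'.1 = k.1 * (k.1⁻¹ * k'.1) := by group
    have h3 : (k.1⁻¹ * k'.1) ^ s = 1 := by
      have h4 := k'.2
      rw [h2, hc.mul_pow, k.2, one_mul] at h4
      exact h4
    have h5 : orderOf (k.1⁻¹ * k'.1) ∣ Nat.gcd (Nat.card Z) s :=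
      Nat.dvd_gcd (Subgroup.orderOf_dvd_natCard Z h1) (orderOf_dvd_of_pow_eq_one h3)
    rw [hcop, Nat.dvd_one, orderOf_eq_one_iff] at h5
    apply Subtype.ext
    rw [h2, h5, mul_one]
  · rintro ⟨h, hh⟩
    obtain ⟨k, rfl⟩ := QuotientGroup.mk_surjective h
    have hw : k ^ s ∈ Z := by
      rw [← QuotientGroup.eq_one_iff, QuotientGroup.mk_pow]; exact hh
    have hcop' : Nat.Coprime s (orderOf (k ^ s)) :=
      Nat.Coprime.coprime_dvd_right (Subgroup.orderOf_dvd_natCard Z hw) hcop.symm
    obtain ⟨t, ht⟩ := exists_pow_eq_self_of_coprime hcop'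
    have hcZ : (k ^ s) ^ t ∈ Z := Z.pow_mem hw t
    have hc := hcomm _ (Z.inv_mem hcZ) k
    refine ⟨⟨k * ((k ^ s) ^ t)⁻¹, ?_⟩, ?_⟩
    · rw [hc.mul_pow, inv_pow, ← pow_mul, mul_comm t s, pow_mul, ht, mul_inv_cancel]
    · apply Subtype.ext
      change (QuotientGroup.mk (k * ((k ^ s) ^ t)⁻¹) : K ⧸ Z) = QuotientGroup.mk k
      rw [QuotientGroup.eq]
      have h6 : (k * ((k ^ s) ^ t)⁻¹)⁻¹ * k = (k⁻¹ * ((k ^ s) ^ t) * k⁻¹⁻¹) := by group
      rw [h6]
      exact (inferInstance : Z.Normal).conj_mem _ hcZ _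

open Classical in
/-- The number of generators of the cyclic subgroup generated by `x` is `φ(orderOf x)`. -/
theorem card_filter_zpowers_eq {G : Type*} [Group G] [Fintype G] (x : G) :
    (Finset.univ.filter (fun x' : G => Subgroup.zpowers x' = Subgroup.zpowers x)).card =
      Nat.totient (orderOf x) := by
  have hcard : Fintype.card (Subgroup.zpowers x) = orderOf x := by
    rw [← Nat.card_eq_fintype_card, Nat.card_zpowers]
  have h1 := IsCyclic.card_orderOf_eq_totient (α := Subgroup.zpowers x) (d := orderOf x)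
    (by rw [hcard])
  rw [← h1, ← Finset.card_map (Function.Embedding.subtype _)]
  congr 1
  ext x'
  simp only [Finset.mem_filter, Finset.mem_univ, true_and, Finset.mem_map,
    Function.Embedding.coe_subtype]
  constructor
  · intro h
    have hx' : x' ∈ Subgroup.zpowers x := by rw [← h]; exact Subgroup.mem_zpowers x'
    refine ⟨⟨x', hx'⟩, ?_, rfl⟩
    rw [Subgroup.orderOf_mk, ← Nat.card_zpowers, h, Nat.card_zpowers]
  · rintro ⟨a, ha, rfl⟩
    rw [← Subgroup.orderOf_coe] at ha
    have hle : Subgroup.zpowers (a : G) ≤ Subgroup.zpowers x := by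
      rw [Subgroup.zpowers_le]; exact a.2
    apply Subgroup.eq_of_le_of_card_ge hle
    rw [Nat.card_zpowers, Nat.card_zpowers, ha]

/-- Inductive step for centralizers in the proof of Frobenius' theorem. -/
theorem gcd_dvd_centralizer_of_IH.{u} {G : Type u} [Group G] [Finite G]
    (IH : ∀ (H : Type u) [Group H] [Finite H], Nat.card H < Nat.card G →
      ∀ m, m ∣ Nat.card H → m ∣ Nat.card {h : H // h ^ m = 1})
    (y : G) (s : ℕ) (hcop : Nat.Coprime (orderOf y) s) (hy1 : y ≠ 1) :
    Nat.gcd s (Nat.card (Subgroup.centralizer ({y} : Set G))) ∣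
      Nat.card {z : Subgroup.centralizer ({y} : Set G) // z ^ s = 1} := by
  have hyC : y ∈ Subgroup.centralizer ({y} : Set G) := by
    rw [Subgroup.mem_centralizer_iff]
    intro w hw; rw [Set.mem_singleton_iff] at hw; rw [hw]
  have hZ : Subgroup.zpowers (⟨y, hyC⟩ : Subgroup.centralizer ({y} : Set G)) ≤
      Subgroup.center (Subgroup.centralizer ({y} : Set G)) := by
    rw [Subgroup.zpowers_le, Subgroup.mem_center_iff]
    intro g
    apply Subtype.ext
    exact ((Subgroup.mem_centralizer_iff.1 g.2) y rfl).symm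
  have hnorm : (Subgroup.zpowers (⟨y, hyC⟩ : Subgroup.centralizer ({y} : Set G))).Normal :=
    ⟨fun n hn g => by
      have h1 := Subgroup.mem_center_iff.1 (hZ hn) g
      rw [h1, mul_inv_cancel_right]; exact hn⟩
  have hcardZ : Nat.card (Subgroup.zpowers (⟨y, hyC⟩ : Subgroup.centralizer ({y} : Set G))) =
      orderOf y := by
    rw [Nat.card_zpowers, Subgroup.orderOf_mk]
  have hmul := Subgroup.card_eq_card_quotient_mul_card_subgroup
    (Subgroup.zpowers (⟨y, hyC⟩ : Subgroup.centralizer ({y} : Set G)))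
  rw [hcardZ] at hmul
  have hlt : Nat.card (Subgroup.centralizer ({y} : Set G) ⧸
      Subgroup.zpowers (⟨y, hyC⟩ : Subgroup.centralizer ({y} : Set G))) < Nat.card G := by
    have h1 : Nat.card (Subgroup.centralizer ({y} : Set G)) ≤ Nat.card G :=
      Subgroup.card_le_card_group _
    have h2 : 2 ≤ orderOf y := by
      have h2a := orderOf_pos y
      have h2b : orderOf y ≠ 1 := fun h => hy1 (orderOf_eq_one_iff.1 h)
      omega
    have h3 : 0 < Nat.card (Subgroup.centralizer ({y} : Set G) ⧸
      Subgroup.zpowers (⟨y, hyC⟩ : Subgroup.centralizer ({y} : Set G))) := Nat.card_pos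
    nlinarith
  have h4 := IH _ hlt (Nat.gcd s (Nat.card (Subgroup.centralizer ({y} : Set G) ⧸
      Subgroup.zpowers (⟨y, hyC⟩ : Subgroup.centralizer ({y} : Set G))))) (Nat.gcd_dvd_right _ _)
  rw [← card_pow_eq_one_gcd,
    card_pow_eq_one_quotient_central _ hZ s (by rw [hcardZ]; exact hcop)] at h4
  have h5 : Nat.gcd s (Nat.card (Subgroup.centralizer ({y} : Set G))) =
      Nat.gcd s (Nat.card (Subgroup.centralizer ({y} : Set G) ⧸
        Subgroup.zpowers (⟨y, hyC⟩ : Subgroup.centralizer ({y} : Set G)))) := by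
    rw [hmul]
    exact Nat.Coprime.gcd_mul_right_cancel_right _ hcop
  rw [h5]; exact h4

open Classical in
/-- Descending step in the proof of Frobenius' theorem. -/
theorem frobenius_step.{u} {G : Type u} [Group G] [Fintype G]
    (IH : ∀ (H : Type u) [Group H] [Finite H], Nat.card H < Nat.card G →
      ∀ m, m ∣ Nat.card H → m ∣ Nat.card {h : H // h ^ m = 1})
    (m p : ℕ) (hp : p.Prime) (hmp : m * p ∣ Fintype.card G)
    (h : m * p ∣ (Finset.univ.filter (fun g : G => g ^ (m * p) = 1)).card) :
    m ∣ (Finset.univ.filter (fun g : G => g ^ m = 1)).card := by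
  have hG0 : Fintype.card G ≠ 0 := Fintype.card_ne_zero
  have hm0 : m ≠ 0 := by
    rintro rfl
    rw [zero_mul, zero_dvd_iff] at hmp
    exact hG0 hmp
  obtain ⟨a, s, hps, rfl⟩ := Nat.exists_eq_pow_mul_and_not_dvd hm0 p hp.ne_one
  have hcops : Nat.Coprime p s := (Nat.Prime.coprime_iff_not_dvd hp).2 hps
  have hcop : Nat.Coprime (p ^ (a + 1)) s := Nat.Coprime.pow_left _ hcops
  have hAs : p ^ a * s * p = p ^ (a + 1) * s := by ring
  rw [hAs] at hmp h
  have he1 : (Nat.chineseRemainder hcop 1 0 : ℕ) ≡ 1 [MOD p ^ (a + 1)] :=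
    (Nat.chineseRemainder hcop 1 0).2.1
  have he0 : s ∣ (Nat.chineseRemainder hcop 1 0 : ℕ) :=
    Nat.modEq_zero_iff_dvd.1 (Nat.chineseRemainder hcop 1 0).2.2
  generalize (Nat.chineseRemainder hcop 1 0 : ℕ) = e at he1 he0
  have hYA : ∀ y ∈ Finset.univ.filter (fun y : G => orderOf y = p ^ (a + 1)),
      y ^ (p ^ (a + 1)) = 1 := by
    intro y hy
    rw [← (Finset.mem_filter.1 hy).2]; exact pow_orderOf_eq_one y
  have hkey : ∀ x : G, x ^ (p ^ (a + 1) * s) = 1 →
      (orderOf (x ^ e) = p ^ (a + 1) ↔ x ^ (p ^ a * s) ≠ 1) := by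
    intro x hx
    constructor
    · intro ho hx1
      have h1 : (x ^ e) ^ (p ^ a * s) = 1 := by rw [← pow_mul, mul_comm, pow_mul, hx1, one_pow]
      have h2 : p ^ (a + 1) ∣ p ^ a * s := ho ▸ orderOf_dvd_of_pow_eq_one h1
      have h3 : p ^ (a + 1) ∣ p ^ a := hcop.dvd_of_dvd_mul_right h2
      have h4 := (Nat.pow_dvd_pow_iff_le_right hp.one_lt).1 h3
      omega
    · intro hx1
      have h1 : (x ^ e) ^ (p ^ (a + 1)) = 1 := by
        obtain ⟨k, rfl⟩ := he0
        have e1 : s * k * p ^ (a + 1) = p ^ (a + 1) * s * k := by ring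
        rw [← pow_mul, e1, pow_mul, hx, one_pow]
      obtain ⟨i, hi, hoi⟩ := (Nat.dvd_prime_pow hp).1 (orderOf_dvd_of_pow_eq_one h1)
      rcases Nat.lt_or_ge i (a + 1) with hlt | hge
      · exfalso
        apply hx1
        have h2 : (x ^ e) ^ (p ^ a) = 1 := by
          apply orderOf_dvd_iff_pow_eq_one.1
          rw [hoi]; exact pow_dvd_pow p (by omega)
        have h3 : x ^ (p ^ a * s) = x ^ (p ^ a * s * e) := by
          rw [pow_eq_pow_iff_modEq]
          have h4 : e ≡ 1 [MOD p] := he1.of_dvd (dvd_pow_self p (by omega))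
          have h5 : p ^ a * s * e ≡ p ^ a * s * 1 [MOD p ^ a * s * p] := Nat.ModEq.mul_left' _ h4
          rw [mul_one, hAs] at h5
          exact (h5.of_dvd (orderOf_dvd_of_pow_eq_one hx)).symm
        have e2 : p ^ a * s * e = e * p ^ a * s := by ring
        rw [h3, e2, pow_mul, pow_mul, h2, one_pow]
      · have hia : i = a + 1 := le_antisymm hi hge
        rw [hoi, hia]
  have hBeq : Finset.univ.filter (fun x : G => x ^ (p ^ (a + 1) * s) = 1 ∧
      x ^ e ∈ Finset.univ.filter (fun y : G => orderOf y = p ^ (a + 1))) =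
      (Finset.univ.filter (fun x : G => x ^ (p ^ (a + 1) * s) = 1)).filter
        (fun x => ¬ x ^ (p ^ a * s) = 1) := by
    ext x
    simp only [Finset.mem_filter, Finset.mem_univ, true_and]
    constructor
    · rintro ⟨h1, h2⟩; exact ⟨h1, (hkey x h1).1 h2⟩
    · rintro ⟨h1, h2⟩; exact ⟨h1, (hkey x h1).2 h2⟩
  have hXeq : (Finset.univ.filter (fun x : G => x ^ (p ^ (a + 1) * s) = 1)).filter
      (fun x => x ^ (p ^ a * s) = 1) = Finset.univ.filter (fun x : G => x ^ (p ^ a * s) = 1) := by
    ext x
    simp only [Finset.mem_filter, Finset.mem_univ, true_and]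
    constructor
    · exact fun h => h.2
    · intro h1
      refine ⟨?_, h1⟩
      rw [← hAs, pow_mul, h1, one_pow]
  have hsplit := Finset.card_filter_add_card_filter_not
    (s := Finset.univ.filter (fun x : G => x ^ (p ^ (a + 1) * s) = 1)) (fun x => x ^ (p ^ a * s) = 1)
  rw [hXeq] at hsplit
  have hBs : s ∣ ((Finset.univ.filter (fun x : G => x ^ (p ^ (a + 1) * s) = 1)).filter
      (fun x => ¬ x ^ (p ^ a * s) = 1)).card := by
    rw [← hBeq, card_decomp (p ^ (a + 1)) s e he1 he0 _ hYA]
    apply class_sum_dvd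
    · intro y hy g
      rw [Finset.mem_filter] at hy ⊢
      refine ⟨Finset.mem_univ _, ?_⟩
      rw [← hy.2]; exact (MulAut.conj g).orderOf_eq y
    · exact (Dvd.intro_left _ rfl).trans hmp
    · intro y hy
      have hyo : orderOf y = p ^ (a + 1) := (Finset.mem_filter.1 hy).2
      apply gcd_dvd_centralizer_of_IH IH y s (by rw [hyo]; exact hcop)
      rintro rfl
      rw [orderOf_one] at hyo
      have := Nat.one_lt_pow (n := a + 1) (by omega) hp.one_lt
      omega
  have hBp : p ^ a ∣ ((Finset.univ.filter (fun x : G => x ^ (p ^ (a + 1) * s) = 1)).filter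
      (fun x => ¬ x ^ (p ^ a * s) = 1)).card := by
    have h0 := dvd_sum_of_fibers ((Finset.univ.filter (fun x : G => x ^ (p ^ (a + 1) * s) = 1)).filter
      (fun x => ¬ x ^ (p ^ a * s) = 1)) (fun x => Subgroup.zpowers x) (fun _ => 1) (p ^ a)
      (fun _ _ _ _ _ => rfl) ?_
    · simpa using h0
    · intro x hx
      rw [mul_one]
      rw [Finset.mem_filter, Finset.mem_filter] at hx
      obtain ⟨⟨-, hx1⟩, hx2⟩ := hx
      have hfib : ((Finset.univ.filter (fun x : G => x ^ (p ^ (a + 1) * s) = 1)).filter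
          (fun x => ¬ x ^ (p ^ a * s) = 1)).filter
          (fun x' => Subgroup.zpowers x' = Subgroup.zpowers x) =
          Finset.univ.filter (fun x' : G => Subgroup.zpowers x' = Subgroup.zpowers x) := by
        ext x'
        simp only [Finset.mem_filter, Finset.mem_univ, true_and]
        constructor
        · exact fun h => h.2
        · intro hz
          have ho : orderOf x' = orderOf x := by
            rw [← Nat.card_zpowers, hz, Nat.card_zpowers]
          refine ⟨⟨?_, ?_⟩, hz⟩
          · rw [← orderOf_dvd_iff_pow_eq_one, ho, orderOf_dvd_iff_pow_eq_one]; exact hx1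
          · rw [← orderOf_dvd_iff_pow_eq_one, ho, orderOf_dvd_iff_pow_eq_one]; exact hx2
      rw [hfib, card_filter_zpowers_eq]
      have h1 : p ^ (a + 1) ∣ orderOf x := by
        rw [← (hkey x hx1).2 hx2]; exact orderOf_pow_dvd e
      have h2 := Nat.totient_dvd_of_dvd h1
      rw [Nat.totient_prime_pow_succ hp] at h2
      exact (Dvd.intro _ rfl).trans h2
  have hBm : p ^ a * s ∣ ((Finset.univ.filter (fun x : G => x ^ (p ^ (a + 1) * s) = 1)).filter
      (fun x => ¬ x ^ (p ^ a * s) = 1)).card :=
    Nat.Coprime.mul_dvd_of_dvd_of_dvd (Nat.Coprime.pow_left _ hcops) hBp hBs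
  have h' : p ^ a * s ∣ (Finset.univ.filter (fun x : G => x ^ (p ^ (a + 1) * s) = 1)).card :=
    (Dvd.intro p hAs).trans h
  rw [← hsplit] at h'
  exact (Nat.dvd_add_left hBm).1 h'

/-- Frobenius' theorem, induction form. -/
theorem frobenius_aux.{u} : ∀ (N : ℕ) (G : Type u) [Group G] [Finite G], Nat.card G = N →
    ∀ m, m ∣ Nat.card G → m ∣ Nat.card {g : G // g ^ m = 1} := by
  intro N
  induction N using Nat.strong_induction_on with
  | _ N IH =>
    intro G _ _ hN
    classical
    cases nonempty_fintype G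
    have IH' : ∀ (H : Type u) [Group H] [Finite H], Nat.card H < Nat.card G →
        ∀ m, m ∣ Nat.card H → m ∣ Nat.card {h : H // h ^ m = 1} := by
      intro H _ _ hlt
      exact IH (Nat.card H) (by rw [← hN]; exact hlt) H rfl
    have key : ∀ k m, m * k = Fintype.card G →
        m ∣ (Finset.univ.filter (fun g : G => g ^ m = 1)).card := by
      intro k
      induction k using Nat.strong_induction_on with
      | _ k IHk =>
        intro m hmk
        by_cases hk1 : k = 1
        · subst hk1
          rw [mul_one] at hmk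
          subst hmk
          have hall : Finset.univ.filter (fun g : G => g ^ Fintype.card G = 1) = Finset.univ := by
            apply Finset.filter_true_of_mem
            intro g _; exact pow_card_eq_one
          rw [hall, Finset.card_univ]
        · obtain ⟨p, hp, hpk⟩ := Nat.exists_prime_and_dvd hk1
          obtain ⟨k', rfl⟩ := hpk
          have hk'0 : k' ≠ 0 := by
            rintro rfl
            rw [mul_zero, mul_zero] at hmk
            exact Fintype.card_ne_zero hmk.symm
          have hlt : k' < p * k' := by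
            have := hp.two_le
            have := Nat.pos_of_ne_zero hk'0
            nlinarith
          have h1 := IHk k' hlt (m * p) (by rw [← hmk]; ring)
          exact frobenius_step IH' m p hp (by rw [← hmk]; exact Dvd.intro k' (by ring)) h1
    intro m hm
    obtain ⟨k, hk⟩ := hm
    rw [natCard_subtype_eq_card_filter]
    exact key k m (by rw [← Nat.card_eq_fintype_card, hk])

/-- **Frobenius' theorem**: if `m` divides the order of the finite group `G`, then `m` divides
the number of solutions of `g ^ m = 1`. -/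
theorem frobenius_dvd {G : Type*} [Group G] [Finite G] (m : ℕ) (hm : m ∣ Nat.card G) :
    m ∣ Nat.card {g : G // g ^ m = 1} :=
  frobenius_aux _ G rfl m hm

/-- Frobenius' theorem, general form: `gcd(m, |G|)` divides the number of solutions of
`g ^ m = 1`. -/
theorem frobenius_gcd_dvd {G : Type*} [Group G] [Finite G] (m : ℕ) :
    Nat.gcd m (Nat.card G) ∣ Nat.card {g : G // g ^ m = 1} := by
  rw [card_pow_eq_one_gcd]
  exact frobenius_dvd _ (Nat.gcd_dvd_right _ _)

end Cfsg.Agent.Lib.helper70
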