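import Mathlib
import Cfsg.Agent.Lib.helper70.Frob
import Cfsg.Agent.Lib.helper3.ElemAb

set_option autoImplicit false

/-!
# Miller-type counting of elements of order `p ^ s`

* `card_modEq_card_fixed`: fixed-point congruence for an invariant `Finset` under a `p`-group.
* `card_eq_totient_mul_card_image_zpowers`: a set of elements of order `n` closed under
  "same cyclic subgroup" has `φ(n) * #(cyclic subgroups)` elements.
* `mul_pow_prime_of_mem_normal_sq`: `(x * r) ^ p = x ^ p` for `r` in a normal subgroup of order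
  `p ^ 2` and exponent `p` of a `p`-group, `p` odd.
* `miller_pgroup`: in a noncyclic `p`-group, `p` odd, `p ^ s` divides the number of elements of
  order `p ^ s` for `s ≥ 2`.
-/

namespace Cfsg.Agent.Lib.helper70

open scoped Pointwise

/-- Fixed-point congruence for an invariant finite subset under the action of a `p`-group. -/
theorem card_modEq_card_fixed {Γ α : Type*} [Group Γ] [MulAction Γ α]
    (p : ℕ) [Fact p.Prime] (hΓ : IsPGroup p Γ) (S : Finset α)
    (hS : ∀ γ : Γ, ∀ a ∈ S, γ • a ∈ S) :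
    S.card ≡ Nat.card {a : α // a ∈ S ∧ ∀ γ : Γ, γ • a = a} [MOD p] := by
  let T : SubMulAction Γ α := { carrier := (S : Set α), smul_mem' := fun γ a ha => hS γ a ha }
  have hfin : Finite T := by
    have : Finite (S : Set α) := S.finite_toSet
    exact this
  have h := hΓ.card_modEq_card_fixedPoints T
  have h1 : Nat.card T = S.card := by
    rw [← Nat.card_eq_finsetCard S]
    exact Nat.card_congr (Equiv.refl _)
  have h2 : Nat.card (MulAction.fixedPoints Γ T) =
      Nat.card {a : α // a ∈ S ∧ ∀ γ : Γ, γ • a = a} := by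
    refine Nat.card_congr
      ⟨fun t => ⟨t.1.1, t.1.2, fun γ => congrArg Subtype.val (t.2 γ)⟩,
       fun a => ⟨⟨a.1, a.2.1⟩, fun γ => Subtype.ext (a.2.2 γ)⟩, ?_, ?_⟩
    · intro t; rfl
    · intro a; rfl
  rwa [h1, h2] at h

/-- A finite set of elements of order `n`, closed under passing to another generator of the same
cyclic subgroup, has `φ(n)` times as many elements as cyclic subgroups. -/
theorem card_eq_totient_mul_card_image_zpowers {G : Type*} [Group G] [Fintype G]
    [DecidableEq (Subgroup G)] (n : ℕ) (S : Finset G) (hS : ∀ x ∈ S, orderOf x = n)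
    (hS' : ∀ x ∈ S, ∀ x' : G, Subgroup.zpowers x' = Subgroup.zpowers x → x' ∈ S) :
    S.card = n.totient * (S.image Subgroup.zpowers).card := by
  classical
  rw [Finset.card_eq_sum_card_fiberwise (f := Subgroup.zpowers) (t := S.image Subgroup.zpowers)
    (fun x hx => Finset.mem_image_of_mem _ hx)]
  rw [Finset.sum_congr rfl (g := fun _ => n.totient), Finset.sum_const, smul_eq_mul, mul_comm]
  intro C hC
  obtain ⟨x, hx, rfl⟩ := Finset.mem_image.mp hC
  rw [← hS x hx, ← card_filter_zpowers_eq x]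
  congr 1
  ext x'
  simp only [Finset.mem_filter, Finset.mem_univ, true_and]
  exact ⟨fun h => h.2, fun h => ⟨hS' x hx x' h, h⟩⟩

/-- `(x * r) ^ p = x ^ p` when `r` lies in a normal subgroup of order `p ^ 2` and exponent `p`
of a `p`-group with `p` odd. -/
theorem mul_pow_prime_of_mem_normal_sq {P : Type*} [Group P] [Finite P] (p : ℕ) [Fact p.Prime]
    (hodd : p ≠ 2) (hP : IsPGroup p P) (R : Subgroup P) [hRn : R.Normal]
    (hRcard : Nat.card R = p ^ 2) (hRe : ∀ a ∈ R, a ^ p = 1) (x r : P) (hr : r ∈ R) :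
    (x * r) ^ p = x ^ p := by
  have hR2 : R ≤ Subgroup.upperCentralSeries P 2 :=
    Cfsg.Agent.Lib.helper3.le_upperCentralSeries_of_card_le p 2 P hP R hRn hRcard.le
  have hc : r * x * r⁻¹ * x⁻¹ ∈ Subgroup.center P := by
    have h1 := hR2 hr
    rw [Subgroup.mem_upperCentralSeries_succ_iff] at h1
    have h2 := h1 x
    rwa [Subgroup.upperCentralSeries_one] at h2
  have hcR : r * x * r⁻¹ * x⁻¹ ∈ R := by
    have h1 : x * r⁻¹ * x⁻¹ ∈ R := hRn.conj_mem _ (R.inv_mem hr) x
    have h2 := R.mul_mem hr h1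
    have h3 : r * (x * r⁻¹ * x⁻¹) = r * x * r⁻¹ * x⁻¹ := by group
    rwa [h3] at h2
  have hcomm : ∀ g : P, Commute (r * x * r⁻¹ * x⁻¹) g := fun g =>
    (Subgroup.mem_center_iff.mp hc g).symm
  have key := Cfsg.Agent.Lib.helper66.mul_pow_of_central_comm (a := x) (b := r)
    (c := r * x * r⁻¹ * x⁻¹) (by group) (hcomm x) (hcomm r) p
  have hp : p.Prime := Fact.out
  have hdvd : p ∣ p.choose 2 :=
    hp.dvd_choose_self (by norm_num) (lt_of_le_of_ne hp.two_le (Ne.symm hodd))
  obtain ⟨k, hk⟩ := hdvd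
  rw [key, hRe r hr, mul_one, hk, pow_mul, hRe _ hcR, one_pow, mul_one]

/-- If `g` has `p`-power order and `g ^ p` has order `p ^ t` with `t ≥ 1`, then `g` has order
`p ^ (t + 1)`. -/
theorem orderOf_eq_of_orderOf_pow_prime {P : Type*} [Group P] (p : ℕ) [Fact p.Prime] (g : P)
    (hg : ∃ j, orderOf g = p ^ j) (t : ℕ) (ht : 0 < t) (h : orderOf (g ^ p) = p ^ t) :
    orderOf g = p ^ (t + 1) := by
  have hp : p.Prime := Fact.out
  obtain ⟨j, hj⟩ := hg
  rw [orderOf_pow' g hp.ne_zero, hj] at h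
  rcases Nat.eq_zero_or_pos j with hj0 | hj0
  · subst hj0
    simp only [pow_zero, Nat.gcd_one_left, Nat.div_one] at h
    have : 1 < p ^ t := Nat.one_lt_pow ht.ne' hp.one_lt
    omega
  · obtain ⟨j', rfl⟩ : ∃ j', j = j' + 1 := ⟨j - 1, by omega⟩
    have hgcd : (p ^ (j' + 1)).gcd p = p :=
      Nat.gcd_eq_right (dvd_pow_self p (by omega))
    rw [hgcd, pow_succ, Nat.mul_div_cancel _ hp.pos] at h
    have := Nat.pow_right_injective hp.two_le h
    rw [hj, this]

/-- Multiplying an element of order `p ^ s`, `s ≥ 2`, by an element of a normal subgroup of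
order `p ^ 2` and exponent `p` does not change its order (`p` odd). -/
theorem orderOf_mul_of_mem_normal_sq {P : Type*} [Group P] [Finite P] (p : ℕ) [Fact p.Prime]
    (hodd : p ≠ 2) (hP : IsPGroup p P) (R : Subgroup P) [hRn : R.Normal]
    (hRcard : Nat.card R = p ^ 2) (hRe : ∀ a ∈ R, a ^ p = 1) (x r : P) (hr : r ∈ R)
    (s : ℕ) (hs : 1 < s) (hx : orderOf x = p ^ s) : orderOf (x * r) = p ^ s := by
  have hp : p.Prime := Fact.out
  have h1 : orderOf ((x * r) ^ p) = p ^ (s - 1) := by
    rw [mul_pow_prime_of_mem_normal_sq p hodd hP R hRcard hRe x r hr, orderOf_pow' x hp.ne_zero,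
      hx]
    obtain ⟨s', rfl⟩ : ∃ s', s = s' + 1 := ⟨s - 1, by omega⟩
    have hgcd : (p ^ (s' + 1)).gcd p = p := Nat.gcd_eq_right (dvd_pow_self p (by omega))
    rw [hgcd, pow_succ, Nat.mul_div_cancel _ hp.pos, Nat.add_sub_cancel]
  have h2 := orderOf_eq_of_orderOf_pow_prime p (x * r) (IsPGroup.iff_orderOf.mp hP _) (s - 1)
    (by omega) h1
  rw [h2]; congr 1; omega

/-- A subgroup of order `p ^ 2` and exponent `p` is not contained in a cyclic subgroup. -/
theorem not_le_zpowers_of_exponent {P : Type*} [Group P] [Finite P] (p : ℕ) [Fact p.Prime]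
    (R : Subgroup P) (hRcard : Nat.card R = p ^ 2) (hRe : ∀ a ∈ R, a ^ p = 1) (y : P) :
    ¬ R ≤ Subgroup.zpowers y := by
  intro hle
  have hp : p.Prime := Fact.out
  have h1 : IsCyclic (R.subgroupOf (Subgroup.zpowers y)) := inferInstance
  have h2 : IsCyclic R := (Subgroup.subgroupOfEquivOfLe hle).isCyclic.mp h1
  obtain ⟨g, hg⟩ := IsCyclic.exists_ofOrder_eq_natCard (α := R)
  have h3 : g ^ p = 1 := Subtype.ext (by simpa using hRe g g.2)
  have h4 := orderOf_dvd_of_pow_eq_one h3
  rw [hg, hRcard] at h4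
  have h5 := Nat.le_of_dvd hp.pos h4
  have : p < p ^ 2 := by nlinarith [hp.two_le]
  omega

/-- Fibre analysis for Miller's theorem: the elements `x'` of order `p ^ s` with
`⟨x'⟩R = ⟨x⟩R` are exactly the elements of `⟨x⟩R` outside `⟨x ^ p⟩R`. -/
theorem miller_fiber {P : Type*} [Group P] [Finite P] (p : ℕ) [Fact p.Prime]
    (hodd : p ≠ 2) (hP : IsPGroup p P) (R : Subgroup P) [hRn : R.Normal]
    (hRcard : Nat.card R = p ^ 2) (hRe : ∀ a ∈ R, a ^ p = 1) (s : ℕ) (hs : 1 < s) (x : P)
    (hx : orderOf x = p ^ s) (x' : P) :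
    (orderOf x' = p ^ s ∧ Subgroup.zpowers x' ⊔ R = Subgroup.zpowers x ⊔ R) ↔
      (x' ∈ Subgroup.zpowers x ⊔ R ∧ x' ∉ Subgroup.zpowers (x ^ p) ⊔ R) := by
  have hp : p.Prime := Fact.out
  constructor
  · rintro ⟨hx', hK⟩
    refine ⟨hK ▸ (le_sup_left : Subgroup.zpowers x' ≤ _) (Subgroup.mem_zpowers x'), ?_⟩
    intro hmem
    have h1 : Subgroup.zpowers x' ⊔ R ≤ Subgroup.zpowers (x ^ p) ⊔ R :=
      sup_le ((Subgroup.zpowers_le).mpr hmem) le_sup_right
    have h2 : x ∈ Subgroup.zpowers (x ^ p) ⊔ R :=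
      h1 (hK ▸ (le_sup_left : Subgroup.zpowers x ≤ _) (Subgroup.mem_zpowers x))
    obtain ⟨y, hy, r, hr, hyr⟩ := Subgroup.mem_sup_of_normal_right.mp h2
    obtain ⟨j, rfl⟩ := Subgroup.mem_zpowers_iff.mp hy
    -- r = x ^ (1 - p * j)
    have hr' : r = x ^ (1 - (p : ℤ) * j) := by
      have : r = ((x ^ p) ^ j)⁻¹ * x := by rw [eq_inv_mul_iff_mul_eq]; exact hyr
      rw [this, ← zpow_natCast x p, ← zpow_mul, ← zpow_neg,
        show (1 : ℤ) - (p : ℤ) * j = -((p : ℤ) * j) + 1 by ring, zpow_add, zpow_one]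
    have h3 : x ^ ((1 - (p : ℤ) * j) * p) = 1 := by
      rw [zpow_mul, ← hr', zpow_natCast]; exact hRe r hr
    have h4 := orderOf_dvd_iff_zpow_eq_one.mpr h3
    rw [hx] at h4
    have h5 : ((p : ℤ) ^ 2) ∣ (1 - (p : ℤ) * j) * p := by
      refine dvd_trans ?_ h4
      push_cast
      exact pow_dvd_pow _ (by omega)
    have h6 : (p : ℤ) ∣ 1 - (p : ℤ) * j := by
      have hp0 : (p : ℤ) ≠ 0 := by exact_mod_cast hp.ne_zero
      rw [sq] at h5
      exact (mul_dvd_mul_iff_right hp0).mp h5
    have h7 : (p : ℤ) ∣ 1 := by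
      have := dvd_add h6 (Dvd.intro j rfl : (p : ℤ) ∣ (p : ℤ) * j)
      simpa using this
    have h8 : p ∣ 1 := by exact_mod_cast h7
    exact hp.one_lt.ne' (Nat.dvd_one.mp h8)
  · rintro ⟨hK, hΦ⟩
    obtain ⟨y, hy, r, hr, rfl⟩ := Subgroup.mem_sup_of_normal_right.mp hK
    obtain ⟨k, rfl⟩ := (Submonoid.mem_powers_iff _ _).mp (mem_powers_iff_mem_zpowers.mpr hy)
    have hk : ¬ p ∣ k := by
      rintro ⟨k', rfl⟩
      apply hΦ
      apply Subgroup.mem_sup_of_normal_right.mpr
      exact ⟨x ^ (p * k'), by rw [pow_mul]; exact Subgroup.npow_mem_zpowers _ _, r, hr, rfl⟩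
    have hcop : (orderOf x).Coprime k := by
      rw [hx]; exact Nat.Coprime.pow_left _ ((Nat.Prime.coprime_iff_not_dvd hp).mpr hk)
    have hy' : orderOf (x ^ k) = p ^ s := by rw [hcop.orderOf_pow, hx]
    refine ⟨orderOf_mul_of_mem_normal_sq p hodd hP R hRcard hRe _ r hr s hs hy', ?_⟩
    apply le_antisymm
    · exact sup_le ((Subgroup.zpowers_le).mpr hK) le_sup_right
    · refine sup_le ?_ le_sup_right
      have h1 : Subgroup.zpowers (x ^ k) = Subgroup.zpowers x := by
        apply Subgroup.eq_of_le_of_card_ge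
        · exact (Subgroup.zpowers_le).mpr (Subgroup.npow_mem_zpowers _ _)
        · rw [Nat.card_zpowers, Nat.card_zpowers, hy', hx]
      rw [← h1, Subgroup.zpowers_le]
      have h2 : x ^ k * r * r⁻¹ ∈ Subgroup.zpowers (x ^ k * r) ⊔ R :=
        Subgroup.mul_mem _ ((le_sup_left : Subgroup.zpowers (x ^ k * r) ≤ _)
          (Subgroup.mem_zpowers _)) ((le_sup_right : R ≤ _) (R.inv_mem hr))
      rwa [mul_inv_cancel_right] at h2

/-- **Miller's theorem** (element form): in a noncyclic `p`-group with `p` odd, the number of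
elements of order `p ^ s`, `s ≥ 2`, is divisible by `p ^ s`. -/
theorem miller_pgroup {P : Type*} [Group P] [Finite P] (p : ℕ) [Fact p.Prime] (hodd : p ≠ 2)
    (hP : IsPGroup p P) (hnc : ¬ IsCyclic P) (s : ℕ) (hs : 1 < s) :
    p ^ s ∣ Nat.card {x : P // orderOf x = p ^ s} := by
  classical
  have : Fintype P := Fintype.ofFinite P
  have hp : p.Prime := Fact.out
  obtain ⟨R, hRn, ⟨hRc, hRe⟩, hRcard⟩ := Cfsg.Agent.S0126.result hodd hP hnc
  rw [natCard_subtype_eq_card_filter]
  rw [Finset.card_eq_sum_card_fiberwise (f := fun x => Subgroup.zpowers x ⊔ R)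
    (t := (Finset.univ.filter (fun x : P => orderOf x = p ^ s)).image
      (fun x => Subgroup.zpowers x ⊔ R)) (fun x hx => Finset.mem_image_of_mem _ hx)]
  apply Finset.dvd_sum
  intro K hK
  obtain ⟨x, hx, rfl⟩ := Finset.mem_image.mp hK
  have hx : orderOf x = p ^ s := (Finset.mem_filter.mp hx).2
  have hΦK : Subgroup.zpowers (x ^ p) ⊔ R ≤ Subgroup.zpowers x ⊔ R :=
    sup_le_sup_right ((Subgroup.zpowers_le).mpr (Subgroup.npow_mem_zpowers _ _)) R
  have hfib : (Finset.univ.filter (fun x : P => orderOf x = p ^ s)).filter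
      (fun a => Subgroup.zpowers a ⊔ R = Subgroup.zpowers x ⊔ R) =
      (Finset.univ.filter (fun a => a ∈ Subgroup.zpowers x ⊔ R)) \
        (Finset.univ.filter (fun a => a ∈ Subgroup.zpowers (x ^ p) ⊔ R)) := by
    ext a
    simp only [Finset.mem_filter, Finset.mem_univ, true_and, Finset.mem_sdiff]
    exact miller_fiber p hodd hP R hRcard hRe s hs x hx a
  rw [hfib, Finset.card_sdiff_of_subset (by
    intro a ha
    simp only [Finset.mem_filter, Finset.mem_univ, true_and] at ha ⊢
    exact hΦK ha)]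
  rw [← natCard_subtype_eq_card_filter, ← natCard_subtype_eq_card_filter]
  -- orders
  have hord : orderOf (x ^ p) = p ^ (s - 1) := by
    rw [orderOf_pow' x hp.ne_zero, hx]
    obtain ⟨s', rfl⟩ : ∃ s', s = s' + 1 := ⟨s - 1, by omega⟩
    have hgcd : (p ^ (s' + 1)).gcd p = p := Nat.gcd_eq_right (dvd_pow_self p (by omega))
    rw [hgcd, pow_succ, Nat.mul_div_cancel _ hp.pos, Nat.add_sub_cancel]
  obtain ⟨b, hb⟩ := (hP.to_subgroup (Subgroup.zpowers (x ^ p) ⊔ R)).exists_card_eq
  obtain ⟨a, ha⟩ := (hP.to_subgroup (Subgroup.zpowers x ⊔ R)).exists_card_eq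
  have hsb : s ≤ b := by
    by_contra hlt
    have h1 : Nat.card (Subgroup.zpowers (x ^ p) ⊔ R : Subgroup P) ≤
        Nat.card (Subgroup.zpowers (x ^ p)) := by
      rw [Nat.card_zpowers, hord, hb]
      exact Nat.pow_le_pow_right hp.pos (by omega)
    have h2 := Subgroup.eq_of_le_of_card_ge (le_sup_left : Subgroup.zpowers (x ^ p) ≤
      Subgroup.zpowers (x ^ p) ⊔ R) h1
    exact not_le_zpowers_of_exponent p R hRcard hRe (x ^ p) (h2 ▸ le_sup_right)
  have hba : b ≤ a := by
    have h1 := Subgroup.card_le_of_le hΦK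
    rw [ha, hb] at h1
    exact (Nat.pow_le_pow_iff_right hp.one_lt).mp h1
  apply Nat.dvd_sub
  · exact ha ▸ pow_dvd_pow p (le_trans hsb hba)
  · exact hb ▸ pow_dvd_pow p hsb

/-- Conjugating a cyclic subgroup. -/
theorem conj_smul_zpowers {G : Type*} [Group G] (h x : G) :
    MulAut.conj h • Subgroup.zpowers x = Subgroup.zpowers (h * x * h⁻¹) := by
  show Subgroup.map (MulAut.conj h).toMonoidHom (Subgroup.zpowers x) = _
  rw [MonoidHom.map_zpowers]; rfl

/-- An element fixing a subgroup under conjugation normalises it. -/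
theorem mem_normalizer_of_conj_smul_eq {G : Type*} [Group G] (C : Subgroup G) (h : G)
    (e : MulAut.conj h • C = C) : h ∈ Subgroup.normalizer (C : Set G) := by
  rw [Subgroup.mem_normalizer_iff]
  intro n
  constructor
  · intro hn
    have h1 := Subgroup.smul_mem_pointwise_smul n (MulAut.conj h) C hn
    rw [e] at h1
    exact h1
  · intro hn
    have h1 : MulAut.conj h • n ∈ MulAut.conj h • C := by rw [e]; exact hn
    exact (Subgroup.smul_mem_pointwise_smul_iff (a := MulAut.conj h)).mp h1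

/-- The number of cyclic subgroups of order `p ^ s` (`s ≥ 2`, `p` odd) normalised by a noncyclic
Sylow `p`-subgroup is divisible by `p`. -/
theorem dvd_card_fixed_cyclic {G : Type*} [Group G] [Finite G] (p : ℕ) [Fact p.Prime]
    (hodd : p ≠ 2) (P : Sylow p G) (hP : ¬ IsCyclic ↥(P : Subgroup G)) (s : ℕ) (hs : 1 < s) :
    p ∣ Nat.card {C : Subgroup G // (∃ x : G, orderOf x = p ^ s ∧ Subgroup.zpowers x = C) ∧
      ∀ h ∈ (P : Subgroup G), MulAut.conj h • C = C} := by
  classical
  have : Fintype G := Fintype.ofFinite G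
  have hp : p.Prime := Fact.out
  let act : MulAction ↥(P : Subgroup G) (Subgroup G) :=
    MulAction.compHom (Subgroup G) ((MulAut.conj : G →* MulAut G).comp (P : Subgroup G).subtype)
  have hact : ∀ (γ : ↥(P : Subgroup G)) (C : Subgroup G), γ • C = MulAut.conj (γ : G) • C :=
    fun _ _ => rfl
  set S : Finset G :=
    Finset.univ.filter (fun x : G => x ∈ (P : Subgroup G) ∧ orderOf x = p ^ s) with hSdef
  have hinv : ∀ γ : ↥(P : Subgroup G), ∀ C ∈ S.image Subgroup.zpowers,
      γ • C ∈ S.image Subgroup.zpowers := by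
    intro γ C hC
    obtain ⟨x, hx, rfl⟩ := Finset.mem_image.mp hC
    rw [hact, conj_smul_zpowers]
    apply Finset.mem_image_of_mem
    simp only [hSdef, Finset.mem_filter, Finset.mem_univ, true_and] at hx ⊢
    refine ⟨(P : Subgroup G).mul_mem ((P : Subgroup G).mul_mem γ.2 hx.1)
      ((P : Subgroup G).inv_mem γ.2), ?_⟩
    have := MulEquiv.orderOf_eq (MulAut.conj (γ : G)) x
    rw [MulAut.conj_apply] at this
    rw [this, hx.2]
  have hA := card_modEq_card_fixed p P.2 (S.image Subgroup.zpowers) hinv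
  have hB : S.card = (p ^ s).totient * (S.image Subgroup.zpowers).card := by
    apply card_eq_totient_mul_card_image_zpowers (p ^ s) S
    · intro x hx
      exact (Finset.mem_filter.mp hx).2.2
    · intro x hx x' hx'
      have hx2 := (Finset.mem_filter.mp hx).2
      simp only [hSdef, Finset.mem_filter, Finset.mem_univ, true_and]
      constructor
      · have h1 : x' ∈ Subgroup.zpowers x := hx' ▸ Subgroup.mem_zpowers x'
        exact ((Subgroup.zpowers_le).mpr hx2.1) h1
      · rw [← Nat.card_zpowers, hx', Nat.card_zpowers, hx2.2]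
  have hM : p ^ s ∣ S.card := by
    have h1 := miller_pgroup p hodd P.2 hP s hs
    have h2 : Nat.card {x : ↥(P : Subgroup G) // orderOf x = p ^ s} =
        Nat.card {x : G // x ∈ (P : Subgroup G) ∧ orderOf x = p ^ s} := by
      refine Nat.card_congr
        ⟨fun x => ⟨x.1.1, x.1.2, by rw [Subgroup.orderOf_coe]; exact x.2⟩,
         fun y => ⟨⟨y.1, y.2.1⟩, by rw [← Subgroup.orderOf_coe]; exact y.2.2⟩, ?_, ?_⟩
      · intro x; rfl
      · intro y; rfl
    rw [h2, natCard_subtype_eq_card_filter] at h1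
    exact h1
  have hD : p ∣ (S.image Subgroup.zpowers).card := by
    rw [hB, Nat.totient_prime_pow hp (by omega : 0 < s)] at hM
    obtain ⟨s', rfl⟩ : ∃ s', s = s' + 1 := ⟨s - 1, by omega⟩
    rw [Nat.add_sub_cancel, pow_succ, mul_assoc] at hM
    have h1 := Nat.dvd_of_mul_dvd_mul_left (pow_pos hp.pos s') hM
    rcases (Nat.Prime.dvd_mul hp).mp h1 with h2 | h2
    · exfalso
      have := Nat.le_of_dvd (by have := hp.two_le; omega) h2
      have := hp.two_le
      omega
    · exact h2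
  have hfix : Nat.card {C : Subgroup G // C ∈ S.image Subgroup.zpowers ∧
        ∀ γ : ↥(P : Subgroup G), γ • C = C} =
      Nat.card {C : Subgroup G // (∃ x : G, orderOf x = p ^ s ∧ Subgroup.zpowers x = C) ∧
        ∀ h ∈ (P : Subgroup G), MulAut.conj h • C = C} := by
    refine Nat.card_congr (Equiv.subtypeEquivRight (fun C => ?_))
    constructor
    · rintro ⟨hC, hfixed⟩
      obtain ⟨x, hx, rfl⟩ := Finset.mem_image.mp hC
      exact ⟨⟨x, (Finset.mem_filter.mp hx).2.2, rfl⟩, fun h hh => hfixed ⟨h, hh⟩⟩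
    · rintro ⟨⟨x, hx, rfl⟩, hfixed⟩
      refine ⟨?_, fun γ => hfixed γ.1 γ.2⟩
      apply Finset.mem_image_of_mem
      simp only [hSdef, Finset.mem_filter, Finset.mem_univ, true_and]
      refine ⟨?_, hx⟩
      have hCp : IsPGroup p (Subgroup.zpowers x) :=
        IsPGroup.of_card (n := s) (by rw [Nat.card_zpowers, hx])
      have hsup := IsPGroup.to_sup_of_normal_right' P.2 hCp
        (fun h hh => mem_normalizer_of_conj_smul_eq _ h (hfixed h hh))
      have heq := P.is_maximal' hsup le_sup_left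
      have h1 : x ∈ (P : Subgroup G) ⊔ Subgroup.zpowers x :=
        (le_sup_right : Subgroup.zpowers x ≤ _) (Subgroup.mem_zpowers x)
      rw [heq] at h1
      exact h1
  rw [← hfix]
  exact (Nat.ModEq.dvd_iff hA (dvd_refl p)).mp hD

/-- Elements of order `a * b` with `a`, `b` coprime correspond to commuting pairs of elements of
orders `a` and `b`. -/
theorem card_orderOf_mul_coprime {G : Type*} [Group G] [Finite G] (a b : ℕ)
    (hab : Nat.Coprime a b) :
    Nat.card {g : G // orderOf g = a * b} =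
      Nat.card {w : G × G // orderOf w.1 = a ∧ orderOf w.2 = b ∧ Commute w.1 w.2} := by
  obtain ⟨e, he1, he0⟩ := Nat.chineseRemainder hab 1 0
  obtain ⟨f, hf0, hf1⟩ := Nat.chineseRemainder hab 0 1
  have hbe : b ∣ e := (Nat.modEq_zero_iff_dvd).mp he0
  have haf : a ∣ f := (Nat.modEq_zero_iff_dvd).mp hf0
  have hef : ∀ g : G, orderOf g = a * b → g ^ e * g ^ f = g := by
    intro g hg
    rw [← pow_add]
    nth_rewrite 2 [← pow_one g]
    rw [pow_eq_pow_iff_modEq, hg]
    apply (Nat.modEq_and_modEq_iff_modEq_mul hab).mp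
    exact ⟨by simpa using he1.add hf0, by simpa using he0.add hf1⟩
  have hord : ∀ g : G, orderOf g = a * b → orderOf (g ^ e) = a ∧ orderOf (g ^ f) = b := by
    intro g hg
    have hpos : 0 < a * b := hg ▸ orderOf_pos g
    have ha : 0 < a := Nat.pos_of_mul_pos_right hpos
    have hb : 0 < b := Nat.pos_of_mul_pos_left hpos
    have h1 : orderOf (g ^ e) ∣ a := by
      apply orderOf_dvd_of_pow_eq_one
      rw [← pow_mul, ← orderOf_dvd_iff_pow_eq_one, hg, mul_comm e a]
      exact Nat.mul_dvd_mul_left a hbe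
    have h2 : orderOf (g ^ f) ∣ b := by
      apply orderOf_dvd_of_pow_eq_one
      rw [← pow_mul, ← orderOf_dvd_iff_pow_eq_one, hg]
      exact Nat.mul_dvd_mul_right haf b
    have hcop : (orderOf (g ^ e)).Coprime (orderOf (g ^ f)) :=
      Nat.Coprime.coprime_dvd_left h1 (Nat.Coprime.coprime_dvd_right h2 hab)
    have h3 := ((Commute.refl g).pow_pow e f).orderOf_mul_eq_mul_orderOf_of_coprime hcop
    rw [hef g hg, hg] at h3
    have h4 := Nat.le_of_dvd ha h1
    have h5 := Nat.le_of_dvd hb h2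
    have h6 : 0 < orderOf (g ^ e) := orderOf_pos _
    have h7 : 0 < orderOf (g ^ f) := orderOf_pos _
    constructor
    · by_contra hne
      have : orderOf (g ^ e) < a := lt_of_le_of_ne h4 hne
      nlinarith
    · by_contra hne
      have : orderOf (g ^ f) < b := lt_of_le_of_ne h5 hne
      nlinarith
  have hback : ∀ x y : G, orderOf x = a → orderOf y = b → Commute x y →
      (x * y) ^ e = x ∧ (x * y) ^ f = y := by
    intro x y hx hy hc
    constructor
    · have hye : y ^ e = 1 := orderOf_dvd_iff_pow_eq_one.mp (hy.symm ▸ hbe)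
      rw [hc.mul_pow, hye, mul_one]
      nth_rewrite 2 [← pow_one x]
      rw [pow_eq_pow_iff_modEq, hx]; exact he1
    · have hxf : x ^ f = 1 := orderOf_dvd_iff_pow_eq_one.mp (hx.symm ▸ haf)
      rw [hc.mul_pow, hxf, one_mul]
      nth_rewrite 2 [← pow_one y]
      rw [pow_eq_pow_iff_modEq, hy]; exact hf1
  refine Nat.card_congr
    ⟨fun g => ⟨(g.1 ^ e, g.1 ^ f), (hord g.1 g.2).1, (hord g.1 g.2).2,
        (Commute.refl g.1).pow_pow e f⟩,
     fun w => ⟨w.1.1 * w.1.2, by
        rw [w.2.2.2.orderOf_mul_eq_mul_orderOf_of_coprime (by rw [w.2.1, w.2.2.1]; exact hab),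
          w.2.1, w.2.2.1]⟩, ?_, ?_⟩
  · intro g
    exact Subtype.ext (hef g.1 g.2)
  · intro w
    obtain ⟨⟨x, y⟩, hx, hy, hc⟩ := w
    exact Subtype.ext (Prod.ext (hback x y hx hy hc).1 (hback x y hx hy hc).2)

/-- A `p`-element whose cyclic subgroup is normalised by a Sylow `p`-subgroup lies in it. -/
theorem mem_sylow_of_zpowers_fixed {G : Type*} [Group G] (p : ℕ) [Fact p.Prime]
    (P : Sylow p G) (x : G) (s : ℕ) (hx : orderOf x = p ^ s)
    (hfixed : ∀ h ∈ (P : Subgroup G), MulAut.conj h • Subgroup.zpowers x = Subgroup.zpowers x) :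
    x ∈ (P : Subgroup G) := by
  have hCp : IsPGroup p (Subgroup.zpowers x) :=
    IsPGroup.of_card (n := s) (by rw [Nat.card_zpowers, hx])
  have hsup := IsPGroup.to_sup_of_normal_right' P.2 hCp
    (fun h hh => mem_normalizer_of_conj_smul_eq _ h (hfixed h hh))
  have heq := P.is_maximal' hsup le_sup_left
  have h1 : x ∈ (P : Subgroup G) ⊔ Subgroup.zpowers x :=
    (le_sup_right : Subgroup.zpowers x ≤ _) (Subgroup.mem_zpowers x)
  rw [heq] at h1
  exact h1

end Cfsg.Agent.Lib.helper70
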