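import Mathlib
import Cfsg.Agent.Lib.helper70.Frob

set_option autoImplicit false

/-!
# Counting elements by order

* `natCard_orderOf_one`, `natCard_orderOf_eq_zero`, `two_le_natCard_orderOf`
* `card_pow_eq_one_eq_list_sum`: `#{g | g ^ m = 1} = ∑_{d ∣ m} #{g | o(g) = d}` with the divisors
  given as an explicit duplicate-free list.
* specialisations to `m = p`, `p ^ 2`, `p * q`, `8`, `4 * p`.
* `dvd_sub_of_dvd_one_add`: `p ∣ 1 + n`, `p ∣ a + b * n`, `a ≤ b` give `p ∣ b - a`.
* `exists_orderOf_eq_prime_pow_of_le`.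
-/

namespace Cfsg.Agent.Lib.helper70

theorem natCard_orderOf_one {G : Type*} [Group G] : Nat.card {g : G // orderOf g = 1} = 1 := by
  rw [Nat.card_eq_one_iff_unique]
  refine ⟨⟨fun a b => Subtype.ext ?_⟩, ⟨⟨1, orderOf_one⟩⟩⟩
  rw [orderOf_eq_one_iff.mp a.2, orderOf_eq_one_iff.mp b.2]

theorem natCard_orderOf_eq_zero {G : Type*} [Group G] (d : ℕ) (h : ∀ g : G, orderOf g ≠ d) :
    Nat.card {g : G // orderOf g = d} = 0 := by
  have : IsEmpty {g : G // orderOf g = d} := ⟨fun x => h x.1 x.2⟩
  exact Nat.card_of_isEmpty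

theorem two_le_natCard_orderOf {G : Type*} [Group G] [Finite G] (g : G) (hg : 3 ≤ orderOf g) :
    2 ≤ Nat.card {x : G // orderOf x = orderOf g} := by
  have : Nontrivial {x : G // orderOf x = orderOf g} := by
    refine ⟨⟨⟨g, rfl⟩, ⟨g⁻¹, orderOf_inv g⟩, ?_⟩⟩
    intro h
    have h1 : g = g⁻¹ := congrArg Subtype.val h
    have h2 : g ^ 2 = 1 := by rw [sq]; nth_rewrite 2 [h1]; exact mul_inv_cancel g
    have := orderOf_le_of_pow_eq_one (by norm_num) h2
    omega
  exact Finite.one_lt_card

theorem card_pow_eq_one_eq_list_sum {G : Type*} [Group G] [Finite G] (m : ℕ) (D : List ℕ)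
    (hD : D.Nodup) (hmem : ∀ d, d ∈ D ↔ d ∣ m) :
    Nat.card {g : G // g ^ m = 1} =
      (D.map (fun d => Nat.card {g : G // orderOf g = d})).sum := by
  classical
  have : Fintype G := Fintype.ofFinite G
  rw [natCard_subtype_eq_card_filter, ← List.sum_toFinset _ hD]
  rw [Finset.card_eq_sum_card_fiberwise (f := orderOf) (t := D.toFinset)]
  · apply Finset.sum_congr rfl
    intro d hd
    rw [natCard_subtype_eq_card_filter]
    congr 1
    ext g
    simp only [Finset.mem_filter, Finset.mem_univ, true_and]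
    constructor
    · exact fun h => h.2
    · intro h
      refine ⟨?_, h⟩
      rw [← orderOf_dvd_iff_pow_eq_one, h]
      exact (hmem d).mp (List.mem_toFinset.mp hd)
  · intro g hg
    simp only [Finset.coe_filter, Finset.mem_univ, true_and, Set.mem_ofPred_eq] at hg
    simp only [List.coe_toFinset, Set.mem_ofPred_eq]
    exact (hmem _).mpr (orderOf_dvd_iff_pow_eq_one.mpr hg)

theorem card_pow_prime_eq {G : Type*} [Group G] [Finite G] (p : ℕ) (hp : p.Prime) :
    Nat.card {g : G // g ^ p = 1} = 1 + Nat.card {g : G // orderOf g = p} := by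
  rw [card_pow_eq_one_eq_list_sum p [1, p] (by simpa using hp.one_lt.ne)
    (by intro d; simp [Nat.dvd_prime hp])]
  simp

theorem card_pow_prime_sq_eq {G : Type*} [Group G] [Finite G] (p : ℕ) (hp : p.Prime) :
    Nat.card {g : G // g ^ (p ^ 2) = 1} =
      1 + Nat.card {g : G // orderOf g = p} + Nat.card {g : G // orderOf g = p ^ 2} := by
  have h1 : 1 < p := hp.one_lt
  have h2 : p < p ^ 2 := by nlinarith
  rw [card_pow_eq_one_eq_list_sum (p ^ 2) [1, p, p ^ 2]
    (by simp; refine ⟨⟨by omega, by omega⟩, by omega⟩)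
    (by
      intro d
      rw [Nat.dvd_prime_pow hp]
      constructor
      · intro hd
        simp at hd
        rcases hd with rfl | rfl | rfl
        · exact ⟨0, by norm_num, by simp⟩
        · exact ⟨1, by norm_num, by simp⟩
        · exact ⟨2, le_refl _, rfl⟩
      · rintro ⟨j, hj, rfl⟩
        interval_cases j <;> simp)]
  simp [add_assoc]

theorem card_pow_prime_mul_eq {G : Type*} [Group G] [Finite G] (p q : ℕ) (hp : p.Prime)
    (hq : q.Prime) (hpq : p ≠ q) :
    Nat.card {g : G // g ^ (p * q) = 1} =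
      1 + Nat.card {g : G // orderOf g = p} + Nat.card {g : G // orderOf g = q} +
        Nat.card {g : G // orderOf g = p * q} := by
  have h1 : 1 < p := hp.one_lt
  have h2 : 1 < q := hq.one_lt
  have h3 : p < p * q := by nlinarith
  have h4 : q < p * q := by nlinarith
  rw [card_pow_eq_one_eq_list_sum (p * q) [1, p, q, p * q]
    (by simp; refine ⟨⟨by omega, by omega, by omega⟩, ⟨hpq, by omega⟩, by omega⟩)
    (by
      intro d
      constructor
      · intro hd
        simp at hd
        rcases hd with rfl | rfl | rfl | rfl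
        · exact one_dvd _
        · exact Dvd.intro _ rfl
        · exact Dvd.intro_left _ rfl
        · exact dvd_refl _
      · intro hd
        obtain ⟨a, b, ha, hb, rfl⟩ := (Nat.dvd_mul).mp hd
        rcases (Nat.dvd_prime hp).mp ha with rfl | rfl <;>
          rcases (Nat.dvd_prime hq).mp hb with rfl | rfl <;> simp)]
  simp [add_assoc]

theorem card_pow_eight_eq {G : Type*} [Group G] [Finite G] :
    Nat.card {g : G // g ^ 8 = 1} =
      1 + Nat.card {g : G // orderOf g = 2} + Nat.card {g : G // orderOf g = 4} +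
        Nat.card {g : G // orderOf g = 8} := by
  rw [card_pow_eq_one_eq_list_sum 8 [1, 2, 4, 8] (by decide)
    (by
      intro d
      constructor
      · intro hd
        simp at hd
        rcases hd with rfl | rfl | rfl | rfl <;> decide
      · intro hd
        have := Nat.le_of_dvd (by norm_num) hd
        interval_cases d <;> first | (simp; done) | omega)]
  simp [add_assoc]

theorem card_pow_four_mul_prime_eq {G : Type*} [Group G] [Finite G] (p : ℕ) (hp : p.Prime)
    (hp2 : p ≠ 2) :
    Nat.card {g : G // g ^ (4 * p) = 1} =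
      1 + Nat.card {g : G // orderOf g = 2} + Nat.card {g : G // orderOf g = 4} +
        Nat.card {g : G // orderOf g = p} + Nat.card {g : G // orderOf g = 2 * p} +
        Nat.card {g : G // orderOf g = 4 * p} := by
  have h1 : 2 < p := lt_of_le_of_ne hp.two_le (Ne.symm hp2)
  have h4 : p ≠ 4 := by
    rintro rfl
    norm_num at hp
  rw [card_pow_eq_one_eq_list_sum (4 * p) [1, 2, 4, p, 2 * p, 4 * p]
    (by simp; omega)
    (by
      intro d
      constructor
      · intro hd
        simp at hd
        rcases hd with rfl | rfl | rfl | rfl | rfl | rfl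
        · exact one_dvd _
        · exact Dvd.dvd.mul_right (by norm_num) _
        · exact Dvd.intro _ rfl
        · exact Dvd.intro_left _ rfl
        · exact Nat.mul_dvd_mul_right (by norm_num) _
        · exact dvd_refl _
      · intro hd
        obtain ⟨a, b, ha, hb, rfl⟩ := (Nat.dvd_mul).mp hd
        have ha4 := Nat.le_of_dvd (by norm_num) ha
        have ha' : a = 1 ∨ a = 2 ∨ a = 4 := by
          interval_cases a <;> first | (simp; done) | omega
        rcases ha' with rfl | rfl | rfl <;>
          rcases (Nat.dvd_prime hp).mp hb with rfl | rfl <;> simp)]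
  simp [add_assoc]

theorem dvd_sub_of_dvd_one_add (p n a b : ℕ) (h1 : p ∣ 1 + n) (h2 : p ∣ a + b * n)
    (hab : a ≤ b) : p ∣ b - a := by
  obtain ⟨c, rfl⟩ := Nat.exists_eq_add_of_le hab
  have h3 : p ∣ (a + c) * (1 + n) := Dvd.dvd.mul_left h1 _
  have e : (a + c) * (1 + n) = (a + (a + c) * n) + c := by ring
  rw [e] at h3
  rw [Nat.add_sub_cancel_left]
  exact (Nat.dvd_add_right h2).mp h3

theorem exists_orderOf_eq_prime_pow_of_le {G : Type*} [Group G] (p : ℕ) (hp : p.Prime) (g : G)
    (j i : ℕ) (hij : i ≤ j) (hg : orderOf g = p ^ j) : ∃ x : G, orderOf x = p ^ i := by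
  refine ⟨g ^ (p ^ (j - i)), ?_⟩
  rw [orderOf_pow_of_dvd (pow_ne_zero _ hp.ne_zero) (by rw [hg]; exact pow_dvd_pow p (by omega)),
    hg, Nat.pow_div (by omega) hp.pos]
  congr 1; omega

end Cfsg.Agent.Lib.helper70
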