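import Mathlib

/-!
helper70: piece P2 of S4427 (helper2's split): over a local domain in which every monic
polynomial of positive degree has a root, every monic polynomial splits as `f₁ * f₂` with `f₁`, `f₂`
coprime, `f₂` having unit constant coefficient and containing all the unit roots.
-/

namespace Cfsg.Agent.Lib.helper70

open Polynomial

theorem isCoprime_X_sub_C_of_isUnit_sub {R : Type*} [CommRing R] {a b : R} (h : IsUnit (a - b)) :
    IsCoprime (X - C b : R[X]) (X - C a) := by
  obtain ⟨u, hu⟩ := h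
  refine ⟨C (↑u⁻¹ : R), - C (↑u⁻¹ : R), ?_⟩
  have h1 : C (↑u⁻¹ : R) * (X - C b) + -C (↑u⁻¹ : R) * (X - C a) = C ((↑u⁻¹ : R) * (a - b)) := by
    rw [C_mul, C_sub]; ring
  rw [h1, ← hu, Units.inv_mul, C_1]

theorem isUnit_sub_of_isUnit_of_not_isUnit {R : Type*} [CommRing R] [IsLocalRing R] {a b : R}
    (ha : IsUnit a) (hb : ¬ IsUnit b) : IsUnit (a - b) := by
  by_contra h
  have h1 : a - b ∈ nonunits R := h
  have h2 : b ∈ nonunits R := hb
  have h3 := IsLocalRing.nonunits_add h1 h2
  rw [sub_add_cancel] at h3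
  exact h3 ha

theorem unit_split_aux {R : Type*} [CommRing R] [IsDomain R] [IsLocalRing R]
    (hroot : ∀ f : R[X], f.Monic → 0 < f.natDegree → ∃ a : R, f.IsRoot a) :
    ∀ n : ℕ, ∀ f : R[X], f.Monic → f.natDegree = n →
      ∃ f₁ f₂ : R[X], f = f₁ * f₂ ∧ IsCoprime f₁ f₂ ∧
        (∀ a : R, IsUnit a → IsCoprime (X - C a) f₁) ∧
        (∀ b : R, ¬ IsUnit b → IsCoprime (X - C b) f₂) := by
  intro n
  induction n with
  | zero =>
    intro f hf hdeg
    have h1 : f = 1 := eq_one_of_monic_natDegree_zero hf hdeg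
    refine ⟨1, 1, by rw [h1, mul_one], isCoprime_one_left, fun a _ => isCoprime_one_right,
      fun b _ => isCoprime_one_right⟩
  | succ n ih =>
    intro f hf hdeg
    obtain ⟨a, ha⟩ := hroot f hf (by omega)
    have hfac : (X - C a) * (f /ₘ (X - C a)) = f := mul_divByMonic_eq_iff_isRoot.mpr ha
    set f' := f /ₘ (X - C a) with hf'
    have hmon' : f'.Monic := by
      have h1 : ((X - C a) * f').Monic := by rw [hfac]; exact hf
      exact (monic_X_sub_C a).of_mul_monic_left h1
    have hdeg' : f'.natDegree = n := by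
      have h1 := (monic_X_sub_C a).natDegree_mul hmon'
      rw [hfac, hdeg, natDegree_X_sub_C] at h1
      omega
    obtain ⟨g₁, g₂, hg, hcop, hu, hnu⟩ := ih f' hmon' hdeg'
    by_cases hau : IsUnit a
    · refine ⟨g₁, (X - C a) * g₂, ?_, ?_, hu, ?_⟩
      · rw [← hfac, hg]; ring
      · exact IsCoprime.mul_right (hu a hau).symm hcop
      · intro b hb
        exact IsCoprime.mul_right
          (isCoprime_X_sub_C_of_isUnit_sub (isUnit_sub_of_isUnit_of_not_isUnit hau hb)) (hnu b hb)
    · refine ⟨(X - C a) * g₁, g₂, ?_, ?_, ?_, hnu⟩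
      · rw [← hfac, hg]; ring
      · exact IsCoprime.mul_left (hnu a hau) hcop
      · intro a' ha'
        exact IsCoprime.mul_right
          (isCoprime_X_sub_C_of_isUnit_sub (isUnit_sub_of_isUnit_of_not_isUnit ha' hau)).symm
          (hu a' ha')

theorem exists_unit_split {R : Type*} [CommRing R] [IsDomain R] [IsLocalRing R]
    (hroot : ∀ f : R[X], f.Monic → 0 < f.natDegree → ∃ a : R, f.IsRoot a) (f : R[X])
    (hf : f.Monic) :
    ∃ f₁ f₂ : R[X], f = f₁ * f₂ ∧ IsCoprime f₁ f₂ ∧ IsUnit (f₂.coeff 0) ∧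
      ∀ r : R, IsUnit r → f.IsRoot r → f₂.IsRoot r := by
  obtain ⟨f₁, f₂, hfac, hcop, hu, hnu⟩ := unit_split_aux hroot f.natDegree f hf rfl
  refine ⟨f₁, f₂, hfac, hcop, ?_, ?_⟩
  · obtain ⟨s, t, hst⟩ := hnu 0 not_isUnit_zero
    have h1 := congrArg (eval 0) hst
    simp only [eval_add, eval_mul, eval_sub, eval_X, eval_C, sub_zero, mul_zero, zero_add,
      eval_one] at h1
    rw [coeff_zero_eq_eval_zero]
    exact IsUnit.of_mul_eq_one _ (by rw [mul_comm]; exact h1)
  · intro r hr hroot'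
    obtain ⟨s, t, hst⟩ := hu r hr
    have h1 := congrArg (eval r) hst
    simp only [eval_add, eval_mul, eval_sub, eval_X, eval_C, sub_self, mul_zero, zero_add,
      eval_one] at h1
    have h2 : eval r f = 0 := hroot'
    rw [hfac, eval_mul] at h2
    have h3 : eval r f₂ = eval r t * (eval r f₁ * eval r f₂) := by
      rw [← mul_assoc, h1, one_mul]
    rw [h2, mul_zero] at h3
    exact h3

end Cfsg.Agent.Lib.helper70
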