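import Mathlib

set_option autoImplicit false
set_option maxHeartbeats 400000

/-!
# S4701 piece Q2 (helper70): a perfect group has no normal Sylow subgroup of prime order

Core: if `H` is perfect and a Sylow `p`-subgroup `P` has `N(P) ≤ C(P)` then `P = ⊥`
(Burnside transfer).
-/

namespace Cfsg.Agent.Lib.helper70.BRP

/-- Burnside transfer: in a perfect group a Sylow `p`-subgroup with `N(P) ≤ C(P)` is trivial. -/
theorem sylow_eq_bot_of_perfect {H : Type*} [Group H] [Finite H] (hperf : commutator H = ⊤)
    (p : ℕ) [Fact p.Prime] (P : Sylow p H)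
    (hP : Subgroup.normalizer (P : Set H) ≤ Subgroup.centralizer (P : Set H)) :
    (P : Subgroup H) = ⊥ := by
  classical
  have hcompl := MonoidHom.ker_transferSylow_isComplement' P hP
  have hab : ∀ a b : (P : Subgroup H), a * b = b * a := fun a b =>
    Subtype.ext (hP (Subgroup.le_normalizer b.2) a a.2)
  letI : CommGroup (P : Subgroup H) := { (inferInstance : Group (P : Subgroup H)) with
    mul_comm := hab }
  have hker : (MonoidHom.transferSylow P hP).ker = ⊤ := by
    have h1 : commutator H ≤ (MonoidHom.transferSylow P hP).ker :=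
      Abelianization.commutator_subset_ker (MonoidHom.transferSylow P hP)
    rw [hperf] at h1
    exact top_le_iff.mp h1
  have hdisj := hcompl.disjoint
  rw [hker] at hdisj
  exact disjoint_top.mp hdisj.symm |> fun h => by simpa using h

end Cfsg.Agent.Lib.helper70.BRP

namespace Cfsg.Agent.Lib.helper21.BRP

/-- Q2: a perfect group has no normal Sylow subgroup of prime order. -/
theorem perfect_sylow_not_normal {H : Type*} [Group H] [Finite H] (hperf : commutator H = ⊤)
    (p : ℕ) [Fact p.Prime] (Q : Sylow p H) (hQ : Nat.card Q = p) :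
    ¬ (Q : Subgroup H).Normal := by
  classical
  intro hn
  have hp : p.Prime := Fact.out
  haveI : (Q : Subgroup H).Normal := hn
  -- `Q` is cyclic of prime order
  haveI : IsCyclic (Q : Subgroup H) := isCyclic_of_prime_card hQ
  -- the conjugation action `H →* MulAut Q →* (ZMod p)ˣ` is trivial
  let f : H →* (ZMod (Nat.card (Q : Subgroup H)))ˣ :=
    (IsCyclic.mulAutMulEquiv (Q : Subgroup H)).toMonoidHom.comp
      (MulAut.conjNormal (H := (Q : Subgroup H)))
  have hf : f.ker = ⊤ := by
    have h1 : commutator H ≤ f.ker := Abelianization.commutator_subset_ker f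
    rw [hperf] at h1
    exact top_le_iff.mp h1
  have hcent : ∀ g : H, ∀ x ∈ (Q : Subgroup H), g * x * g⁻¹ = x := by
    intro g x hx
    have hg : g ∈ f.ker := by rw [hf]; exact Subgroup.mem_top g
    rw [MonoidHom.mem_ker] at hg
    have h2 : (MulAut.conjNormal (H := (Q : Subgroup H)) g) = 1 := by
      have h3 : (IsCyclic.mulAutMulEquiv (Q : Subgroup H))
          (MulAut.conjNormal (H := (Q : Subgroup H)) g) = 1 := hg
      exact (MulEquiv.map_eq_one_iff _).mp h3
    have h4 := MulAut.conjNormal_apply (H := (Q : Subgroup H)) g ⟨x, hx⟩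
    rw [h2] at h4
    simpa using h4.symm
  have hP : Subgroup.normalizer ((Q : Subgroup H) : Set H) ≤
      Subgroup.centralizer ((Q : Subgroup H) : Set H) := by
    intro g _
    rw [Subgroup.mem_centralizer_iff]
    intro x hx
    have := hcent g x hx
    -- x * g = g * x
    calc x * g = (g * x * g⁻¹) * g := by rw [this]
      _ = g * x := by group
  have hbot := Cfsg.Agent.Lib.helper70.BRP.sylow_eq_bot_of_perfect hperf p Q hP
  have hc1 : Nat.card (Q : Subgroup H) = 1 := by rw [hbot]; exact Subgroup.card_bot
  have : p = 1 := by rw [← hQ]; exact hc1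
  exact hp.one_lt.ne' this

end Cfsg.Agent.Lib.helper21.BRP
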