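import Mathlib
import Cfsg.Agent.Lib.helper70.BRP_Q2

set_option autoImplicit false
set_option maxHeartbeats 400000

/-!
# S4701 piece Q2b (helper70): a perfect group of even order has order divisible by 4
-/

namespace Cfsg.Agent.Lib.helper21.BRP

/-- Q2b: a perfect group of even order has order divisible by 4. -/
theorem perfect_four_dvd {H : Type*} [Group H] [Finite H] (hperf : commutator H = ⊤)
    (h2 : 2 ∣ Nat.card H) : 4 ∣ Nat.card H := by
  classical
  by_contra h4
  haveI : Fact (Nat.Prime 2) := ⟨Nat.prime_two⟩
  obtain ⟨P⟩ : Nonempty (Sylow 2 H) := inferInstance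
  -- the Sylow 2-subgroup has order 2
  have hcard : Nat.card (P : Subgroup H) = 2 := by
    obtain ⟨n, hn⟩ := P.2.exists_card_eq
    have hdvd : Nat.card (P : Subgroup H) ∣ Nat.card H := Subgroup.card_subgroup_dvd_card _
    have hn1 : n ≤ 1 := by
      by_contra hlt
      push Not at hlt
      apply h4
      have h22 : (2 : ℕ) ^ 2 ∣ 2 ^ n := pow_dvd_pow 2 hlt
      rw [← hn] at h22
      exact (by norm_num : (4 : ℕ) = 2 ^ 2) ▸ h22.trans hdvd
    have hn0 : n ≠ 0 := by
      intro h0
      subst h0
      have hbot : (P : Subgroup H) = ⊥ := Subgroup.card_eq_one.mp (by simpa using hn)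
      have hnd := P.not_dvd_index
      rw [hbot, Subgroup.index_bot] at hnd
      exact hnd h2
    have : n = 1 := by omega
    subst this
    simpa using hn
  -- hence `N(P) ≤ C(P)`
  have huniq := (Nat.card_eq_two_iff' (1 : (P : Subgroup H))).mp hcard
  have hP : Subgroup.normalizer ((P : Subgroup H) : Set H) ≤
      Subgroup.centralizer ((P : Subgroup H) : Set H) := by
    intro g hg
    rw [Subgroup.mem_centralizer_iff]
    intro x hx
    by_cases hx1 : x = 1
    · subst hx1; simp
    · have hgx : g * x * g⁻¹ ∈ (P : Subgroup H) :=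
        (Subgroup.mem_normalizer_iff.mp hg x).mp hx
      have hgx1 : g * x * g⁻¹ ≠ 1 := by
        intro h
        apply hx1
        have : x = g⁻¹ * (g * x * g⁻¹) * g := by group
        rw [this, h]; group
      have e1 : (⟨g * x * g⁻¹, hgx⟩ : (P : Subgroup H)) = ⟨x, hx⟩ := by
        apply huniq.unique
        · intro h; exact hgx1 (by simpa using congrArg Subtype.val h)
        · intro h; exact hx1 (by simpa using congrArg Subtype.val h)
      have e2 : g * x * g⁻¹ = x := congrArg Subtype.val e1
      calc x * g = (g * x * g⁻¹) * g := by rw [e2]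
        _ = g * x := by group
  have hbot := Cfsg.Agent.Lib.helper70.BRP.sylow_eq_bot_of_perfect hperf 2 P hP
  rw [hbot, Subgroup.card_bot] at hcard
  exact absurd hcard (by norm_num)

end Cfsg.Agent.Lib.helper21.BRP
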