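import Mathlib
import Cfsg.Agent.Lib.helper70.BRP_Q2

set_option autoImplicit false
set_option maxHeartbeats 400000

/-!
# S4701 piece Q4b (helper70): a minimal normal subgroup of order divisible by `p` in a perfect
group with Sylow `p`-subgroups of order `p` is perfect
-/

namespace Cfsg.Agent.Lib.helper21.BRP

/-- Q4b -/
theorem minimal_normal_perfect {G : Type*} [Group G] [Finite G] (hperf : commutator G = ⊤)
    (p : ℕ) [Fact p.Prime] (hp2 : ¬ p ^ 2 ∣ Nat.card G)
    (A : Subgroup G) [A.Normal]
    (hmin : ∀ B : Subgroup G, B.Normal → B ≤ A → B = ⊥ ∨ B = A) (hpA : p ∣ Nat.card A) :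
    commutator A = ⊤ := by
  classical
  have hp : p.Prime := Fact.out
  have hBn : (⁅A, A⁆ : Subgroup G).Normal := inferInstance
  have hBle : (⁅A, A⁆ : Subgroup G) ≤ A := Subgroup.commutator_le_left A A
  rcases hmin _ hBn hBle with hB | hB
  · exfalso
    -- `A` is abelian
    have hcomm : ∀ a ∈ A, ∀ b ∈ A, a * b = b * a := by
      intro a ha b hb
      have h1 := Subgroup.commutator_eq_bot_iff_le_centralizer.mp hB
      have := h1 ha
      rw [Subgroup.mem_centralizer_iff] at this
      exact (this b hb).symm
    -- the subgroup of elements of `A` of order dividing `p`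
    let P : Subgroup G :=
      { carrier := {a | a ∈ A ∧ a ^ p = 1}
        mul_mem' := by
          rintro a b ⟨ha, hap⟩ ⟨hb, hbp⟩
          refine ⟨A.mul_mem ha hb, ?_⟩
          have hc : Commute a b := hcomm a ha b hb
          rw [hc.mul_pow, hap, hbp, one_mul]
        one_mem' := ⟨A.one_mem, one_pow p⟩
        inv_mem' := by
          rintro a ⟨ha, hap⟩
          exact ⟨A.inv_mem ha, by rw [inv_pow, hap, inv_one]⟩ }
    have hPmem : ∀ a, a ∈ P ↔ a ∈ A ∧ a ^ p = 1 := fun a => Iff.rfl
    have hPn : P.Normal := by
      constructor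
      intro a ha g
      rw [hPmem] at ha ⊢
      refine ⟨‹A.Normal›.conj_mem a ha.1 g, ?_⟩
      rw [conj_pow, ha.2]; group
    have hPp : IsPGroup p P := by
      intro a
      refine ⟨1, ?_⟩
      have := ((hPmem a.1).mp a.2).2
      apply Subtype.ext
      simpa using this
    -- `P` is nontrivial by Cauchy
    obtain ⟨x, hx⟩ := exists_prime_orderOf_dvd_card' p hpA
    have hxP : (x : G) ∈ P := by
      rw [hPmem]
      refine ⟨x.2, ?_⟩
      have : x ^ p = 1 := by rw [← hx]; exact pow_orderOf_eq_one x
      simpa using congrArg Subtype.val this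
    have hx1 : (x : G) ≠ 1 := by
      intro h
      have : x = 1 := Subtype.ext h
      rw [this, orderOf_one] at hx
      exact hp.one_lt.ne hx
    -- a Sylow `p`-subgroup `Q` of `G` containing `P`
    obtain ⟨Q, hPQ⟩ := hPp.exists_le_sylow
    obtain ⟨n, hn⟩ := Q.2.exists_card_eq
    have hQdvd : Nat.card (Q : Subgroup G) ∣ Nat.card G := Subgroup.card_subgroup_dvd_card _
    have hn1 : n ≤ 1 := by
      by_contra hlt
      push Not at hlt
      apply hp2
      have h22 : p ^ 2 ∣ p ^ n := pow_dvd_pow p hlt
      rw [← hn] at h22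
      exact h22.trans hQdvd
    have hQP : (Q : Subgroup G) ≤ P := by
      -- `|Q| ≤ p ≤ |P|`
      have hPcard : p ≤ Nat.card P := by
        obtain ⟨m, hm⟩ := hPp.exists_card_eq
        have hm0 : m ≠ 0 := by
          intro h0
          subst h0
          have hbot : P = ⊥ := Subgroup.card_eq_one.mp (by simpa using hm)
          rw [hbot, Subgroup.mem_bot] at hxP
          exact hx1 hxP
        rw [hm]
        calc p = p ^ 1 := (pow_one p).symm
          _ ≤ p ^ m := Nat.pow_le_pow_right hp.pos (Nat.one_le_iff_ne_zero.mpr hm0)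
      have hQcard : Nat.card (Q : Subgroup G) ≤ p := by
        rw [hn]
        calc p ^ n ≤ p ^ 1 := Nat.pow_le_pow_right hp.pos hn1
          _ = p := pow_one p
      have hle : Nat.card (Q : Subgroup G) ≤ Nat.card P := hQcard.trans hPcard
      exact (Subgroup.eq_of_le_of_card_ge hPQ hle).ge
    have hQeq : (Q : Subgroup G) = P := le_antisymm hQP hPQ
    have hQn : (Q : Subgroup G).Normal := hQeq ▸ hPn
    have hQcard : Nat.card (Q : Subgroup G) = p := by
      have hn0 : n ≠ 0 := by
        intro h0
        subst h0
        have hbot : (Q : Subgroup G) = ⊥ := Subgroup.card_eq_one.mp (by simpa using hn)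
        have : (x : G) ∈ (Q : Subgroup G) := hPQ hxP
        rw [hbot, Subgroup.mem_bot] at this
        exact hx1 this
      have : n = 1 := by omega
      subst this
      simpa using hn
    exact perfect_sylow_not_normal hperf p Q hQcard hQn
  · have h1 : (commutator A).map A.subtype = (⊤ : Subgroup A).map A.subtype := by
      rw [Subgroup.map_subtype_commutator, hB, ← MonoidHom.range_eq_map, Subgroup.range_subtype]
    exact Subgroup.map_injective A.subtype_injective h1

end Cfsg.Agent.Lib.helper21.BRP
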