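import Mathlib
import Cfsg.Agent.Lib.helper70.BRP_Q2b
import Cfsg.Agent.Lib.helper70.BRP_Q4b
import Cfsg.Agent.Lib.helper5.BRP_Q4

set_option autoImplicit false
set_option maxHeartbeats 400000

/-!
# S4701 piece Q5 (helper70): structure of perfect groups of order `< p^3` with Sylow
`p`-subgroups of order `p` (strong induction on the order)
-/

namespace Cfsg.Agent.Lib.helper70.BRP

/-- a quotient of a perfect group is perfect. -/
theorem perfect_quot {G : Type*} [Group G] (hperf : commutator G = ⊤) (N : Subgroup G)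
    [N.Normal] : commutator (G ⧸ N) = ⊤ := by
  have h1 : Subgroup.map (QuotientGroup.mk' N) (⊤ : Subgroup G) = ⊤ := by
    rw [← MonoidHom.range_eq_map]
    exact MonoidHom.range_eq_top.mpr (QuotientGroup.mk'_surjective N)
  rw [commutator_def] at hperf ⊢
  have h2 := Subgroup.map_commutator (⊤ : Subgroup G) ⊤ (QuotientGroup.mk' N)
  rw [hperf, h1] at h2
  exact h2.symm

/-- a nontrivial perfect group is not cyclic. -/
theorem not_cyclic_of_perfect {G : Type*} [Group G] [Nontrivial G] (hperf : commutator G = ⊤) :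
    ¬ IsCyclic G := by
  intro hc
  have hab : commutator G = ⊥ := by
    rw [commutator_eq_bot_iff_center_eq_top]
    letI := hc.commGroup
    exact CommGroup.center_eq_top
  rw [hab] at hperf
  exact bot_ne_top hperf

/-- if `p ∣ |G|`, `Z ≤ G` of order `≤ 2` and `p ≥ 3` then `p ∣ |G ⧸ Z|`. -/
theorem dvd_card_quot {G : Type*} [Group G] [Finite G] (p : ℕ) (hp : p.Prime) (hp3 : 3 ≤ p)
    (hp1 : p ∣ Nat.card G) (Z : Subgroup G) (hZ : Nat.card Z ≤ 2) :
    p ∣ Nat.card (G ⧸ Z) := by
  have h1 : Nat.card G = Nat.card (G ⧸ Z) * Nat.card Z :=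
    Subgroup.card_eq_card_quotient_mul_card_subgroup Z
  rw [h1] at hp1
  rcases (Nat.Prime.dvd_mul hp).mp hp1 with h | h
  · exact h
  · exfalso
    have hpos : 0 < Nat.card Z := Nat.card_pos
    have := Nat.le_of_dvd hpos h
    omega

end Cfsg.Agent.Lib.helper70.BRP

namespace Cfsg.Agent.Lib.helper21.BRP

universe u

open Cfsg.Agent.Lib.helper70.BRP in
/-- Q5: structure of perfect groups of order `< p^3` with Sylow `p`-subgroups of order `p`
(strong induction on the order; `hBR` is S0999 + Q1). -/
theorem perfect_structure (p : ℕ) [Fact p.Prime]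
    (hBR : ∀ (H : Type u) [Group H] [Finite H] [IsSimpleGroup H], ¬ IsCyclic H →
      p ∣ Nat.card H → Nat.card H < p ^ 3 → p ^ 3 < 3 * Nat.card H)
    (G : Type u) [Group G] [Finite G] (hperf : commutator G = ⊤) (hp1 : p ∣ Nat.card G)
    (hp2 : ¬ p ^ 2 ∣ Nat.card G) (hbig : Nat.card G < p ^ 3) :
    ∃ (Z : Subgroup G) (_ : Z.Normal), Nat.card Z ≤ 2 ∧ IsSimpleGroup (G ⧸ Z) := by
  classical
  have hp : p.Prime := Fact.out
  suffices H : ∀ n : ℕ, ∀ (G : Type u) [Group G] [Finite G], Nat.card G = n →
      commutator G = ⊤ → p ∣ Nat.card G → ¬ p ^ 2 ∣ Nat.card G → Nat.card G < p ^ 3 →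
      ∃ (Z : Subgroup G) (_ : Z.Normal), Nat.card Z ≤ 2 ∧ IsSimpleGroup (G ⧸ Z) from
    H _ G rfl hperf hp1 hp2 hbig
  intro n
  induction n using Nat.strong_induction_on with
  | _ n ih =>
    intro G _ _ hn hperf hp1 hp2 hbig
    -- `p ≥ 3`
    have hp3 : 3 ≤ p := by
      have h2 : p ≠ 2 := by
        intro h2
        apply hp2
        have h4 := perfect_four_dvd hperf (h2 ▸ hp1)
        rw [h2]
        exact h4
      have := hp.two_le
      omega
    have hGpos : 0 < Nat.card G := Nat.card_pos
    have hGp : p ≤ Nat.card G := Nat.le_of_dvd hGpos hp1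
    haveI hnt : Nontrivial G := Finite.one_lt_card_iff_nontrivial.mp (by omega)
    by_cases hs : IsSimpleGroup G
    · refine ⟨⊥, inferInstance, ?_, ?_⟩
      · rw [Subgroup.card_bot]; norm_num
      · exact (QuotientGroup.quotientBot (G := G)).isSimpleGroup
    · -- a nontrivial proper normal subgroup
      have hex : ∃ N : Subgroup G, N.Normal ∧ N ≠ ⊥ ∧ N ≠ ⊤ := by
        by_contra hcon
        push Not at hcon
        apply hs
        exact { exists_pair_ne := hnt.exists_pair_ne
                eq_bot_or_eq_top_of_normal := fun N hN => by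
                  by_cases hb : N = ⊥
                  · exact Or.inl hb
                  · exact Or.inr (hcon N hN hb) }
      obtain ⟨N, hNn, hNb, hNt⟩ := hex
      -- a nontrivial normal subgroup of least order
      let S : Set (Subgroup G) := {B | B.Normal ∧ B ≠ ⊥}
      have hSfin : S.Finite := Set.toFinite S
      obtain ⟨A, hAS, hAmin⟩ := Set.exists_min_image S (fun B : Subgroup G => Nat.card B) hSfin
        ⟨N, hNn, hNb⟩
      have hAn : A.Normal := hAS.1
      have hAb : A ≠ ⊥ := hAS.2
      haveI := hAn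
      have hAt : A ≠ ⊤ := by
        intro hA
        apply hNt
        apply Subgroup.eq_top_of_le_card
        have h1 : Nat.card A ≤ Nat.card N := hAmin N ⟨hNn, hNb⟩
        rw [hA, Subgroup.card_top] at h1
        exact h1
      have hmin : ∀ B : Subgroup G, B.Normal → B ≤ A → B = ⊥ ∨ B = A := by
        intro B hB hBA
        by_cases hb : B = ⊥
        · exact Or.inl hb
        · right
          exact Subgroup.eq_of_le_of_card_ge hBA (hAmin B ⟨hB, hb⟩)
      have hAlt : Nat.card A < Nat.card G := by
        by_contra hle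
        push Not at hle
        exact hAt (Subgroup.eq_top_of_le_card A hle)
      have hAdvd : Nat.card A ∣ Nat.card G := Subgroup.card_subgroup_dvd_card A
      have hmul : Nat.card G = Nat.card (G ⧸ A) * Nat.card A :=
        Subgroup.card_eq_card_quotient_mul_card_subgroup A
      by_cases hpA : p ∣ Nat.card A
      · -- case (ii): `A` is perfect; contradiction
        exfalso
        have hAperf : commutator A = ⊤ := minimal_normal_perfect hperf p hp2 A hmin hpA
        obtain ⟨Z, hZn, hZ2, hZs⟩ := ih (Nat.card A) (hn ▸ hAlt) A rfl hAperf hpA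
          (fun h => hp2 (h.trans hAdvd)) (hAlt.trans hbig)
        haveI := hZn
        haveI := hZs
        have hqperf : commutator (A ⧸ Z) = ⊤ := perfect_quot hAperf Z
        have hnc : ¬ IsCyclic (A ⧸ Z) := not_cyclic_of_perfect hqperf
        have hpq : p ∣ Nat.card (A ⧸ Z) := dvd_card_quot p hp hp3 hpA Z hZ2
        have hqle : Nat.card (A ⧸ Z) ≤ Nat.card A := by
          have h1 : Nat.card A = Nat.card (A ⧸ Z) * Nat.card Z :=
            Subgroup.card_eq_card_quotient_mul_card_subgroup Z
          have hpos : 0 < Nat.card Z := Nat.card_pos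
          rw [h1]
          exact Nat.le_mul_of_pos_right _ hpos
        have hsize := hBR (A ⧸ Z) hnc hpq (lt_of_le_of_lt hqle (hAlt.trans hbig))
        exact index_step hperf p hbig A hAt Z hsize
      · -- case (i)
        have hQperf : commutator (G ⧸ A) = ⊤ := perfect_quot hperf A
        have hA2 : 2 ≤ Nat.card A := Cfsg.Agent.Lib.helper5.h5brp_two_le_card A hAb
        have hQpos : 0 < Nat.card (G ⧸ A) := Nat.card_pos
        have hQlt : Nat.card (G ⧸ A) < Nat.card G := by
          rw [hmul]
          nlinarith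
        have hQdvd : Nat.card (G ⧸ A) ∣ Nat.card G := ⟨Nat.card A, hmul⟩
        have hpQ : p ∣ Nat.card (G ⧸ A) := by
          rw [hmul] at hp1
          rcases (Nat.Prime.dvd_mul hp).mp hp1 with h | h
          · exact h
          · exact absurd h hpA
        obtain ⟨Zb, hZbn, hZb2, hZbs⟩ := ih (Nat.card (G ⧸ A)) (hn ▸ hQlt) (G ⧸ A) rfl hQperf hpQ
          (fun h => hp2 (h.trans hQdvd)) (hQlt.trans hbig)
        haveI := hZbn
        haveI := hZbs
        have hHperf : commutator ((G ⧸ A) ⧸ Zb) = ⊤ := perfect_quot hQperf Zb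
        have hnc : ¬ IsCyclic ((G ⧸ A) ⧸ Zb) := not_cyclic_of_perfect hHperf
        have hpH : p ∣ Nat.card ((G ⧸ A) ⧸ Zb) := dvd_card_quot p hp hp3 hpQ Zb hZb2
        have hHle : Nat.card ((G ⧸ A) ⧸ Zb) ≤ Nat.card (G ⧸ A) := by
          have h1 : Nat.card (G ⧸ A) = Nat.card ((G ⧸ A) ⧸ Zb) * Nat.card Zb :=
            Subgroup.card_eq_card_quotient_mul_card_subgroup Zb
          have hpos : 0 < Nat.card Zb := Nat.card_pos
          rw [h1]
          exact Nat.le_mul_of_pos_right _ hpos
        have hsize := hBR ((G ⧸ A) ⧸ Zb) hnc hpH (lt_of_le_of_lt hHle (hQlt.trans hbig))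
        have hfin := quot_step p hbig A hAb Zb hZb2 hZbs hsize
        exact ⟨A, hAn, by omega, hfin.2⟩

end Cfsg.Agent.Lib.helper21.BRP
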