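import Mathlib
import Cfsg.Prelude.Def_Local
import Cfsg.Agent.Lib.helper38.PSolvable
import Cfsg.Agent.Lib.helper28.PLayer
import Cfsg.Agent.Lib.helper40.Cores

set_option autoImplicit false

/-!
# A `G`-normal `p'`-by-`p` section inside a normal `p`-solvable subgroup

`exists_normal_pprime_p_section`: if `H ⊴ G` is `p`-solvable of order divisible by `p`, then
`K = O_{p'}(H)` and `M = O_{p',p}(H)` are normal subgroups of `G` with `K ≤ M ≤ H`, `|K|` prime to
`p` and `|M| = |K| * p ^ (j + 1)`.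
-/

namespace Cfsg.Agent.Lib.helper70

open Subgroup

theorem exists_normal_pprime_p_section {G : Type*} [Group G] [Finite G] (p : ℕ) [Fact p.Prime]
    (H : Subgroup G) [H.Normal] (hsolv : Cfsg.IsPSolvable p H) (hdiv : p ∣ Nat.card H) :
    ∃ K M : Subgroup G, K.Normal ∧ M.Normal ∧ K ≤ M ∧ M ≤ H ∧ (Nat.card K).Coprime p ∧
      ∃ j : ℕ, Nat.card M = Nat.card K * p ^ (j + 1) := by
  have hp : p.Prime := Fact.out
  have hKHn : (Cfsg.pPrimeCore p ↥H).Normal := Cfsg.Agent.Lib.helper40.pPrimeCore_normal' p ↥H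
  have hKHc : (Nat.card (Cfsg.pPrimeCore p ↥H)).Coprime p :=
    Cfsg.Agent.Lib.helper40.pPrimeCore_card_coprime p ↥H
  have hQsolv : Cfsg.IsPSolvable p (↥H ⧸ Cfsg.pPrimeCore p ↥H) :=
    Cfsg.Agent.Lib.helper38.isPSolvable_quotient _ hsolv
  have hQcore : Cfsg.pPrimeCore p (↥H ⧸ Cfsg.pPrimeCore p ↥H) = ⊥ :=
    Cfsg.Agent.Lib.helper38.pPrimeCore_quotient_pPrimeCore p ↥H
  have hQnt : Nontrivial (↥H ⧸ Cfsg.pPrimeCore p ↥H) := by
    by_contra hnt
    rw [not_nontrivial_iff_subsingleton] at hnt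
    have h1 : (Cfsg.pPrimeCore p ↥H).index = 1 := by
      rw [Subgroup.index_eq_card]; exact Nat.card_of_subsingleton 1
    rw [Subgroup.index_eq_one] at h1
    rw [h1, Subgroup.card_top] at hKHc
    exact (hp.coprime_iff_not_dvd.mp hKHc.symm) hdiv
  obtain ⟨N, hNn, hNne, hN⟩ := Cfsg.Agent.Lib.helper38.exists_normal_ne_bot_pgroup_or_pprime hQsolv
  have hCne : Cfsg.pCore p (↥H ⧸ Cfsg.pPrimeCore p ↥H) ≠ ⊥ := by
    rcases hN with hN | hN
    · intro hbot
      have h2 := Cfsg.Agent.Lib.helper40.le_pCore N hNn hN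
      rw [hbot] at h2
      exact hNne (le_bot_iff.mp h2)
    · exfalso
      have h2 := Cfsg.Agent.Lib.helper40.le_pPrimeCore N hNn hN
      rw [hQcore] at h2
      exact hNne (le_bot_iff.mp h2)
  have hCp : IsPGroup p (Cfsg.pCore p (↥H ⧸ Cfsg.pPrimeCore p ↥H)) :=
    Cfsg.Agent.Lib.helper40.pCore_isPGroup p _
  obtain ⟨i, hi⟩ := (IsPGroup.iff_card).mp hCp
  have hi0 : i ≠ 0 := by
    rintro rfl
    rw [pow_zero] at hi
    exact hCne (Subgroup.card_eq_one.mp hi)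
  have hMHcard : Nat.card (Cfsg.pPrimePCore p ↥H) = Nat.card (Cfsg.pPrimeCore p ↥H) * p ^ i := by
    rw [← hi]
    exact QuotientGroup.card_preimage_mk (Cfsg.pPrimeCore p ↥H)
      (Cfsg.pCore p (↥H ⧸ Cfsg.pPrimeCore p ↥H) : Set _)
  have hle : Cfsg.pPrimeCore p ↥H ≤ Cfsg.pPrimePCore p ↥H := by
    intro x hx
    show x ∈ (Cfsg.pCore p (↥H ⧸ Cfsg.pPrimeCore p ↥H)).comap
      (QuotientGroup.mk' (Cfsg.pPrimeCore p ↥H))
    rw [Subgroup.mem_comap]
    have h3 : QuotientGroup.mk' (Cfsg.pPrimeCore p ↥H) x = 1 := (QuotientGroup.eq_one_iff x).mpr hx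
    rw [h3]; exact one_mem _
  refine ⟨(Cfsg.pPrimeCore p ↥H).map H.subtype, (Cfsg.pPrimePCore p ↥H).map H.subtype,
    inferInstance, inferInstance, Subgroup.map_mono hle, Subgroup.map_subtype_le _, ?_, i - 1, ?_⟩
  · rw [Subgroup.card_map_of_injective H.subtype_injective]; exact hKHc
  · rw [Subgroup.card_map_of_injective H.subtype_injective,
      Subgroup.card_map_of_injective H.subtype_injective, hMHcard]
    congr 2; omega

end Cfsg.Agent.Lib.helper70
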