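import Cfsg.Agent.Lib.helper95.APDefs

/-!
# S2276 piece M3A (helper70): two 3-cycles on 5 points form a `GoodBoth 3` pair.
Self-contained (own copy `h70_perf` of the perfectness certificate).
-/

set_option autoImplicit false

namespace Cfsg.Agent.Lib.helper95.AP

open Equiv
open scoped commutatorElement

/-- perfectness certificate of non-solvability (racer copy of PERF) -/
theorem h70_perf {G : Type*} [Group G] (a b : G) (ha1 : a ≠ 1) (xa ya xb yb : G)
    (hxa : xa ∈ Subgroup.closure ({a, b} : Set G)) (hya : ya ∈ Subgroup.closure ({a, b} : Set G))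
    (hxb : xb ∈ Subgroup.closure ({a, b} : Set G)) (hyb : yb ∈ Subgroup.closure ({a, b} : Set G))
    (ha : a = xa * ya * xa⁻¹ * ya⁻¹) (hb : b = xb * yb * xb⁻¹ * yb⁻¹) :
    ¬ Group.IsSolvable ↥(Subgroup.closure ({a, b} : Set G)) := by
  intro hsol
  have haK : a ∈ Subgroup.closure ({a, b} : Set G) := Subgroup.subset_closure (by simp)
  have hbK : b ∈ Subgroup.closure ({a, b} : Set G) := Subgroup.subset_closure (by simp)
  have : Nontrivial ↥(Subgroup.closure ({a, b} : Set G)) := by
    refine ⟨⟨⟨a, haK⟩, 1, ?_⟩⟩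
    intro h
    exact ha1 (congrArg Subtype.val h)
  have hlt := Group.IsSolvable.commutator_lt_top_of_nontrivial
    ↥(Subgroup.closure ({a, b} : Set G))
  apply (lt_top_iff_ne_top.mp hlt)
  -- the commutator subgroup contains the generators
  have hcomm : ∀ x y : ↥(Subgroup.closure ({a, b} : Set G)),
      x * y * x⁻¹ * y⁻¹ ∈ commutator ↥(Subgroup.closure ({a, b} : Set G)) := by
    intro x y
    have h1 : ⁅x, y⁆ ∈ commutator ↥(Subgroup.closure ({a, b} : Set G)) := by
      rw [commutator_def]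
      exact Subgroup.commutator_mem_commutator (Subgroup.mem_top _) (Subgroup.mem_top _)
    rw [commutatorElement_def] at h1
    exact h1
  have haC : (⟨a, haK⟩ : ↥(Subgroup.closure ({a, b} : Set G))) ∈
      commutator ↥(Subgroup.closure ({a, b} : Set G)) := by
    have h := hcomm ⟨xa, hxa⟩ ⟨ya, hya⟩
    have e : (⟨a, haK⟩ : ↥(Subgroup.closure ({a, b} : Set G))) =
        (⟨xa, hxa⟩ : ↥(Subgroup.closure ({a, b} : Set G))) * ⟨ya, hya⟩ *
          (⟨xa, hxa⟩ : ↥(Subgroup.closure ({a, b} : Set G)))⁻¹ *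
          (⟨ya, hya⟩ : ↥(Subgroup.closure ({a, b} : Set G)))⁻¹ := Subtype.ext ha
    rw [e]
    exact h
  have hbC : (⟨b, hbK⟩ : ↥(Subgroup.closure ({a, b} : Set G))) ∈
      commutator ↥(Subgroup.closure ({a, b} : Set G)) := by
    have h := hcomm ⟨xb, hxb⟩ ⟨yb, hyb⟩
    have e : (⟨b, hbK⟩ : ↥(Subgroup.closure ({a, b} : Set G))) =
        (⟨xb, hxb⟩ : ↥(Subgroup.closure ({a, b} : Set G))) * ⟨yb, hyb⟩ *
          (⟨xb, hxb⟩ : ↥(Subgroup.closure ({a, b} : Set G)))⁻¹ *
          (⟨yb, hyb⟩ : ↥(Subgroup.closure ({a, b} : Set G)))⁻¹ := Subtype.ext hb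
    rw [e]
    exact h
  -- hence the commutator subgroup is everything
  rw [eq_top_iff]
  intro z _
  have hz : (z : G) ∈ (commutator ↥(Subgroup.closure ({a, b} : Set G))).map
      (Subgroup.subtype _) := by
    have hle : Subgroup.closure ({a, b} : Set G) ≤
        (commutator ↥(Subgroup.closure ({a, b} : Set G))).map (Subgroup.subtype _) := by
      rw [Subgroup.closure_le]
      intro g hg
      rcases hg with rfl | hg
      · exact ⟨⟨g, haK⟩, haC, rfl⟩
      · have hg' : g = b := hg
        subst hg'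
        exact ⟨⟨g, hbK⟩, hbC, rfl⟩
    exact hle z.2
  obtain ⟨w, hw, hwz⟩ := hz
  have : w = z := Subtype.ext hwz
  rw [← this]
  exact hw

set_option maxRecDepth 100000 in
/-- [M3A] two 3-cycles on 5 points; uses PERF -/
theorem m3a : ∃ a b : Perm (Fin 5), a.cycleType = {3} ∧ b.cycleType = {3} ∧ GoodBoth 3 a b := by
  -- a = (0 1 2), b = (2 3 4)
  let a : Perm (Fin 5) := swap 0 2 * swap 0 1
  let b : Perm (Fin 5) := swap 2 4 * swap 2 3
  have hgood : Good 3 a b := by
    refine ⟨?_, ?_⟩
    · rintro ⟨k, hk⟩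
      have h5 : orderOf (a * b) = 5 := by
        have : Fact (Nat.Prime 5) := ⟨by norm_num⟩
        exact orderOf_eq_prime (by decide) (by decide)
      rw [h5] at hk
      have h3 : (3 : ℕ) ∣ 5 ∨ k = 0 := by
        rcases Nat.eq_zero_or_pos k with h | h
        · exact Or.inr h
        · left
          rw [hk]
          exact dvd_pow_self 3 (by omega)
      rcases h3 with h | h
      · omega
      · subst h
        norm_num at hk
    · have haK : a ∈ Subgroup.closure ({a, b} : Set (Perm (Fin 5))) :=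
        Subgroup.subset_closure (by simp)
      have hbK : b ∈ Subgroup.closure ({a, b} : Set (Perm (Fin 5))) :=
        Subgroup.subset_closure (by simp)
      have hai := Subgroup.inv_mem _ haK
      have hbi := Subgroup.inv_mem _ hbK
      refine h70_perf a b (by decide) a⁻¹ (b * a * b⁻¹ * a⁻¹ * b) b⁻¹ (a * b * a⁻¹ * b⁻¹ * a)
        hai ?_ hbi ?_ (by decide) (by decide)
      · exact Subgroup.mul_mem _ (Subgroup.mul_mem _ (Subgroup.mul_mem _
          (Subgroup.mul_mem _ hbK haK) hbi) hai) hbK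
      · exact Subgroup.mul_mem _ (Subgroup.mul_mem _ (Subgroup.mul_mem _
          (Subgroup.mul_mem _ haK hbK) hai) hbi) haK
  refine ⟨a, b, ?_, ?_, hgood, swap 0 1, ?_, ?_⟩
  · exact Equiv.Perm.isThreeCycle_swap_mul_swap_same (by decide) (by decide) (by decide)
  · exact Equiv.Perm.isThreeCycle_swap_mul_swap_same (by decide) (by decide) (by decide)
  · exact Equiv.Perm.sign_swap (by decide)
  · have e : swap (0 : Fin 5) 1 * b * (swap (0 : Fin 5) 1)⁻¹ = b := by decide
    rw [e]
    exact hgood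

end Cfsg.Agent.Lib.helper95.AP
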