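import Mathlib
import Cfsg.Agent.Lib.helper70.BG8PAR

/-!
# S1421, piece PAR for a subgroup `U ≤ E` (helper70; requested by helper60 for S1360)

`bg8_exists_invariant_line_sub`: the statement of piece PAR with an arbitrary subgroup `U ≤ E` as the
acting group (the regularity hypothesis is only needed for the `τ₁ ∪ τ₃`-elements of `U`).
-/

set_option autoImplicit false

namespace Cfsg.Agent.Lib.helper70

open Cfsg Cfsg.Agent.Lib.helper97 Cfsg.Agent.Lib.helper8 Cfsg.Agent.Lib.helper70.BG8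

variable {G : Type*} [Group G]

/-- Piece PAR of S1421 for an arbitrary subgroup `U ≤ E` as the acting group. -/
theorem bg8_exists_invariant_line_sub [Finite G] (hG : IsMinSimpleOddOrder G)
    (h27 : BG8PrimeHyp G)
    {M E A : Subgroup G} {p : ℕ} [Fact p.Prime] {S : Sylow p G} (c : BG8Ctx M E A p S)
    (U : Subgroup G) (hUE : U ≤ E)
    (hreg : ∀ e ∈ U, e ≠ 1 → (∀ q : ℕ, q.Prime → q ∣ orderOf e → q ∈ tau1 M ∪ tau3 M) →
      BG8Reg M e)
    (hSE : (S : Subgroup G) ≤ E)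
    (hNS : Subgroup.normalizer (A : Set G) ≤ Subgroup.normalizer ((S : Subgroup G) : Set G)) :
    ∃ Y : Subgroup G, Y ≤ A ∧ Nat.card Y = p ∧ U ≤ Subgroup.normalizer (Y : Set G) := by
  by_contra hno
  have hp : p.Prime := Fact.out
  obtain ⟨hodd, -, -, hsolv⟩ := id hG
  have h16 : BGTwelveFourHyp G := fun M hM p _ A hA => Cfsg.Agent.S1416.result hG M hM p A hA
  have h17 : BG7FiveHyp G := fun M hM p _ hp A hA => Cfsg.Agent.S1417.result hG M hM p hp A hA
  have h18 : BG7SixHyp G := bg7_six_of hG h16 h17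
  have hU : BGUniqHyp G := fun K hK h1 h2 => Cfsg.Agent.S1403.result hG K hK h1 h2
  have hF : BGFusHyp G := by
    intro M hM p hp X hXp hX1 hXM g hg
    have : Fact p.Prime := ⟨hp.1⟩
    exact (Cfsg.Agent.S1404.result hG M hM p hp X hXp hX1 hXM).1 g hg
  obtain ⟨hM, hE, hpτ, hA, hSab, hAS⟩ := c
  obtain ⟨hAE, hAe, hAc⟩ := hA
  have hEM : E ≤ M := hE.1
  have hAM : A ≤ M := hAE.trans hEM
  obtain ⟨hnil, -, -, hcA, -, -⟩ := h17 M hM p hpτ A ⟨hAM, hAe, hAc⟩
  obtain ⟨⟨hEA, -⟩, ⟨hCA, hMN, -⟩, -⟩ := h18 M hM E hE p hpτ A ⟨hAE, hAe, hAc⟩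
  have hCE : Subgroup.centralizer (A : Set G) ≤ E := hMN ▸ hCA
  have hES : E ≤ Subgroup.normalizer ((S : Subgroup G) : Set G) := hEA.trans hNS
  have hAab : ∀ a ∈ A, ∀ b ∈ A, a * b = b * a := fun a ha b hb =>
    congrArg Subtype.val (hAe.1.is_comm.comm ⟨a, ha⟩ ⟨b, hb⟩)
  have hSA : (S : Subgroup G) ≤ Subgroup.centralizer (A : Set G) := by
    intro s hs
    rw [Subgroup.mem_centralizer_iff]
    intro a ha
    exact hSab a (hAS ha) s hs
  have hMtop : M ≠ ⊤ := hM.1
  have hEsolv : Group.IsSolvable E := hsolv E (fun h => hMtop (top_le_iff.mp (h ▸ hEM)))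
  have hcomm := bg8par_comm hodd p A E S hAe hAc hEsolv hEA hES hSA
  have hcommU : ∀ x ∈ U, ∀ y ∈ U, x * y * x⁻¹ * y⁻¹ ∈ Subgroup.centralizer (A : Set G) :=
    fun x hx y hy => hcomm x (hUE hx) y (hUE hy)
  obtain ⟨e, heU, r, hr, k, hek, heS, hline⟩ :=
    exists_irred_prime_power p A U hAc hAab (hUE.trans hEA) hcommU hno
  have heE : e ∈ E := hUE heU
  have : Fact r.Prime := ⟨hr⟩
  have heN : e ∈ Subgroup.normalizer (A : Set G) := hEA heE
  -- elements of `C(A)` are scalar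
  have hsc : ∀ x ∈ Subgroup.centralizer (A : Set G), IsSc A x := by
    intro x hx
    refine ⟨1, fun a ha => ?_⟩
    have := Subgroup.mem_centralizer_iff.mp hx a ha
    rw [pow_one, ← this, mul_inv_cancel_right]
  have heC : e ∉ Subgroup.centralizer (A : Set G) := fun h => heS (hsc e h)
  have he1 : e ≠ 1 := by
    rintro rfl
    exact heS (isSc_one A)
  have hk0 : k ≠ 0 := by
    rintro rfl
    rw [pow_zero] at hek
    exact he1 (orderOf_eq_one_iff.mp hek)
  have hepow : e ^ r ^ k = 1 := by rw [← hek]; exact pow_orderOf_eq_one e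
  have hzr : IsPGroup r (Subgroup.zpowers e) := bg8par_isPGroup_zpowers e k hepow
  have hzE : Subgroup.zpowers e ≤ E := by rw [Subgroup.zpowers_le]; exact heE
  -- `r ≠ p`
  have hrp : r ≠ p := by
    rintro rfl
    have hz : Subgroup.zpowers e ≤ (S : Subgroup G) :=
      Cfsg.Agent.Lib.helper60.BGTau2Ab.le_sylow_of_le_normalizer S hzr (hzE.trans hES)
    exact heC (hSA (hz (Subgroup.mem_zpowers e)))
  -- `r ∉ τ₂(M)`
  have hrτ : r ∉ tau2 M := by
    intro hrτ
    have := Cfsg.Agent.Lib.helper60.BGTau2Ab.pgroup_centralizes_tau2 hG h17 h18 M hM E hE p r hrp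
      hpτ hrτ A ⟨hAE, hAe, hAc⟩ (Subgroup.zpowers e) hzE hzr
    exact heC (this (Subgroup.mem_zpowers e))
  have hrE : r ∣ Nat.card E := by
    have h1 : r ∣ orderOf e := by rw [hek]; exact dvd_pow_self r hk0
    exact h1.trans (Subgroup.orderOf_dvd_natCard E heE)
  have hrσ : r ∉ sigma M :=
    Cfsg.Agent.Lib.helper60.BGTau2Ab.not_mem_sigma_of_dvd_card_compl hG M hM E hE r hr hrE
  have hr1 : PRankLE r 1 M := by
    by_contra h
    exact hrτ (Cfsg.Agent.Lib.helper60.BGTau2Ab.mem_tau2_of_dvd_card_compl hG M hM E hE r hr hrE h)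
  have hr13 : r ∈ tau1 M ∪ tau3 M := by
    have hrM : r ∣ Nat.card M := hrE.trans (Subgroup.card_dvd_of_le hEM)
    by_cases h : r ∣ Nat.card ↥⁅M, M⁆
    · right; exact ⟨hr, hrσ, h, hr1⟩
    · left; exact ⟨hr, hrσ, hrM, h, hr1⟩
  -- `e' := e ^ (r ^ (k - 1))` has order `r`
  obtain ⟨k', rfl⟩ : ∃ k', k = k' + 1 := Nat.exists_eq_succ_of_ne_zero hk0
  have he'o : orderOf (e ^ r ^ k') = r := by
    rw [orderOf_pow_of_dvd (pow_ne_zero _ hr.ne_zero)
      (by rw [hek]; exact pow_dvd_pow r (Nat.le_succ k')), hek, pow_succ]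
    exact Nat.mul_div_cancel_left r (pow_pos hr.pos k')
  have he'E : e ^ r ^ k' ∈ E := E.pow_mem heE _
  have he'1 : e ^ r ^ k' ≠ 1 := by
    intro h
    rw [h, orderOf_one] at he'o
    exact hr.ne_one he'o.symm
  have he'reg : BG8Reg M (e ^ r ^ k') := by
    apply hreg _ (U.pow_mem heU _) he'1
    intro q hq hqd
    rw [he'o] at hqd
    rw [(Nat.prime_dvd_prime_iff_eq hq hr).mp hqd]
    exact hr13
  have he'e : e ^ r ^ k' * e = e * e ^ r ^ k' := ((Commute.refl e).pow_left _).eq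
  have he'C : e ^ r ^ k' ∈ Subgroup.centralizer (A : Set G) := by
    rcases bg8par_cent_dichotomy p A hAc e heN hline _ he'e with h | h
    · exfalso
      obtain ⟨a, ha, ha1, hxa⟩ :=
        bg8par_frob hG M E A hM hE hAE hEA hcA _ he'E r hr he'o he'reg
      exact ha1 (h a ha hxa)
    · exact h
  -- a maximal subgroup `L` over `N_G(A)`
  have hA1 : A ≠ ⊥ := by
    intro h
    rw [h, Subgroup.card_bot] at hAc
    have := hp.two_le
    nlinarith
  have hAtop : A ≠ ⊤ := fun h => hMtop (top_le_iff.mp (h ▸ hAM))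
  have hNtop := bg7_normalizer_ne_top hG hA1 hAtop
  obtain ⟨L, hL, hNL⟩ :=
    (eq_top_or_exists_le_coatom (Subgroup.normalizer (A : Set G))).resolve_left hNtop
  have hpL : p ∈ sigma L := bg7_mem_sigma_of_normalizer_le hG h17 L hL p A hAe hAc hNL
  have hEL : E ≤ L := hEA.trans hNL
  have hSL : (S : Subgroup G) ≤ sigmaCore L :=
    bg_pgroup_le_sigmaCore hG hU hF L hL hpL S (hSE.trans hEL) S.isPGroup'
  have hAσL : A ≤ sigmaCore L := hAS.trans hSL
  have hpσ : p ∉ sigma M := hpτ.2.1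
  have hnid : ¬ IsIdealPrime p G :=
    (Cfsg.Agent.S1408.result hG M hM p hpσ hpτ.2.2.1 hpτ.2.2.2).1
  have hzL : Subgroup.zpowers e ≤ L := hzE.trans hEL
  -- `r ∉ σ(L)`
  have hrL : r ∉ sigma L := by
    intro hrL
    have hzσ : Subgroup.zpowers e ≤ sigmaCore L :=
      bg_pgroup_le_sigmaCore hG hU hF L hL hrL _ hzL hzr
    have heσ : e ∈ sigmaCore L := hzσ (Subgroup.mem_zpowers e)
    obtain ⟨-, -, -, -, h14⟩ := Cfsg.Agent.S1414.result hG L hL
    obtain ⟨-, ⟨P, T, hTn, hTP⟩, -⟩ := h14 p hp hpL.2.1 (fun hβ => hnid hβ.2)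
    have hTidx : T.index = Nat.card P := hTP.symm.index_eq_card
    obtain ⟨n, hn⟩ := IsPGroup.iff_card.mp P.isPGroup'
    have heT : (⟨e, heσ⟩ : sigmaCore L) ∈ T := by
      apply bg8par_mem_of_pow_mem_coprime T _ T.index (r ^ (k' + 1))
      · rw [hTidx, hn]
        exact Nat.Coprime.pow _ _ ((Nat.coprime_primes hp hr).mpr (Ne.symm hrp))
      · exact Subgroup.pow_index_mem T _
      · have : (⟨e, heσ⟩ : sigmaCore L) ^ r ^ (k' + 1) = 1 := Subtype.ext (by simpa using hepow)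
        rw [this]
        exact T.one_mem
    apply heC
    rw [Subgroup.mem_centralizer_iff]
    intro a ha
    have haσ : a ∈ sigmaCore L := hAσL ha
    have hwA : e * a * e⁻¹ * a⁻¹ ∈ A :=
      A.mul_mem ((Subgroup.mem_normalizer_iff.mp heN a).mp ha) (A.inv_mem ha)
    have hwT : ((⟨e, heσ⟩ : sigmaCore L) * (⟨a, haσ⟩ * (⟨e, heσ⟩ : sigmaCore L)⁻¹ * ⟨a, haσ⟩⁻¹))
        ∈ T := T.mul_mem heT (hTn.conj_mem _ (T.inv_mem heT) _)
    have hw1 : e * a * e⁻¹ * a⁻¹ = 1 := by
      have hwp : (e * a * e⁻¹ * a⁻¹) ^ p = 1 := hAe.2 _ hwA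
      generalize hwdef : ((⟨e, heσ⟩ : sigmaCore L) *
        (⟨a, haσ⟩ * (⟨e, heσ⟩ : sigmaCore L)⁻¹ * ⟨a, haσ⟩⁻¹)) = w at hwT
      have hwval : (w : G) = e * a * e⁻¹ * a⁻¹ := by
        rw [← hwdef]
        simp [mul_assoc]
      have hwp' : w ^ p = 1 := Subtype.ext (by rw [Subgroup.coe_pow, hwval, hwp]; rfl)
      have ho1 : orderOf w ∣ p := orderOf_dvd_of_pow_eq_one hwp'
      have ho2 : orderOf w ∣ Nat.card T := Subgroup.orderOf_dvd_natCard T hwT
      have hpT : ¬ p ∣ Nat.card T := by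
        rw [← hTP.index_eq_card]
        exact P.not_dvd_index
      rcases (Nat.dvd_prime hp).mp ho1 with h | h
      · have := orderOf_eq_one_iff.mp h
        rw [← hwval, this]
        rfl
      · exact absurd (h ▸ ho2) hpT
    have h2 := congrArg (fun t => t * a * e) hw1
    simpa [mul_assoc] using h2.symm
  have hr2L : PRankLE r 2 L := by
    have h5 := Cfsg.Agent.S1405.result hG L hL
    exact Cfsg.Agent.Lib.helper80.BGFit.prankLE_two_of_not_sigma L ⟨h5.1, h5.2.2.1⟩ r hr hrL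
  obtain ⟨EL, hEL', hzEL⟩ := Cfsg.Agent.Lib.helper60.BGCentU.exists_compl_ge hG L hL
    (Subgroup.zpowers e) hzL (by
      intro q hq hqd
      rw [Nat.card_zpowers, hek] at hqd
      rw [(Nat.prime_dvd_prime_iff_eq hq hr).mp (hq.dvd_of_dvd_pow hqd)]
      exact hrL)
  have heEL : e ∈ EL := hzEL (Subgroup.mem_zpowers e)
  -- `L` has `r`-rank 2
  have hr1L : ¬ PRankLE r 1 L := by
    intro hr1L
    have hQ : IsPGroup r (Subgroup.zpowers (⟨e, heEL⟩ : EL)) := by
      apply bg8par_isPGroup_zpowers _ (k' + 1)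
      exact Subtype.ext (by simpa using hepow)
    obtain ⟨R, hR⟩ := hQ.exists_le_sylow
    have heR : (⟨e, heEL⟩ : EL) ∈ (R : Subgroup EL) := hR (Subgroup.mem_zpowers _)
    have hR1 : (R : Subgroup EL) ≠ ⊥ := by
      intro h
      rw [h, Subgroup.mem_bot] at heR
      exact he1 (congrArg Subtype.val heR)
    have hRc : IsCyclic (R : Subgroup EL) := bg_sylow_cyclic_of_prank_one hodd hEL'.1 r hr1L R
    have heR' : e ∈ (R : Subgroup EL).map EL.subtype := ⟨⟨e, heEL⟩, heR, rfl⟩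
    have he'R : e ^ r ^ k' ∈ (R : Subgroup EL).map EL.subtype := Subgroup.pow_mem _ heR' _
    have h := h27 L hL EL hEL' r R hR1 hRc (e ^ r ^ k') he'R he'1
    apply heC
    rw [Subgroup.mem_centralizer_iff]
    intro a ha
    have ha1 : a ∈ sigmaCore L ⊓ Subgroup.centralizer ({e ^ r ^ k'} : Set G) := by
      refine Subgroup.mem_inf.mpr ⟨hAσL ha, ?_⟩
      rw [Subgroup.mem_centralizer_iff]
      intro y hy
      rw [Set.mem_singleton_iff] at hy
      subst hy
      exact (Subgroup.mem_centralizer_iff.mp he'C a ha).symm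
    rw [h] at ha1
    exact (Subgroup.mem_centralizer_iff.mp (Subgroup.mem_inf.mp ha1).2 e heR').symm
  have hrτL : r ∈ tau2 L := ⟨hr, hrL, hr2L, hr1L⟩
  obtain ⟨B, hBE, hBe, hBc⟩ := bg7_exists_elemAb_compl L EL hEL' r hrτL
  obtain ⟨⟨hELB, hBall⟩, -, -⟩ := h18 L hL EL hEL' r hrτL B ⟨hBE, hBe, hBc⟩
  obtain ⟨hnilL, -, -⟩ := h17 L hL r hrτL B ⟨hBE.trans hEL'.1, hBe, hBc⟩
  -- elements of `B` commute with `e`
  have hBcomm : ∀ z ∈ B, z * e = e * z := by
    have hQ : IsPGroup r (Subgroup.zpowers e ⊔ B : Subgroup G) :=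
      hzr.to_sup_of_normal_right' (IsPGroup.of_card hBc) (hzEL.trans hELB)
    have h1 := Cfsg.Agent.Lib.helper60.BGTau2Ab.pgroup_comm_of_tau2 h17 L hL EL hEL' r hrτL _
      (sup_le hzL (hBE.trans hEL'.1)) hQ
    intro z hz
    exact h1 z ((le_sup_right : B ≤ Subgroup.zpowers e ⊔ B) hz) e
      ((le_sup_left : Subgroup.zpowers e ≤ Subgroup.zpowers e ⊔ B) (Subgroup.mem_zpowers e))
  -- `L` normalizes `S`, hence `A`
  obtain ⟨T, hTσ, hTp, hTall, hTN⟩ :=
    Cfsg.Agent.Lib.helper60.BGTau2Ab.exists_normal_sylow_of_nilpotent (sigmaCore L) hnilL p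
  have hTS : T = (S : Subgroup G) := S.is_maximal' hTp (hTall S hSL S.isPGroup')
  have hLS : L ≤ Subgroup.normalizer ((S : Subgroup G) : Set G) := by
    rw [← hTS]
    exact (Cfsg.Agent.Lib.helper13.le_normalizer_sigmaCore L).trans hTN
  have hΩ : ∀ x ∈ (S : Subgroup G), x ^ p = 1 → x ∈ A := by
    let Ω : Subgroup G :=
      { carrier := {y | y ∈ (S : Subgroup G) ∧ y ^ p = 1}
        mul_mem' := by
          rintro a b ⟨ha, ha'⟩ ⟨hb, hb'⟩
          exact ⟨Subgroup.mul_mem _ ha hb, by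
            rw [(show Commute a b from hSab a ha b hb).mul_pow, ha', hb', one_mul]⟩
        one_mem' := ⟨Subgroup.one_mem _, one_pow _⟩
        inv_mem' := by
          rintro a ⟨ha, ha'⟩
          exact ⟨Subgroup.inv_mem _ ha, by rw [inv_pow, ha', inv_one]⟩ }
    have hΩe : IsElementaryAbelian p Ω :=
      ⟨⟨⟨fun a b => Subtype.ext (hSab a a.2.1 b b.2.1)⟩⟩, fun a ha => ha.2⟩
    have hAΩ : A ≤ Ω := fun a ha => ⟨hAS ha, hAe.2 a ha⟩
    have h1 := (Cfsg.Agent.S1408.result hG M hM p hpσ hpτ.2.2.1 hpτ.2.2.2).2 A hAM hAe hAc Ω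
      hΩe hAΩ
    intro x hx hxp
    rw [← h1]
    exact ⟨hx, hxp⟩
  have hLA : L ≤ Subgroup.normalizer (A : Set G) := by
    intro m hm
    apply Subgroup.mem_normalizer_fintype
    intro a ha
    have h1 : m * a * m⁻¹ ∈ (S : Subgroup G) :=
      (Subgroup.mem_normalizer_iff.mp (hLS hm) a).mp (hAS ha)
    apply hΩ _ h1
    rw [conj_pow, hAe.2 a ha]
    simp
  have hrA : ∀ a ∈ A, a ^ r = 1 → a = 1 := by
    intro a ha har
    have h1 : orderOf a ∣ r := orderOf_dvd_of_pow_eq_one har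
    have h2 : orderOf a ∣ p := orderOf_dvd_of_pow_eq_one (hAe.2 a ha)
    have h3 : orderOf a ∣ Nat.gcd r p := Nat.dvd_gcd h1 h2
    rw [(Nat.coprime_primes hr hp).mpr hrp] at h3
    exact orderOf_eq_one_iff.mp (Nat.dvd_one.mp h3)
  -- `B ≤ E`
  have hBE' : B ≤ E := by
    intro z hz
    have hzN : z ∈ Subgroup.normalizer (A : Set G) := hLA (hEL'.1 (hBE hz))
    have hze : z * e = e * z := hBcomm z hz
    have hzr' : z ^ r = 1 := hBe.2 z hz
    rcases bg8par_cent_dichotomy p A hAc e heN hline z hze with hfz | hcz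
    swap
    · exact hCE hcz
    classical
    have hex : ∃ m, e ^ r ^ m ∈ Subgroup.centralizer (A : Set G) := ⟨k', he'C⟩
    have hm0 : Nat.find hex ≠ 0 := by
      intro h
      have h1 := Nat.find_spec hex
      rw [h, pow_zero, pow_one] at h1
      exact heC h1
    obtain ⟨m', hm'⟩ := Nat.exists_eq_succ_of_ne_zero hm0
    have hu1 : e ^ r ^ m' ∉ Subgroup.centralizer (A : Set G) :=
      Nat.find_min hex (by rw [hm']; exact Nat.lt_succ_self m')
    have hu2 : (e ^ r ^ m') ^ r ∈ Subgroup.centralizer (A : Set G) := by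
      have h1 := Nat.find_spec hex
      rw [hm', pow_succ, pow_mul] at h1
      exact h1
    have huE : e ^ r ^ m' ∈ E := E.pow_mem heE _
    have huz : e ^ r ^ m' * z = z * e ^ r ^ m' :=
      ((show Commute z e from hze).pow_right _).eq.symm
    have hFF := Cfsg.Agent.Lib.helper43.bg8_norm_lemma A hAab r hr hrA (e ^ r ^ m') z huz
      (hEA huE) hzN hu2 hzr' hfz
    have hex2 : ∃ j : ℕ, ∃ a ∈ A, a ≠ 1 ∧
        (e ^ r ^ m' * z ^ j) * a = a * (e ^ r ^ m' * z ^ j) := by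
      by_contra hcon
      push Not at hcon
      exact hA1 (hFF (fun j a ha hja => by
        by_contra ha1
        exact hcon j a ha ha1 hja))
    obtain ⟨j, a, ha, ha1, hja⟩ := hex2
    have huzj_e : (e ^ r ^ m' * z ^ j) * e = e * (e ^ r ^ m' * z ^ j) := by
      have h1 : Commute (e ^ r ^ m') e := (Commute.refl e).pow_left _
      have h2 : Commute (z ^ j) e := (show Commute z e from hze).pow_left j
      exact (h1.mul_left h2).eq
    have huzjC : e ^ r ^ m' * z ^ j ∈ Subgroup.centralizer (A : Set G) := by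
      rcases bg8par_cent_dichotomy p A hAc e heN hline _ huzj_e with h | h
      · exact absurd (h a ha hja) ha1
      · exact h
    have hzjE : z ^ j ∈ E := by
      have h1 := E.mul_mem (E.inv_mem huE) (hCE huzjC)
      simpa using h1
    have hrj : ¬ r ∣ j := by
      rintro ⟨t, rfl⟩
      rw [pow_mul, hzr', one_pow, mul_one] at huzjC
      exact hu1 huzjC
    exact bg8par_mem_of_pow_mem_coprime E z j r
      ((Nat.Prime.coprime_iff_not_dvd hr).mpr hrj).symm hzjE (by rw [hzr']; exact E.one_mem)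
  -- contradiction with the `r`-rank of `M`
  have hBM : B ≤ M := hBE'.trans hEM
  have hc : Nat.card (B.subgroupOf M) = r ^ 2 := by
    rw [Nat.card_congr (Subgroup.subgroupOfEquivOfLe hBM).toEquiv, hBc]
  have hfin := hr1 (B.subgroupOf M)
    ⟨⟨fun a b => by
      have h := congrArg Subtype.val (hBe.1.is_comm.comm ⟨a.1.1, a.2⟩ ⟨b.1.1, b.2⟩)
      exact Subtype.ext (Subtype.ext (by simpa using h))⟩⟩
    (fun a ha => by
      have h := hBe.2 a.1 ha
      exact Subtype.ext (by simpa using h))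
  rw [hc, pow_one] at hfin
  nlinarith [hr.two_le]

end Cfsg.Agent.Lib.helper70
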