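import Mathlib
import Cfsg.Agent.Lib.helper42.AICDefs
import Cfsg.Agent.Lib.helper15.AIC_A3
import Cfsg.Agent.Lib.helper15.AIC_A4
import Cfsg.Agent.Lib.helper18.AIC_QB2

/-!
S2202 pieces SP4a / SP4b (helper70): core lemmas (the pieces that had not landed yet are
explicit hypotheses).
-/

set_option autoImplicit false
set_option maxHeartbeats 400000

open Cfsg.Agent.Lib.helper42.AIC

namespace Cfsg.Agent.Lib.helper70.AIC

open Cfsg.Agent.Lib.helper15.AIC (sylow_ti mem_of_np)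
open Cfsg.Agent.Lib.helper18.AIC (qb2_mem_smul qb2_two_pow)

section

variable {G : Type*} [Group G]

theorem sp4_mem_np_iff (P : Sylow 2 G) (g : G) : g ∈ NP P ↔ g • P = P :=
  Sylow.smul_eq_iff_mem_normalizer.symm

theorem sp4_sq (w : G) (hw : orderOf w = 2) : w * w = 1 := by
  have := pow_orderOf_eq_one w
  rw [hw, pow_two] at this
  exact this

theorem sp4_inv (w : G) (hw : orderOf w = 2) : w⁻¹ = w :=
  inv_eq_of_mul_eq_one_left (sp4_sq w hw)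

theorem sp4_swap (P Q : Sylow 2 G) (w : G) (hw : orderOf w = 2) (hwP : w • P = Q) :
    w • Q = P := by
  rw [← hwP, ← mul_smul, sp4_sq w hw, one_smul]

/-- `P ∩ N(Q) = 1` for distinct Sylow 2-subgroups. -/
theorem sp4_inf_one [Finite G] (hA : AIC G) (hnc : NCyc G) (P Q : Sylow 2 G) (hPQ : P ≠ Q)
    {x : G} (hxP : x ∈ (P : Subgroup G)) (hxQ : x ∈ NP Q) : x = 1 := by
  by_contra hx
  obtain ⟨k, hk⟩ := qb2_two_pow P x hxP
  exact hPQ (sylow_ti hA hnc P Q hxP (mem_of_np Q hxQ k hk) hx)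

/-- conjugation by an element of `N(P)` preserves `P`. -/
theorem sp4_conj_mem (P : Sylow 2 G) {g : G} (hg : g ∈ NP P) {x : G}
    (hx : x ∈ (P : Subgroup G)) : g * x * g⁻¹ ∈ (P : Subgroup G) :=
  (Subgroup.mem_normalizer_iff.mp hg x).mp hx

theorem sp4_conj_mem' (P : Sylow 2 G) {g : G} (hg : g ∈ NP P) {x : G}
    (hx : x ∈ (P : Subgroup G)) : g⁻¹ * x * g ∈ (P : Subgroup G) := by
  have := sp4_conj_mem P (Subgroup.inv_mem _ hg) hx
  simpa using this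

/-- `w` normalizes `D = N(P) ∩ N(Q)`. -/
theorem sp4_conj_D (P Q : Sylow 2 G) (w : G) (hw : orderOf w = 2) (hwP : w • P = Q) {d : G}
    (hd : d ∈ NP P ⊓ NP Q) : w * d * w⁻¹ ∈ NP P ⊓ NP Q := by
  have hwQ := sp4_swap P Q w hw hwP
  have hwi := sp4_inv w hw
  have hdP : d • P = P := (sp4_mem_np_iff P d).mp hd.1
  have hdQ : d • Q = Q := (sp4_mem_np_iff Q d).mp hd.2
  refine ⟨(sp4_mem_np_iff P _).mpr ?_, (sp4_mem_np_iff Q _).mpr ?_⟩
  · rw [hwi, mul_smul, mul_smul, hwP, hdQ, hwQ]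
  · rw [hwi, mul_smul, mul_smul, hwQ, hdP, hwP]

/-- `N(P) = P · D` (from the orders). -/
theorem sp4_np_prod [Finite G] (hA : AIC G) (hnc : NCyc G) (hE : KEq G) (Z : Subgroup G)
    (hZ : IsKsub Z) (hKS : KStruct Z) (P Q : Sylow 2 G) (hPQ : P ≠ Q)
    (hA8 : Nat.card (NP P) =
      Nat.card {t : G // orderOf t = 2 ∧ t ∈ (P : Subgroup G)} * Nat.card (CP P))
    (hA9 : Nat.card (CP P) =
      Nat.card (P : Subgroup G) * Nat.card {x : G // Odd (orderOf x) ∧ x ∈ CP P}) :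
    ∀ g ∈ NP P, ∃ p ∈ (P : Subgroup G), ∃ d ∈ NP P ⊓ NP Q, g = p * d := by
  classical
  obtain ⟨-, hS2, -, -, -, hS6⟩ := hKS
  have hI : Nat.card {t : G // orderOf t = 2 ∧ t ∈ (P : Subgroup G)}
      = Nat.card (P : Subgroup G) - 1 := by
    have h1 : {t : G | orderOf t = 2 ∧ t ∈ (P : Subgroup G)}
        = ((P : Subgroup G) : Set G) \ {1} := by
      ext t
      simp only [Set.mem_setOf_eq, Set.mem_diff, SetLike.mem_coe, Set.mem_singleton_iff]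
      constructor
      · rintro ⟨h2, h3⟩
        refine ⟨h3, ?_⟩
        rintro rfl
        rw [orderOf_one] at h2
        omega
      · rintro ⟨h3, h4⟩
        refine ⟨orderOf_eq_prime (hS2 P t h3) h4, h3⟩
    have h2 : Nat.card {t : G // orderOf t = 2 ∧ t ∈ (P : Subgroup G)}
        = Set.ncard {t : G | orderOf t = 2 ∧ t ∈ (P : Subgroup G)} :=
      Nat.card_coe_set_eq _
    have h3 : Nat.card (P : Subgroup G) = Set.ncard (((P : Subgroup G) : Set G)) :=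
      Nat.card_coe_set_eq _
    rw [h2, h1, h3, Set.ncard_diff_singleton_of_mem (Subgroup.one_mem _)]
  have hK : Nat.card {x : G // Odd (orderOf x) ∧ x ∈ CP P} = Nat.card Z := by
    refine Nat.card_congr (Equiv.subtypeEquivRight ?_)
    intro x
    rw [hZ x]
    constructor
    · rintro ⟨h1, h2⟩
      exact ⟨h1, fun P' => hE P P' x h1 h2⟩
    · rintro ⟨h1, h2⟩
      exact ⟨h1, h2 P⟩
  have hD := hS6 P Q hPQ
  have hPle : (P : Subgroup G) ≤ NP P := Subgroup.le_normalizer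
  let f : ↥(P : Subgroup G) × ↥(NP P ⊓ NP Q) → ↥(NP P) :=
    fun pd => ⟨(pd.1 : G) * (pd.2 : G), Subgroup.mul_mem _ (hPle pd.1.2) pd.2.2.1⟩
  have hinj : Function.Injective f := by
    rintro ⟨p, d⟩ ⟨p', d'⟩ h
    have h1 : (p : G) * (d : G) = (p' : G) * (d' : G) := congrArg Subtype.val h
    have h2 : (p' : G)⁻¹ * (p : G) = (d' : G) * (d : G)⁻¹ := by
      calc (p' : G)⁻¹ * (p : G) = (p' : G)⁻¹ * ((p : G) * (d : G)) * (d : G)⁻¹ := by group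
        _ = (d' : G) * (d : G)⁻¹ := by rw [h1]; group
    have h3 : (p' : G)⁻¹ * (p : G) ∈ (P : Subgroup G) :=
      Subgroup.mul_mem _ (Subgroup.inv_mem _ p'.2) p.2
    have h4 : (p' : G)⁻¹ * (p : G) ∈ NP Q := by
      rw [h2]
      exact Subgroup.mul_mem _ d'.2.2 (Subgroup.inv_mem _ d.2.2)
    have h5 := sp4_inf_one hA hnc P Q hPQ h3 h4
    have h6 : (p : G) = (p' : G) := by
      have : (p : G) = (p' : G) * ((p' : G)⁻¹ * (p : G)) := by group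
      rw [this, h5, mul_one]
    have h7 : (d : G) = (d' : G) := by
      rw [h6] at h1
      exact mul_left_cancel h1
    exact Prod.ext (Subtype.ext h6) (Subtype.ext h7)
  have hcard : Nat.card (↥(P : Subgroup G) × ↥(NP P ⊓ NP Q)) = Nat.card ↥(NP P) := by
    rw [Nat.card_prod, hD, hA8, hA9, hI, hK]
    ring
  have hbij := (Nat.bijective_iff_injective_and_card f).mpr ⟨hinj, hcard⟩
  intro g hg
  obtain ⟨⟨p, d⟩, h⟩ := hbij.2 ⟨g, hg⟩
  exact ⟨p, p.2, d, d.2, (congrArg Subtype.val h).symm⟩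

/-- SP4a, core. -/
theorem bruhat_conj_core [Finite G] (hA : AIC G) (hnc : NCyc G) (Z : Subgroup G)
    (hKS : KStruct Z) (P Q : Sylow 2 G) (hPQ : P ≠ Q)
    (hprod : ∀ g ∈ NP P, ∃ p ∈ (P : Subgroup G), ∃ d ∈ NP P ⊓ NP Q, g = p * d)
    (w : G) (hw : orderOf w = 2) (hwP : w • P = Q) (p : G) (hp : p ∈ (P : Subgroup G))
    (hp1 : p ≠ 1) :
    ∃ s ∈ (P : Subgroup G), ∃ h ∈ NP P ⊓ NP Q, w * h * w⁻¹ = h⁻¹ ∧
      w * p * w⁻¹ = s * h * w * s := by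
  obtain ⟨-, hS2, -, hS4, -, -⟩ := hKS
  have hww := sp4_sq w hw
  have hwi := sp4_inv w hw
  have hwQ := sp4_swap P Q w hw hwP
  have hPle : (P : Subgroup G) ≤ NP P := Subgroup.le_normalizer
  obtain ⟨v, hv⟩ : ∃ v : G, v = w * p * w⁻¹ := ⟨_, rfl⟩
  have hvQ : v ∈ (Q : Subgroup G) := by
    rw [← hwP, qb2_mem_smul, hv]
    have : w⁻¹ * (w * p * w⁻¹) * w = p := by group
    rw [this]; exact hp
  have hv1 : v ≠ 1 := by
    intro h
    apply hp1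
    have : p = w⁻¹ * v * w := by rw [hv]; group
    rw [this, h]; group
  have hvv : v * v = 1 := by
    have := hS2 Q v hvQ
    rwa [pow_two] at this
  have hvi : v⁻¹ = v := inv_eq_of_mul_eq_one_left hvv
  have hvP : v • P ≠ P := by
    intro h
    have h1 : v ∈ NP P := (sp4_mem_np_iff P v).mpr h
    exact hv1 (sp4_inf_one hA hnc Q P (Ne.symm hPQ) hvQ h1)
  obtain ⟨s, hs, hsQ⟩ := hS4 P Q (v • P) (Ne.symm hPQ) hvP
  have hss : s * s = 1 := by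
    have := hS2 P s hs
    rwa [pow_two] at this
  have hsi : s⁻¹ = s := inv_eq_of_mul_eq_one_left hss
  have hh0 : w * s * v ∈ NP P := by
    rw [sp4_mem_np_iff, mul_smul, mul_smul, ← hsQ, ← mul_smul s s, hss, one_smul, hwQ]
  obtain ⟨p₂, hp₂, d, hd, hpd⟩ := hprod _ hh0
  have hp₂p₂ : p₂ * p₂ = 1 := by
    have := hS2 P p₂ hp₂
    rwa [pow_two] at this
  have hp₂i : p₂⁻¹ = p₂ := inv_eq_of_mul_eq_one_left hp₂p₂
  -- first expression
  have hv1' : v = s * w * p₂ * d := by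
    have e1 : v = s * (w * w) * s * v := by rw [hww, mul_one, hss, one_mul]
    have e2 : s * (w * w) * s * v = s * w * (w * s * v) := by group
    rw [e1, e2, hpd]; group
  -- second expression
  have hv2 : v = d⁻¹ * p₂ * w * s := by
    have e1 : v⁻¹ = d⁻¹ * p₂⁻¹ * w⁻¹ * s⁻¹ := by rw [hv1']; group
    rw [hvi, hp₂i, hwi, hsi] at e1
    exact e1
  have hd'D : w * d⁻¹ * w⁻¹ ∈ NP P ⊓ NP Q :=
    sp4_conj_D P Q w hw hwP (Subgroup.inv_mem _ hd)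
  have hp₃ : d⁻¹ * p₂ * d ∈ (P : Subgroup G) := sp4_conj_mem' P hd.1 hp₂
  have hs₃ : (w * d⁻¹ * w⁻¹) * s * (w * d⁻¹ * w⁻¹)⁻¹ ∈ (P : Subgroup G) :=
    sp4_conj_mem P hd'D.1 hs
  have hv3 : v = (d⁻¹ * p₂ * d) * w * ((w * d⁻¹ * w⁻¹) * s * (w * d⁻¹ * w⁻¹)⁻¹)
      * (w * d⁻¹ * w⁻¹) := by
    have e1 : (d⁻¹ * p₂ * d) * w * ((w * d⁻¹ * w⁻¹) * s * (w * d⁻¹ * w⁻¹)⁻¹)
        * (w * d⁻¹ * w⁻¹) = d⁻¹ * p₂ * d * (w * w) * d⁻¹ * w⁻¹ * s := by group
    rw [e1, hww, hwi, hv2]; group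
  -- apply both expressions to `P`
  have hdP : d • P = P := (sp4_mem_np_iff P d).mp hd.1
  have hp₂P : p₂ • P = P := (sp4_mem_np_iff P p₂).mp (hPle hp₂)
  have ha1 : v • P = s • Q := by
    rw [hv1', mul_smul, mul_smul, mul_smul, hdP, hp₂P, hwP]
  have hd'P : (w * d⁻¹ * w⁻¹) • P = P := (sp4_mem_np_iff P _).mp hd'D.1
  have hs₃P : ((w * d⁻¹ * w⁻¹) * s * (w * d⁻¹ * w⁻¹)⁻¹) • P = P :=
    (sp4_mem_np_iff P _).mp (hPle hs₃)
  have ha2 : v • P = (d⁻¹ * p₂ * d) • Q := by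
    conv_lhs => rw [hv3]
    rw [mul_smul, mul_smul, mul_smul, hd'P, hs₃P, hwP]
  have hsp : s = d⁻¹ * p₂ * d := by
    have h1 : ((d⁻¹ * p₂ * d)⁻¹ * s) • Q = Q := by
      rw [mul_smul, ← ha1, ha2, ← mul_smul, inv_mul_cancel, one_smul]
    have h2 : (d⁻¹ * p₂ * d)⁻¹ * s ∈ NP Q := (sp4_mem_np_iff Q _).mpr h1
    have h3 : (d⁻¹ * p₂ * d)⁻¹ * s ∈ (P : Subgroup G) :=
      Subgroup.mul_mem _ (Subgroup.inv_mem _ hp₃) hs
    have h4 := sp4_inf_one hA hnc P Q hPQ h3 h2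
    have : s = (d⁻¹ * p₂ * d) * ((d⁻¹ * p₂ * d)⁻¹ * s) := by group
    rw [this, h4, mul_one]
  -- compare
  have hcmp : p₂ * d = ((w * d⁻¹ * w⁻¹) * s * (w * d⁻¹ * w⁻¹)⁻¹) * (w * d⁻¹ * w⁻¹) := by
    have e1 : s * w * (p₂ * d) = s * w * (((w * d⁻¹ * w⁻¹) * s * (w * d⁻¹ * w⁻¹)⁻¹)
        * (w * d⁻¹ * w⁻¹)) := by
      have e2 : s * w * (p₂ * d) = v := by rw [hv1']; group
      rw [e2]
      conv_lhs => rw [hv3]
      rw [← hsp]; group
    exact mul_left_cancel e1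
  have hdd : w * d⁻¹ * w⁻¹ = d := by
    have h1 : ((w * d⁻¹ * w⁻¹) * s * (w * d⁻¹ * w⁻¹)⁻¹)⁻¹ * p₂ = (w * d⁻¹ * w⁻¹) * d⁻¹ := by
      calc ((w * d⁻¹ * w⁻¹) * s * (w * d⁻¹ * w⁻¹)⁻¹)⁻¹ * p₂
          = ((w * d⁻¹ * w⁻¹) * s * (w * d⁻¹ * w⁻¹)⁻¹)⁻¹ * (p₂ * d) * d⁻¹ := by group
        _ = (w * d⁻¹ * w⁻¹) * d⁻¹ := by rw [hcmp]; group
    have h2 : ((w * d⁻¹ * w⁻¹) * s * (w * d⁻¹ * w⁻¹)⁻¹)⁻¹ * p₂ ∈ (P : Subgroup G) :=
      Subgroup.mul_mem _ (Subgroup.inv_mem _ hs₃) hp₂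
    have h3 : ((w * d⁻¹ * w⁻¹) * s * (w * d⁻¹ * w⁻¹)⁻¹)⁻¹ * p₂ ∈ NP Q := by
      rw [h1]
      exact Subgroup.mul_mem _ hd'D.2 (Subgroup.inv_mem _ hd.2)
    have h4 := sp4_inf_one hA hnc P Q hPQ h2 h3
    rw [h1] at h4
    exact mul_inv_eq_one.mp h4
  have hwd : w * d * w⁻¹ = d⁻¹ := by
    have : w * d * w⁻¹ = (w * d⁻¹ * w⁻¹)⁻¹ := by group
    rw [this, hdd]
  have hp₂' : p₂ = d * s * d⁻¹ := by rw [hsp]; group
  refine ⟨s, hs, d⁻¹, Subgroup.inv_mem _ hd, ?_, ?_⟩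
  · rw [hdd, inv_inv]
  · rw [← hv, hv1', hp₂']
    have e1 : s * w * (d * s * d⁻¹) * d = s * (w * d * w⁻¹) * w * s := by group
    rw [e1, hwd]

/-- SP4b, core: the complement `L = ⟨P, T, w⟩` of `Z` (BN-pair closure `B ∪ B w P`). -/
theorem exists_complement_core [Finite G] (hA : AIC G) (hnc : NCyc G) (Z : Subgroup G)
    (hZ : IsKsub Z) (hKS : KStruct Z) (P Q : Sylow 2 G) (hPQ : P ≠ Q)
    (w : G) (hw : orderOf w = 2) (hwP : w • P = Q)
    (hprod : ∀ g ∈ NP P, ∃ p ∈ (P : Subgroup G), ∃ d ∈ NP P ⊓ NP Q, g = p * d)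
    (T : Subgroup G) (hTD : T ≤ NP P ⊓ NP Q) (hTZ : T ⊓ Z = ⊥)
    (hDT : ∀ d ∈ NP P ⊓ NP Q, ∃ t ∈ T, ∃ z ∈ Z, d = t * z)
    (hTw : ∀ t ∈ T, w * t * w⁻¹ = t⁻¹)
    (hT' : ∀ d ∈ NP P ⊓ NP Q, w * d * w⁻¹ = d⁻¹ → d ∈ T)
    (hbr : ∀ p ∈ (P : Subgroup G), p ≠ 1 → ∃ s ∈ (P : Subgroup G), ∃ h ∈ NP P ⊓ NP Q,
      w * h * w⁻¹ = h⁻¹ ∧ w * p * w⁻¹ = s * h * w * s) :
    ∃ L : Subgroup G, L ⊓ Z = ⊥ ∧ L ⊔ Z = ⊤ := by
  classical
  obtain ⟨-, -, -, hS4, -, -⟩ := hKS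
  have hww := sp4_sq w hw
  have hwi := sp4_inv w hw
  have hwQ := sp4_swap P Q w hw hwP
  have hPle : (P : Subgroup G) ≤ NP P := Subgroup.le_normalizer
  have hTP : T ≤ NP P := hTD.trans inf_le_left
  have hTQ : T ≤ NP Q := hTD.trans inf_le_right
  -- the set `B ∪ B w P`
  let S : Set G := {x | (∃ t ∈ T, ∃ p ∈ (P : Subgroup G), x = t * p) ∨
    (∃ t ∈ T, ∃ p ∈ (P : Subgroup G), ∃ p' ∈ (P : Subgroup G), x = t * p * w * p')}
  have hST : ∀ g ∈ T, ∀ x ∈ S, g * x ∈ S := by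
    intro g hg x hx
    rcases hx with ⟨t, ht, p, hp, rfl⟩ | ⟨t, ht, p, hp, p', hp', rfl⟩
    · exact Or.inl ⟨g * t, T.mul_mem hg ht, p, hp, by group⟩
    · exact Or.inr ⟨g * t, T.mul_mem hg ht, p, hp, p', hp', by group⟩
  have hSP : ∀ g ∈ (P : Subgroup G), ∀ x ∈ S, g * x ∈ S := by
    intro g hg x hx
    rcases hx with ⟨t, ht, p, hp, rfl⟩ | ⟨t, ht, p, hp, p', hp', rfl⟩
    · exact Or.inl ⟨t, ht, (t⁻¹ * g * t) * p,
        Subgroup.mul_mem _ (sp4_conj_mem' P (hTP ht) hg) hp, by group⟩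
    · exact Or.inr ⟨t, ht, (t⁻¹ * g * t) * p,
        Subgroup.mul_mem _ (sp4_conj_mem' P (hTP ht) hg) hp, p', hp', by group⟩
  have hSw : ∀ x ∈ S, w * x ∈ S := by
    intro x hx
    rcases hx with ⟨t, ht, p, hp, rfl⟩ | ⟨t, ht, p, hp, p', hp', rfl⟩
    · refine Or.inr ⟨t⁻¹, T.inv_mem ht, 1, Subgroup.one_mem _, p, hp, ?_⟩
      have e1 : w * (t * p) = (w * t * w⁻¹) * w * p := by group
      rw [e1, hTw t ht]; group
    · by_cases hp1 : p = 1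
      · refine Or.inl ⟨t⁻¹, T.inv_mem ht, p', hp', ?_⟩
        have e1 : w * (t * p * w * p') = (w * t * w⁻¹) * (w * w) * p' := by
          rw [hp1]; group
        rw [e1, hTw t ht, hww, mul_one]
      · obtain ⟨s, hs, h, hh, hwh, hwp⟩ := hbr p hp hp1
        have hhT : h ∈ T := hT' h hh hwh
        refine Or.inr ⟨t⁻¹ * h, T.mul_mem (T.inv_mem ht) hhT, h⁻¹ * s * h,
          sp4_conj_mem' P (hTP hhT) hs, s * p', Subgroup.mul_mem _ hs hp', ?_⟩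
        have e1 : w * (t * p * w * p') = (w * t * w⁻¹) * (w * p * w⁻¹) * (w * w) * p' := by
          group
        rw [e1, hTw t ht, hwp, hww]; group
  let L : Subgroup G := Subgroup.closure (((P : Subgroup G) : Set G) ∪ (T : Set G) ∪ {w})
  have hLS : ∀ g ∈ L, ∀ x ∈ S, g * x ∈ S ∧ g⁻¹ * x ∈ S := by
    intro g hg
    induction hg using Subgroup.closure_induction with
    | mem y hy =>
      intro x hx
      rcases hy with (hy | hy) | hy
      · exact ⟨hSP y hy x hx, hSP y⁻¹ (Subgroup.inv_mem _ hy) x hx⟩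
      · exact ⟨hST y hy x hx, hST y⁻¹ (T.inv_mem hy) x hx⟩
      · rw [Set.mem_singleton_iff] at hy
        subst hy
        refine ⟨hSw x hx, ?_⟩
        rw [hwi]; exact hSw x hx
    | one =>
      intro x hx
      simp only [one_mul, inv_one]
      exact ⟨hx, hx⟩
    | mul a b _ _ iha ihb =>
      intro x hx
      refine ⟨?_, ?_⟩
      · rw [mul_assoc]; exact (iha _ (ihb x hx).1).1
      · rw [mul_inv_rev, mul_assoc]; exact (ihb _ (iha x hx).2).2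
    | inv a _ iha =>
      intro x hx
      refine ⟨(iha x hx).2, ?_⟩
      rw [inv_inv]; exact (iha x hx).1
  have h1S : (1 : G) ∈ S := Or.inl ⟨1, T.one_mem, 1, Subgroup.one_mem _, by group⟩
  have hLsub : ∀ g ∈ L, g ∈ S := by
    intro g hg
    have := (hLS g hg 1 h1S).1
    rwa [mul_one] at this
  have hPL : (P : Subgroup G) ≤ L := by
    intro x hx
    exact Subgroup.subset_closure (Or.inl (Or.inl hx))
  have hTL : T ≤ L := by
    intro x hx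
    exact Subgroup.subset_closure (Or.inl (Or.inr hx))
  have hwL : w ∈ L := Subgroup.subset_closure (Or.inr rfl)
  have hZnp : ∀ z ∈ Z, ∀ R : Sylow 2 G, z ∈ NP R := by
    intro z hz R
    exact Subgroup.centralizer_le_normalizer _ (((hZ z).mp hz).2 R)
  refine ⟨L, ?_, ?_⟩
  · rw [eq_bot_iff]
    intro x hx
    obtain ⟨hxL, hxZ⟩ := Subgroup.mem_inf.mp hx
    rw [Subgroup.mem_bot]
    rcases hLsub x hxL with ⟨t, ht, p, hp, rfl⟩ | ⟨t, ht, p, hp, p', hp', rfl⟩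
    · have h1 : p ∈ NP Q := by
        have : p = t⁻¹ * (t * p) := by group
        rw [this]
        exact Subgroup.mul_mem _ (Subgroup.inv_mem _ (hTQ ht)) (hZnp _ hxZ Q)
      have hp1 := sp4_inf_one hA hnc P Q hPQ hp h1
      rw [hp1, mul_one] at hxZ ⊢
      have h2 : t ∈ T ⊓ Z := Subgroup.mem_inf.mpr ⟨ht, hxZ⟩
      rw [hTZ, Subgroup.mem_bot] at h2
      exact h2
    · exfalso
      have h1 : w ∈ NP P := by
        have : w = p⁻¹ * t⁻¹ * (t * p * w * p') * p'⁻¹ := by group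
        rw [this]
        exact Subgroup.mul_mem _ (Subgroup.mul_mem _ (Subgroup.mul_mem _
          (Subgroup.inv_mem _ (hPle hp)) (Subgroup.inv_mem _ (hTP ht))) (hZnp _ hxZ P))
          (Subgroup.inv_mem _ (hPle hp'))
      have h2 : w • P = P := (sp4_mem_np_iff P w).mp h1
      exact hPQ (h2.symm.trans hwP)
  · rw [eq_top_iff]
    intro g _
    have hnp : ∀ h ∈ NP P, h ∈ L ⊔ Z := by
      intro h hh
      obtain ⟨p, hp, d, hd, rfl⟩ := hprod h hh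
      obtain ⟨t, ht, z, hz, rfl⟩ := hDT d hd
      have : p * (t * z) = (p * t) * z := by group
      rw [this]
      exact Subgroup.mul_mem_sup (L.mul_mem (hPL hp) (hTL ht)) hz
    by_cases hg : g ∈ NP P
    · exact hnp g hg
    · have hgP : g • P ≠ P := fun h => hg ((sp4_mem_np_iff P g).mpr h)
      obtain ⟨s, hs, hsQ⟩ := hS4 P Q (g • P) (Ne.symm hPQ) hgP
      have h1 : (s * w)⁻¹ * g ∈ NP P := by
        rw [sp4_mem_np_iff, mul_smul, ← hsQ, ← hwP, ← mul_smul s w, ← mul_smul,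
          inv_mul_cancel, one_smul]
      have h2 : g = (s * w) * ((s * w)⁻¹ * g) := by group
      rw [h2]
      exact Subgroup.mul_mem _ (le_sup_left (a := L) (b := Z) (L.mul_mem (hPL hs) hwL))
        (hnp _ h1)

end

end Cfsg.Agent.Lib.helper70.AIC
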