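import Mathlib
import Cfsg.Agent.Lib.helper42.AICDefs
import Cfsg.Agent.Lib.helper15.AIC_A7
import Cfsg.Agent.Lib.helper15.AIC_A8
import Cfsg.Agent.Lib.helper15.AIC_A9
import Cfsg.Agent.Lib.helper15.AIC_A11
import Cfsg.Agent.Lib.helper70.AIC_SP4core

/-!
S2202 pieces SP4a / SP4b (helper70): the statements with ST (`KStruct Z`) and SP3
(`exists_torus`) as the only remaining hypotheses.
-/

set_option autoImplicit false
set_option maxHeartbeats 400000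

open Cfsg.Agent.Lib.helper42.AIC

namespace Cfsg.Agent.Lib.helper70.AIC

open Cfsg.Agent.Lib.helper15.AIC (card_swap card_np card_cp exists_two_inv)

/-- `N(P) = P · D`. -/
theorem sp4_np_prod_of {G : Type*} [Group G] [Finite G] (hA : AIC G) (hnc : NCyc G)
    (hnn : NNor G) (hE : KEq G) (Z : Subgroup G) (hZ : IsKsub Z) (hKS : KStruct Z)
    (P Q : Sylow 2 G) (hPQ : P ≠ Q) :
    ∀ g ∈ NP P, ∃ p ∈ (P : Subgroup G), ∃ d ∈ NP P ⊓ NP Q, g = p * d :=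
  sp4_np_prod hA hnc hE Z hZ hKS P Q hPQ (card_np hA hnc hnn P) (card_cp hA hnc P)

/-- SP4a from ST. -/
theorem bruhat_conj_of {G : Type*} [Group G] [Finite G] (hA : AIC G) (hnc : NCyc G)
    (hnn : NNor G) (hE : KEq G) (Z : Subgroup G) (hZ : IsKsub Z) (hKS : KStruct Z)
    (P Q : Sylow 2 G) (hPQ : P ≠ Q)
    (w : G) (hw : orderOf w = 2) (hwP : w • P = Q) (p : G) (hp : p ∈ (P : Subgroup G))
    (hp1 : p ≠ 1) :
    ∃ s ∈ (P : Subgroup G), ∃ h ∈ NP P ⊓ NP Q, w * h * w⁻¹ = h⁻¹ ∧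
      w * p * w⁻¹ = s * h * w * s :=
  bruhat_conj_core hA hnc Z hKS P Q hPQ (sp4_np_prod_of hA hnc hnn hE Z hZ hKS P Q hPQ)
    w hw hwP p hp hp1

/-- two distinct Sylow 2-subgroups and an involution exchanging them. -/
theorem sp4_exists_swap {G : Type*} [Group G] [Finite G] (hA : AIC G) (hnc : NCyc G)
    (hnn : NNor G) :
    ∃ (P Q : Sylow 2 G) (w : G), P ≠ Q ∧ orderOf w = 2 ∧ w • P = Q := by
  classical
  obtain ⟨P⟩ : Nonempty (Sylow 2 G) := inferInstance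
  have hQ : ∃ Q : Sylow 2 G, P ≠ Q := by
    by_contra hcon
    push Not at hcon
    apply hnn P
    rw [← Subgroup.normalizer_eq_top_iff, eq_top_iff]
    intro g _
    exact (sp4_mem_np_iff P g).mpr (hcon (g • P)).symm
  obtain ⟨Q, hPQ⟩ := hQ
  obtain ⟨s, -, hsP, -, hs2, -, -, -⟩ := exists_two_inv hA hnc P
  have h1 := card_swap hA hnc hnn P Q hPQ
  have h2 : Nat.card {t : G // orderOf t = 2 ∧ t ∈ (P : Subgroup G)} ≠ 0 := by
    have : Nonempty {t : G // orderOf t = 2 ∧ t ∈ (P : Subgroup G)} := ⟨⟨s, hs2, hsP⟩⟩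
    exact Nat.card_ne_zero.mpr ⟨inferInstance, inferInstance⟩
  rw [← h1] at h2
  obtain ⟨⟨w, hw, hwP⟩⟩ := (Nat.card_ne_zero.mp h2).1
  exact ⟨P, Q, w, hPQ, hw, hwP⟩

/-- SP4b from ST and SP3. -/
theorem exists_complement_of {G : Type*} [Group G] [Finite G] (hA : AIC G) (hnc : NCyc G)
    (hnn : NNor G) (hE : KEq G) (Z : Subgroup G) (hZ : IsKsub Z) (hKS : KStruct Z)
    (hSP3 : ∀ (P Q : Sylow 2 G), P ≠ Q → ∀ w : G, orderOf w = 2 → w • P = Q →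
      ∃ T : Subgroup G, T ≤ NP P ⊓ NP Q ∧ T ⊓ Z = ⊥ ∧
        (∀ d ∈ NP P ⊓ NP Q, ∃ t ∈ T, ∃ z ∈ Z, d = t * z) ∧
        (∀ t ∈ T, w * t * w⁻¹ = t⁻¹) ∧
        (∀ d ∈ NP P ⊓ NP Q, w * d * w⁻¹ = d⁻¹ → d ∈ T)) :
    ∃ L : Subgroup G, L ⊓ Z = ⊥ ∧ L ⊔ Z = ⊤ := by
  obtain ⟨P, Q, w, hPQ, hw, hwP⟩ := sp4_exists_swap hA hnc hnn
  obtain ⟨T, hTD, hTZ, hDT, hTw, hT'⟩ := hSP3 P Q hPQ w hw hwP
  exact exists_complement_core hA hnc Z hZ hKS P Q hPQ w hw hwP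
    (sp4_np_prod_of hA hnc hnn hE Z hZ hKS P Q hPQ) T hTD hTZ hDT hTw hT'
    (fun p hp hp1 => bruhat_conj_of hA hnc hnn hE Z hZ hKS P Q hPQ w hw hwP p hp hp1)

end Cfsg.Agent.Lib.helper70.AIC
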