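import Mathlib

set_option autoImplicit false

namespace Cfsg.Agent.Lib.helper44.SUW

/-- ORB (L): abstract eigen-character lemma (piece of the S2335 split, architect helper44). -/
theorem orb_bound {G : Type*} [Group G] {A : Type*} [AddCommGroup A] [Fintype A]
    (e : A → A → ℂ) (he0 : ∀ y, e y 0 = 1) (he_add : ∀ y a b, e y (a + b) = e y a * e y b)
    (he_row : ∀ y y', y ≠ y' → ∑ a, e y a * (e y' a)⁻¹ = 0)
    (he_col : ∀ a, a ≠ 0 → ∑ y, e y a = 0)
    (u : A → G) (hu : ∀ a b, u (a + b) = u a * u b)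
    {k : ℕ} (ρ : Representation ℂ G (Fin k → ℂ)) :
    Nat.card {y : A // ∃ w : Fin k → ℂ, w ≠ 0 ∧ ∀ a, ρ (u a) w = e y a • w} ≤ k ∧
    (∀ a₀, ρ (u a₀) ≠ 1 → ∃ y : A, (∃ w : Fin k → ℂ, w ≠ 0 ∧ ∀ a, ρ (u a) w = e y a • w) ∧
      e y a₀ ≠ 1) := by
  classical
  have hu0 : u 0 = 1 := by
    have h := hu 0 0
    rw [add_zero] at h
    exact mul_eq_left.mp h.symm
  have hT0 : ρ (u 0) = 1 := by rw [hu0, map_one]
  have hTadd : ∀ a b (w : Fin k → ℂ), ρ (u (a + b)) w = ρ (u a) (ρ (u b) w) := by
    intro a b w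
    rw [hu, map_mul]
    rfl
  have hne : ∀ y a, e y a ≠ 0 := by
    intro y a h
    have h1 := he_add y a (-a)
    rw [add_neg_cancel, he0, h, zero_mul] at h1
    exact one_ne_zero h1
  have hinv : ∀ y a, (e y a)⁻¹ = e y (-a) := by
    intro y a
    have h1 := he_add y a (-a)
    rw [add_neg_cancel, he0] at h1
    exact inv_eq_of_mul_eq_one_right h1.symm
  have hcardA : (Fintype.card A : ℂ) ≠ 0 := by
    have h0 : 0 < Fintype.card A := Fintype.card_pos_iff.mpr ⟨0⟩
    exact_mod_cast h0.ne'
  constructor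
  · let v : {y : A // ∃ w : Fin k → ℂ, w ≠ 0 ∧ ∀ a, ρ (u a) w = e y a • w} → (Fin k → ℂ) :=
      fun y => y.2.choose
    have hv0 : ∀ y, v y ≠ 0 := fun y => y.2.choose_spec.1
    have hv : ∀ y a, ρ (u a) (v y) = e y.1 a • v y := fun y => y.2.choose_spec.2
    have hli : LinearIndependent ℂ v := by
      rw [linearIndependent_iff']
      intro s g hg y' hy'
      have h1 : ∑ a : A, (e y'.1 a)⁻¹ • ρ (u a) (∑ i ∈ s, g i • v i) = 0 := by
        rw [hg]
        simp
      have h2 : ∀ a : A, ρ (u a) (∑ i ∈ s, g i • v i) = ∑ i ∈ s, (g i * e i.1 a) • v i := by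
        intro a
        rw [map_sum]
        apply Finset.sum_congr rfl
        intro i _
        rw [map_smul, hv, smul_smul]
      have h3 : ∑ a : A, (e y'.1 a)⁻¹ • ρ (u a) (∑ i ∈ s, g i • v i)
          = ∑ i ∈ s, (g i * ∑ a : A, e i.1 a * (e y'.1 a)⁻¹) • v i := by
        simp_rw [h2, Finset.smul_sum, smul_smul]
        rw [Finset.sum_comm]
        apply Finset.sum_congr rfl
        intro i _
        rw [← Finset.sum_smul]
        congr 1
        rw [Finset.mul_sum]
        apply Finset.sum_congr rfl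
        intro a _
        ring
      rw [h3] at h1
      have h4 : ∑ i ∈ s, (g i * ∑ a : A, e i.1 a * (e y'.1 a)⁻¹) • v i
          = (g y' * (Fintype.card A : ℂ)) • v y' := by
        rw [Finset.sum_eq_single_of_mem y' hy']
        · congr 2
          have hone : ∀ a : A, e y'.1 a * (e y'.1 a)⁻¹ = 1 := fun a => mul_inv_cancel₀ (hne _ _)
          simp [hone]
        · intro i _ hi
          have hi' : i.1 ≠ y'.1 := fun h => hi (Subtype.ext h)
          rw [he_row _ _ hi', mul_zero, zero_smul]
      rw [h4] at h1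
      rcases smul_eq_zero.mp h1 with h5 | h5
      · exact (mul_eq_zero.mp h5).resolve_right hcardA
      · exact absurd h5 (hv0 y')
    have hfin := hli.fintype_card_le_finrank
    rw [Module.finrank_fin_fun] at hfin
    rw [Nat.card_eq_fintype_card]
    exact hfin
  · intro a₀ ha₀
    by_contra hcon
    push Not at hcon
    apply ha₀
    apply LinearMap.ext
    intro w
    let P : A → (Fin k → ℂ) := fun y => ∑ a : A, (e y a)⁻¹ • ρ (u a) w
    have hP1 : ∀ y b, ρ (u b) (P y) = e y b • P y := by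
      intro y b
      show ρ (u b) (∑ a : A, (e y a)⁻¹ • ρ (u a) w) = e y b • ∑ a : A, (e y a)⁻¹ • ρ (u a) w
      rw [map_sum, Finset.smul_sum]
      refine Fintype.sum_equiv (Equiv.addLeft b) _ _ ?_
      intro a
      rw [map_smul, ← hTadd, smul_smul]
      show (e y a)⁻¹ • ρ (u (b + a)) w = (e y b * (e y (b + a))⁻¹) • ρ (u (b + a)) w
      congr 1
      rw [he_add, mul_inv, ← mul_assoc, mul_inv_cancel₀ (hne y b), one_mul]
    have hP2 : ∑ y : A, P y = (Fintype.card A : ℂ) • w := by
      show ∑ y : A, ∑ a : A, (e y a)⁻¹ • ρ (u a) w = (Fintype.card A : ℂ) • w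
      rw [Finset.sum_comm]
      have hinner : ∀ a : A, ∑ y : A, (e y a)⁻¹ • ρ (u a) w
          = (if a = 0 then (Fintype.card A : ℂ) else 0) • ρ (u a) w := by
        intro a
        rw [← Finset.sum_smul]
        congr 1
        by_cases ha : a = 0
        · subst ha
          simp [he0]
        · rw [if_neg ha]
          simp_rw [hinv]
          exact he_col (-a) (neg_ne_zero.mpr ha)
      simp_rw [hinner]
      rw [Finset.sum_eq_single (0 : A)]
      · rw [if_pos rfl, hT0]
        rfl
      · intro b _ hb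
        rw [if_neg hb, zero_smul]
      · intro h
        exact absurd (Finset.mem_univ _) h
    have hP3 : ∀ y, ρ (u a₀) (P y) = P y := by
      intro y
      by_cases hPy : P y = 0
      · rw [hPy, map_zero]
      · have h1 := hcon y ⟨P y, hPy, fun a => hP1 y a⟩
        rw [hP1 y a₀, h1, one_smul]
    have hfix : ρ (u a₀) ((Fintype.card A : ℂ) • w) = (Fintype.card A : ℂ) • w := by
      rw [← hP2, map_sum]
      exact Finset.sum_congr rfl (fun y _ => hP3 y)
    rw [map_smul] at hfix
    have := smul_right_injective (Fin k → ℂ) hcardA hfix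
    simpa using this

end Cfsg.Agent.Lib.helper44.SUW
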