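import Mathlib

set_option autoImplicit false

namespace Cfsg.Agent.Lib.helper70

/-- An involution acting by conjugation without nontrivial fixed points on a finite subgroup
inverts it. -/
theorem inverts_of_fpf {G : Type*} [Group G] (R : Subgroup G) [Finite R] (t : G)
    (htt : t * t = 1) (htR : ∀ a ∈ R, t * a * t⁻¹ ∈ R)
    (hfix : ∀ a ∈ R, t * a * t⁻¹ = a → a = 1) : ∀ g ∈ R, t * g * t⁻¹ = g⁻¹ := by
  have htinv : t⁻¹ = t := inv_eq_of_mul_eq_one_right htt
  have h_tt : ∀ a : G, a * t * t = a := by intro a; rw [mul_assoc, htt, mul_one]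
  let f : R → R := fun g =>
    ⟨(g : G)⁻¹ * (t * g * t⁻¹), R.mul_mem (R.inv_mem g.2) (htR _ g.2)⟩
  have hinj : Function.Injective f := by
    intro g h hgh
    have h1 : (g : G)⁻¹ * (t * g * t⁻¹) = (h : G)⁻¹ * (t * h * t⁻¹) := congrArg Subtype.val hgh
    have h3 : t * h * t⁻¹ = (h : G) * (g : G)⁻¹ * (t * g * t⁻¹) := by
      rw [mul_assoc (h : G), h1, mul_inv_cancel_left]
    have h2 : t * ((h : G) * (g : G)⁻¹) * t⁻¹ = (h : G) * (g : G)⁻¹ := by
      calc t * ((h : G) * (g : G)⁻¹) * t⁻¹ = (t * h * t⁻¹) * (t * g * t⁻¹)⁻¹ := by group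
        _ = (h : G) * (g : G)⁻¹ := by rw [h3, mul_inv_cancel_right]
    have h4 := hfix _ (R.mul_mem h.2 (R.inv_mem g.2)) h2
    exact Subtype.ext (mul_inv_eq_one.1 h4).symm
  have hsurj : Function.Surjective f := Finite.injective_iff_surjective.1 hinj
  intro u hu
  obtain ⟨g, hg⟩ := hsurj ⟨u, hu⟩
  have hu' : u = (g : G)⁻¹ * (t * g * t⁻¹) := (congrArg Subtype.val hg).symm
  rw [hu', eq_inv_iff_mul_eq_one, htinv]
  simp only [← mul_assoc, h_tt, mul_inv_cancel_right, inv_mul_cancel_right, htt]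

/-- A subgroup inverted by an element is commutative. -/
theorem comm_of_inverts {G : Type*} [Group G] (R : Subgroup G) (t : G)
    (h : ∀ g ∈ R, t * g * t⁻¹ = g⁻¹) : ∀ a ∈ R, ∀ b ∈ R, a * b = b * a := by
  intro a ha b hb
  have h1 := h (b * a) (R.mul_mem hb ha)
  have h2 : t * (b * a) * t⁻¹ = (t * b * t⁻¹) * (t * a * t⁻¹) := by group
  rw [h2, h a ha, h b hb, ← mul_inv_rev] at h1
  exact inv_injective h1

end Cfsg.Agent.Lib.helper70
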