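import Mathlib

set_option autoImplicit false
set_option maxHeartbeats 400000

/-!
# S1383 piece X3 (helper70): core of `p3_eigen`

`P` non-abelian of order `p ^ 3`, `Z = P ∩ C_G(P)` of order `p` containing all commutators of `P`
(these two facts are the statement of piece X1 and are hypotheses here), `Z ≤ A ≤ P`, `|A| = p ^ 2`.
If `h` normalizes `P` and `A`, centralizes `Z`, has odd order prime to `p` and does not centralize
`P`, then every `g ∈ N_G(P)` commuting with `h` normalizes `A`.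
-/

namespace Cfsg.Agent.Lib.helper70.TV

open Subgroup

variable {G : Type*} [Group G]

/-- squeeze: `X ≤ S ≤ Y`, `|X| = p ^ n`, `|Y| = p ^ (n + 1)`, `S ≠ X` gives `Y ≤ S`. -/
theorem h70_squeeze [Finite G] (p : ℕ) [Fact p.Prime] (n : ℕ) (X S Y : Subgroup G)
    (hXS : X ≤ S) (hSY : S ≤ Y) (hX : Nat.card X = p ^ n) (hY : Nat.card Y = p ^ (n + 1))
    (x : G) (hxS : x ∈ S) (hxX : x ∉ X) : Y ≤ S := by
  have hp : p.Prime := Fact.out
  have hdvd : Nat.card S ∣ p ^ (n + 1) := hY ▸ Subgroup.card_dvd_of_le hSY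
  obtain ⟨k, hk, hkS⟩ := (Nat.dvd_prime_pow hp).mp hdvd
  have hlt : Nat.card X < Nat.card S := by
    by_contra hle
    push Not at hle
    have := Subgroup.eq_of_le_of_card_ge hXS hle
    exact hxX (this ▸ hxS)
  rw [hX, hkS] at hlt
  have hnk : n < k := (Nat.pow_lt_pow_iff_right hp.one_lt).mp hlt
  have hk' : k = n + 1 := by omega
  have hcard : Nat.card Y ≤ Nat.card S := by rw [hY, hkS, hk']
  exact (Subgroup.eq_of_le_of_card_ge hSY hcard).ge

theorem h70_comm_eq_one {x y : G} (h : x * y = y * x) : x * y * x⁻¹ * y⁻¹ = 1 := by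
  rw [h]; group

theorem h70_comm_of_eq_one {x y : G} (h : x * y * x⁻¹ * y⁻¹ = 1) : x * y = y * x := by
  have e : x * y = (x * y * x⁻¹ * y⁻¹) * (y * x) := by group
  rw [e, h, one_mul]

/-- left multiplicativity of the commutator when `[x', y]` commutes with `x`. -/
theorem h70_comm_mul_left (x x' y : G)
    (h : (x' * y * x'⁻¹ * y⁻¹) * x = x * (x' * y * x'⁻¹ * y⁻¹)) :
    (x * x') * y * (x * x')⁻¹ * y⁻¹ = (x' * y * x'⁻¹ * y⁻¹) * (x * y * x⁻¹ * y⁻¹) := by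
  have e : (x * x') * y * (x * x')⁻¹ * y⁻¹ = x * (x' * y * x'⁻¹ * y⁻¹) * y * x⁻¹ * y⁻¹ := by
    group
  rw [e, ← h]; group

/-- right multiplicativity of the commutator when `[x, y']` commutes with `x y x⁻¹`. -/
theorem h70_comm_mul_right (x y y' : G)
    (h : (x * y' * x⁻¹ * y'⁻¹) * (x * y * x⁻¹) = (x * y * x⁻¹) * (x * y' * x⁻¹ * y'⁻¹)) :
    x * (y * y') * x⁻¹ * (y * y')⁻¹ = (x * y' * x⁻¹ * y'⁻¹) * (x * y * x⁻¹ * y⁻¹) := by
  have e : x * (y * y') * x⁻¹ * (y * y')⁻¹ = (x * y * x⁻¹) * (x * y' * x⁻¹ * y'⁻¹) * y⁻¹ := by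
    group
  rw [e, ← h]; group

/-- `N_G(P)` normalizes `Z(P) = P ∩ C_G(P)`. -/
theorem h70_norm_Z (P : Subgroup G) (g : G) (hg : g ∈ normalizer (P : Set G)) :
    ∀ z ∈ P ⊓ centralizer (P : Set G), g * z * g⁻¹ ∈ P ⊓ centralizer (P : Set G) := by
  intro z hz
  have hz1 := (Subgroup.mem_inf.mp hz).1
  have hz2 := (Subgroup.mem_inf.mp hz).2
  refine Subgroup.mem_inf.mpr ⟨(mem_normalizer_iff.mp hg z).mp hz1, ?_⟩
  rw [mem_centralizer_iff]
  intro x hx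
  have hx' : g⁻¹ * x * g ∈ P := by
    rw [mem_normalizer_iff.mp hg (g⁻¹ * x * g)]
    have e : g * (g⁻¹ * x * g) * g⁻¹ = x := by group
    rw [e]; exact hx
  have hc : (g⁻¹ * x * g) * z = z * (g⁻¹ * x * g) := (mem_centralizer_iff.mp hz2) _ hx'
  calc x * (g * z * g⁻¹) = g * ((g⁻¹ * x * g) * z) * g⁻¹ := by group
    _ = g * (z * (g⁻¹ * x * g)) * g⁻¹ := by rw [hc]
    _ = g * z * g⁻¹ * x := by group

/-- for a finite subgroup, `g A g⁻¹ ⊆ A` implies `g ∈ N_G(A)`. -/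
theorem h70_mem_normalizer_of_conj_le [Finite G] (A : Subgroup G) (g : G)
    (hall : ∀ a ∈ A, g * a * g⁻¹ ∈ A) : g ∈ normalizer (A : Set G) := by
  rw [mem_normalizer_iff]
  intro x
  constructor
  · exact hall x
  · intro hx
    let f : A → A := fun y => ⟨g * y * g⁻¹, hall y y.2⟩
    have hf : Function.Injective f := by
      intro y y' hyy'
      have h1 : g * (y : G) * g⁻¹ = g * (y' : G) * g⁻¹ := congrArg Subtype.val hyy'
      apply Subtype.ext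
      have h2 := mul_right_cancel h1
      exact mul_left_cancel h2
    obtain ⟨y, hy⟩ := Finite.surjective_of_injective hf ⟨g * x * g⁻¹, hx⟩
    have h1 : g * (y : G) * g⁻¹ = g * x * g⁻¹ := congrArg Subtype.val hy
    have h2 : (y : G) = x := mul_left_cancel (mul_right_cancel h1)
    rw [← h2]; exact y.2

/-- **X3 core.** -/
theorem p3_eigen_core [Finite G] (p : ℕ) [Fact p.Prime] (P A : Subgroup G)
    (hP : Nat.card P = p ^ 3)
    (hZcard : Nat.card ↥(P ⊓ centralizer (P : Set G)) = p)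
    (hcomZ : ∀ x ∈ P, ∀ y ∈ P, x * y * x⁻¹ * y⁻¹ ∈ P ⊓ centralizer (P : Set G))
    (hZA : P ⊓ centralizer (P : Set G) ≤ A) (hAP : A ≤ P)
    (hA : Nat.card A = p ^ 2) (h g : G) (hhP : h ∈ normalizer (P : Set G))
    (hgP : g ∈ normalizer (P : Set G)) (hhA : h ∈ normalizer (A : Set G)) (hhg : h * g = g * h)
    (hhZ : ∀ z ∈ P ⊓ centralizer (P : Set G), h * z = z * h)
    (hodd : Odd (orderOf h)) (hcop : (orderOf h).Coprime p)
    (hnc : ¬ ∀ x ∈ P, h * x = x * h) : g ∈ normalizer (A : Set G) := by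
  classical
  have hp : p.Prime := Fact.out
  by_contra hgA
  -- an element `a ∈ A` with `b = g a g⁻¹ ∉ A`
  have hex : ∃ a ∈ A, g * a * g⁻¹ ∉ A := by
    by_contra hcon
    push Not at hcon
    exact hgA (h70_mem_normalizer_of_conj_le A g hcon)
  obtain ⟨a, haA, hbA'⟩ := hex
  obtain ⟨b, hb⟩ : ∃ b, b = g * a * g⁻¹ := ⟨_, rfl⟩
  have hbA : b ∉ A := by rw [hb]; exact hbA'
  have haP : a ∈ P := hAP haA
  have hgc : ∀ x ∈ P, g * x * g⁻¹ ∈ P := fun x hx => (mem_normalizer_iff.mp hgP x).mp hx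
  have hhc : ∀ x ∈ P, h * x * h⁻¹ ∈ P := fun x hx => (mem_normalizer_iff.mp hhP x).mp hx
  have hhc' : ∀ x ∈ P, h⁻¹ * x * h ∈ P := fun x hx => by
    have := (mem_normalizer_iff.mp (inv_mem hhP) x).mp hx
    rwa [inv_inv] at this
  have hbP : b ∈ P := by rw [hb]; exact hgc a haP
  have hgZ := h70_norm_Z P g hgP
  have haZ : a ∉ P ⊓ centralizer (P : Set G) := by
    intro haZ
    apply hbA
    rw [hb]
    exact hZA (hgZ a haZ)
  -- `Z` is central in `P`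
  have hZc : ∀ z ∈ P ⊓ centralizer (P : Set G), ∀ x ∈ P, z * x = x * z := by
    intro z hz x hx
    exact ((mem_centralizer_iff.mp (Subgroup.mem_inf.mp hz).2) x hx).symm
  -- `A` is abelian
  have hAab : ∀ u ∈ A, ∀ v ∈ A, u * v = v * u := by
    intro u hu v hv
    have hc := IsPGroup.commutative_of_card_eq_prime_sq (p := p) (G := ↥A) hA
    exact congrArg Subtype.val (hc ⟨u, hu⟩ ⟨v, hv⟩)
  -- bimultiplicativity of the commutator on `P`
  have bl : ∀ x ∈ P, ∀ x' ∈ P, ∀ y ∈ P,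
      (x * x') * y * (x * x')⁻¹ * y⁻¹ = (x' * y * x'⁻¹ * y⁻¹) * (x * y * x⁻¹ * y⁻¹) := by
    intro x hx x' hx' y hy
    exact h70_comm_mul_left x x' y (hZc _ (hcomZ x' hx' y hy) x hx)
  have br : ∀ x ∈ P, ∀ y ∈ P, ∀ y' ∈ P,
      x * (y * y') * x⁻¹ * (y * y')⁻¹ = (x * y' * x⁻¹ * y'⁻¹) * (x * y * x⁻¹ * y⁻¹) := by
    intro x hx y hy y' hy'
    exact h70_comm_mul_right x y y'
      (hZc _ (hcomZ x hx y' hy') _ (P.mul_mem (P.mul_mem hx hy) (P.inv_mem hx)))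
  -- inverse
  have blinv : ∀ x ∈ P, ∀ y ∈ P, x⁻¹ * y * x⁻¹⁻¹ * y⁻¹ = (x * y * x⁻¹ * y⁻¹)⁻¹ := by
    intro x hx y hy
    have e2 := bl x hx x⁻¹ (P.inv_mem hx) y hy
    have e4 : x * x⁻¹ * y * (x * x⁻¹)⁻¹ * y⁻¹ = 1 := by group
    rw [e4] at e2
    exact eq_inv_of_mul_eq_one_left e2.symm
  -- kernel of `x ↦ [x, b]` on `A` is `Z`
  have hker : ∀ x ∈ A, x * b * x⁻¹ * b⁻¹ = 1 → x ∈ P ⊓ centralizer (P : Set G) := by
    intro x hxA hxb
    by_contra hxZ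
    have hAC : A ≤ P ⊓ centralizer ({x} : Set G) := by
      intro y hy
      refine Subgroup.mem_inf.mpr ⟨hAP hy, ?_⟩
      rw [mem_centralizer_iff]
      rintro _ rfl
      exact hAab _ hxA y hy
    have hbC : b ∈ P ⊓ centralizer ({x} : Set G) := by
      refine Subgroup.mem_inf.mpr ⟨hbP, ?_⟩
      rw [mem_centralizer_iff]
      rintro _ rfl
      exact h70_comm_of_eq_one hxb
    have hPC := h70_squeeze p 2 A (P ⊓ centralizer ({x} : Set G)) P hAC inf_le_left hA hP b hbC hbA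
    apply hxZ
    refine Subgroup.mem_inf.mpr ⟨hAP hxA, ?_⟩
    rw [mem_centralizer_iff]
    intro y hy
    have := (Subgroup.mem_inf.mp (hPC hy)).2
    rw [mem_centralizer_iff] at this
    exact (this x rfl).symm
  -- symmetry: `[a, g y g⁻¹] = [y, b]` for `y ∈ A`
  let S : Subgroup G :=
    { carrier := {y | y ∈ A ∧
        a * (g * y * g⁻¹) * a⁻¹ * (g * y * g⁻¹)⁻¹ = y * b * y⁻¹ * b⁻¹}
      mul_mem' := by
        rintro y y' ⟨hy, ey⟩ ⟨hy', ey'⟩
        refine ⟨A.mul_mem hy hy', ?_⟩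
        have e1 : g * (y * y') * g⁻¹ = (g * y * g⁻¹) * (g * y' * g⁻¹) := by group
        rw [e1, br a haP _ (hgc y (hAP hy)) _ (hgc y' (hAP hy')),
          bl y (hAP hy) y' (hAP hy') b hbP, ey, ey']
      one_mem' := ⟨A.one_mem, by group⟩
      inv_mem' := by
        rintro y ⟨hy, ey⟩
        refine ⟨A.inv_mem hy, ?_⟩
        have e1 := br a haP (g * y * g⁻¹) (hgc y (hAP hy)) (g * y⁻¹ * g⁻¹)
          (hgc y⁻¹ (hAP (A.inv_mem hy)))
        have e3 : a * (g * y * g⁻¹ * (g * y⁻¹ * g⁻¹)) * a⁻¹ *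
            (g * y * g⁻¹ * (g * y⁻¹ * g⁻¹))⁻¹ = 1 := by group
        rw [e3] at e1
        have e5 := eq_inv_of_mul_eq_one_left e1.symm
        rw [e5, blinv y (hAP hy) b hbP, ey] }
  have hSmem : ∀ y, y ∈ S ↔ (y ∈ A ∧
      a * (g * y * g⁻¹) * a⁻¹ * (g * y * g⁻¹)⁻¹ = y * b * y⁻¹ * b⁻¹) := fun y => Iff.rfl
  have hZS : P ⊓ centralizer (P : Set G) ≤ S := by
    intro z hz
    rw [hSmem]
    refine ⟨hZA hz, ?_⟩
    rw [h70_comm_eq_one (hZc z hz b hbP), h70_comm_eq_one (hZc _ (hgZ z hz) a haP).symm]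
  have haS : a ∈ S := by
    rw [hSmem]
    exact ⟨haA, by rw [← hb]⟩
  have hSA : S ≤ A := fun y hy => ((hSmem y).mp hy).1
  have hAS : A ≤ S := h70_squeeze p 1 (P ⊓ centralizer (P : Set G)) S A hZS hSA
    (by rw [hZcard, pow_one]) hA a haS haZ
  have hsym : ∀ y ∈ A, a * (g * y * g⁻¹) * a⁻¹ * (g * y * g⁻¹)⁻¹ = y * b * y⁻¹ * b⁻¹ :=
    fun y hy => ((hSmem y).mp (hAS hy)).2
  -- `h`-invariance of commutators
  have hinv : ∀ x ∈ P, ∀ y ∈ P,
      (h * x * h⁻¹) * (h * y * h⁻¹) * (h * x * h⁻¹)⁻¹ * (h * y * h⁻¹)⁻¹ = x * y * x⁻¹ * y⁻¹ := by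
    intro x hx y hy
    have e1 : (h * x * h⁻¹) * (h * y * h⁻¹) * (h * x * h⁻¹)⁻¹ * (h * y * h⁻¹)⁻¹ =
        h * (x * y * x⁻¹ * y⁻¹) * h⁻¹ := by group
    rw [e1, hhZ _ (hcomZ x hx y hy)]; group
  -- `a₁ = h a h⁻¹`, `a₂ = h⁻¹ a h`
  have ha₁A : h * a * h⁻¹ ∈ A := (mem_normalizer_iff.mp hhA a).mp haA
  have ha₂A : h⁻¹ * a * h ∈ A := by
    have := (mem_normalizer_iff.mp (inv_mem hhA) a).mp haA
    rwa [inv_inv] at this
  have c1 : h⁻¹ * g = g * h⁻¹ := by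
    have : h⁻¹ * g = h⁻¹ * (g * h) * h⁻¹ := by group
    rw [this, ← hhg]; group
  have c2 : g⁻¹ * h = h * g⁻¹ := by
    have : g⁻¹ * h = g⁻¹ * (h * g) * g⁻¹ := by group
    rw [this, hhg]; group
  have eb : h⁻¹ * b * h = g * (h⁻¹ * a * h) * g⁻¹ := by
    rw [hb]
    calc h⁻¹ * (g * a * g⁻¹) * h = (h⁻¹ * g) * a * (g⁻¹ * h) := by group
      _ = (g * h⁻¹) * a * (h * g⁻¹) := by rw [c1, c2]
      _ = g * (h⁻¹ * a * h) * g⁻¹ := by group
  have e12 : (h * a * h⁻¹) * b * (h * a * h⁻¹)⁻¹ * b⁻¹ =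
      (h⁻¹ * a * h) * b * (h⁻¹ * a * h)⁻¹ * b⁻¹ := by
    have e1 := hinv a haP (h⁻¹ * b * h) (hhc' b hbP)
    have e2 : h * (h⁻¹ * b * h) * h⁻¹ = b := by group
    rw [e2] at e1
    rw [e1, eb]
    exact hsym _ ha₂A
  -- `z₀ = a₁ a₂⁻¹ ∈ Z`
  have hz₀ : (h * a * h⁻¹) * (h⁻¹ * a * h)⁻¹ ∈ P ⊓ centralizer (P : Set G) := by
    apply hker _ (A.mul_mem ha₁A (A.inv_mem ha₂A))
    rw [bl _ (hAP ha₁A) _ (P.inv_mem (hAP ha₂A)) b hbP, blinv _ (hAP ha₂A) b hbP, e12]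
    group
  obtain ⟨z₀, hz₀def⟩ : ∃ z₀, z₀ = (h * a * h⁻¹) * (h⁻¹ * a * h)⁻¹ := ⟨_, rfl⟩
  rw [← hz₀def] at hz₀
  -- `(h h) a (h h)⁻¹ = z₀ a`
  have hk : (h * h) * a * (h * h)⁻¹ = z₀ * a := by
    have e1 : (h * h) * a * (h * h)⁻¹ = h * z₀ * h⁻¹ * a := by
      rw [hz₀def]; group
    rw [e1, hhZ z₀ hz₀]; group
  have hkZ : ∀ z ∈ P ⊓ centralizer (P : Set G), (h * h) * z = z * (h * h) := by
    intro z hz
    rw [mul_assoc, hhZ z hz, ← mul_assoc, hhZ z hz, mul_assoc]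
  have hkn : ∀ n : ℕ, (h * h) ^ n * a * ((h * h) ^ n)⁻¹ = z₀ ^ n * a := by
    intro n
    induction n with
    | zero => simp
    | succ n ih =>
      have e1 : (h * h) ^ (n + 1) * a * ((h * h) ^ (n + 1))⁻¹ =
          (h * h) * ((h * h) ^ n * a * ((h * h) ^ n)⁻¹) * (h * h)⁻¹ := by
        rw [pow_succ']
        generalize (h * h) ^ n = kn
        simp only [mul_inv_rev, mul_assoc]
      rw [e1, ih]
      have e2 : (h * h) * (z₀ ^ n * a) * (h * h)⁻¹ =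
          ((h * h) * z₀ ^ n) * (h * h)⁻¹ * ((h * h) * a * (h * h)⁻¹) := by group
      rw [e2, hkZ _ (pow_mem hz₀ n), hk, pow_succ, mul_inv_cancel_right, mul_assoc]
  have hz₀n : z₀ ^ orderOf h = 1 := by
    have e1 := hkn (orderOf h)
    have e2 : (h * h) ^ orderOf h = 1 := by
      rw [(Commute.refl h).mul_pow, pow_orderOf_eq_one, one_mul]
    rw [e2] at e1
    simp only [one_mul, inv_one, mul_one] at e1
    have e3 : z₀ ^ orderOf h * a = 1 * a := by rw [one_mul]; exact e1.symm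
    exact mul_right_cancel e3
  have hz₀p : z₀ ^ p = 1 := by
    have := pow_card_eq_one' (G := ↥(P ⊓ centralizer (P : Set G))) (x := ⟨z₀, hz₀⟩)
    rw [hZcard] at this
    exact congrArg Subtype.val this
  have hz₀1 : z₀ = 1 := by
    have h1 := (pow_gcd_eq_one (a := z₀) (m := orderOf h) (n := p)).mpr ⟨hz₀n, hz₀p⟩
    have h2 : (orderOf h).gcd p = 1 := hcop
    rw [h2, pow_one] at h1
    exact h1
  -- `h h` commutes with `a`, hence so does `h`
  have hka : (h * h) * a = a * (h * h) := by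
    have e := hk
    rw [hz₀1, one_mul] at e
    have e' : (h * h) * a = ((h * h) * a * (h * h)⁻¹) * (h * h) := by group
    rw [e', e]
  have hha : h * a = a * h := by
    obtain ⟨j, hj⟩ := hodd
    have e1 : (h * h) ^ (j + 1) = h := by
      rw [(Commute.refl h).mul_pow, ← pow_add]
      have : j + 1 + (j + 1) = orderOf h + 1 := by omega
      rw [this, pow_succ, pow_orderOf_eq_one, one_mul]
    have hc : Commute (h * h) a := hka
    have := hc.pow_left (j + 1)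
    rw [e1] at this
    exact this
  -- `C_P(h) = P`
  have hZC : P ⊓ centralizer (P : Set G) ≤ A ⊓ (P ⊓ centralizer ({h} : Set G)) := by
    intro z hz
    refine Subgroup.mem_inf.mpr ⟨hZA hz, Subgroup.mem_inf.mpr ⟨(Subgroup.mem_inf.mp hz).1, ?_⟩⟩
    rw [mem_centralizer_iff]
    rintro _ rfl
    exact hhZ z hz
  have haC : a ∈ A ⊓ (P ⊓ centralizer ({h} : Set G)) := by
    refine Subgroup.mem_inf.mpr ⟨haA, Subgroup.mem_inf.mpr ⟨haP, ?_⟩⟩
    rw [mem_centralizer_iff]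
    rintro _ rfl
    exact hha
  have hAC : A ≤ A ⊓ (P ⊓ centralizer ({h} : Set G)) :=
    h70_squeeze p 1 (P ⊓ centralizer (P : Set G)) _ A hZC inf_le_left
      (by rw [hZcard, pow_one]) hA a haC haZ
  have hbC : b ∈ P ⊓ centralizer ({h} : Set G) := by
    refine Subgroup.mem_inf.mpr ⟨hbP, ?_⟩
    rw [mem_centralizer_iff]
    intro y hy
    have hy' : y = h := hy
    rw [hy', hb]
    calc h * (g * a * g⁻¹) = (h * g) * a * g⁻¹ := by group
      _ = g * (h * a) * g⁻¹ := by rw [hhg]; group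
      _ = g * (a * h) * g⁻¹ := by rw [hha]
      _ = g * a * (h * g⁻¹) := by group
      _ = g * a * (g⁻¹ * h) := by rw [c2]
      _ = g * a * g⁻¹ * h := by group
  have hPC : P ≤ P ⊓ centralizer ({h} : Set G) :=
    h70_squeeze p 2 A _ P (fun y hy => (Subgroup.mem_inf.mp (hAC hy)).2) inf_le_left hA hP b hbC hbA
  apply hnc
  intro x hx
  have := (Subgroup.mem_inf.mp (hPC hx)).2
  rw [mem_centralizer_iff] at this
  exact this h rfl

end Cfsg.Agent.Lib.helper70.TV
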