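import Mathlib
import Cfsg.Prelude.Def_OddOrderLocal
import Cfsg.Agent.Lib.helper6.TV_X1
import Cfsg.Agent.Lib.helper70.TV_X3core

set_option autoImplicit false
set_option maxHeartbeats 400000

/-!
# S1383 piece X3 (helper70): `p3_eigen` (verbatim Skel statement)
-/

namespace Cfsg.Agent.Lib.helper70.TV

open Cfsg Subgroup

variable {G : Type*} [Group G]

/-- **X3** (pure). `P` non-abelian of order `p ^ 3`, `Z = Z(P) ≤ A ≤ P` with `|A| = p ^ 2`.
Let `h` normalize `P` and `A`, centralize `Z`, have odd order prime to `p`, and NOT centralize `P`.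
Then every `g ∈ N_G(P)` commuting with `h` normalizes `A`.
(`A / Z` is an eigenspace of `h` on `P / Z`, for an eigenvalue `λ`; `h` is not the scalar `λ` on
`P / Z`, since then it would act as `λ ^ 2` on `Z = [P, P]`, so `λ ^ 2 = 1`, `h ^ 2` stabilizes
`P > Z > 1`, `h ^ 2` centralizes `P`, and so does `h` as its order is odd.) -/
theorem p3_eigen [Finite G] (p : ℕ) [Fact p.Prime] (P A : Subgroup G) (hP : Nat.card P = p ^ 3)
    (hPna : ¬ IsMulCommutative ↥P) (hZA : P ⊓ centralizer (P : Set G) ≤ A) (hAP : A ≤ P)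
    (hA : Nat.card A = p ^ 2) (h g : G) (hhP : h ∈ normalizer (P : Set G))
    (hgP : g ∈ normalizer (P : Set G)) (hhA : h ∈ normalizer (A : Set G)) (hhg : h * g = g * h)
    (hhZ : ∀ z ∈ P ⊓ centralizer (P : Set G), h * z = z * h)
    (hodd : Odd (orderOf h)) (hcop : (orderOf h).Coprime p)
    (hnc : ¬ ∀ x ∈ P, h * x = x * h) : g ∈ normalizer (A : Set G) := by
  obtain ⟨h1, _, h3⟩ := Cfsg.Agent.Lib.helper6.TV.p3_struct p P hP hPna
  exact p3_eigen_core p P A hP h1 h3 hZA hAP hA h g hhP hgP hhA hhg hhZ hodd hcop hnc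

end Cfsg.Agent.Lib.helper70.TV
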