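import Mathlib

/-!
# S6000, sub-lemma for AELT2 (requested by helper62): a double count of commuting pairs
-/

set_option autoImplicit false

namespace Cfsg.Agent.Lib.helper89.S60

/-- a proper subgroup whose complement is "closed under quotients" has index two -/
theorem h70_card_of_ne_top {K : Type*} [Group K] [Finite K] (A : Subgroup K) (hA : A ≠ ⊤)
    (h : ∀ g h : K, g ∉ A → h ∉ A → g⁻¹ * h ∈ A) : 2 * Nat.card A = Nat.card K := by
  obtain ⟨a, ha⟩ : ∃ a, a ∉ A := by
    by_contra hcon
    push_neg at hcon
    exact hA (eq_top_iff.mpr (fun x _ => hcon x))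
  have hidx : A.index = 2 := by
    rw [Subgroup.index_eq_two_iff]
    refine ⟨a, fun b => ?_⟩
    by_cases hb : b ∈ A
    · right
      refine ⟨hb, fun hba => ha ?_⟩
      have h3 := A.mul_mem (A.inv_mem hb) hba
      simpa using h3
    · left
      refine ⟨?_, hb⟩
      have h3 := h b⁻¹ a (fun hbi => hb (by simpa using A.inv_mem hbi)) ha
      simpa using h3
  have h4 := A.card_mul_index
  rw [hidx] at h4
  omega

theorem h70_sum_ite_eq_card {K : Type*} [Group K] [Fintype K] (A : Subgroup K) (P : K → Prop)
    [DecidablePred P] (hP : ∀ k, P k ↔ k ∈ A) :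
    ∑ k : K, (if P k then 1 else 0) = Nat.card A := by
  classical
  rw [← Finset.card_filter, Nat.card_eq_fintype_card]
  exact (Fintype.card_of_subtype _ (fun x => by simp [hP])).symm

theorem h70_sum_two_one {K : Type*} [Fintype K] (Q : K → Prop) [DecidablePred Q] :
    ∑ k : K, (if Q k then 2 else 1) = Fintype.card K + ∑ k : K, (if Q k then 1 else 0) := by
  rw [← Finset.card_univ, Finset.card_eq_sum_ones, ← Finset.sum_add_distrib]
  apply Finset.sum_congr rfl
  intro k _
  split_ifs <;> rfl

/-- the double count requested by helper62 (statement verbatim from the request) -/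
theorem h70_comm_count {G : Type*} [Group G] [Finite G] (T : Subgroup G) (hZ : Subgroup.center G ≤ T)
    (H1 : ∀ t ∈ T, ∀ g h : G, ¬ Commute t g → ¬ Commute t h → Commute t (g⁻¹ * h))
    (H2 : ∀ g : G, ∀ s ∈ T, ∀ t ∈ T, ¬ Commute s g → ¬ Commute t g → Commute (s⁻¹ * t) g) :
    Nat.card (Subgroup.center G) * Nat.card G = Nat.card (Subgroup.centralizer (T : Set G)) * Nat.card T := by
  classical
  haveI : Fintype G := Fintype.ofFinite G
  have iffA : ∀ (t g : G), Commute t g ↔ g ∈ Subgroup.centralizer ({t} : Set G) := by
    intro t g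
    constructor
    · intro hc
      rw [Subgroup.mem_centralizer_iff]
      intro k hk
      rw [Set.mem_singleton_iff] at hk
      subst hk
      exact hc
    · intro hx
      rw [Subgroup.mem_centralizer_iff] at hx
      exact hx _ rfl
  have iffB : ∀ (g : G) (t : ↥T), Commute (t : G) g ↔
      t ∈ (Subgroup.centralizer ({g} : Set G)).subgroupOf T := by
    intro g t
    rw [Subgroup.mem_subgroupOf, ← iffA]
    exact ⟨fun h => h.symm, fun h => h.symm⟩
  have hA : ∀ t : ↥T, 2 * Nat.card (Subgroup.centralizer ({(t : G)} : Set G)) =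
      Nat.card G * (if (t : G) ∈ Subgroup.center G then 2 else 1) := by
    intro t
    by_cases ht : (t : G) ∈ Subgroup.center G
    · rw [if_pos ht]
      have h3 : Subgroup.centralizer ({(t : G)} : Set G) = ⊤ := by
        rw [eq_top_iff]
        intro g _
        rw [← iffA]
        exact (Subgroup.mem_center_iff.mp ht g).symm
      rw [h3, Subgroup.card_top]
      ring
    · rw [if_neg ht, mul_one]
      apply h70_card_of_ne_top
      · intro htop
        apply ht
        rw [Subgroup.mem_center_iff]
        intro g
        have hg : g ∈ Subgroup.centralizer ({(t : G)} : Set G) := by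
          rw [htop]
          trivial
        exact ((iffA _ _).mpr hg).symm
      · intro g h hg hh
        rw [← iffA] at hg hh ⊢
        exact H1 t t.2 g h hg hh
  have hB : ∀ g : G, 2 * Nat.card ((Subgroup.centralizer ({g} : Set G)).subgroupOf T) =
      Nat.card T * (if g ∈ Subgroup.centralizer (T : Set G) then 2 else 1) := by
    intro g
    by_cases hg : g ∈ Subgroup.centralizer (T : Set G)
    · rw [if_pos hg]
      have h3 : (Subgroup.centralizer ({g} : Set G)).subgroupOf T = ⊤ := by
        rw [eq_top_iff]
        intro t _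
        rw [← iffB]
        rw [Subgroup.mem_centralizer_iff] at hg
        exact hg t t.2
      rw [h3, Subgroup.card_top]
      ring
    · rw [if_neg hg, mul_one]
      apply h70_card_of_ne_top
      · intro htop
        apply hg
        rw [Subgroup.mem_centralizer_iff]
        intro h hh
        have h4 : (⟨h, hh⟩ : ↥T) ∈ (Subgroup.centralizer ({g} : Set G)).subgroupOf T := by
          rw [htop]
          trivial
        exact (iffB g ⟨h, hh⟩).mpr h4
      · intro s t hs ht
        rw [← iffB] at hs ht ⊢
        exact H2 g s s.2 t t.2 hs ht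
  have e1 : 2 * ∑ t : ↥T, ∑ g : G, (if Commute (t : G) g then 1 else 0) =
      Nat.card G * (Nat.card T + Nat.card (Subgroup.center G)) := by
    rw [Finset.mul_sum]
    have h5 : ∀ t : ↥T, 2 * ∑ g : G, (if Commute (t : G) g then 1 else 0) =
        Nat.card G * (if (t : G) ∈ Subgroup.center G then 2 else 1) := by
      intro t
      rw [h70_sum_ite_eq_card (Subgroup.centralizer ({(t : G)} : Set G))
        (fun g => Commute (t : G) g) (iffA t)]
      exact hA t
    rw [Finset.sum_congr rfl (fun t _ => h5 t), ← Finset.mul_sum, h70_sum_two_one,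
      h70_sum_ite_eq_card ((Subgroup.center G).subgroupOf T)
        (fun t : ↥T => (t : G) ∈ Subgroup.center G) (fun t => by rw [Subgroup.mem_subgroupOf]),
      Nat.card_congr (Subgroup.subgroupOfEquivOfLe hZ).toEquiv, ← Nat.card_eq_fintype_card]
  have e2 : 2 * ∑ t : ↥T, ∑ g : G, (if Commute (t : G) g then 1 else 0) =
      Nat.card T * (Nat.card G + Nat.card (Subgroup.centralizer (T : Set G))) := by
    rw [Finset.sum_comm, Finset.mul_sum]
    have h5 : ∀ g : G, 2 * ∑ t : ↥T, (if Commute (t : G) g then 1 else 0) =
        Nat.card T * (if g ∈ Subgroup.centralizer (T : Set G) then 2 else 1) := by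
      intro g
      rw [h70_sum_ite_eq_card ((Subgroup.centralizer ({g} : Set G)).subgroupOf T)
        (fun t : ↥T => Commute (t : G) g) (iffB g)]
      exact hB g
    rw [Finset.sum_congr rfl (fun g _ => h5 g), ← Finset.mul_sum, h70_sum_two_one,
      h70_sum_ite_eq_card (Subgroup.centralizer (T : Set G))
        (fun g => g ∈ Subgroup.centralizer (T : Set G)) (fun g => Iff.rfl),
      ← Nat.card_eq_fintype_card]
  have h6 := e1.symm.trans e2
  nlinarith [h6]

end Cfsg.Agent.Lib.helper89.S60
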