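import Mathlib
import Cfsg.Agent.Lib.helper75.PQDefs

/-!
# S4306 piece OL: a normal subgroup acting as an `l`-group on a minimal normal `l`-subgroup
centralizes it
-/

set_option autoImplicit false

namespace Cfsg.Agent.Lib.helper75.PQ

/-- OL: a normal subgroup acting on the minimal normal `l`-subgroup `V` as an `l`-group
centralizes `V`. -/
theorem no_normal_l {Γ : Type*} [Group Γ] [Finite Γ] (V : Subgroup Γ) (hVn : V.Normal)
    (hVne : V ≠ ⊥) (hVmin : ∀ U : Subgroup Γ, U.Normal → U ≤ V → U = ⊥ ∨ U = V) (l : ℕ)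
    (hl : l.Prime) (hexp : ∀ v ∈ V, v ^ l = 1) (L : Subgroup Γ) (hLn : L.Normal)
    (hL : ∀ x ∈ L, ∃ n : ℕ, ∀ v ∈ V, x ^ (l ^ n) * v = v * x ^ (l ^ n)) :
    ∀ x ∈ L, ∀ v ∈ V, x * v = v * x := by
  classical
  have : Fact l.Prime := ⟨hl⟩
  have := hVn
  have := hLn
  -- the conjugation action of `L` on `V`
  let φ : L →* MulAut V := (MulAut.conjNormal : Γ →* MulAut V).comp L.subtype
  have hφ : ∀ (x : L) (v : V), ((φ x v : V) : Γ) = (x : Γ) * v * (x : Γ)⁻¹ := by
    intro x v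
    exact MulAut.conjNormal_apply (x : Γ) v
  -- its image is an `l`-group
  have hPG : IsPGroup l φ.range := by
    rintro ⟨_, ⟨x, rfl⟩⟩
    obtain ⟨n, hn⟩ := hL x x.2
    refine ⟨n, ?_⟩
    apply Subtype.ext
    rw [Subgroup.coe_pow, Subgroup.coe_one, ← map_pow]
    ext v
    rw [hφ]
    have h1 := hn v v.2
    have h2 : ((x ^ l ^ n : L) : Γ) = (x : Γ) ^ l ^ n := by simp
    rw [h2, h1]
    simp
  -- `V` is a nontrivial `l`-group
  have hVp : IsPGroup l V := by
    intro v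
    refine ⟨1, ?_⟩
    apply Subtype.ext
    simpa using hexp v v.2
  have hVnt : Nontrivial V := by
    rw [Subgroup.nontrivial_iff_ne_bot]; exact hVne
  have hdvd : l ∣ Nat.card V := by
    obtain ⟨n, hn0, hn⟩ := hVp.nontrivial_iff_card.mp hVnt
    rw [hn]; exact dvd_pow_self _ (ne_of_gt hn0)
  have h1fix : (1 : V) ∈ MulAction.fixedPoints φ.range V := by
    intro g
    show (g : MulAut V) (1 : V) = 1
    exact map_one _
  obtain ⟨b, hb, hb1⟩ := hPG.exists_fixed_point_of_prime_dvd_card_of_fixed_point V hdvd h1fix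
  -- `b` is centralized by `L`
  have hbL : ∀ x ∈ L, x * (b : Γ) = (b : Γ) * x := by
    intro x hx
    have h := hb ⟨φ ⟨x, hx⟩, ⟨⟨x, hx⟩, rfl⟩⟩
    have h' : φ ⟨x, hx⟩ b = b := h
    have h'' := congrArg (Subtype.val) h'
    rw [hφ] at h''
    have : x * (b : Γ) * x⁻¹ = (b : Γ) := h''
    calc x * (b : Γ) = x * (b : Γ) * x⁻¹ * x := by group
      _ = (b : Γ) * x := by rw [this]
  -- the normal subgroup `V ⊓ C(L)`
  have hUn : (V ⊓ Subgroup.centralizer (L : Set Γ)).Normal := inferInstance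
  have hbU : (b : Γ) ∈ V ⊓ Subgroup.centralizer (L : Set Γ) := by
    refine Subgroup.mem_inf.mpr ⟨b.2, ?_⟩
    rw [Subgroup.mem_centralizer_iff]
    intro x hx
    exact hbL x hx
  rcases hVmin _ hUn inf_le_left with hU | hU
  · exfalso
    rw [hU, Subgroup.mem_bot] at hbU
    apply hb1
    apply Subtype.ext
    simpa using hbU.symm
  · intro x hx v hv
    have hv' : v ∈ V ⊓ Subgroup.centralizer (L : Set Γ) := by rw [hU]; exact hv
    have := (Subgroup.mem_centralizer_iff.mp (Subgroup.mem_inf.mp hv').2) x hx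
    exact this

end Cfsg.Agent.Lib.helper75.PQ
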