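import Mathlib
import Cfsg.Agent.Lib.helper70.Basic
import Cfsg.Agent.Lib.helper70.PNorm
import Cfsg.Agent.Lib.helper70.Frob
import Cfsg.Agent.S0016

set_option autoImplicit false

/-!
# Finite `p`-groups in which subgroups of equal order are isomorphic

* `comm_sup_zpowers`: adjoining a centralizing element to a commutative subgroup stays commutative.
* `card_sup_le_of_le_normalizer`: `|H ⊔ N| ≤ |H| * |N|` when `H` normalizes `N`.
* `pow_eq_one_of_mem_sup_zpowers`
* `exists_abelian_ge_cube`: a `p`-group of order at least `p ^ 4` has an abelian subgroup of order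
  at least `p ^ 3`.
* `exists_nonabelian_le_cube`: a nonabelian `p`-group of exponent `p` has a nonabelian subgroup of
  order at most `p ^ 3`.
* `pgroup_same_order_iso_types`: a finite `p`-group whose subgroups of equal order are isomorphic
  is cyclic, elementary abelian, quaternion of order 8 or nonabelian of order `p ^ 3` and
  exponent `p`.
-/

namespace Cfsg.Agent.Lib.helper70

open Subgroup
open scoped Pointwise

theorem comm_sup_zpowers {G : Type*} [Group G] (A : Subgroup G)
    (hA : ∀ a ∈ A, ∀ b ∈ A, a * b = b * a) (x : G) (hx : ∀ a ∈ A, a * x = x * a) :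
    ∀ s ∈ A ⊔ zpowers x, ∀ t ∈ A ⊔ zpowers x, s * t = t * s := by
  have h1 : A ⊔ zpowers x ≤ centralizer ((A : Set G) ∪ {x}) := by
    apply sup_le
    · intro a ha
      rw [Subgroup.mem_centralizer_iff]
      rintro h (hh | hh)
      · exact hA h hh a ha
      · rw [Set.mem_singleton_iff] at hh; subst hh; exact (hx a ha).symm
    · rw [Subgroup.zpowers_le, Subgroup.mem_centralizer_iff]
      rintro h (hh | hh)
      · exact hx h hh
      · rw [Set.mem_singleton_iff] at hh; subst hh; rfl
  intro s hs t ht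
  have h2 : A ⊔ zpowers x ≤ centralizer ({s} : Set G) := by
    apply sup_le
    · intro a ha
      rw [Subgroup.mem_centralizer_iff]
      intro h hh
      rw [Set.mem_singleton_iff] at hh; subst hh
      have := h1 hs
      rw [Subgroup.mem_centralizer_iff] at this
      exact (this a (Or.inl ha)).symm
    · rw [Subgroup.zpowers_le, Subgroup.mem_centralizer_iff]
      intro h hh
      rw [Set.mem_singleton_iff] at hh; subst hh
      have := h1 hs
      rw [Subgroup.mem_centralizer_iff] at this
      exact (this x (Or.inr rfl)).symm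
  have := h2 ht
  rw [Subgroup.mem_centralizer_iff] at this
  exact this s rfl

theorem card_sup_le_of_le_normalizer {G : Type*} [Group G] (H N : Subgroup G)
    (hHN : H ≤ normalizer (N : Set G)) : Nat.card ↥(H ⊔ N) ≤ Nat.card H * Nat.card N := by
  have h := Subgroup.coe_mul_of_left_le_normalizer_right H N hHN
  have h2 : Nat.card ↥(H ⊔ N) = Nat.card ((H : Set G) * (N : Set G) : Set G) := by
    rw [← h]; rfl
  rw [h2]
  exact Set.natCard_mul_le

theorem pow_eq_one_of_mem_sup_zpowers {G : Type*} [Group G] (A : Subgroup G) (x : G) (n : ℕ)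
    (hx : ∀ a ∈ A, a * x = x * a) (hA : ∀ a ∈ A, a ^ n = 1) (hxn : x ^ n = 1) :
    ∀ t ∈ A ⊔ zpowers x, t ^ n = 1 := by
  have hAN : A ≤ normalizer ((zpowers x : Subgroup G) : Set G) := by
    intro a ha
    apply Subgroup.centralizer_le_normalizer
    rw [Subgroup.mem_centralizer_iff]
    intro h hh
    rw [SetLike.mem_coe, Subgroup.mem_zpowers_iff] at hh
    obtain ⟨k, rfl⟩ := hh
    have : Commute x a := (hx a ha).symm
    exact this.zpow_left k
  have h := Subgroup.coe_mul_of_left_le_normalizer_right A (zpowers x) hAN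
  intro t ht
  have ht' : t ∈ ((A ⊔ zpowers x : Subgroup G) : Set G) := ht
  rw [h, Set.mem_mul] at ht'
  obtain ⟨a, ha, y, hy, rfl⟩ := ht'
  rw [SetLike.mem_coe, Subgroup.mem_zpowers_iff] at hy
  obtain ⟨k, rfl⟩ := hy
  have hc : Commute a (x ^ k) := by
    have : Commute a x := hx a ha
    exact this.zpow_right k
  rw [hc.mul_pow, hA a ha, one_mul, ← zpow_natCast, ← zpow_mul, mul_comm, zpow_mul, zpow_natCast,
    hxn, one_zpow]

theorem comm_zpowers {G : Type*} [Group G] (g : G) :
    ∀ a ∈ zpowers g, ∀ b ∈ zpowers g, a * b = b * a := by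
  intro a ha b hb
  rw [Subgroup.mem_zpowers_iff] at ha hb
  obtain ⟨i, rfl⟩ := ha
  obtain ⟨j, rfl⟩ := hb
  exact Commute.zpow_zpow_self g i j

theorem exists_central_orderOf_eq_prime {P : Type*} [Group P] [Finite P] (p : ℕ) [Fact p.Prime]
    (hP : IsPGroup p P) [Nontrivial P] : ∃ z ∈ center P, orderOf z = p := by
  have hp : p.Prime := Fact.out
  have hnt : Nontrivial (center P) := hP.center_nontrivial
  obtain ⟨k, hk⟩ := (IsPGroup.iff_card).mp (hP.to_subgroup (center P))
  have hk0 : k ≠ 0 := by
    rintro rfl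
    rw [pow_zero] at hk
    have := Finite.one_lt_card (α := center P)
    omega
  have hdvd : p ∣ Nat.card (center P) := by rw [hk]; exact dvd_pow_self p hk0
  obtain ⟨z, hz⟩ := exists_prime_orderOf_dvd_card' p hdvd
  exact ⟨z, z.2, by rw [Subgroup.orderOf_coe]; exact hz⟩

theorem exists_abelian_ge_cube {P : Type*} [Group P] [Finite P] (p : ℕ) [Fact p.Prime]
    (hP : IsPGroup p P) (hcard : p ^ 4 ≤ Nat.card P) :
    ∃ A : Subgroup P, (∀ a ∈ A, ∀ b ∈ A, a * b = b * a) ∧ p ^ 3 ≤ Nat.card A := by
  classical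
  have hp : p.Prime := Fact.out
  have hnt : Nontrivial P := by
    rw [← Finite.one_lt_card_iff_nontrivial]
    calc 1 < p ^ 4 := Nat.one_lt_pow (by norm_num) hp.one_lt
      _ ≤ _ := hcard
  obtain ⟨z, hzc, hzo⟩ := exists_central_orderOf_eq_prime p hP
  set Q : Subgroup P := zpowers z with hQ
  have hQcard : Nat.card Q = p := by rw [hQ, Nat.card_zpowers, hzo]
  have hQc : Q ≤ center P := by rw [hQ, Subgroup.zpowers_le]; exact hzc
  have hQne : Q ≠ ⊤ := by
    intro h
    rw [h, Subgroup.card_top] at hQcard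
    have : p < p ^ 4 := by
      calc p = p ^ 1 := (pow_one p).symm
        _ < p ^ 4 := Nat.pow_lt_pow_right hp.one_lt (by norm_num)
    omega
  have hPtop : IsPGroup p (⊤ : Subgroup P) := hP.to_subgroup ⊤
  have hnorm : (⊤ : Subgroup P) ≤ normalizer (Q : Set P) := by
    intro g _
    apply Subgroup.mem_normalizer_fintype
    intro n hn
    have : g * n = n * g := Subgroup.mem_center_iff.mp (hQc hn) g
    rw [this, mul_inv_cancel_right]; exact hn
  obtain ⟨a, -, haQ, -, hcomm, -⟩ := exists_central_mod p Q ⊤ hPtop le_top hQne hnorm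
  have : Fintype P := Fintype.ofFinite P
  have hclass : (Finset.univ.filter (fun y' : P => IsConj y' a)).card ≤ p := by
    have hQF : (Finset.univ.filter (fun y : P => y ∈ Q)).card = p := by
      rw [← hQcard, Nat.card_eq_fintype_card, Fintype.card_subtype]
    rw [← hQF]
    apply Finset.card_le_card_of_injOn (fun y' => y' * a⁻¹)
    · intro y' hy'
      simp only [Finset.coe_filter, Finset.mem_univ, true_and, Set.mem_ofPred_eq] at hy' ⊢
      obtain ⟨c, hc⟩ := isConj_iff.mp hy'
      have h1 := hcomm c⁻¹ (Subgroup.mem_top _)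
      have hy : y' = c⁻¹ * a * c := by rw [← hc]; group
      have h2 : c⁻¹ * a * c * a⁻¹ = (a * c⁻¹ * a⁻¹ * c⁻¹⁻¹)⁻¹ := by group
      rw [hy, h2]; exact inv_mem h1
    · intro x _ y _ h; exact mul_right_cancel h
  have hC : p ^ 3 ≤ Nat.card (centralizer ({a} : Set P)) := by
    rw [natCard_centralizer]
    have h1 := card_conj_mul_card_comm a
    rw [← Nat.card_eq_fintype_card] at h1
    have h2 : p ^ 4 ≤ p * (Finset.univ.filter (fun z : P => a * z = z * a)).card := by
      calc p ^ 4 ≤ Nat.card P := hcard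
        _ = _ := h1.symm
        _ ≤ _ := Nat.mul_le_mul_right _ hclass
    have h3 : p ^ 4 = p * p ^ 3 := by ring
    rw [h3] at h2
    exact Nat.le_of_mul_le_mul_left h2 hp.pos
  set A₂ : Subgroup P := Q ⊔ zpowers a with hA₂
  have hQcomm : ∀ s ∈ Q, ∀ g : P, s * g = g * s :=
    fun s hs g => (Subgroup.mem_center_iff.mp (hQc hs) g).symm
  have hA₂comm : ∀ s ∈ A₂, ∀ t ∈ A₂, s * t = t * s :=
    comm_sup_zpowers Q (fun s hs t _ => hQcomm s hs t) a (fun s hs => hQcomm s hs a)
  have haA₂ : a ∈ A₂ := (le_sup_right : zpowers a ≤ A₂) (Subgroup.mem_zpowers a)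
  by_cases hbig : p ^ 3 ≤ Nat.card A₂
  · exact ⟨A₂, hA₂comm, hbig⟩
  · push Not at hbig
    have hex : ∃ x ∈ centralizer ({a} : Set P), x ∉ A₂ := by
      by_contra hcon
      push Not at hcon
      have := Subgroup.card_le_of_le (show centralizer ({a} : Set P) ≤ A₂ from hcon)
      omega
    obtain ⟨x, hxC, hxA⟩ := hex
    have hxa : a * x = x * a := by
      rw [Subgroup.mem_centralizer_iff] at hxC
      exact hxC a rfl
    have hxA₂ : ∀ t ∈ A₂, t * x = x * t := by
      have hle : A₂ ≤ centralizer ({x} : Set P) := by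
        apply sup_le
        · intro s hs
          rw [Subgroup.mem_centralizer_iff]
          intro h hh
          rw [Set.mem_singleton_iff] at hh; subst hh
          exact (hQcomm s hs h).symm
        · rw [Subgroup.zpowers_le, Subgroup.mem_centralizer_iff]
          intro h hh
          rw [Set.mem_singleton_iff] at hh; subst hh
          exact hxa.symm
      intro t ht
      have := hle ht
      rw [Subgroup.mem_centralizer_iff] at this
      exact (this x rfl).symm
    refine ⟨A₂ ⊔ zpowers x, comm_sup_zpowers A₂ hA₂comm x hxA₂, ?_⟩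
    have hQA : Nat.card Q < Nat.card A₂ := by
      by_contra hcon
      push Not at hcon
      have h1 : Q = A₂ := Subgroup.eq_of_le_of_card_ge le_sup_left hcon
      exact haQ (by rw [h1]; exact haA₂)
    have hAA : Nat.card A₂ < Nat.card ↥(A₂ ⊔ zpowers x) := by
      by_contra hcon
      push Not at hcon
      have h1 : A₂ = A₂ ⊔ zpowers x := Subgroup.eq_of_le_of_card_ge le_sup_left hcon
      exact hxA (by
        rw [h1]; exact (le_sup_right : zpowers x ≤ A₂ ⊔ zpowers x) (Subgroup.mem_zpowers x))
    obtain ⟨j, hj⟩ := (IsPGroup.iff_card).mp (hP.to_subgroup A₂)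
    obtain ⟨i, hi⟩ := (IsPGroup.iff_card).mp (hP.to_subgroup (A₂ ⊔ zpowers x))
    rw [hQcard, hj] at hQA
    rw [hj, hi] at hAA
    have hj2 : 1 < j := by
      have : p ^ 1 < p ^ j := by rwa [pow_one]
      exact (Nat.pow_lt_pow_iff_right hp.one_lt).mp this
    have hij : j < i := (Nat.pow_lt_pow_iff_right hp.one_lt).mp hAA
    rw [hi]
    exact Nat.pow_le_pow_right hp.pos (by omega)

theorem exists_nonabelian_le_cube {P : Type*} [Group P] [Finite P] (p : ℕ) [Fact p.Prime]
    (hP : IsPGroup p P) (hexp : ∀ x : P, x ^ p = 1) (hnc : ∃ a b : P, a * b ≠ b * a) :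
    ∃ H : Subgroup P, (∃ a ∈ H, ∃ b ∈ H, a * b ≠ b * a) ∧ Nat.card H ≤ p ^ 3 := by
  have hp : p.Prime := Fact.out
  have hZne : center P ≠ ⊤ := by
    intro h
    obtain ⟨a, b, hab⟩ := hnc
    have : b ∈ center P := by rw [h]; exact Subgroup.mem_top b
    exact hab (Subgroup.mem_center_iff.mp this a)
  have hPtop : IsPGroup p (⊤ : Subgroup P) := hP.to_subgroup ⊤
  obtain ⟨a, -, haZ, -, hcomm, -⟩ := exists_central_mod p (center P) ⊤ hPtop le_top hZne
    Subgroup.le_normalizer_of_normal
  have hb : ∃ b : P, b * a ≠ a * b := by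
    by_contra hcon
    push Not at hcon
    exact haZ (Subgroup.mem_center_iff.mpr hcon)
  obtain ⟨b, hba⟩ := hb
  set c : P := a * b * a⁻¹ * b⁻¹ with hc
  have hcZ : c ∈ center P := hcomm b (Subgroup.mem_top b)
  have hord : ∀ x : P, Nat.card (zpowers x) ≤ p := by
    intro x
    rw [Nat.card_zpowers]
    exact Nat.le_of_dvd hp.pos (orderOf_dvd_of_pow_eq_one (hexp x))
  set K : Subgroup P := zpowers c ⊔ zpowers a with hK
  have hKcard : Nat.card K ≤ p * p := by
    refine (card_sup_le_of_le_normalizer (zpowers c) (zpowers a) ?_).trans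
      (Nat.mul_le_mul (hord c) (hord a))
    rw [Subgroup.zpowers_le]
    exact Subgroup.center_le_normalizer _ hcZ
  have hcK : c ∈ K := (le_sup_left : zpowers c ≤ K) (Subgroup.mem_zpowers c)
  have haK : a ∈ K := (le_sup_right : zpowers a ≤ K) (Subgroup.mem_zpowers a)
  have hbK : b ∈ normalizer (K : Set P) := by
    apply Subgroup.mem_normalizer_fintype
    have hle : K ≤ K.comap (MulAut.conj b).toMonoidHom := by
      apply sup_le
      · rw [Subgroup.zpowers_le, Subgroup.mem_comap]
        show b * c * b⁻¹ ∈ K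
        have : b * c = c * b := Subgroup.mem_center_iff.mp hcZ b
        rw [this, mul_inv_cancel_right]; exact hcK
      · rw [Subgroup.zpowers_le, Subgroup.mem_comap]
        show b * a * b⁻¹ ∈ K
        have : b * a * b⁻¹ = c⁻¹ * a := by rw [hc]; group
        rw [this]; exact K.mul_mem (K.inv_mem hcK) haK
    intro n hn
    exact hle hn
  refine ⟨zpowers b ⊔ K, ⟨a, (le_sup_right : K ≤ zpowers b ⊔ K) haK, b,
    (le_sup_left : zpowers b ≤ zpowers b ⊔ K) (Subgroup.mem_zpowers b), fun h => hba h.symm⟩, ?_⟩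
  refine (card_sup_le_of_le_normalizer (zpowers b) K ?_).trans ?_
  · rw [Subgroup.zpowers_le]; exact hbK
  · calc Nat.card (zpowers b) * Nat.card K ≤ p * (p * p) := Nat.mul_le_mul (hord b) hKcard
      _ = p ^ 3 := by ring

universe u

theorem pgroup_same_order_iso_types {P : Type u} [Group P] [Finite P] (p : ℕ) [Fact p.Prime]
    (hP : IsPGroup p P)
    (hI : ∀ H K : Subgroup P, Nat.card H = Nat.card K → Nonempty (H ≃* K)) :
    IsCyclic P ∨ ((∀ a b : P, a * b = b * a) ∧ ∀ a : P, a ^ p = 1) ∨
      (p = 2 ∧ Nonempty (P ≃* QuaternionGroup 2)) ∨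
      (p ≠ 2 ∧ (∃ a b : P, a * b ≠ b * a) ∧ Nat.card P = p ^ 3 ∧ Monoid.exponent P = p) := by
  have hp : p.Prime := Fact.out
  by_cases hexp : ∀ x : P, x ^ p = 1
  · by_cases hc : ∀ a b : P, a * b = b * a
    · exact Or.inr (Or.inl ⟨hc, hexp⟩)
    · push Not at hc
      have hp2 : p ≠ 2 := by
        rintro rfl
        obtain ⟨a, b, hab⟩ := hc
        apply hab
        have hinv : ∀ x : P, x⁻¹ = x := fun x => by
          rw [inv_eq_iff_mul_eq_one, ← sq]; exact hexp x
        calc a * b = (a * b)⁻¹ := (hinv _).symm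
          _ = b⁻¹ * a⁻¹ := mul_inv_rev a b
          _ = b * a := by rw [hinv, hinv]
      obtain ⟨n, hn⟩ := (IsPGroup.iff_card).mp hP
      have hn3 : 3 ≤ n := by
        by_contra hcon
        push Not at hcon
        obtain ⟨a, b, hab⟩ := hc
        apply hab
        interval_cases n
        · rw [pow_zero] at hn
          have : Subsingleton P := (Nat.card_eq_one_iff_unique.mp hn).1
          exact Subsingleton.elim _ _
        · rw [pow_one] at hn
          have : IsCyclic P := isCyclic_of_prime_card hn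
          exact (IsCyclic.isMulCommutative (α := P)).is_comm.comm a b
        · exact (IsPGroup.isMulCommutative_of_card_eq_prime_sq hn).is_comm.comm a b
      rcases Nat.lt_or_ge n 4 with h4 | h4
      · have : n = 3 := by omega
        subst this
        refine Or.inr (Or.inr (Or.inr ⟨hp2, hc, hn, ?_⟩))
        have h1 : Monoid.exponent P ∣ p := Monoid.exponent_dvd_of_forall_pow_eq_one hexp
        rcases (Nat.dvd_prime hp).mp h1 with h | h
        · exfalso
          rw [Monoid.exp_eq_one_iff] at h
          obtain ⟨a, b, hab⟩ := hc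
          exact hab (Subsingleton.elim _ _)
        · exact h
      · exfalso
        have hcard : p ^ 4 ≤ Nat.card P := by rw [hn]; exact Nat.pow_le_pow_right hp.pos h4
        obtain ⟨A, hAc, hA3⟩ := exists_abelian_ge_cube p hP hcard
        obtain ⟨H, ⟨a, haH, b, hbH, hab⟩, hH3⟩ := exists_nonabelian_le_cube p hP hexp hc
        obtain ⟨j, hj⟩ := (IsPGroup.iff_card).mp (hP.to_subgroup H)
        have hjA : p ^ j ≤ Nat.card A := by rw [← hj]; exact hH3.trans hA3
        obtain ⟨A', hA'A, hA'⟩ := Sylow.exists_subgroup_le_card_pow_prime_of_le_card hp hP hjA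
        obtain ⟨e⟩ := hI H A' (by rw [hj, hA'])
        apply hab
        have h1 : e ⟨a, haH⟩ * e ⟨b, hbH⟩ = e ⟨b, hbH⟩ * e ⟨a, haH⟩ := by
          apply Subtype.ext
          exact hAc _ (hA'A (e ⟨a, haH⟩).2) _ (hA'A (e ⟨b, hbH⟩).2)
        rw [← map_mul, ← map_mul] at h1
        have h2 := e.injective h1
        exact congrArg Subtype.val h2
  · push Not at hexp
    obtain ⟨x, hx⟩ := hexp
    obtain ⟨k, hk⟩ := (IsPGroup.iff_orderOf).mp hP x
    have hk2 : 2 ≤ k := by
      by_contra hcon
      push Not at hcon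
      apply hx
      have : orderOf x ∣ p := by
        rw [hk]
        calc p ^ k ∣ p ^ 1 := pow_dvd_pow p (by omega)
          _ = p := pow_one p
      exact orderOf_dvd_iff_pow_eq_one.mp this
    set y : P := x ^ (p ^ (k - 2)) with hy
    have hyo : orderOf y = p ^ 2 := by
      rw [hy, orderOf_pow_of_dvd (pow_ne_zero _ hp.ne_zero)
        (by rw [hk]; exact pow_dvd_pow p (by omega)), hk, Nat.pow_div (by omega) hp.pos]
      congr 1; omega
    have hcyc : ∀ K : Subgroup P, Nat.card K = p ^ 2 → ∃ g ∈ K, orderOf g = p ^ 2 := by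
      intro K hK
      obtain ⟨e⟩ := hI (zpowers y) K (by rw [Nat.card_zpowers, hyo, hK])
      refine ⟨(e ⟨y, Subgroup.mem_zpowers y⟩ : P), (e _).2, ?_⟩
      rw [Subgroup.orderOf_coe, MulEquiv.orderOf_eq, ← Subgroup.orderOf_coe]
      exact hyo
    have hnt : Nontrivial P := by
      refine ⟨⟨x, 1, ?_⟩⟩
      rintro rfl
      exact hx (one_pow p)
    obtain ⟨z, hzc, hzo⟩ := exists_central_orderOf_eq_prime p hP
    set Z₀ : Subgroup P := zpowers z with hZ₀
    have hZ₀card : Nat.card Z₀ = p := by rw [hZ₀, Nat.card_zpowers, hzo]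
    have huniq0 : ∀ H : Subgroup P, Nat.card H = p → H = Z₀ := by
      intro H hH
      by_contra hne
      set T : Subgroup P := H ⊔ Z₀ with hT
      have hTexp : ∀ t ∈ T, t ^ p = 1 := by
        apply pow_eq_one_of_mem_sup_zpowers H z p
        · intro a _
          exact Subgroup.mem_center_iff.mp hzc a
        · intro a ha
          have := pow_card_eq_one' (G := H) (x := ⟨a, ha⟩)
          rw [hH] at this
          exact congrArg Subtype.val this
        · rw [← hzo]; exact pow_orderOf_eq_one z
      have hlt : Nat.card Z₀ < Nat.card T := by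
        by_contra hcon
        push Not at hcon
        have h1 : Z₀ = T := Subgroup.eq_of_le_of_card_ge le_sup_right hcon
        have h2 : H ≤ Z₀ := by rw [h1]; exact le_sup_left
        exact hne (Subgroup.eq_of_le_of_card_ge h2 (by rw [hH, hZ₀card]))
      obtain ⟨j, hj⟩ := (IsPGroup.iff_card).mp (hP.to_subgroup T)
      rw [hZ₀card, hj] at hlt
      have hj2 : 1 < j := by
        have : p ^ 1 < p ^ j := by rwa [pow_one]
        exact (Nat.pow_lt_pow_iff_right hp.one_lt).mp this
      have hT2 : p ^ 2 ≤ Nat.card T := by rw [hj]; exact Nat.pow_le_pow_right hp.pos hj2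
      obtain ⟨T', hT'T, hT'⟩ := Sylow.exists_subgroup_le_card_pow_prime_of_le_card hp hP hT2
      obtain ⟨g, hgT', hgo⟩ := hcyc T' hT'
      have h3 : orderOf g ∣ p := orderOf_dvd_of_pow_eq_one (hTexp g (hT'T hgT'))
      rw [hgo] at h3
      have h4 := Nat.le_of_dvd hp.pos h3
      have h5 : p < p ^ 2 := by
        calc p = p ^ 1 := (pow_one p).symm
          _ < p ^ 2 := Nat.pow_lt_pow_right hp.one_lt (by norm_num)
      omega
    have huniq : ∀ H K : Subgroup P, Nat.card H = p → Nat.card K = p → H = K :=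
      fun H K hH hK => by rw [huniq0 H hH, huniq0 K hK]
    rcases Cfsg.Agent.S0016.result p hP huniq with hcy | ⟨rfl, n, ⟨e⟩⟩
    · exact Or.inl hcy
    · rcases Nat.lt_or_ge n 2 with hn | hn
      · interval_cases n
        · left
          have : IsCyclic (QuaternionGroup (2 ^ 0)) := QuaternionGroup.quaternionGroup_one_isCyclic
          exact isCyclic_of_surjective e.symm.toMonoidHom e.symm.surjective
        · right; right; left
          exact ⟨rfl, ⟨e⟩⟩
      · exfalso
        have hN : NeZero (2 ^ n) := ⟨by positivity⟩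
        set α : P := e.symm (QuaternionGroup.a 1) with hα
        set β : P := e.symm (QuaternionGroup.xa 0) with hβ
        have hαo : orderOf α = 2 ^ (n + 1) := by
          rw [hα, MulEquiv.orderOf_eq, QuaternionGroup.orderOf_a_one]; ring
        have hβo : orderOf β = 2 ^ 2 := by
          rw [hβ, MulEquiv.orderOf_eq, QuaternionGroup.orderOf_xa]; norm_num
        have hcardP : Nat.card P = 2 ^ (n + 2) := by
          rw [Nat.card_congr e.toEquiv, Nat.card_eq_fintype_card, QuaternionGroup.card]; ring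
        obtain ⟨K, hKcard, hβK⟩ := Sylow.exists_subgroup_card_pow_prime_le 2 (n := 2) (m := n + 1)
          (by rw [hcardP]; exact pow_dvd_pow 2 (by omega)) (zpowers β)
          (by rw [Nat.card_zpowers, hβo]) (by omega)
        obtain ⟨f⟩ := hI K (zpowers α) (by rw [hKcard, Nat.card_zpowers, hαo])
        have hKcomm : ∀ s ∈ K, ∀ t ∈ K, s * t = t * s := by
          intro s hs t ht
          have h1 : f ⟨s, hs⟩ * f ⟨t, ht⟩ = f ⟨t, ht⟩ * f ⟨s, hs⟩ :=
            Subtype.ext (comm_zpowers α _ (f ⟨s, hs⟩).2 _ (f ⟨t, ht⟩).2)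
          rw [← map_mul, ← map_mul] at h1
          exact congrArg Subtype.val (f.injective h1)
        have hKidx : K.index = 2 := by
          have h1 := K.card_mul_index
          rw [hKcard, hcardP] at h1
          have h2 : (2:ℕ) ^ (n + 2) = 2 ^ (n + 1) * 2 := by ring
          rw [h2] at h1
          exact Nat.eq_of_mul_eq_mul_left (by positivity) h1
        have hα2 : α ^ 2 ∈ K := Subgroup.sq_mem_of_index_two hKidx α
        have hβK' : β ∈ K := hβK (Subgroup.mem_zpowers β)
        have hcomm := hKcomm β hβK' (α ^ 2) hα2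
        have h3 := congrArg e hcomm
        rw [map_mul, map_mul, map_pow, hα, hβ, MulEquiv.apply_symm_apply,
          MulEquiv.apply_symm_apply, QuaternionGroup.a_one_pow, QuaternionGroup.xa_mul_a,
          QuaternionGroup.a_mul_xa] at h3
        have h4 : ((2:ℕ) : ZMod (2 * 2 ^ n)) = - ((2:ℕ) : ZMod (2 * 2 ^ n)) := by
          have := QuaternionGroup.xa.inj h3
          simpa using this
        have h5 : ((4:ℕ) : ZMod (2 * 2 ^ n)) = 0 := by
          have h6 : ((4:ℕ) : ZMod (2 * 2 ^ n)) = ((2:ℕ) : ZMod (2 * 2 ^ n)) + (2:ℕ) := by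
            push_cast; norm_num
          rw [h6]; nth_rewrite 1 [h4]; ring
        rw [ZMod.natCast_eq_zero_iff] at h5
        have h6 := Nat.le_of_dvd (by norm_num) h5
        have h7 : 2 ^ 2 ≤ 2 ^ n := Nat.pow_le_pow_right (by norm_num) hn
        omega

end Cfsg.Agent.Lib.helper70
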