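import Mathlib

/-!
# TI subgroups in element form (helper70)

The statements of the TI ("trivial intersection") topic phrase the TI property of a subgroup `H` as
`∀ g ∉ N(H), H ⊓ (MulAut.conj g • H) = ⊥`.  Here we convert to and from the element form
`x ∈ H → g * x * g⁻¹ ∈ H → x ≠ 1 → g ∈ N(H)` and transport it between Sylow subgroups.
-/

set_option autoImplicit false

open scoped Pointwise

namespace Cfsg.Agent.Lib.helper70

theorem ti_elem_of_ti {G : Type*} [Group G] (H : Subgroup G)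
    (hTI : ∀ g : G, g ∉ Subgroup.normalizer (H : Set G) → H ⊓ (MulAut.conj g • H) = ⊥)
    (g x : G) (hx : x ∈ H) (hgx : g * x * g⁻¹ ∈ H) (hx1 : x ≠ 1) :
    g ∈ Subgroup.normalizer (H : Set G) := by
  by_contra hg
  have h1 := hTI g hg
  have hmem : g * x * g⁻¹ ∈ H ⊓ MulAut.conj g • H :=
    ⟨hgx, Subgroup.smul_mem_pointwise_smul x (MulAut.conj g) H hx⟩
  rw [h1, Subgroup.mem_bot] at hmem
  apply hx1
  have h2 : x = g⁻¹ * (g * x * g⁻¹) * g := by group
  rw [h2, hmem]; group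

theorem ti_of_ti_elem {G : Type*} [Group G] (H : Subgroup G)
    (h : ∀ g x : G, x ∈ H → g * x * g⁻¹ ∈ H → x ≠ 1 → g ∈ Subgroup.normalizer (H : Set G)) :
    ∀ g : G, g ∉ Subgroup.normalizer (H : Set G) → H ⊓ (MulAut.conj g • H) = ⊥ := by
  intro g hg
  rw [eq_bot_iff]
  rintro z ⟨hz1, hz2⟩
  rw [Subgroup.mem_bot]
  by_contra hz
  apply hg
  change z ∈ MulAut.conj g • H at hz2
  change z ∈ H at hz1
  rw [Subgroup.mem_pointwise_smul_iff_inv_smul_mem] at hz2
  have hz2' : g⁻¹ * z * g ∈ H := by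
    have h1 : (MulAut.conj g)⁻¹ • z = g⁻¹ * z * g := by
      rw [← map_inv, MulAut.smul_def, MulAut.conj_apply, inv_inv]
    rwa [h1] at hz2
  refine h g (g⁻¹ * z * g) hz2' ?_ ?_
  · have h1 : g * (g⁻¹ * z * g) * g⁻¹ = z := by group
    rw [h1]; exact hz1
  · intro h1
    apply hz
    have h2 : z = g * (g⁻¹ * z * g) * g⁻¹ := by group
    rw [h2, h1]; group

/-- Membership in a conjugate Sylow subgroup. -/
theorem mem_sylow_smul_iff {G : Type*} [Group G] {p : ℕ} (c x : G) (P : Sylow p G) :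
    x ∈ ((c • P : Sylow p G) : Subgroup G) ↔ c⁻¹ * x * c ∈ (P : Subgroup G) := by
  rw [Sylow.coe_subgroup_smul, Subgroup.mem_pointwise_smul_iff_inv_smul_mem]
  have h1 : (MulAut.conj c)⁻¹ • x = c⁻¹ * x * c := by
    rw [← map_inv, MulAut.smul_def, MulAut.conj_apply, inv_inv]
  rw [h1]

/-- The element form of the TI property passes from one Sylow `p`-subgroup to all of them. -/
theorem ti_elem_sylow {G : Type*} [Group G] [Finite G] {p : ℕ} [Fact p.Prime] (P P' : Sylow p G)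
    (h : ∀ g x : G, x ∈ (P : Subgroup G) → g * x * g⁻¹ ∈ (P : Subgroup G) → x ≠ 1 →
      g ∈ Subgroup.normalizer ((P : Subgroup G) : Set G))
    (g x : G) (hx : x ∈ (P' : Subgroup G)) (hgx : g * x * g⁻¹ ∈ (P' : Subgroup G)) (hx1 : x ≠ 1) :
    g ∈ Subgroup.normalizer ((P' : Subgroup G) : Set G) := by
  obtain ⟨c, rfl⟩ := MulAction.exists_smul_eq G P P'
  rw [mem_sylow_smul_iff] at hx hgx
  have h1 : c⁻¹ * g * c ∈ Subgroup.normalizer ((P : Subgroup G) : Set G) := by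
    refine h (c⁻¹ * g * c) (c⁻¹ * x * c) hx ?_ ?_
    · have h2 : c⁻¹ * g * c * (c⁻¹ * x * c) * (c⁻¹ * g * c)⁻¹ = c⁻¹ * (g * x * g⁻¹) * c := by group
      rw [h2]; exact hgx
    · intro h2
      apply hx1
      have h3 : x = c * (c⁻¹ * x * c) * c⁻¹ := by group
      rw [h3, h2]; group
  have h1' : (c⁻¹ * g * c) • P = P := Sylow.smul_eq_iff_mem_normalizer.2 h1
  have h3 : g • (c • P) = c • P := by
    rw [← mul_smul]
    have h2 : g * c = c * (c⁻¹ * g * c) := by group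
    rw [h2, mul_smul, h1']
  exact Sylow.smul_eq_iff_mem_normalizer.1 h3

/-- A `p`-element of `P ⊔ N` (`P` a Sylow `p`-subgroup, `N` normal) is conjugate into `P` by an
element of `N`. -/
theorem exists_conj_mem_sylow_of_mem_sup {G : Type*} [Group G] [Finite G] {p : ℕ} [Fact p.Prime]
    (P : Sylow p G) (N : Subgroup G) [N.Normal] (x : G) (hx : x ∈ (P : Subgroup G) ⊔ N)
    (hxp : ∃ k, orderOf x = p ^ k) : ∃ n ∈ N, n * x * n⁻¹ ∈ (P : Subgroup G) := by
  obtain ⟨k, hk⟩ := hxp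
  set H : Subgroup G := (P : Subgroup G) ⊔ N with hH
  have hPH : (P : Subgroup G) ≤ H := le_sup_left
  have hA : IsPGroup p (Subgroup.zpowers (⟨x, hx⟩ : H)) := by
    apply IsPGroup.of_card (n := k)
    rw [Nat.card_zpowers, ← hk]
    exact Subgroup.orderOf_mk x hx
  obtain ⟨Q, hQ⟩ := hA.exists_le_sylow
  obtain ⟨h, hh⟩ := MulAction.exists_smul_eq H Q (P.subtype hPH)
  have h1 : h * (⟨x, hx⟩ : H) * h⁻¹ ∈ ((h • Q : Sylow p H) : Subgroup H) := by
    rw [Sylow.coe_subgroup_smul]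
    exact Subgroup.smul_mem_pointwise_smul _ _ _ (hQ (Subgroup.mem_zpowers _))
  rw [hh, Sylow.coe_subtype, Subgroup.mem_subgroupOf] at h1
  have h2 : (h : G) * x * (h : G)⁻¹ ∈ (P : Subgroup G) := by simpa using h1
  have h3 : (h : G) ∈ ((P : Subgroup G) : Set G) * (N : Set G) := by
    rw [← Subgroup.mul_normal]; exact h.2
  obtain ⟨b, hb, n, hn, hbn⟩ := Set.mem_mul.1 h3
  refine ⟨n, hn, ?_⟩
  have h4 : n * x * n⁻¹ = b⁻¹ * ((h : G) * x * (h : G)⁻¹) * b := by
    rw [← hbn]; group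
  rw [h4]
  exact Subgroup.mul_mem _ (Subgroup.mul_mem _ (Subgroup.inv_mem _ hb) h2) hb

end Cfsg.Agent.Lib.helper70
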