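import Mathlib
import Cfsg.Agent.Lib.helper59.Basic
import Cfsg.Agent.Lib.helper70.Frob
import Cfsg.Agent.Lib.helper70.Fpf
import Cfsg.Agent.Lib.helper70.TI
import Cfsg.Agent.Lib.helper70.SameOrder

/-!
# A Sylow `p`-subgroup that is non-abelian of order `p ^ 3` and exponent `p` (`p` odd)
cannot occur in a group in which `p`-subgroups (and `2`-subgroups) of equal order are conjugate.
-/

set_option autoImplicit false

namespace Cfsg.Agent.Lib.helper70

open Subgroup

/-! ### Conjugation of subgroups -/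

theorem mem_map_conj {G : Type*} [Group G] (H : Subgroup G) (g x : G) :
    x ∈ H.map (MulAut.conj g).toMonoidHom ↔ g⁻¹ * x * g ∈ H := by
  constructor
  · rintro ⟨h, hh, rfl⟩
    simpa [MulAut.conj_apply, mul_assoc] using hh
  · intro h
    exact ⟨g⁻¹ * x * g, h, by simp [MulAut.conj_apply, mul_assoc]⟩

theorem conj_mem_map_conj {G : Type*} [Group G] (H : Subgroup G) (g x : G) (hx : x ∈ H) :
    g * x * g⁻¹ ∈ H.map (MulAut.conj g).toMonoidHom := by
  rw [mem_map_conj]
  simpa [mul_assoc] using hx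

theorem map_conj_eq_self_iff {G : Type*} [Group G] (H : Subgroup G) (g : G) :
    H.map (MulAut.conj g).toMonoidHom = H ↔ g ∈ normalizer (H : Set G) := by
  rw [Subgroup.mem_normalizer_iff]
  constructor
  · intro h x
    have := mem_map_conj H g (g * x * g⁻¹)
    rw [h] at this
    rw [this]
    simp [mul_assoc]
  · intro h
    ext x
    rw [mem_map_conj, h (g⁻¹ * x * g)]
    simp [mul_assoc]

theorem map_conj_mul {G : Type*} [Group G] (H : Subgroup G) (a b : G) :
    H.map (MulAut.conj (a * b)).toMonoidHom =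
      (H.map (MulAut.conj b).toMonoidHom).map (MulAut.conj a).toMonoidHom := by
  ext x
  simp only [mem_map_conj, mul_inv_rev, mul_assoc]

theorem card_map_conj {G : Type*} [Group G] (H : Subgroup G) (g : G) :
    Nat.card (H.map (MulAut.conj g).toMonoidHom) = Nat.card H :=
  Subgroup.card_map_of_injective (MulAut.conj g).injective

/-- In a finite group, `g` normalizes `H` as soon as it conjugates `H` into `H`. -/
theorem mem_normalizer_of_conj_mem' {G : Type*} [Group G] [Finite G] (H : Subgroup G) (g : G)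
    (h : ∀ x ∈ H, g * x * g⁻¹ ∈ H) : g ∈ normalizer (H : Set G) := by
  rw [Subgroup.mem_normalizer_iff]
  intro x
  refine ⟨h x, fun hx => ?_⟩
  let φ : H → H := fun y => ⟨g * y * g⁻¹, h y y.2⟩
  have hinj : Function.Injective φ := by
    intro y y' hyy
    have := congrArg Subtype.val hyy
    simp only [φ] at this
    exact Subtype.ext (by simpa using this)
  obtain ⟨y, hy⟩ := (Finite.injective_iff_surjective.mp hinj) ⟨g * x * g⁻¹, hx⟩
  have := congrArg Subtype.val hy
  simp only [φ] at this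
  have hyx : (y : G) = x := by simpa using this
  rw [← hyx]
  exact y.2

theorem map_conj_one {G : Type*} [Group G] (H : Subgroup G) :
    H.map (MulAut.conj (1 : G)).toMonoidHom = H := by
  ext x
  simp

theorem conj_mem_normalizer_map {G : Type*} [Group G] (A : Subgroup G) (h y : G)
    (hy : y ∈ normalizer (A : Set G)) :
    h * y * h⁻¹ ∈ normalizer ((A.map (MulAut.conj h).toMonoidHom : Subgroup G) : Set G) := by
  rw [← map_conj_eq_self_iff] at hy ⊢
  rw [← map_conj_mul]
  have e : h * y * h⁻¹ * h = h * y := by group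
  rw [e, map_conj_mul, hy]

theorem mem_centralizer_singleton' {G : Type*} [Group G] (t g : G) :
    g ∈ centralizer ({t} : Set G) ↔ t * g = g * t := by
  rw [Subgroup.mem_centralizer_iff]
  constructor
  · exact fun h => h t rfl
  · intro h x hx
    rw [Set.mem_singleton_iff.mp hx]
    exact h

/-- An automorphism (conjugation by `t`) of order two without nontrivial fixed points on a
finite subgroup inverts it. -/
theorem inverts_of_fpf' {G : Type*} [Group G] (R : Subgroup G) [Finite R] (t : G)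
    (htt : ∀ a ∈ R, t * (t * a * t⁻¹) * t⁻¹ = a) (htR : ∀ a ∈ R, t * a * t⁻¹ ∈ R)
    (hfix : ∀ a ∈ R, t * a * t⁻¹ = a → a = 1) : ∀ g ∈ R, t * g * t⁻¹ = g⁻¹ := by
  let f : R → R := fun g =>
    ⟨(g : G)⁻¹ * (t * g * t⁻¹), R.mul_mem (R.inv_mem g.2) (htR _ g.2)⟩
  have hinj : Function.Injective f := by
    intro g h hgh
    have h1 : (g : G)⁻¹ * (t * g * t⁻¹) = (h : G)⁻¹ * (t * h * t⁻¹) := congrArg Subtype.val hgh
    have h3 : t * h * t⁻¹ = (h : G) * (g : G)⁻¹ * (t * g * t⁻¹) := by
      rw [mul_assoc (h : G), h1, mul_inv_cancel_left]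
    have h2 : t * ((h : G) * (g : G)⁻¹) * t⁻¹ = (h : G) * (g : G)⁻¹ := by
      calc t * ((h : G) * (g : G)⁻¹) * t⁻¹ = (t * h * t⁻¹) * (t * g * t⁻¹)⁻¹ := by group
        _ = (h : G) * (g : G)⁻¹ := by rw [h3, mul_inv_cancel_right]
    have h4 := hfix _ (R.mul_mem h.2 (R.inv_mem g.2)) h2
    exact Subtype.ext (mul_inv_eq_one.1 h4).symm
  have hsurj : Function.Surjective f := Finite.injective_iff_surjective.1 hinj
  intro u hu
  obtain ⟨g, hg⟩ := hsurj ⟨u, hu⟩
  have hu' : u = (g : G)⁻¹ * (t * g * t⁻¹) := (congrArg Subtype.val hg).symm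
  have h1 : t * u * t⁻¹ = (t * g * t⁻¹)⁻¹ * (t * (t * g * t⁻¹) * t⁻¹) := by
    rw [hu']
    group
  rw [h1, htt g g.2, hu']
  group

theorem sylow_map_relIndex_odd {G : Type*} [Group G] [Finite G] (N : Subgroup G)
    (Q : Sylow 2 N) : ¬ 2 ∣ ((Q : Subgroup N).map N.subtype).relIndex N := by
  have h1 : ((Q : Subgroup N).map N.subtype).subgroupOf N = Q := by
    ext x
    rw [Subgroup.mem_subgroupOf]
    constructor
    · rintro ⟨y, hy, hyx⟩
      have : y = x := Subtype.ext hyx
      rw [← this]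
      exact hy
    · intro hx
      exact ⟨x, hx, rfl⟩
  rw [Subgroup.relIndex, h1]
  exact Q.not_dvd_index

/-- Cyclic groups, abelian groups and the quaternion group of order `8` are Dedekind groups. -/
theorem dedekind_of_types {G : Type*} [Group G] (S : Subgroup G)
    (h : IsCyclic S ∨ (∀ a ∈ S, ∀ b ∈ S, a * b = b * a) ∨ Nonempty (S ≃* QuaternionGroup 2)) :
    ∀ x ∈ S, ∀ y ∈ S, x * y * x⁻¹ ∈ zpowers y := by
  rcases h with h | h | ⟨⟨e⟩⟩
  · intro x hx y hy
    have hc : (⟨x, hx⟩ : S) * ⟨y, hy⟩ = ⟨y, hy⟩ * ⟨x, hx⟩ := by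
      obtain ⟨g, hg⟩ := h.exists_generator
      obtain ⟨i, hi⟩ := hg ⟨x, hx⟩
      obtain ⟨j, hj⟩ := hg ⟨y, hy⟩
      rw [← hi, ← hj]
      exact zpow_mul_comm g i j
    have hc' : x * y = y * x := congrArg Subtype.val hc
    rw [hc', mul_inv_cancel_right]
    exact mem_zpowers y
  · intro x hx y hy
    rw [h x hx y hy, mul_inv_cancel_right]
    exact mem_zpowers y
  · intro x hx y hy
    have key : ∀ a b : QuaternionGroup 2, a * b * a⁻¹ = b ∨ a * b * a⁻¹ = b⁻¹ := by decide
    rcases key (e ⟨x, hx⟩) (e ⟨y, hy⟩) with h1 | h1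
    · have h2 : (⟨x, hx⟩ : S) * ⟨y, hy⟩ * (⟨x, hx⟩ : S)⁻¹ = ⟨y, hy⟩ := by
        apply e.injective
        rw [map_mul, map_mul, map_inv]
        exact h1
      have h3 : x * y * x⁻¹ = y := congrArg Subtype.val h2
      rw [h3]
      exact mem_zpowers y
    · have h2 : (⟨x, hx⟩ : S) * ⟨y, hy⟩ * (⟨x, hx⟩ : S)⁻¹ = (⟨y, hy⟩ : S)⁻¹ := by
        apply e.injective
        rw [map_mul, map_mul, map_inv, map_inv]
        exact h1
      have h3 : x * y * x⁻¹ = y⁻¹ := congrArg Subtype.val h2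
      rw [h3]
      exact inv_mem (mem_zpowers y)

/-! ### Orbit count for conjugation and the parity lemma -/

theorem card_conj_orbit {G : Type*} [Group G] (N H₀ : Subgroup G) :
    Nat.card {H : Subgroup G // ∃ n ∈ N, H = H₀.map (MulAut.conj n).toMonoidHom} =
      (normalizer (H₀ : Set G)).relIndex N := by
  let f : N → {H : Subgroup G // ∃ n ∈ N, H = H₀.map (MulAut.conj n).toMonoidHom} :=
    fun n => ⟨H₀.map (MulAut.conj (n : G)).toMonoidHom, n, n.2, rfl⟩
  have key : ∀ a b : N, f a = f b ↔ (a⁻¹ * b : N) ∈ (normalizer (H₀ : Set G)).subgroupOf N := by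
    intro a b
    rw [Subgroup.mem_subgroupOf, ← map_conj_eq_self_iff]
    simp only [f, Subtype.mk.injEq, Subgroup.coe_mul, Subgroup.coe_inv]
    constructor
    · intro h
      rw [map_conj_mul, ← h, ← map_conj_mul, inv_mul_cancel]
      ext x
      simp
    · intro h
      have h2 : H₀.map (MulAut.conj (b : G)).toMonoidHom =
          H₀.map (MulAut.conj ((a : G) * ((a : G)⁻¹ * b))).toMonoidHom := by
        rw [mul_inv_cancel_left]
      rw [h2, map_conj_mul, h]
  let φ : N ⧸ (normalizer (H₀ : Set G)).subgroupOf N →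
      {H : Subgroup G // ∃ n ∈ N, H = H₀.map (MulAut.conj n).toMonoidHom} :=
    Quotient.lift f (fun a b hab => (key a b).mpr (QuotientGroup.leftRel_apply.mp hab))
  have hφ : Function.Bijective φ := by
    constructor
    · intro x y hxy
      induction x using QuotientGroup.induction_on with
      | H a =>
        induction y using QuotientGroup.induction_on with
        | H b =>
          exact QuotientGroup.eq.mpr ((key a b).mp hxy)
    · rintro ⟨H, n, hn, rfl⟩
      exact ⟨QuotientGroup.mk ⟨n, hn⟩, rfl⟩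
  rw [Subgroup.relIndex, Subgroup.index, Nat.card_congr (Equiv.ofBijective φ hφ)]

theorem not_two_dvd_card_conj_orbit {G : Type*} [Group G] (N H₀ T : Subgroup G)
    (hT : T ≤ normalizer (H₀ : Set G)) (hodd : ¬ 2 ∣ T.relIndex N) :
    ¬ 2 ∣ Nat.card {H : Subgroup G // ∃ n ∈ N, H = H₀.map (MulAut.conj n).toMonoidHom} := by
  rw [card_conj_orbit]
  exact fun h => hodd (h.trans (Subgroup.relIndex_dvd_of_le_left N hT))

/-! ### Counting -/

theorem card_eq_card_image_mul {α β : Type*} [DecidableEq β] (S : Finset α) (f : α → β) (k : ℕ)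
    (h : ∀ x ∈ S, (S.filter (fun y => f y = f x)).card = k) :
    S.card = (S.image f).card * k := by
  rw [Finset.card_eq_sum_card_image f S]
  rw [Finset.sum_const_nat (m := k)]
  intro b hb
  obtain ⟨x, hx, rfl⟩ := Finset.mem_image.mp hb
  exact h x hx

/-- An elementary abelian group of order `p ^ 2` has exactly `p + 1` subgroups of order `p`. -/
theorem card_lines {G : Type*} [Group G] [Finite G] (p : ℕ) [hp : Fact p.Prime] (A : Subgroup G)
    (hA : Nat.card A = p ^ 2) (hexp : ∀ a ∈ A, a ^ p = 1) :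
    Nat.card {B : Subgroup G // B ≤ A ∧ Nat.card B = p} = p + 1 := by
  classical
  have : Fintype G := Fintype.ofFinite G
  have : Fintype (Subgroup G) := Fintype.ofFinite _
  have hp1 : 1 < p := hp.out.one_lt
  let S : Finset G := Finset.univ.filter (fun x : G => x ∈ A ∧ x ≠ 1)
  have hord : ∀ x ∈ A, x ≠ 1 → orderOf x = p :=
    fun x hx hx1 => orderOf_eq_prime (hexp x hx) hx1
  have hS : S.card = p ^ 2 - 1 := by
    have h1 : (Finset.univ.filter (fun x : G => x ∈ A)).card = p ^ 2 := by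
      rw [← natCard_subtype_eq_card_filter]
      exact hA
    have h2 : S = (Finset.univ.filter (fun x : G => x ∈ A)).erase 1 := by
      ext x
      simp [S, and_comm]
    rw [h2, Finset.card_erase_of_mem (by simp [A.one_mem]), h1]
  have hfib : ∀ x ∈ S, (S.filter (fun y => zpowers y = zpowers x)).card = p - 1 := by
    intro x hx
    obtain ⟨hxA, hx1⟩ := (Finset.mem_filter.mp hx).2
    have hEq : S.filter (fun y => zpowers y = zpowers x) =
        Finset.univ.filter (fun y : G => zpowers y = zpowers x) := by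
      ext y
      simp only [S, Finset.mem_filter, Finset.mem_univ, true_and]
      constructor
      · exact fun h => h.2
      · intro h
        refine ⟨⟨?_, ?_⟩, h⟩
        · have hy : y ∈ zpowers x := h ▸ mem_zpowers y
          exact (zpowers_le.mpr hxA) hy
        · rintro rfl
          rw [zpowers_one_eq_bot] at h
          exact hx1 (zpowers_eq_bot.mp h.symm)
    rw [hEq, card_filter_zpowers_eq, hord x hxA hx1, Nat.totient_prime hp.out]
  have hcount := card_eq_card_image_mul S (fun x => zpowers x) (p - 1) hfib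
  have himg : (S.image (fun x => zpowers x)).card = p + 1 := by
    rw [hS] at hcount
    have h3 : p ^ 2 - 1 = (p + 1) * (p - 1) := by
      obtain ⟨q, rfl⟩ : ∃ q, p = q + 1 := ⟨p - 1, by omega⟩
      have h4 : (q + 1) ^ 2 = (q + 1 + 1) * q + 1 := by ring
      rw [h4]
      simp
    rw [h3] at hcount
    exact (Nat.eq_of_mul_eq_mul_right (by omega) hcount).symm
  rw [Nat.card_eq_fintype_card, Fintype.card_of_subtype (S.image (fun x => zpowers x)), himg]
  intro B
  simp only [Finset.mem_image]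
  constructor
  · rintro ⟨x, hx, rfl⟩
    obtain ⟨hxA, hx1⟩ := (Finset.mem_filter.mp hx).2
    exact ⟨zpowers_le.mpr hxA, by rw [Nat.card_zpowers, hord x hxA hx1]⟩
  · rintro ⟨hBA, hBc⟩
    have hBne : B ≠ ⊥ := by
      rintro rfl
      rw [Subgroup.card_bot] at hBc
      omega
    obtain ⟨x, hxB, hx1⟩ : ∃ x ∈ B, x ≠ 1 := by
      by_contra h
      push Not at h
      exact hBne ((Subgroup.eq_bot_iff_forall _).mpr h)
    refine ⟨x, ?_, ?_⟩
    · simp [S, hBA hxB, hx1]
    · refine Subgroup.eq_of_le_of_card_ge (zpowers_le.mpr hxB) ?_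
      rw [Nat.card_zpowers, hord x (hBA hxB) hx1, hBc]

/-! ### Groups of order `p ^ 3` -/

theorem card_center_of_card_cube {P : Type*} [Group P] [Finite P] (p : ℕ) [hp : Fact p.Prime]
    (hcard : Nat.card P = p ^ 3) (hnc : ∃ a b : P, a * b ≠ b * a) :
    Nat.card (center P) = p ∧ ∀ x y : P, x * y * x⁻¹ * y⁻¹ ∈ center P := by
  have hP : IsPGroup p P := IsPGroup.of_card hcard
  have hp1 : 1 < p := hp.out.one_lt
  have : Nontrivial P := by
    rw [← Finite.one_lt_card_iff_nontrivial, hcard]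
    exact Nat.one_lt_pow (by norm_num) hp1
  have hcn : Nontrivial (center P) := hP.center_nontrivial
  have hmul := Subgroup.card_mul_index (center P)
  rw [hcard] at hmul
  obtain ⟨k, hk, hck⟩ := (Nat.dvd_prime_pow hp.out).mp (Dvd.intro _ hmul)
  have hk0 : k ≠ 0 := by
    rintro rfl
    have h1 : 1 < Nat.card (center P) := Finite.one_lt_card_iff_nontrivial.mpr hcn
    rw [hck] at h1
    simp at h1
  have hk3 : k ≠ 3 := by
    rintro rfl
    have htop : center P = ⊤ := (Subgroup.card_eq_iff_eq_top _).mp (hck.trans hcard.symm)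
    obtain ⟨a, b, hab⟩ := hnc
    have ha : a ∈ center P := htop ▸ Subgroup.mem_top a
    exact hab ((Subgroup.mem_center_iff.mp ha b).symm)
  have hk2 : k ≠ 2 := by
    rintro rfl
    rw [hck] at hmul
    have hidx : (center P).index = p := by
      have h2 : p ^ 2 * (center P).index = p ^ 2 * p := by rw [hmul]; ring
      exact Nat.eq_of_mul_eq_mul_left (by positivity) h2
    have hq : Nat.card (P ⧸ center P) = p := hidx
    have hcyc : IsCyclic (P ⧸ center P) := isCyclic_of_prime_card hq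
    obtain ⟨a, b, hab⟩ := hnc
    exact hab ((MonoidHom.isMulCommutative_of_isCyclic_of_ker_le_center
      (QuotientGroup.mk' (center P)) (by simp)).is_comm.comm a b)
  have hk1 : k = 1 := by omega
  subst hk1
  rw [pow_one] at hck
  refine ⟨hck, ?_⟩
  rw [hck] at hmul
  have hidx : (center P).index = p ^ 2 := by
    have h2 : p * (center P).index = p * p ^ 2 := by rw [hmul]; ring
    exact Nat.eq_of_mul_eq_mul_left (by positivity) h2
  have hq : Nat.card (P ⧸ center P) = p ^ 2 := hidx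
  have hcomm := IsPGroup.isMulCommutative_of_card_eq_prime_sq hq
  intro x y
  rw [← QuotientGroup.eq_one_iff]
  have h3 := hcomm.is_comm.comm (x : P ⧸ center P) (y : P ⧸ center P)
  simp only [QuotientGroup.mk_mul, QuotientGroup.mk_inv]
  rw [h3]
  simp

/-! ### The extraspecial configuration -/

/-- Data of a Sylow `p`-subgroup `P` that is non-abelian of order `p ^ 3` and exponent `p`,
`p` odd, together with its centre `Z`. -/
structure ExtraData {G : Type*} [Group G] (p : ℕ) (P : Sylow p G) (Z : Subgroup G) : Prop where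
  hp2 : p ≠ 2
  hcard : Nat.card (P : Subgroup G) = p ^ 3
  hexp : ∀ x ∈ (P : Subgroup G), x ^ p = 1
  hnc : ∃ a ∈ (P : Subgroup G), ∃ b ∈ (P : Subgroup G), a * b ≠ b * a
  hZP : Z ≤ (P : Subgroup G)
  hZcard : Nat.card Z = p
  hZ : ∀ z, z ∈ Z ↔ z ∈ (P : Subgroup G) ∧ ∀ x ∈ (P : Subgroup G), x * z = z * x
  hcomm : ∀ x ∈ (P : Subgroup G), ∀ y ∈ (P : Subgroup G), x * y * x⁻¹ * y⁻¹ ∈ Z

theorem exists_extraData {G : Type*} [Group G] [Finite G] (p : ℕ) [Fact p.Prime] (P : Sylow p G)
    (hp2 : p ≠ 2) (hcard : Nat.card (P : Subgroup G) = p ^ 3)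
    (hexp : ∀ x ∈ (P : Subgroup G), x ^ p = 1)
    (hnc : ∃ a ∈ (P : Subgroup G), ∃ b ∈ (P : Subgroup G), a * b ≠ b * a) :
    ∃ Z : Subgroup G, ExtraData p P Z := by
  obtain ⟨a, ha, b, hb, hab⟩ := hnc
  have hnc' : ∃ a b : (P : Subgroup G), a * b ≠ b * a :=
    ⟨⟨a, ha⟩, ⟨b, hb⟩, fun h => hab (congrArg Subtype.val h)⟩
  obtain ⟨hc, hcm⟩ := card_center_of_card_cube p hcard hnc'
  refine ⟨(center (P : Subgroup G)).map (P : Subgroup G).subtype, hp2, hcard, hexp,
    ⟨a, ha, b, hb, hab⟩, ?_, ?_, ?_, ?_⟩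
  · exact Subgroup.map_subtype_le _
  · rw [Subgroup.card_map_of_injective (Subgroup.subtype_injective _)]
    exact hc
  · intro z
    constructor
    · rintro ⟨⟨z', hz'P⟩, hz', rfl⟩
      refine ⟨hz'P, fun x hx => ?_⟩
      have := Subgroup.mem_center_iff.mp hz' ⟨x, hx⟩
      exact congrArg Subtype.val this
    · rintro ⟨hzP, hz⟩
      refine ⟨⟨z, hzP⟩, ?_, rfl⟩
      rw [SetLike.mem_coe, Subgroup.mem_center_iff]
      intro x
      exact Subtype.ext (hz x x.2)
  · intro x hx y hy
    exact ⟨_, hcm ⟨x, hx⟩ ⟨y, hy⟩, rfl⟩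

namespace ExtraData

variable {G : Type*} [Group G] [Finite G] {p : ℕ} [hp : Fact p.Prime] {P : Sylow p G}
  {Z : Subgroup G}

omit [Finite G] in
theorem eq_one_of_sq (D : ExtraData p P Z) {x : G} (hx : x ∈ (P : Subgroup G))
    (h : x * x = 1) : x = 1 := by
  have h1 : orderOf x ∣ 2 := orderOf_dvd_of_pow_eq_one (by rw [pow_two]; exact h)
  have h2 : orderOf x ∣ p := orderOf_dvd_of_pow_eq_one (D.hexp x hx)
  have h3 : orderOf x ∣ Nat.gcd 2 p := Nat.dvd_gcd h1 h2
  have h4 : Nat.gcd 2 p = 1 := (Nat.coprime_primes Nat.prime_two hp.out).mpr (Ne.symm D.hp2)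
  rw [h4, Nat.dvd_one] at h3
  exact orderOf_eq_one_iff.mp h3

omit [Finite G] hp in
theorem central (D : ExtraData p P Z) {z x : G} (hz : z ∈ Z) (hx : x ∈ (P : Subgroup G)) :
    x * z = z * x := ((D.hZ z).mp hz).2 x hx

theorem normalizer_le (D : ExtraData p P Z) :
    normalizer ((P : Subgroup G) : Set G) ≤ normalizer (Z : Set G) := by
  intro t ht
  apply mem_normalizer_of_conj_mem'
  intro z hz
  rw [D.hZ]
  have htP := Subgroup.mem_normalizer_iff.mp ht
  refine ⟨(htP z).mp (D.hZP hz), fun x hx => ?_⟩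
  have hx' : t⁻¹ * x * t ∈ (P : Subgroup G) := by
    rw [htP]
    simpa [mul_assoc] using hx
  have := D.central hz hx'
  calc x * (t * z * t⁻¹) = t * ((t⁻¹ * x * t) * z) * t⁻¹ := by group
    _ = t * (z * (t⁻¹ * x * t)) * t⁻¹ := by rw [this]
    _ = t * z * t⁻¹ * x := by group

theorem le_normalizer_Z (D : ExtraData p P Z) : (P : Subgroup G) ≤ normalizer (Z : Set G) :=
  Subgroup.le_normalizer.trans D.normalizer_le

omit [Finite G] in
theorem card_eq_pow (D : ExtraData p P Z) {A : Subgroup G} (hA : A ≤ (P : Subgroup G)) :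
    ∃ k ≤ 3, Nat.card A = p ^ k := by
  have := Subgroup.card_dvd_of_le hA
  rw [D.hcard] at this
  exact (Nat.dvd_prime_pow hp.out).mp this

theorem exists_not_mem_Z (D : ExtraData p P Z) : ∃ x ∈ (P : Subgroup G), x ∉ Z := by
  obtain ⟨a, ha, b, hb, hab⟩ := D.hnc
  exact ⟨b, hb, fun hbZ => hab (D.central hbZ ha)⟩

theorem card_sup_zpowers (D : ExtraData p P Z) {c : G} (hc : c ∈ (P : Subgroup G))
    (hcZ : c ∉ Z) : Nat.card ↥(zpowers c ⊔ Z) = p ^ 2 := by
  have hc1 : c ≠ 1 := fun h => hcZ (h ▸ Z.one_mem)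
  have hord : orderOf c = p := orderOf_eq_prime (D.hexp c hc) hc1
  have hle : zpowers c ⊔ Z ≤ (P : Subgroup G) := sup_le (zpowers_le.mpr hc) D.hZP
  obtain ⟨k, hk, hcard⟩ := D.card_eq_pow hle
  have hub : Nat.card ↥(zpowers c ⊔ Z) ≤ p * p := by
    have := card_sup_le_of_le_normalizer (zpowers c) Z
      ((zpowers_le.mpr hc).trans D.le_normalizer_Z)
    rwa [Nat.card_zpowers, hord, D.hZcard] at this
  have hlb : p < Nat.card ↥(zpowers c ⊔ Z) := by
    by_contra hle'
    push Not at hle'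
    have : Z = zpowers c ⊔ Z :=
      Subgroup.eq_of_le_of_card_ge le_sup_right (by rw [D.hZcard]; exact hle')
    exact hcZ (this ▸ (le_sup_left : zpowers c ≤ zpowers c ⊔ Z) (mem_zpowers c))
  rw [hcard] at hub hlb ⊢
  have hp1 : 1 < p := hp.out.one_lt
  have hk2 : k = 2 := by
    have h1 : 1 < k := by
      by_contra h
      push Not at h
      have : p ^ k ≤ p ^ 1 := Nat.pow_le_pow_right hp1.le h
      simp at this
      omega
    have h2 : k ≤ 2 := by
      by_contra h
      push Not at h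
      have h3 : p ^ 3 ≤ p ^ k := Nat.pow_le_pow_right hp1.le h
      have h4 : p * p < p ^ 3 := by
        calc p * p = p * p * 1 := by ring
          _ < p * p * p := Nat.mul_lt_mul_of_pos_left hp1 (by positivity)
          _ = p ^ 3 := by ring
      omega
    omega
  rw [hk2]

theorem centralizer_eq (D : ExtraData p P Z) {c : G} (hc : c ∈ (P : Subgroup G))
    (hcZ : c ∉ Z) : (P : Subgroup G) ⊓ centralizer {c} = zpowers c ⊔ Z := by
  symm
  have hle : zpowers c ⊔ Z ≤ (P : Subgroup G) ⊓ centralizer {c} := by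
    refine sup_le (le_inf (zpowers_le.mpr hc) ?_) (le_inf D.hZP ?_)
    · rw [zpowers_le]
      exact Subgroup.mem_centralizer_iff.mpr
        (fun h hh => by rw [Set.mem_singleton_iff.mp hh])
    · intro z hz
      rw [Subgroup.mem_centralizer_iff]
      intro h hh
      rw [Set.mem_singleton_iff.mp hh]
      exact D.central hz hc
  refine Subgroup.eq_of_le_of_card_ge hle ?_
  rw [D.card_sup_zpowers hc hcZ]
  obtain ⟨k, hk, hcard⟩ :=
    D.card_eq_pow (inf_le_left : (P : Subgroup G) ⊓ centralizer {c} ≤ P)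
  rw [hcard]
  have hk3 : k ≠ 3 := by
    rintro rfl
    have htop : (P : Subgroup G) ⊓ centralizer {c} = P :=
      Subgroup.eq_of_le_of_card_ge inf_le_left (by rw [hcard, D.hcard])
    apply hcZ
    rw [D.hZ]
    refine ⟨hc, fun x hx => ?_⟩
    have hx' : x ∈ (P : Subgroup G) ⊓ centralizer {c} := by
      rw [htop]
      exact hx
    exact (Subgroup.mem_centralizer_iff.mp hx'.2 c rfl).symm
  exact Nat.pow_le_pow_right hp.out.one_lt.le (by omega)

omit [Finite G] in
theorem comm_of_card (_D : ExtraData p P Z) {A : Subgroup G}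
    (hAc : Nat.card A = p ^ 2) : ∀ a ∈ A, ∀ b ∈ A, a * b = b * a := by
  have := IsPGroup.isMulCommutative_of_card_eq_prime_sq hAc
  intro a ha b hb
  exact congrArg Subtype.val (this.is_comm.comm ⟨a, ha⟩ ⟨b, hb⟩)

theorem Z_le_of_card (D : ExtraData p P Z) {A : Subgroup G} (hA : A ≤ (P : Subgroup G))
    (hAc : Nat.card A = p ^ 2) : Z ≤ A := by
  by_contra hZA
  obtain ⟨z, hz, hzA⟩ := SetLike.not_le_iff_exists.mp hZA
  have hcomm' := comm_sup_zpowers A (D.comm_of_card hAc) z (fun a ha => D.central hz (hA ha))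
  have hle : A ⊔ zpowers z ≤ (P : Subgroup G) := sup_le hA (zpowers_le.mpr (D.hZP hz))
  obtain ⟨k, hk, hcard⟩ := D.card_eq_pow hle
  have hlt : p ^ 2 < p ^ k := by
    rw [← hcard, ← hAc]
    by_contra h
    push Not at h
    have : A = A ⊔ zpowers z := Subgroup.eq_of_le_of_card_ge le_sup_left h
    exact hzA (this ▸ (le_sup_right : zpowers z ≤ A ⊔ zpowers z) (mem_zpowers z))
  have hk3 : k = 3 := by
    have : 2 < k := (Nat.pow_lt_pow_iff_right hp.out.one_lt).mp hlt
    omega
  subst hk3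
  have htop : A ⊔ zpowers z = P :=
    Subgroup.eq_of_le_of_card_ge hle (by rw [hcard, D.hcard])
  obtain ⟨a, ha, b, hb, hab⟩ := D.hnc
  exact hab (hcomm' a (htop ▸ ha) b (htop ▸ hb))

theorem le_normalizer_of_card (D : ExtraData p P Z) {A : Subgroup G}
    (hA : A ≤ (P : Subgroup G)) (hAc : Nat.card A = p ^ 2) :
    (P : Subgroup G) ≤ normalizer (A : Set G) := by
  intro x hx
  apply mem_normalizer_of_conj_mem'
  intro a ha
  have h1 : x * a * x⁻¹ * a⁻¹ ∈ A := D.Z_le_of_card hA hAc (D.hcomm x hx a (hA ha))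
  have h2 : x * a * x⁻¹ = x * a * x⁻¹ * a⁻¹ * a := by group
  rw [h2]
  exact A.mul_mem h1 ha

/-- `P` has exactly `p + 1` subgroups of order `p ^ 2`. -/
theorem card_maximal (D : ExtraData p P Z) :
    Nat.card {A : Subgroup G // A ≤ (P : Subgroup G) ∧ Nat.card A = p ^ 2} = p + 1 := by
  classical
  have : Fintype G := Fintype.ofFinite G
  have : Fintype (Subgroup G) := Fintype.ofFinite _
  have hp1 : 1 < p := hp.out.one_lt
  let S : Finset G := Finset.univ.filter (fun x : G => x ∈ (P : Subgroup G) ∧ x ∉ Z)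
  have hcardfilter : ∀ A : Subgroup G, Z ≤ A →
      (Finset.univ.filter (fun x : G => x ∈ A ∧ x ∉ Z)).card = Nat.card A - p := by
    intro A hZA
    have h1 : Finset.univ.filter (fun x : G => x ∈ A ∧ x ∉ Z) =
        Finset.univ.filter (fun x : G => x ∈ A) \ Finset.univ.filter (fun x : G => x ∈ Z) := by
      ext x
      simp
    have hsub : Finset.univ.filter (fun x : G => x ∈ Z) ⊆
        Finset.univ.filter (fun x : G => x ∈ A) := by
      intro x
      simp only [Finset.mem_filter, Finset.mem_univ, true_and]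
      exact fun h => hZA h
    rw [h1, Finset.card_sdiff_of_subset hsub, ← natCard_subtype_eq_card_filter,
      ← natCard_subtype_eq_card_filter, ← D.hZcard]
  have hS : S.card = p ^ 3 - p := by
    rw [hcardfilter _ D.hZP, D.hcard]
  have hfib : ∀ x ∈ S,
      (S.filter (fun y => zpowers y ⊔ Z = zpowers x ⊔ Z)).card = p ^ 2 - p := by
    intro x hx
    obtain ⟨hxP, hxZ⟩ := (Finset.mem_filter.mp hx).2
    have hEq : S.filter (fun y => zpowers y ⊔ Z = zpowers x ⊔ Z) =
        Finset.univ.filter (fun y : G => y ∈ zpowers x ⊔ Z ∧ y ∉ Z) := by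
      ext y
      simp only [S, Finset.mem_filter, Finset.mem_univ, true_and]
      constructor
      · rintro ⟨⟨hyP, hyZ⟩, h⟩
        exact ⟨h ▸ (le_sup_left : zpowers y ≤ zpowers y ⊔ Z) (mem_zpowers y), hyZ⟩
      · rintro ⟨hy, hyZ⟩
        have hyP : y ∈ (P : Subgroup G) := (sup_le (zpowers_le.mpr hxP) D.hZP) hy
        refine ⟨⟨hyP, hyZ⟩, ?_⟩
        refine Subgroup.eq_of_le_of_card_ge (sup_le (zpowers_le.mpr hy) le_sup_right) ?_
        rw [D.card_sup_zpowers hxP hxZ, D.card_sup_zpowers hyP hyZ]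
    rw [hEq, hcardfilter _ le_sup_right, D.card_sup_zpowers hxP hxZ]
  have hcount := card_eq_card_image_mul S (fun x => zpowers x ⊔ Z) (p ^ 2 - p) hfib
  have himg : (S.image (fun x => zpowers x ⊔ Z)).card = p + 1 := by
    rw [hS] at hcount
    have h3 : p ^ 3 - p = (p + 1) * (p ^ 2 - p) := by
      obtain ⟨q, rfl⟩ : ∃ q, p = q + 1 := ⟨p - 1, by omega⟩
      have h4 : (q + 1) ^ 3 = (q + 1 + 1) * (q ^ 2 + q) + (q + 1) := by ring
      have h5 : (q + 1) ^ 2 = (q ^ 2 + q) + (q + 1) := by ring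
      rw [h4, h5]
      simp
    rw [h3] at hcount
    have hpos : 0 < p ^ 2 - p := by
      have : p < p ^ 2 := by nlinarith
      omega
    exact (Nat.eq_of_mul_eq_mul_right hpos hcount).symm
  rw [Nat.card_eq_fintype_card, Fintype.card_of_subtype (S.image (fun x => zpowers x ⊔ Z)), himg]
  intro A
  simp only [Finset.mem_image]
  constructor
  · rintro ⟨x, hx, rfl⟩
    obtain ⟨hxP, hxZ⟩ := (Finset.mem_filter.mp hx).2
    exact ⟨sup_le (zpowers_le.mpr hxP) D.hZP, D.card_sup_zpowers hxP hxZ⟩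
  · rintro ⟨hAP, hAc⟩
    have hZA := D.Z_le_of_card hAP hAc
    obtain ⟨x, hxA, hxZ⟩ : ∃ x ∈ A, x ∉ Z := by
      by_contra h
      push Not at h
      have hAZ : A ≤ Z := h
      have := Subgroup.card_le_of_le hAZ
      rw [hAc, D.hZcard] at this
      nlinarith
    refine ⟨x, by simp [S, hAP hxA, hxZ], ?_⟩
    exact Subgroup.eq_of_le_of_card_ge (sup_le (zpowers_le.mpr hxA) hZA)
      (by rw [D.card_sup_zpowers (hAP hxA) hxZ, hAc])

/-- `N_G(P)` acts transitively on the subgroups of order `p ^ 2` of `P`. -/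
theorem exists_normalizer_conj (D : ExtraData p P Z)
    (hC2 : ∀ H K : Subgroup G, Nat.card H = p ^ 2 → Nat.card K = p ^ 2 →
      ∃ g : G, K = H.map (MulAut.conj g).toMonoidHom)
    {A A' : Subgroup G} (hA : A ≤ (P : Subgroup G)) (hAc : Nat.card A = p ^ 2)
    (hA' : A' ≤ (P : Subgroup G)) (hAc' : Nat.card A' = p ^ 2) :
    ∃ n ∈ normalizer ((P : Subgroup G) : Set G), A' = A.map (MulAut.conj n).toMonoidHom := by
  obtain ⟨g, hg⟩ := hC2 A A' hAc hAc'
  have hPN : (P : Subgroup G) ≤ normalizer (A' : Set G) := D.le_normalizer_of_card hA' hAc'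
  have hP'N : ((g • P : Sylow p G) : Subgroup G) ≤ normalizer (A' : Set G) := by
    intro y hy
    rw [mem_sylow_smul_iff] at hy
    have h1 := conj_mem_normalizer_map A g _ (D.le_normalizer_of_card hA hAc hy)
    rw [← hg] at h1
    have e : g * (g⁻¹ * y * g) * g⁻¹ = y := by group
    rwa [e] at h1
  obtain ⟨n, hn, hnP⟩ :=
    helper59.exists_conj_le_sylow_of_le P hPN hP'N (g • P).isPGroup'
  refine ⟨n * g, ?_, ?_⟩
  · apply mem_normalizer_of_conj_mem'
    intro x hx
    have h1 : g * x * g⁻¹ ∈ ((g • P : Sylow p G) : Subgroup G) := by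
      rw [mem_sylow_smul_iff]
      simpa [mul_assoc] using hx
    have h2 := hnP _ h1
    have e : n * g * x * (n * g)⁻¹ = n * (g * x * g⁻¹) * n⁻¹ := by group
    rw [e]
    exact h2
  · rw [map_conj_mul, ← hg]
    exact ((map_conj_eq_self_iff A' n).mpr hn).symm

/-- Some `2`-element of `N_G(P)` induces an automorphism of order two on `P`. -/
theorem exists_two_element (D : ExtraData p P Z)
    (hC2 : ∀ H K : Subgroup G, Nat.card H = p ^ 2 → Nat.card K = p ^ 2 →
      ∃ g : G, K = H.map (MulAut.conj g).toMonoidHom) :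
    ∃ t ∈ normalizer ((P : Subgroup G) : Set G), (∃ k : ℕ, orderOf t = 2 ^ k) ∧
      t ∉ centralizer ((P : Subgroup G) : Set G) ∧
      t * t ∈ centralizer ((P : Subgroup G) : Set G) := by
  classical
  obtain ⟨Q⟩ : Nonempty (Sylow 2 (normalizer ((P : Subgroup G) : Set G))) := inferInstance
  have hodd := sylow_map_relIndex_odd (normalizer ((P : Subgroup G) : Set G)) Q
  have hT2 : IsPGroup 2 ((Q : Subgroup (normalizer ((P : Subgroup G) : Set G))).map
      (normalizer ((P : Subgroup G) : Set G)).subtype) := Q.isPGroup'.map _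
  have hTN : (Q : Subgroup (normalizer ((P : Subgroup G) : Set G))).map
      (normalizer ((P : Subgroup G) : Set G)).subtype ≤ normalizer ((P : Subgroup G) : Set G) :=
    Subgroup.map_subtype_le _
  generalize (Q : Subgroup (normalizer ((P : Subgroup G) : Set G))).map
      (normalizer ((P : Subgroup G) : Set G)).subtype = T at hodd hT2 hTN
  have hex : ∃ x ∈ T, x ∉ centralizer ((P : Subgroup G) : Set G) := by
    by_contra hcon
    push Not at hcon
    obtain ⟨x₀, hx₀P, hx₀Z⟩ := D.exists_not_mem_Z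
    have hA₀ : zpowers x₀ ⊔ Z ≤ (P : Subgroup G) := sup_le (zpowers_le.mpr hx₀P) D.hZP
    have hA₀c := D.card_sup_zpowers hx₀P hx₀Z
    have hTA : T ≤ normalizer ((zpowers x₀ ⊔ Z : Subgroup G) : Set G) := by
      intro x hx
      apply mem_normalizer_of_conj_mem'
      intro a ha
      have h1 := Subgroup.mem_centralizer_iff.mp (hcon x hx) a (hA₀ ha)
      have h2 : x * a * x⁻¹ = a := by
        rw [← h1]
        group
      rw [h2]
      exact ha
    apply not_two_dvd_card_conj_orbit (normalizer ((P : Subgroup G) : Set G))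
      (zpowers x₀ ⊔ Z) T hTA hodd
    have h2 : Nat.card {H : Subgroup G // ∃ n ∈ normalizer ((P : Subgroup G) : Set G),
          H = (zpowers x₀ ⊔ Z).map (MulAut.conj n).toMonoidHom} =
        Nat.card {A : Subgroup G // A ≤ (P : Subgroup G) ∧ Nat.card A = p ^ 2} := by
      refine Nat.card_congr (Equiv.subtypeEquivRight (fun H => ?_))
      constructor
      · rintro ⟨n, hn, rfl⟩
        refine ⟨?_, by rw [card_map_conj, hA₀c]⟩
        intro y hy
        rw [mem_map_conj] at hy
        have h3 := (Subgroup.mem_normalizer_iff.mp hn (n⁻¹ * y * n)).mp (hA₀ hy)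
        have e : n * (n⁻¹ * y * n) * n⁻¹ = y := by group
        rwa [e] at h3
      · rintro ⟨hHP, hHc⟩
        exact D.exists_normalizer_conj hC2 hA₀ hA₀c hHP hHc
    rw [h2, D.card_maximal]
    rcases hp.out.eq_two_or_odd with h | h
    · exact absurd h D.hp2
    · omega
  obtain ⟨x, hxT, hxC⟩ := hex
  obtain ⟨e, he⟩ := orderOf_eq_prime_pow_of_mem_isPGroup Nat.prime_two hT2 hxT
  have hex2 : ∃ i, x ^ 2 ^ i ∈ centralizer ((P : Subgroup G) : Set G) :=
    ⟨e, by rw [← he, pow_orderOf_eq_one]; exact Subgroup.one_mem _⟩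
  have hi0 : Nat.find hex2 ≠ 0 := by
    intro h0
    have h1 := Nat.find_spec hex2
    rw [h0, pow_zero, pow_one] at h1
    exact hxC h1
  obtain ⟨j, hj⟩ := Nat.exists_eq_succ_of_ne_zero hi0
  refine ⟨x ^ 2 ^ j, hTN (T.pow_mem hxT _),
    orderOf_eq_prime_pow_of_mem_isPGroup Nat.prime_two hT2 (T.pow_mem hxT _), ?_, ?_⟩
  · exact Nat.find_min hex2 (by rw [hj]; exact Nat.lt_succ_self j)
  · have h1 := Nat.find_spec hex2
    rw [hj, pow_succ, pow_mul, pow_two] at h1
    exact h1

/-- For `t ∈ N_G(P)` inducing an automorphism of order two on `P`, some subgroup `A` of order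
`p ^ 2` of `P` is normalized by `t` with `C_A(t)` of order `p`. -/
theorem exists_det_neg_one (D : ExtraData p P Z) {t : G}
    (htN : t ∈ normalizer ((P : Subgroup G) : Set G))
    (htC : t ∉ centralizer ((P : Subgroup G) : Set G))
    (htt : t * t ∈ centralizer ((P : Subgroup G) : Set G)) :
    ∃ A : Subgroup G, A ≤ (P : Subgroup G) ∧ Nat.card A = p ^ 2 ∧ t ∈ normalizer (A : Set G) ∧
      Nat.card ↥(A ⊓ centralizer {t}) = p := by
  have htP := Subgroup.mem_normalizer_iff.mp htN
  have hτ : ∀ x ∈ (P : Subgroup G), t * x * t⁻¹ ∈ (P : Subgroup G) := fun x hx => (htP x).mp hx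
  have hττ : ∀ x ∈ (P : Subgroup G), t * (t * x * t⁻¹) * t⁻¹ = x := by
    intro x hx
    have h1 := Subgroup.mem_centralizer_iff.mp htt x hx
    calc t * (t * x * t⁻¹) * t⁻¹ = (t * t) * x * t⁻¹ * t⁻¹ := by group
      _ = x * (t * t) * t⁻¹ * t⁻¹ := by rw [h1]
      _ = x := by group
  have htZ : t ∈ normalizer (Z : Set G) := D.normalizer_le htN
  have hZmap : Z.map (MulAut.conj t).toMonoidHom = Z := (map_conj_eq_self_iff Z t).mpr htZ
  by_cases hcase : ∃ c ∈ (P : Subgroup G), c ∉ Z ∧ t * c = c * t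
  · obtain ⟨c, hcP, hcZ, htc⟩ := hcase
    have hAP : zpowers c ⊔ Z ≤ (P : Subgroup G) := sup_le (zpowers_le.mpr hcP) D.hZP
    have hAc := D.card_sup_zpowers hcP hcZ
    have hc' : t * c * t⁻¹ = c := by
      rw [htc]
      group
    have htA : t ∈ normalizer ((zpowers c ⊔ Z : Subgroup G) : Set G) := by
      rw [← map_conj_eq_self_iff, Subgroup.map_sup, hZmap, MonoidHom.map_zpowers]
      have h1 : (MulAut.conj t).toMonoidHom c = c := by
        simpa [MulAut.conj_apply] using hc'
      rw [h1]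
    refine ⟨zpowers c ⊔ Z, hAP, hAc, htA, ?_⟩
    have hB₁le : (zpowers c ⊔ Z) ⊓ centralizer {t} ≤ zpowers c ⊔ Z := inf_le_left
    obtain ⟨k, hk, hcard⟩ := D.card_eq_pow (hB₁le.trans hAP)
    have hdvd := Subgroup.card_dvd_of_le hB₁le
    rw [hAc, hcard] at hdvd
    have hk2 : k ≤ 2 := (Nat.pow_dvd_pow_iff_le_right hp.out.one_lt).mp hdvd
    have hc1 : c ≠ 1 := fun h => hcZ (h ▸ Z.one_mem)
    have hk0 : k ≠ 0 := by
      rintro rfl
      rw [pow_zero] at hcard
      have hbot : (zpowers c ⊔ Z) ⊓ centralizer {t} = ⊥ := Subgroup.card_eq_one.mp hcard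
      have hcm : c ∈ (zpowers c ⊔ Z) ⊓ centralizer {t} :=
        ⟨(le_sup_left : zpowers c ≤ zpowers c ⊔ Z) (mem_zpowers c),
          (mem_centralizer_singleton' t c).mpr htc⟩
      rw [hbot, Subgroup.mem_bot] at hcm
      exact hc1 hcm
    have hk2' : k ≠ 2 := by
      rintro rfl
      have heq : (zpowers c ⊔ Z) ⊓ centralizer {t} = zpowers c ⊔ Z :=
        Subgroup.eq_of_le_of_card_ge hB₁le (by rw [hcard, hAc])
      have hcentA : ∀ a ∈ zpowers c ⊔ Z, t * a = a * t := by
        intro a ha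
        have h1 : a ∈ (zpowers c ⊔ Z) ⊓ centralizer {t} := by
          rw [heq]
          exact ha
        exact (mem_centralizer_singleton' t a).mp h1.2
      apply htC
      rw [Subgroup.mem_centralizer_iff]
      intro x hx
      have hx' := hτ x hx
      have hkA : x * c * x⁻¹ * c⁻¹ ∈ zpowers c ⊔ Z :=
        (le_sup_right : Z ≤ zpowers c ⊔ Z) (D.hcomm x hx c hcP)
      have h1 := hcentA _ hkA
      have h3 : t * (x * c * x⁻¹ * c⁻¹) * t⁻¹ =
          (t * x * t⁻¹) * (t * c * t⁻¹) * (t * x * t⁻¹)⁻¹ * (t * c * t⁻¹)⁻¹ := by group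
      rw [hc', h1, mul_inv_cancel_right] at h3
      have h4 : (t * x * t⁻¹) * c * (t * x * t⁻¹)⁻¹ = x * c * x⁻¹ := mul_right_cancel h3.symm
      have h5 : c * (x⁻¹ * (t * x * t⁻¹)) = (x⁻¹ * (t * x * t⁻¹)) * c := by
        calc c * (x⁻¹ * (t * x * t⁻¹)) = x⁻¹ * (x * c * x⁻¹) * (t * x * t⁻¹) := by group
          _ = x⁻¹ * ((t * x * t⁻¹) * c * (t * x * t⁻¹)⁻¹) * (t * x * t⁻¹) := by rw [h4]
          _ = (x⁻¹ * (t * x * t⁻¹)) * c := by group
      have haP : x⁻¹ * (t * x * t⁻¹) ∈ (P : Subgroup G) := mul_mem (inv_mem hx) hx'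
      have haA : x⁻¹ * (t * x * t⁻¹) ∈ zpowers c ⊔ Z := by
        rw [← D.centralizer_eq hcP hcZ]
        exact ⟨haP, (mem_centralizer_singleton' c _).mpr h5⟩
      have h6 := hcentA _ haA
      have h7 := hττ x hx
      have h8 : t * (t * x * t⁻¹) * t⁻¹ =
          (t * x * t⁻¹) * (t * (x⁻¹ * (t * x * t⁻¹)) * t⁻¹) := by group
      rw [h7, h6, mul_inv_cancel_right] at h8
      have h9 : (x⁻¹ * (t * x * t⁻¹)) * (x⁻¹ * (t * x * t⁻¹)) = 1 := by
        have h10 : x * 1 = x * ((x⁻¹ * (t * x * t⁻¹)) * (x⁻¹ * (t * x * t⁻¹))) := by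
          rw [mul_one]
          calc x = t * x * t⁻¹ * (x⁻¹ * (t * x * t⁻¹)) := h8
            _ = x * ((x⁻¹ * (t * x * t⁻¹)) * (x⁻¹ * (t * x * t⁻¹))) := by group
        exact (mul_left_cancel h10).symm
      have h11 : x⁻¹ * (t * x * t⁻¹) = 1 := D.eq_one_of_sq haP h9
      have h12 : t * x * t⁻¹ = x := (inv_mul_eq_one.mp h11).symm
      calc x * t = (t * x * t⁻¹) * t := by rw [h12]
        _ = t * x := by group
    have hk1 : k = 1 := by omega
    rw [hcard, hk1, pow_one]
  · push Not at hcase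
    have hfixZ : ∀ c ∈ (P : Subgroup G), t * c = c * t → c ∈ Z := by
      intro c hc h
      by_contra hcZ
      exact hcase c hc hcZ h
    have htZc : ∀ z ∈ Z, t * z = z * t := by
      by_contra hcon
      push Not at hcon
      obtain ⟨z₀, hz₀, hz₀t⟩ := hcon
      have hCZ : Z ⊓ centralizer {t} = ⊥ := by
        have hdvd := Subgroup.card_dvd_of_le (inf_le_left : Z ⊓ centralizer {t} ≤ Z)
        rw [D.hZcard] at hdvd
        rcases (Nat.dvd_prime hp.out).mp hdvd with h | h
        · exact Subgroup.card_eq_one.mp h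
        · exfalso
          have h1 : Z ⊓ centralizer {t} = Z :=
            Subgroup.eq_of_le_of_card_ge inf_le_left (by rw [h, D.hZcard])
          have hz : z₀ ∈ Z ⊓ centralizer {t} := by
            rw [h1]
            exact hz₀
          exact hz₀t ((mem_centralizer_singleton' t z₀).mp hz.2)
      have hfpf : ∀ a ∈ (P : Subgroup G), t * a * t⁻¹ = a → a = 1 := by
        intro a ha h
        have hta : t * a = a * t := by
          calc t * a = (t * a * t⁻¹) * t := by group
            _ = a * t := by rw [h]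
        have haZ := hfixZ a ha hta
        have h1 : a ∈ Z ⊓ centralizer {t} := ⟨haZ, (mem_centralizer_singleton' t a).mpr hta⟩
        rw [hCZ, Subgroup.mem_bot] at h1
        exact h1
      have hinv := inverts_of_fpf' (P : Subgroup G) t hττ hτ hfpf
      obtain ⟨a, ha, b, hb, hab⟩ := D.hnc
      exact hab (comm_of_inverts (P : Subgroup G) t hinv a ha b hb)
    have hprod : ∀ x ∈ (P : Subgroup G), x * (t * x * t⁻¹) ∈ Z := by
      intro x hx
      apply hfixZ _ (mul_mem hx (hτ x hx))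
      have hkZ : (t * x * t⁻¹) * x * (t * x * t⁻¹)⁻¹ * x⁻¹ ∈ Z := D.hcomm _ (hτ x hx) x hx
      obtain ⟨k, hkdef⟩ : ∃ k, k = (t * x * t⁻¹) * x * (t * x * t⁻¹)⁻¹ * x⁻¹ := ⟨_, rfl⟩
      rw [← hkdef] at hkZ
      have hτy : t * (x * (t * x * t⁻¹)) * t⁻¹ = k * (x * (t * x * t⁻¹)) := by
        have e1 : t * (x * (t * x * t⁻¹)) * t⁻¹ =
            (t * x * t⁻¹) * (t * (t * x * t⁻¹) * t⁻¹) := by group
        rw [e1, hττ x hx, hkdef]
        group
      have hkt := htZc k hkZ
      have h2 : t * (t * (x * (t * x * t⁻¹)) * t⁻¹) * t⁻¹ = x * (t * x * t⁻¹) :=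
        hττ _ (mul_mem hx (hτ x hx))
      have h3 : t * (k * (x * (t * x * t⁻¹))) * t⁻¹ = k * (k * (x * (t * x * t⁻¹))) := by
        have e2 : t * (k * (x * (t * x * t⁻¹))) * t⁻¹ =
            (t * k * t⁻¹) * (t * (x * (t * x * t⁻¹)) * t⁻¹) := by group
        rw [e2, hτy, hkt, mul_inv_cancel_right]
      rw [hτy, h3] at h2
      have h4 : k * k = 1 := by
        have h5 : k * k * (x * (t * x * t⁻¹)) = 1 * (x * (t * x * t⁻¹)) := by
          rw [one_mul, mul_assoc]
          exact h2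
        exact mul_right_cancel h5
      have hk1 : k = 1 := D.eq_one_of_sq (D.hZP hkZ) h4
      rw [hk1, one_mul] at hτy
      calc t * (x * (t * x * t⁻¹)) = (t * (x * (t * x * t⁻¹)) * t⁻¹) * t := by group
        _ = (x * (t * x * t⁻¹)) * t := by rw [hτy]
    obtain ⟨x₀, hx₀P, hx₀Z⟩ := D.exists_not_mem_Z
    have hAP : zpowers x₀ ⊔ Z ≤ (P : Subgroup G) := sup_le (zpowers_le.mpr hx₀P) D.hZP
    have hAc := D.card_sup_zpowers hx₀P hx₀Z
    have htA : t ∈ normalizer ((zpowers x₀ ⊔ Z : Subgroup G) : Set G) := by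
      apply mem_normalizer_of_conj_mem'
      intro a ha
      have h1 : t * a * t⁻¹ ∈ (zpowers x₀ ⊔ Z).map (MulAut.conj t).toMonoidHom :=
        conj_mem_map_conj _ t a ha
      rw [Subgroup.map_sup, hZmap, MonoidHom.map_zpowers] at h1
      refine (sup_le ?_ le_sup_right :
        zpowers ((MulAut.conj t).toMonoidHom x₀) ⊔ Z ≤ zpowers x₀ ⊔ Z) h1
      rw [zpowers_le]
      have h2 : (MulAut.conj t).toMonoidHom x₀ = x₀⁻¹ * (x₀ * (t * x₀ * t⁻¹)) := by
        simp [MulAut.conj_apply]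
      rw [h2]
      exact mul_mem (inv_mem ((le_sup_left : zpowers x₀ ≤ zpowers x₀ ⊔ Z) (mem_zpowers x₀)))
        ((le_sup_right : Z ≤ zpowers x₀ ⊔ Z) (hprod x₀ hx₀P))
    refine ⟨zpowers x₀ ⊔ Z, hAP, hAc, htA, ?_⟩
    have hB : (zpowers x₀ ⊔ Z) ⊓ centralizer {t} = Z := by
      apply le_antisymm
      · rintro a ⟨haA, hat⟩
        exact hfixZ a (hAP haA) ((mem_centralizer_singleton' t a).mp hat)
      · exact le_inf le_sup_right
          (fun z hz => (mem_centralizer_singleton' t z).mpr (htZc z hz))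
    rw [hB, D.hZcard]

/-- `N_G(A)` acts transitively on the subgroups of order `p` of a subgroup `A` of order `p ^ 2`
of `P`: each is conjugate to `Z` under `N_G(A)`. -/
theorem exists_normalizer_conj_Z (D : ExtraData p P Z)
    (hC1 : ∀ H K : Subgroup G, Nat.card H = p → Nat.card K = p →
      ∃ g : G, K = H.map (MulAut.conj g).toMonoidHom)
    {A B : Subgroup G} (hA : A ≤ (P : Subgroup G)) (hAc : Nat.card A = p ^ 2)
    (hBA : B ≤ A) (hBc : Nat.card B = p) :
    ∃ n ∈ normalizer (A : Set G), B = Z.map (MulAut.conj n).toMonoidHom := by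
  obtain ⟨g, hg⟩ := hC1 Z B D.hZcard hBc
  have hP'C : ((g • P : Sylow p G) : Subgroup G) ≤ centralizer (B : Set G) := by
    intro y hy
    rw [mem_sylow_smul_iff] at hy
    rw [Subgroup.mem_centralizer_iff]
    intro b hb
    rw [SetLike.mem_coe, hg, mem_map_conj] at hb
    have h1 := D.central hb hy
    have e : b * y = g * ((g⁻¹ * b * g) * (g⁻¹ * y * g)) * g⁻¹ := by group
    rw [e, ← h1]
    group
  have hAC : A ≤ centralizer (B : Set G) := by
    intro a ha
    rw [Subgroup.mem_centralizer_iff]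
    intro b hb
    exact D.comm_of_card hAc b (hBA hb) a ha
  obtain ⟨c, hc, hcA⟩ :=
    helper59.exists_conj_le_sylow_of_le (g • P) hP'C hAC (IsPGroup.of_card hAc)
  have hAh : ∀ a ∈ A, (c⁻¹ * g)⁻¹ * a * (c⁻¹ * g) ∈ (P : Subgroup G) := by
    intro a ha
    have h1 := hcA a ha
    rw [mem_sylow_smul_iff] at h1
    have e : (c⁻¹ * g)⁻¹ * a * (c⁻¹ * g) = g⁻¹ * (c * a * c⁻¹) * g := by group
    rw [e]
    exact h1
  have hBh : B = Z.map (MulAut.conj (c⁻¹ * g)).toMonoidHom := by
    rw [map_conj_mul, ← hg]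
    have hc' : c⁻¹ ∈ normalizer (B : Set G) :=
      Subgroup.centralizer_le_normalizer _ (inv_mem hc)
    exact ((map_conj_eq_self_iff B c⁻¹).mpr hc').symm
  obtain ⟨h, hh⟩ : ∃ h, h = c⁻¹ * g := ⟨_, rfl⟩
  rw [← hh] at hAh hBh
  have hA₁P : A.map (MulAut.conj h⁻¹).toMonoidHom ≤ (P : Subgroup G) := by
    intro y hy
    rw [mem_map_conj, inv_inv] at hy
    have h1 := hAh _ hy
    have e : h⁻¹ * (h * y * h⁻¹) * h = y := by group
    rwa [e] at h1
  have hA₁c : Nat.card (A.map (MulAut.conj h⁻¹).toMonoidHom) = p ^ 2 := by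
    rw [card_map_conj, hAc]
  have hPN₁ := D.le_normalizer_of_card hA₁P hA₁c
  have hPN : (P : Subgroup G) ≤ normalizer (A : Set G) := D.le_normalizer_of_card hA hAc
  have hback : (A.map (MulAut.conj h⁻¹).toMonoidHom).map (MulAut.conj h).toMonoidHom = A := by
    rw [← map_conj_mul, mul_inv_cancel, map_conj_one]
  have hP''N : ((h • P : Sylow p G) : Subgroup G) ≤ normalizer (A : Set G) := by
    intro y hy
    rw [mem_sylow_smul_iff] at hy
    have h1 := conj_mem_normalizer_map _ h _ (hPN₁ hy)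
    rw [hback] at h1
    have e : h * (h⁻¹ * y * h) * h⁻¹ = y := by group
    rwa [e] at h1
  obtain ⟨n, hn, hnP⟩ :=
    helper59.exists_conj_le_sylow_of_le P hPN hP''N (h • P).isPGroup'
  have hnh : n * h ∈ normalizer ((P : Subgroup G) : Set G) := by
    apply mem_normalizer_of_conj_mem'
    intro x hx
    have h1 : h * x * h⁻¹ ∈ ((h • P : Sylow p G) : Subgroup G) := by
      rw [mem_sylow_smul_iff]
      simpa [mul_assoc] using hx
    have h2 := hnP _ h1
    have e : n * h * x * (n * h)⁻¹ = n * (h * x * h⁻¹) * n⁻¹ := by group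
    rw [e]
    exact h2
  have hZ' := (map_conj_eq_self_iff Z (n * h)).mpr (D.normalizer_le hnh)
  rw [map_conj_mul, ← hBh] at hZ'
  refine ⟨n⁻¹, inv_mem hn, ?_⟩
  rw [← hZ', ← map_conj_mul, inv_mul_cancel, map_conj_one]

/-- The configuration is impossible when the `2`-subgroups of `G` are Dedekind groups. -/
theorem false_of_dedekind (D : ExtraData p P Z)
    (hC1 : ∀ H K : Subgroup G, Nat.card H = p → Nat.card K = p →
      ∃ g : G, K = H.map (MulAut.conj g).toMonoidHom)
    (hC2 : ∀ H K : Subgroup G, Nat.card H = p ^ 2 → Nat.card K = p ^ 2 →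
      ∃ g : G, K = H.map (MulAut.conj g).toMonoidHom)
    (hS : ∀ S : Sylow 2 G, ∀ x ∈ (S : Subgroup G), ∀ y ∈ (S : Subgroup G),
      x * y * x⁻¹ ∈ zpowers y) : False := by
  obtain ⟨t, htN, ⟨e, hte⟩, htC, htt⟩ := D.exists_two_element hC2
  obtain ⟨A, hAP, hAc, htA, hB₁c⟩ := D.exists_det_neg_one htN htC htt
  have ht2 : IsPGroup 2 (zpowers (⟨t, htA⟩ : normalizer (A : Set G))) := by
    apply IsPGroup.of_card (n := e)
    rw [Nat.card_zpowers, ← hte, ← Subgroup.orderOf_coe]
  obtain ⟨Q, hQ⟩ := ht2.exists_le_sylow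
  have hodd := sylow_map_relIndex_odd (normalizer (A : Set G)) Q
  have htT : t ∈ (Q : Subgroup (normalizer (A : Set G))).map (normalizer (A : Set G)).subtype :=
    ⟨⟨t, htA⟩, hQ (mem_zpowers _), rfl⟩
  have hTN : (Q : Subgroup (normalizer (A : Set G))).map (normalizer (A : Set G)).subtype ≤
      normalizer (A : Set G) := Subgroup.map_subtype_le _
  have hT2 : IsPGroup 2 ((Q : Subgroup (normalizer (A : Set G))).map
      (normalizer (A : Set G)).subtype) := Q.isPGroup'.map _
  generalize (Q : Subgroup (normalizer (A : Set G))).map (normalizer (A : Set G)).subtype = T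
    at hodd htT hTN hT2
  obtain ⟨S, hTS⟩ := hT2.exists_le_sylow
  have hTB : T ≤ normalizer ((A ⊓ centralizer {t} : Subgroup G) : Set G) := by
    intro x hx
    have hxN : x ∈ normalizer (A : Set G) := hTN hx
    have hxt : x ∈ normalizer ((zpowers t : Subgroup G) : Set G) := by
      apply mem_normalizer_of_conj_mem'
      intro y hy
      obtain ⟨k, rfl⟩ := hy
      rw [← conj_zpow]
      exact zpow_mem (hS S x (hTS hx) t (hTS htT)) k
    have hxt' : x⁻¹ * t * x ∈ zpowers t := by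
      have h1 := (Subgroup.mem_normalizer_iff.mp (inv_mem hxt) t).mp (mem_zpowers t)
      simpa using h1
    obtain ⟨j, hj⟩ := hxt'
    apply mem_normalizer_of_conj_mem'
    rintro a ⟨haA, hat⟩
    have hat' : t * a = a * t := (mem_centralizer_singleton' t a).mp hat
    refine ⟨(Subgroup.mem_normalizer_iff.mp hxN a).mp haA,
      (mem_centralizer_singleton' t _).mpr ?_⟩
    have h1 : t ^ j * a = a * t ^ j := (Commute.zpow_left hat' j).eq
    have hj' : t ^ j = x⁻¹ * t * x := hj
    have h2 : t = x * t ^ j * x⁻¹ := by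
      rw [hj']
      group
    calc t * (x * a * x⁻¹) = (x * t ^ j * x⁻¹) * (x * a * x⁻¹) := by rw [← h2]
      _ = x * (t ^ j * a) * x⁻¹ := by group
      _ = x * (a * t ^ j) * x⁻¹ := by rw [h1]
      _ = (x * a * x⁻¹) * (x * t ^ j * x⁻¹) := by group
      _ = (x * a * x⁻¹) * t := by rw [← h2]
  apply not_two_dvd_card_conj_orbit (normalizer (A : Set G)) (A ⊓ centralizer {t}) T hTB hodd
  have hB₁A : A ⊓ centralizer {t} ≤ A := inf_le_left
  have h2 : Nat.card {H : Subgroup G // ∃ n ∈ normalizer (A : Set G),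
        H = (A ⊓ centralizer {t}).map (MulAut.conj n).toMonoidHom} =
      Nat.card {B : Subgroup G // B ≤ A ∧ Nat.card B = p} := by
    refine Nat.card_congr (Equiv.subtypeEquivRight (fun H => ?_))
    constructor
    · rintro ⟨n, hn, rfl⟩
      refine ⟨?_, by rw [card_map_conj, hB₁c]⟩
      have hn' : A.map (MulAut.conj n).toMonoidHom = A := (map_conj_eq_self_iff A n).mpr hn
      calc (A ⊓ centralizer {t}).map (MulAut.conj n).toMonoidHom
          ≤ A.map (MulAut.conj n).toMonoidHom := Subgroup.map_mono hB₁A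
        _ = A := hn'
    · rintro ⟨hHA, hHc⟩
      obtain ⟨n₁, hn₁, h₁⟩ := D.exists_normalizer_conj_Z hC1 hAP hAc hHA hHc
      obtain ⟨n₂, hn₂, h₂⟩ := D.exists_normalizer_conj_Z hC1 hAP hAc hB₁A hB₁c
      refine ⟨n₁ * n₂⁻¹, mul_mem hn₁ (inv_mem hn₂), ?_⟩
      have h3 : (Z.map (MulAut.conj n₂).toMonoidHom).map (MulAut.conj n₂⁻¹).toMonoidHom = Z := by
        rw [← map_conj_mul, inv_mul_cancel, map_conj_one]
      rw [map_conj_mul, h₂, h3]
      exact h₁
  rw [h2, card_lines p A hAc (fun a ha => D.hexp a (hAP ha))]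
  rcases hp.out.eq_two_or_odd with h | h
  · exact absurd h D.hp2
  · omega

end ExtraData

end Cfsg.Agent.Lib.helper70
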