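import Cfsg.Agent.Lib.helper95.APDefs

/-!
# S2276 piece INTV, core (helper70)

Interval model: the FIRST interval `[0, l₁)` carries the reversed cycle, every other interval the
forward cycle.  Then `Fix (a * b) = {1, …, l₁ - 1}` and `x = 0`, `y = 2 p^(e-1)` is a witness
for the good pair criterion (GPC), which enters as a hypothesis here.
-/

set_option autoImplicit false

namespace Cfsg.Agent.Lib.helper95.AP

open Equiv

/-- forward step on the interval `[s, s + l)` -/
def h70_fw (s l z : ℕ) : ℕ :=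
  if s ≤ z ∧ z + 1 < s + l then z + 1 else if s ≤ z ∧ z + 1 = s + l then s else z

/-- reversed step on the interval `[s, s + l)` -/
def h70_rv (s l z : ℕ) : ℕ :=
  if s < z ∧ z < s + l then z - 1 else if z = s then s + l - 1 else z

/-- all intervals forward -/
def h70_F : ℕ → List ℕ → ℕ → ℕ
  | _, [], z => z
  | s, l :: L, z => if z < s + l then h70_fw s l z else h70_F (s + l) L z

theorem h70_finRotate_val (n : ℕ) (i : Fin n) :
    ((finRotate n i : Fin n) : ℕ) = if (i : ℕ) + 1 < n then (i : ℕ) + 1 else 0 := by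
  cases n with
  | zero => exact i.elim0
  | succ n =>
    rw [coe_finRotate]
    have := i.2
    by_cases h : i = Fin.last n
    · rw [if_pos h]
      have : (i : ℕ) = n := by rw [h]; rfl
      rw [if_neg (by omega)]
    · rw [if_neg h]
      have : (i : ℕ) ≠ n := fun h' => h (Fin.ext h')
      rw [if_pos (by omega)]

theorem h70_card_fin (M a b : ℕ) (hb : b ≤ M) :
    (Finset.univ.filter (fun z : Fin M => a ≤ (z : ℕ) ∧ (z : ℕ) < b)).card = b - a := by
  have h : (Finset.univ.filter (fun z : Fin M => a ≤ (z : ℕ) ∧ (z : ℕ) < b)).map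
      Fin.valEmbedding = Finset.Ico a b := by
    ext x
    simp only [Finset.mem_map, Finset.mem_filter, Finset.mem_univ, true_and,
      Fin.valEmbedding_apply, Finset.mem_Ico]
    constructor
    · rintro ⟨z, hz, rfl⟩
      exact hz
    · intro hx
      exact ⟨⟨x, by omega⟩, hx, rfl⟩
  rw [← Finset.card_map Fin.valEmbedding, h, Nat.card_Ico]

/-- the forward cycle on `[s, s + l)` as a permutation of `Fin M` -/
theorem h70_cyc (M s l : ℕ) (hl : 2 ≤ l) (hsl : s + l ≤ M) :
    ∃ c : Perm (Fin M), c.cycleType = {l} ∧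
      ∀ z : Fin M, ((c z : Fin M) : ℕ) = h70_fw s l z := by
  classical
  let emb : Fin l ↪ Fin M := ⟨fun i => ⟨s + i, by have := i.2; omega⟩, fun i j h => by
    have h' := congrArg Fin.val h
    simp only at h'
    exact Fin.ext (by omega)⟩
  have hemb : ∀ i : Fin l, ((emb i : Fin M) : ℕ) = s + i := fun i => rfl
  refine ⟨(finRotate l).viaFintypeEmbedding emb, ?_, ?_⟩
  · rw [Equiv.Perm.viaFintypeEmbedding, Equiv.Perm.cycleType_extendDomain,
      cycleType_finRotate_of_le hl]
  · intro z
    by_cases hz : s ≤ (z : ℕ) ∧ (z : ℕ) < s + l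
    · have hzi : z = emb ⟨z - s, by omega⟩ := Fin.ext (by rw [hemb]; simp only; omega)
      rw [hzi, Equiv.Perm.viaFintypeEmbedding_apply_image, hemb, hemb, h70_finRotate_val]
      simp only [h70_fw]
      split_ifs <;> omega
    · have hnr : z ∉ Set.range emb := by
        rintro ⟨i, rfl⟩
        apply hz
        rw [hemb]
        have := i.2
        omega
      rw [Equiv.Perm.viaFintypeEmbedding_apply_notMem_range _ _ hnr]
      simp only [h70_fw]
      split_ifs <;> omega

theorem h70_F_lt (s : ℕ) (L : List ℕ) (z : ℕ) (hz : z < s) : h70_F s L z = z := by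
  induction L generalizing s with
  | nil => rfl
  | cons l L ih =>
    simp only [h70_F]
    rw [if_pos (by omega)]
    simp only [h70_fw]
    split_ifs <;> omega

theorem h70_F_ge (s : ℕ) (L : List ℕ) (z : ℕ) (hz : s ≤ z) : s ≤ h70_F s L z := by
  induction L generalizing s with
  | nil => exact hz
  | cons l L ih =>
    simp only [h70_F]
    by_cases h : z < s + l
    · rw [if_pos h]
      simp only [h70_fw]
      split_ifs <;> omega
    · rw [if_neg h]
      have := ih (s + l) (by omega)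
      omega

theorem h70_F_ne (s : ℕ) (L : List ℕ) (hL : ∀ l ∈ L, 3 ≤ l) (z : ℕ) : h70_F s L z + 1 ≠ z := by
  induction L generalizing s with
  | nil => simp [h70_F]
  | cons l L ih =>
    have hl : 3 ≤ l := hL l (by simp)
    simp only [h70_F]
    by_cases h : z < s + l
    · rw [if_pos h]
      simp only [h70_fw]
      split_ifs <;> omega
    · rw [if_neg h]
      exact ih (s + l) (fun x hx => hL x (by simp [hx]))

theorem h70_F_tail (p : ℕ) (hp2 : 2 ≤ p) (s : ℕ) (L : List ℕ) (hL : ∀ l ∈ L, p ∣ l ∧ 1 ≤ l)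
    (z : ℕ) (hz : s ≤ z) (hzs : p ∣ z - s) : h70_F s L z = z ∨ h70_F s L z = z + 1 := by
  induction L generalizing s with
  | nil => left; rfl
  | cons l L ih =>
    obtain ⟨hpl, hl1⟩ := hL l (by simp)
    simp only [h70_F]
    by_cases h : z < s + l
    · rw [if_pos h]
      by_cases h2 : z + 1 < s + l
      · right
        simp only [h70_fw]
        rw [if_pos ⟨hz, h2⟩]
      · exfalso
        have hzl : z - s = l - 1 := by omega
        rw [hzl] at hzs
        have h1 : p ∣ 1 := (Nat.dvd_add_right hzs).mp (by rwa [show l - 1 + 1 = l by omega])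
        have := Nat.le_of_dvd (by norm_num) h1
        omega
    · rw [if_neg h]
      apply ih (s + l) (fun x hx => hL x (by simp [hx])) (by omega)
      have h3 : z - s = (z - (s + l)) + l := by omega
      rw [h3] at hzs
      exact (Nat.dvd_add_left hpl).mp hzs

/-- realisation of the all-forward model -/
theorem h70_real (M : ℕ) (L : List ℕ) (hL : ∀ l ∈ L, 2 ≤ l) (s : ℕ) (hs : s + L.sum ≤ M) :
    ∃ b : Perm (Fin M), b.cycleType = (L : Multiset ℕ) ∧
      ∀ z : Fin M, ((b z : Fin M) : ℕ) = h70_F s L z := by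
  induction L generalizing s with
  | nil => exact ⟨1, by simp, fun z => rfl⟩
  | cons l L ih =>
    have hl : 2 ≤ l := hL l (by simp)
    have hs0 : s + (l + L.sum) ≤ M := by simpa using hs
    obtain ⟨c, hc, hcv⟩ := h70_cyc M s l hl (by omega)
    obtain ⟨b', hb', hbv⟩ := ih (fun x hx => hL x (by simp [hx])) (s + l) (by omega)
    have hdisj : Perm.Disjoint c b' := by
      intro z
      by_cases hz : (z : ℕ) < s + l
      · right
        apply Fin.ext
        rw [hbv]
        exact h70_F_lt _ _ _ hz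
      · left
        apply Fin.ext
        rw [hcv]
        simp only [h70_fw]
        split_ifs <;> omega
    refine ⟨c * b', ?_, ?_⟩
    · rw [hdisj.cycleType_mul, hc, hb']
      rfl
    · intro z
      rw [Perm.mul_apply, hcv, hbv]
      simp only [h70_F]
      by_cases hz : (z : ℕ) < s + l
      · rw [if_pos hz, h70_F_lt _ _ _ hz]
      · rw [if_neg hz]
        have := h70_F_ge (s + l) L z (by omega)
        simp only [h70_fw]
        split_ifs <;> omega

/-- INTV core: a permutation with cycle type `L` forming a good pair with the rotation, given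
the good pair criterion for this `p`, `e`. -/
theorem h70_intv_core (p : ℕ) (hp : p.Prime) (hp3 : 3 ≤ p) (e : ℕ) (L : List ℕ) (hL0 : L ≠ [])
    (hpow : ∀ l ∈ L, ∃ j : ℕ, 1 ≤ j ∧ l = p ^ j ∧ l < p ^ e)
    (hsum : L.sum ≤ p ^ e)
    (hgpc : ∀ (b : Perm (Fin (p ^ e))) (x y : Fin (p ^ e)),
      ((p ^ (e - 1) : ℕ) : ℤ) ∣ ((x : ℕ) : ℤ) - ((y : ℕ) : ℤ) →
      ¬ (p : ℤ) ∣ (((b x : Fin (p ^ e)) : ℕ) : ℤ) - (((b y : Fin (p ^ e)) : ℕ) : ℤ) →
      ∀ f : ℕ,
        (Finset.univ.filter (fun z : Fin (p ^ e) => (finRotate (p ^ e) * b) z = z)).card = f →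
        2 ≤ f → ¬ p ∣ f → Good p (finRotate (p ^ e)) b) :
    ∃ b : Perm (Fin (p ^ e)), b.cycleType = (L : Multiset ℕ) ∧ Good p (finRotate (p ^ e)) b := by
  obtain ⟨l₁, L', rfl⟩ := List.exists_cons_of_ne_nil hL0
  -- facts about the parts
  have hparts : ∀ l ∈ l₁ :: L', 3 ≤ l ∧ p ∣ l ∧ l ≤ p ^ (e - 1) ∧ 2 ≤ e := by
    intro l hl
    obtain ⟨j, hj1, hlj, hlt⟩ := hpow l hl
    have hje : j < e := (Nat.pow_lt_pow_iff_right hp.one_lt).mp (hlj ▸ hlt)
    refine ⟨?_, ?_, ?_, by omega⟩
    · rw [hlj]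
      calc 3 ≤ p := hp3
        _ = p ^ 1 := (pow_one p).symm
        _ ≤ p ^ j := Nat.pow_le_pow_right hp.pos hj1
    · rw [hlj]
      exact dvd_pow_self p (by omega)
    · rw [hlj]
      exact Nat.pow_le_pow_right hp.pos (by omega)
  obtain ⟨h1_3, h1_p, h1_q, he2⟩ := hparts l₁ (by simp)
  have hMq : p ^ e = p * p ^ (e - 1) := by
    rw [← pow_succ']
    congr 1
    omega
  have hpq : p ∣ p ^ (e - 1) := dvd_pow_self p (by omega)
  have hM3q : 3 * p ^ (e - 1) ≤ p ^ e := by
    rw [hMq]
    exact Nat.mul_le_mul_right _ hp3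
  have hsum' : l₁ + L'.sum ≤ p ^ e := by simpa using hsum
  generalize hq : p ^ (e - 1) = q at *
  generalize hM : p ^ e = M at *
  have hL3 : ∀ l ∈ L', 3 ≤ l := fun l hl => (hparts l (by simp [hl])).1
  -- the pieces
  obtain ⟨c, hc, hcv⟩ := h70_cyc M 0 l₁ (by omega) (by omega)
  obtain ⟨B, hB, hBv⟩ := h70_real M L' (fun l hl => by have := hL3 l hl; omega) l₁ hsum'
  have hcinv : ∀ z : Fin M, ((c⁻¹ z : Fin M) : ℕ) = h70_rv 0 l₁ z := by
    intro z
    have hzM := z.2
    have hlt : h70_rv 0 l₁ z < M := by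
      simp only [h70_rv]
      split_ifs <;> omega
    have hz' : c⁻¹ z = ⟨h70_rv 0 l₁ z, hlt⟩ := by
      rw [Perm.inv_eq_iff_eq]
      apply Fin.ext
      rw [hcv]
      simp only [h70_fw, h70_rv]
      split_ifs <;> omega
    rw [hz']
  have hdisj : Perm.Disjoint c⁻¹ B := by
    intro z
    by_cases hz : (z : ℕ) < l₁
    · right
      apply Fin.ext
      rw [hBv]
      exact h70_F_lt _ _ _ hz
    · left
      apply Fin.ext
      rw [hcinv]
      simp only [h70_rv]
      split_ifs <;> omega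
  have hbv : ∀ z : Fin M, (((c⁻¹ * B) z : Fin M) : ℕ) =
      if (z : ℕ) < l₁ then h70_rv 0 l₁ z else h70_F l₁ L' z := by
    intro z
    rw [Perm.mul_apply, hcinv, hBv]
    by_cases hz : (z : ℕ) < l₁
    · rw [if_pos hz, h70_F_lt _ _ _ hz]
    · rw [if_neg hz]
      have := h70_F_ge l₁ L' z (by omega)
      simp only [h70_rv]
      split_ifs <;> omega
  refine ⟨c⁻¹ * B, ?_, ?_⟩
  · rw [hdisj.cycleType_mul, Perm.cycleType_inv, hc, hB]
    rfl
  · have hxM : 0 < M := by omega
    have hyM : 2 * q < M := by omega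
    refine hgpc (c⁻¹ * B) ⟨0, hxM⟩ ⟨2 * q, hyM⟩ ?_ ?_ (l₁ - 1) ?_ (by omega) ?_
    · refine ⟨-2, ?_⟩
      push_cast
      ring
    · rw [hbv, hbv]
      simp only
      rw [if_pos (by omega : (0 : ℕ) < l₁), if_neg (by omega : ¬ 2 * q < l₁)]
      have hb0 : h70_rv 0 l₁ 0 = l₁ - 1 := by
        simp only [h70_rv]
        split_ifs <;> omega
      rw [hb0]
      obtain ⟨u, hu⟩ := h1_p
      obtain ⟨v, hv⟩ := hpq
      have hl1Z : ((l₁ - 1 : ℕ) : ℤ) = (l₁ : ℤ) - 1 := by omega
      have huZ : (l₁ : ℤ) = (p : ℤ) * u := by exact_mod_cast hu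
      have hvZ : (q : ℤ) = (p : ℤ) * v := by exact_mod_cast hv
      have hp3Z : (3 : ℤ) ≤ (p : ℤ) := by exact_mod_cast hp3
      have htail := h70_F_tail p (by omega) l₁ L'
        (fun l hl => ⟨(hparts l (by simp [hl])).2.1, by have := hL3 l hl; omega⟩) (2 * q)
        (by omega) (Nat.dvd_sub (Dvd.dvd.mul_left ⟨v, hv⟩ 2) ⟨u, hu⟩)
      rcases htail with ht | ht
      · rw [ht]
        rintro ⟨w, hw⟩
        have h1 : (p : ℤ) ∣ 1 := ⟨u - 2 * v - w, by
          push_cast at hw
          linear_combination (-1 : ℤ) * hw + hl1Z + huZ - 2 * hvZ⟩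
        have := Int.le_of_dvd (by norm_num) h1
        omega
      · rw [ht]
        rintro ⟨w, hw⟩
        have h1 : (p : ℤ) ∣ 2 := ⟨u - 2 * v - w, by
          push_cast at hw
          linear_combination (-1 : ℤ) * hw + hl1Z + huZ - 2 * hvZ⟩
        have := Int.le_of_dvd (by norm_num) h1
        omega
    · have key : ∀ z : Fin M, ((finRotate M * (c⁻¹ * B)) z = z) ↔
          (1 ≤ (z : ℕ) ∧ (z : ℕ) < l₁) := by
        intro z
        rw [Fin.ext_iff, Perm.mul_apply, h70_finRotate_val, hbv]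
        have hzM := z.2
        by_cases hz : (z : ℕ) < l₁
        · rw [if_pos hz]
          simp only [h70_rv]
          split_ifs <;> omega
        · rw [if_neg hz]
          have h1 := h70_F_ne l₁ L' hL3 z
          have h2 := h70_F_ge l₁ L' z (by omega)
          split_ifs <;> omega
      rw [Finset.filter_congr (fun z _ => key z)]
      exact h70_card_fin M 1 l₁ (by omega)
    · intro h
      have h1 : p ∣ 1 := (Nat.dvd_add_right h).mp (by rwa [show l₁ - 1 + 1 = l₁ by omega])
      have := Nat.le_of_dvd (by norm_num) h1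
      omega

end Cfsg.Agent.Lib.helper95.AP
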