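import Mathlib
import Cfsg.Prelude.Def_OddOrderLocal
import Cfsg.Agent.Lib.helper3.BG13Defs
import Cfsg.Agent.Lib.helper13.BG11a
import Cfsg.Agent.Lib.helper80.BGFit
import Cfsg.Agent.S1405

/-!
# Bender–Glauberman section 13: two pieces for S1427 / S1425 (helper70)

* `bg_sigma_disjoint_of_nilpotent` (piece (D) of helper3's plan): if `H_σ` is nilpotent and `H` is
  not conjugate to `M`, then `σ(M)` and `σ(H)` are disjoint.
* `bg_sigma_of_normalizer_le` (piece (B)): if the maximal subgroup `L` contains the normalizer of an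
  elementary abelian subgroup `A` of order `p ^ 2`, then `p ∈ σ(L)` (given the statement of S1417).
-/

set_option autoImplicit false

namespace Cfsg.Agent.Lib.helper70

open Cfsg Cfsg.Agent.Lib.helper3

/-- (D) of the S1427/S1425 plan: if `H_σ` is nilpotent and `H` is not conjugate to `M`, then
`σ(M)` and `σ(H)` are disjoint. -/
theorem bg_sigma_disjoint_of_nilpotent {G : Type*} [Group G] [Finite G]
    (hG : Cfsg.IsMinSimpleOddOrder G) (M H : Subgroup G) (hM : IsCoatom M) (hH : IsCoatom H)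
    (hnil : Group.IsNilpotent (Cfsg.sigmaCore H))
    (hnc : ∀ g : G, H ≠ M.map (MulAut.conj g).toMonoidHom) (r : ℕ) (hrM : r ∈ Cfsg.sigma M) :
    r ∉ Cfsg.sigma H := by
  intro hrH
  have : Fact r.Prime := ⟨hrM.1⟩
  obtain ⟨T, -, hTp, hTi, -, hTN⟩ :=
    Cfsg.Agent.Lib.helper13.exists_normal_sylow_of_nil hG H hH hnil hrH
  obtain ⟨R', hR'⟩ := hrM.2.2
  have hRi := Cfsg.Agent.Lib.helper13.sigma_sylow_index M hrM R'
  have hRp : IsPGroup r ((R' : Subgroup M).map M.subtype) :=
    R'.isPGroup'.map M.subtype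
  -- both are Sylow in `G`, hence conjugate
  obtain ⟨g, hg⟩ := MulAction.exists_smul_eq G (hTp.toSylow hTi) (hRp.toSylow hRi)
  have hg' : T.map (MulAut.conj g).toMonoidHom = (R' : Subgroup M).map M.subtype := by
    have h1 := congrArg (fun P : Sylow r G => (P : Subgroup G)) hg
    simp only [Sylow.coe_subgroup_smul, IsPGroup.toSylow_coe] at h1
    rw [← h1]
    rfl
  -- `H^g ≤ N(T^g) ≤ M`
  have hle : H.map (MulAut.conj g).toMonoidHom ≤ M := by
    refine le_trans ?_ hR'
    rw [← hg', ← hTN]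
    exact (Subgroup.map_equiv_normalizer_eq T (MulAut.conj g)).le
  have hle' : H ≤ M.map (MulAut.conj g⁻¹).toMonoidHom := by
    intro h hh
    refine ⟨g * h * g⁻¹, hle ⟨h, hh, by simp⟩, ?_⟩
    simp [mul_assoc]
  rcases hH.le_iff.mp hle' with h1 | h1
  · apply hM.1
    have h2 : (⊤ : Subgroup G).map (MulAut.conj g⁻¹).toMonoidHom = ⊤ :=
      Subgroup.map_top_of_surjective _ (MulAut.conj g⁻¹).surjective
    exact Subgroup.map_injective (MulAut.conj g⁻¹).injective (h1.trans h2.symm)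
  · exact hnc g⁻¹ h1.symm

/-- (B) of the S1427/S1425 plan: a maximal subgroup containing the normalizer of an elementary
abelian subgroup of order `p ^ 2` has `p` in its `σ`. -/
theorem bg_sigma_of_normalizer_le {G : Type*} [Group G] [Finite G]
    (hG : Cfsg.IsMinSimpleOddOrder G) (h17 : Hyp1417 G) (p : ℕ) [Fact p.Prime] (A : Subgroup G)
    (hA : Cfsg.IsElementaryAbelian p A) (hA2 : Nat.card A = p ^ 2) (L : Subgroup G)
    (hL : IsCoatom L) (hNL : Subgroup.normalizer (A : Set G) ≤ L) : p ∈ Cfsg.sigma L := by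
  by_contra hpσ
  have hp : p.Prime := Fact.out
  have hAL : A ≤ L := le_trans Subgroup.le_normalizer hNL
  have h5 := Cfsg.Agent.S1405.result hG L hL
  have hr2 : PRankLE p 2 ↥L :=
    Cfsg.Agent.Lib.helper80.BGFit.prankLE_two_of_not_sigma L ⟨h5.1, h5.2.2.1⟩ p hp hpσ
  have hr1 : ¬ PRankLE p 1 ↥L := by
    intro h1
    have hc : Nat.card (A.subgroupOf L) = p ^ 2 := by
      rw [Nat.card_congr (Subgroup.subgroupOfEquivOfLe hAL).toEquiv, hA2]
    have := h1 (A.subgroupOf L)
      ⟨⟨fun a b => by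
        have h := congrArg Subtype.val (hA.1.is_comm.comm ⟨a.1.1, a.2⟩ ⟨b.1.1, b.2⟩)
        exact Subtype.ext (Subtype.ext (by simpa using h))⟩⟩
      (fun a ha => by
        have := hA.2 a.1 ha
        exact Subtype.ext (by simpa using this))
    rw [hc, pow_one] at this
    nlinarith [hp.two_le]
  have hτ : p ∈ Cfsg.tau2 L := ⟨hp, hpσ, hr2, hr1⟩
  have hAp : IsPGroup p (A.subgroupOf L) := by
    intro a
    refine ⟨1, ?_⟩
    have := hA.2 a.1.1 a.2
    exact Subtype.ext (Subtype.ext (by simpa using this))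
  obtain ⟨P, hP⟩ := hAp.exists_le_sylow
  have hAP : A ≤ (P : Subgroup L).map L.subtype := by
    intro a ha
    exact ⟨⟨a, hAL ha⟩, hP (show (⟨a, hAL ha⟩ : L) ∈ A.subgroupOf L from ha), rfl⟩
  obtain ⟨-, hS, -⟩ := h17 L hL p hτ A ⟨hAL, hA, hA2⟩
  obtain ⟨hiff, hN⟩ := (hS P).2 hAP
  apply hN
  refine le_trans ?_ hNL
  intro g hg
  rw [Subgroup.mem_normalizer_iff] at hg ⊢
  intro n
  constructor
  · intro hn
    have h1 : g * n * g⁻¹ ∈ (P : Subgroup L).map L.subtype := (hg n).mp (hAP hn)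
    refine (hiff _ h1).mp ?_
    rw [conj_pow, hA.2 n hn]; simp
  · intro hn
    have h1 : n ∈ (P : Subgroup L).map L.subtype := (hg n).mpr (hAP hn)
    refine (hiff _ h1).mp ?_
    have h2 := hA.2 _ hn
    rw [conj_pow] at h2
    have : n ^ p = g⁻¹ * (g * n ^ p * g⁻¹) * g := by group
    rw [this, h2]; simp

end Cfsg.Agent.Lib.helper70
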