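import Mathlib
import Cfsg.Prelude.Def_Solvable
import Cfsg.Agent.Lib.helper70.SameOrder
import Cfsg.Agent.Lib.helper12.MinNormal
import Cfsg.Agent.Lib.helper65.MinNormal
import Cfsg.Agent.Lib.helper62.OneClassDerNA
import Cfsg.Agent.Lib.helper64.ThreePrimes
import Cfsg.Agent.Lib.helper28.PLayer
import Cfsg.Agent.Lib.helper40.Cores
import Cfsg.Agent.S0041

/-!
# Groups in which every element has prime power order (CP-groups, Higman)

Hypothesis throughout: `hpp : ∀ g : G, g ≠ 1 → IsPrimePow (orderOf g)`.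
-/

set_option autoImplicit false

namespace Cfsg.Agent.Lib.helper70

open Subgroup

/-- In a CP-group two nontrivial commuting elements cannot have coprime orders. -/
theorem cp_commute_false {G : Type*} [Group G]
    (hpp : ∀ g : G, g ≠ 1 → IsPrimePow (orderOf g)) {a b : G} (hab : Commute a b)
    (ha : a ≠ 1) (hb : b ≠ 1) (hcop : Nat.Coprime (orderOf a) (orderOf b)) : False := by
  have hord : orderOf (a * b) = orderOf a * orderOf b :=
    hab.orderOf_mul_eq_mul_orderOf_of_coprime hcop
  have ha1 : orderOf a ≠ 1 := fun h => ha (orderOf_eq_one_iff.mp h)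
  have hb1 : orderOf b ≠ 1 := fun h => hb (orderOf_eq_one_iff.mp h)
  have hab1 : a * b ≠ 1 := by
    intro h
    rw [h, orderOf_one] at hord
    exact ha1 (Nat.eq_one_of_mul_eq_one_right hord.symm)
  obtain ⟨r, k, hr, hk, hrk⟩ := hpp (a * b) hab1
  have hr' : r.Prime := hr.nat_prime
  rw [hord] at hrk
  have h1 : r ∣ orderOf a := by
    obtain ⟨i, hi, hi'⟩ := (Nat.dvd_prime_pow hr').mp (Dvd.intro _ hrk.symm)
    rw [hi']
    refine dvd_pow_self r ?_
    rintro rfl
    exact ha1 (by simpa using hi')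
  have h2 : r ∣ orderOf b := by
    obtain ⟨i, hi, hi'⟩ := (Nat.dvd_prime_pow hr').mp (Dvd.intro_left _ hrk.symm)
    rw [hi']
    refine dvd_pow_self r ?_
    rintro rfl
    exact hb1 (by simpa using hi')
  have h3 : r ∣ 1 := by
    have := Nat.dvd_gcd h1 h2
    rwa [Nat.Coprime.gcd_eq_one hcop] at this
  exact hr'.one_lt.ne' (Nat.dvd_one.mp h3)

/-- A subgroup of prime power order is solvable. -/
theorem isSolvable_of_isPGroup {G : Type*} [Group G] [Finite G] {t : ℕ} (ht : t.Prime)
    (A : Subgroup G) (hA : IsPGroup t A) : Group.IsSolvable A := by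
  have : Fact t.Prime := ⟨ht⟩
  have := hA.isNilpotent
  infer_instance

/-- In a CP-group, a subgroup commuting elementwise with a nontrivial subgroup is a `t`-group. -/
theorem cp_isPGroup_of_commuting {G : Type*} [Group G]
    (hpp : ∀ g : G, g ≠ 1 → IsPrimePow (orderOf g)) (A B : Subgroup G)
    (hAB : ∀ a ∈ A, ∀ b ∈ B, a * b = b * a) (hB : B ≠ ⊥) :
    ∃ t : ℕ, t.Prime ∧ IsPGroup t A := by
  obtain ⟨n, hnB, hn1⟩ : ∃ n ∈ B, n ≠ 1 := by
    by_contra h
    push Not at h
    exact hB ((Subgroup.eq_bot_iff_forall _).mpr h)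
  obtain ⟨t, k, ht, hk, htk⟩ := hpp n hn1
  refine ⟨t, ht.nat_prime, ?_⟩
  rintro ⟨a, ha⟩
  by_cases ha1 : a = 1
  · exact ⟨0, by subst ha1; rw [pow_zero, pow_one]; rfl⟩
  obtain ⟨r, j, hr, hj, hrj⟩ := hpp a ha1
  by_cases hrt : r = t
  · refine ⟨j, Subtype.ext ?_⟩
    rw [Subgroup.coe_pow, Subgroup.coe_one, ← hrt, hrj]
    exact pow_orderOf_eq_one a
  · exfalso
    refine cp_commute_false hpp (hAB a ha n hnB) ha1 hn1 ?_
    rw [← hrj, ← htk]
    exact Nat.Coprime.pow _ _ ((Nat.coprime_primes hr.nat_prime ht.nat_prime).mpr hrt)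

/-- In a finite group, `g` normalizes `H` as soon as it conjugates `H` into `H`. -/
theorem mem_normalizer_of_conj_mem_fin {G : Type*} [Group G] [Finite G] (H : Subgroup G) (g : G)
    (h : ∀ x ∈ H, g * x * g⁻¹ ∈ H) : g ∈ normalizer (H : Set G) := by
  rw [Subgroup.mem_normalizer_iff]
  intro x
  refine ⟨h x, fun hx => ?_⟩
  let φ : H → H := fun y => ⟨g * y * g⁻¹, h y y.2⟩
  have hinj : Function.Injective φ := by
    intro y y' hyy
    have := congrArg Subtype.val hyy
    simp only [φ] at this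
    exact Subtype.ext (by simpa using this)
  obtain ⟨y, hy⟩ := (Finite.injective_iff_surjective.mp hinj) ⟨g * x * g⁻¹, hx⟩
  have := congrArg Subtype.val hy
  simp only [φ] at this
  have hyx : (y : G) = x := by simpa using this
  rw [← hyx]
  exact y.2

/-- In a finite cyclic group, an element whose order divides that of `z` is a power of `z`. -/
theorem mem_zpowers_of_isCyclic {E : Type*} [Group E] [Finite E] [IsCyclic E] {z w : E}
    (h : orderOf w ∣ orderOf z) : w ∈ zpowers z := by
  classical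
  have : Fintype E := Fintype.ofFinite E
  have hn : 0 < orderOf z := orderOf_pos z
  have hle := IsCyclic.card_pow_eq_one_le (α := E) hn
  have hsub : (Finset.univ.filter (fun a : E => a ∈ zpowers z)) ⊆
      (Finset.univ.filter (fun a : E => a ^ orderOf z = 1)) := by
    intro a ha
    simp only [Finset.mem_filter, Finset.mem_univ, true_and] at ha ⊢
    obtain ⟨k, rfl⟩ := ha
    rw [← zpow_natCast, ← zpow_mul, mul_comm, zpow_mul, zpow_natCast, pow_orderOf_eq_one, one_zpow]
  have hcard : (Finset.univ.filter (fun a : E => a ∈ zpowers z)).card = orderOf z := by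
    rw [← Nat.card_zpowers, ← natCard_subtype_eq_card_filter]
  have heq := Finset.eq_of_subset_of_card_le hsub (by rw [hcard]; exact hle)
  have hw : w ∈ Finset.univ.filter (fun a : E => a ^ orderOf z = 1) := by
    simp only [Finset.mem_filter, Finset.mem_univ, true_and]
    exact orderOf_dvd_iff_pow_eq_one.mp h
  rw [← heq] at hw
  simpa using hw

/-- The normalizer of a cyclic subgroup with solvable centralizer is solvable. -/
theorem isSolvable_normalizer_zpowers {G : Type*} [Group G] (z : G)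
    (hC : Group.IsSolvable (centralizer ((zpowers z : Subgroup G) : Set G))) :
    Group.IsSolvable (normalizer ((zpowers z : Subgroup G) : Set G)) := by
  have hcyc : IsCyclic (zpowers z) := inferInstance
  let _ := (hcyc.mulAutMulEquiv _).toMonoidHom.commGroupOfInjective
    (hcyc.mulAutMulEquiv _).injective
  have hker := Subgroup.normalizerMonoidHom_ker (zpowers z)
  have : Group.IsSolvable ((centralizer ((zpowers z : Subgroup G) : Set G)).subgroupOf
      (normalizer ((zpowers z : Subgroup G) : Set G))) :=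
    Group.isSolvable_of_isSolvable_injective
      (f := (Subgroup.subgroupOfEquivOfLe (Subgroup.centralizer_le_normalizer
        ((zpowers z : Subgroup G) : Set G))).toMonoidHom)
      (Subgroup.subgroupOfEquivOfLe (Subgroup.centralizer_le_normalizer
        ((zpowers z : Subgroup G) : Set G))).injective
  exact Group.isSolvable_of_ker_le_range
    ((centralizer ((zpowers z : Subgroup G) : Set G)).subgroupOf
      (normalizer ((zpowers z : Subgroup G) : Set G))).subtype
    (zpowers z).normalizerMonoidHom (hker.trans (Subgroup.range_subtype _).symm).le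

/-- A normal solvable subgroup of a nonsolvable CP-group is a `p`-group. -/
theorem cp_normal_solvable_isPGroup {G : Type*} [Group G] [Finite G]
    (hns : ¬ Group.IsSolvable G) (hpp : ∀ g : G, g ≠ 1 → IsPrimePow (orderOf g))
    (R : Subgroup G) [R.Normal] (hRs : Group.IsSolvable R) :
    ∃ p : ℕ, p.Prime ∧ IsPGroup p R := by
  by_cases hR : R = ⊥
  · subst hR
    exact ⟨2, Nat.prime_two, IsPGroup.of_bot⟩
  obtain ⟨A, hAR, hA0, hAn, hAmin⟩ := helper12.exists_minimal_normal_le R hR
  have hAs : Group.IsSolvable A :=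
    Group.isSolvable_of_isSolvable_injective (Subgroup.inclusion_injective hAR)
  obtain ⟨p, hp, hAc, hAp, hApg⟩ := helper65.minNormal_solvable_elementary A hAn hAs hA0 hAmin
  refine ⟨p, hp, ?_⟩
  by_contra hnot
  obtain ⟨q, hq, hqp, hqR⟩ : ∃ q : ℕ, q.Prime ∧ q ≠ p ∧ q ∣ Nat.card R := by
    by_contra h
    push Not at h
    apply hnot
    have : Nat.card R = p ^ (Nat.card R).primeFactorsList.length :=
      Nat.eq_prime_pow_of_unique_prime_dvd Nat.card_pos.ne' (fun {d} hd hdR => by
        by_contra hne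
        exact h d hd hne hdR)
    exact IsPGroup.of_card this
  have : Fact q.Prime := ⟨hq⟩
  obtain ⟨Q₀⟩ : Nonempty (Sylow q R) := inferInstance
  have hQ₀ne : (Q₀ : Subgroup R) ≠ ⊥ := Q₀.ne_bot_of_dvd_card hqR
  have hQq : IsPGroup q ((Q₀ : Subgroup R).map R.subtype) := Q₀.isPGroup'.map R.subtype
  have hQne : (Q₀ : Subgroup R).map R.subtype ≠ ⊥ := by
    intro h
    exact hQ₀ne ((Subgroup.map_eq_bot_iff_of_injective _ R.subtype_injective).mp h)
  have hF : normalizer (((Q₀ : Subgroup R).map R.subtype : Subgroup G) : Set G) ⊔ R = ⊤ :=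
    Sylow.normalizer_sup_eq_top Q₀
  generalize (Q₀ : Subgroup R).map R.subtype = Q at hQq hQne hF
  have : Nontrivial Q := (Subgroup.nontrivial_iff_ne_bot Q).mpr hQne
  obtain ⟨z, hzc, hzo⟩ := exists_central_orderOf_eq_prime q hQq
  have hz₀o : orderOf (z : G) = q := by rw [Subgroup.orderOf_coe]; exact hzo
  have hz₀c : ∀ w ∈ Q, (z : G) * w = w * z := by
    intro w hw
    have := (Subgroup.mem_center_iff.mp hzc) ⟨w, hw⟩
    have := congrArg Subtype.val this
    simpa using this.symm
  -- every element of order `q` of `Q` lies in `zpowers z`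
  have key : ∀ w ∈ Q, orderOf w = q → w ∈ zpowers (z : G) := by
    intro w hw hwo
    have hEc := comm_sup_zpowers (zpowers (z : G)) (comm_zpowers (z : G)) w (by
      intro a ha
      obtain ⟨k, rfl⟩ := ha
      exact ((Commute.zpow_left (hz₀c w hw) k)).eq)
    have hEQ : zpowers (z : G) ⊔ zpowers w ≤ Q :=
      sup_le ((zpowers_le).mpr z.2) ((zpowers_le).mpr hw)
    have : IsMulCommutative A := ⟨⟨fun a b => Subtype.ext (hAc a a.2 b b.2)⟩⟩
    have : IsMulCommutative ↥(zpowers (z : G) ⊔ zpowers w) :=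
      ⟨⟨fun a b => Subtype.ext (hEc a a.2 b b.2)⟩⟩
    have hcyc : IsCyclic ↥(zpowers (z : G) ⊔ zpowers w) := by
      refine Cfsg.Agent.S0041.result (zpowers (z : G) ⊔ zpowers w) A hA0 ?_ ?_ (Or.inl inferInstance)
      · rw [Subgroup.normalizer_eq_top]
        exact le_top
      · intro a haE ha1
        rw [eq_bot_iff]
        rintro v ⟨hvA, hvC⟩
        rw [Subgroup.mem_bot]
        by_contra hv1
        obtain ⟨k, hk⟩ := orderOf_eq_prime_pow_of_mem_isPGroup hq hQq (hEQ haE)
        obtain ⟨j, hj⟩ := orderOf_eq_prime_pow_of_mem_isPGroup hp hApg hvA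
        have hcomm : Commute a v := (Subgroup.mem_centralizer_iff.mp hvC a rfl)
        refine cp_commute_false hpp hcomm ha1 hv1 ?_
        rw [hk, hj]
        exact Nat.Coprime.pow _ _ ((Nat.coprime_primes hq hp).mpr hqp)
    have hzE : (z : G) ∈ zpowers (z : G) ⊔ zpowers w :=
      le_sup_left (α := Subgroup G) (mem_zpowers (z : G))
    have hwE : w ∈ zpowers (z : G) ⊔ zpowers w :=
      le_sup_right (α := Subgroup G) (mem_zpowers w)
    have hmem : (⟨w, hwE⟩ : ↥(zpowers (z : G) ⊔ zpowers w)) ∈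
        zpowers (⟨(z : G), hzE⟩ : ↥(zpowers (z : G) ⊔ zpowers w)) := by
      apply mem_zpowers_of_isCyclic
      rw [← Subgroup.orderOf_coe, ← Subgroup.orderOf_coe]
      simp only
      rw [hwo, hz₀o]
    obtain ⟨k, hk⟩ := hmem
    refine ⟨k, ?_⟩
    have := congrArg Subtype.val hk
    simpa using this
  -- the normalizer of `Q` normalizes `zpowers z`
  have hNQ : normalizer (Q : Set G) ≤ normalizer ((zpowers (z : G) : Subgroup G) : Set G) := by
    intro t ht
    apply mem_normalizer_of_conj_mem_fin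
    intro x hx
    obtain ⟨k, rfl⟩ := hx
    rw [← conj_zpow]
    refine zpow_mem (key _ ((Subgroup.mem_normalizer_iff.mp ht (z : G)).mp z.2) ?_) k
    rw [← (SemiconjBy.conj_mk t (z : G)).orderOf_eq t]
    exact hz₀o
  -- the centralizer of `z` is a `q`-group
  have hCq : IsPGroup q (centralizer ((zpowers (z : G) : Subgroup G) : Set G)) := by
    rintro ⟨c, hc⟩
    by_cases hc1 : c = 1
    · exact ⟨0, by subst hc1; rw [pow_zero, pow_one]; rfl⟩
    obtain ⟨r, j, hr, hj, hrj⟩ := hpp c hc1
    by_cases hrq : r = q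
    · refine ⟨j, Subtype.ext ?_⟩
      rw [Subgroup.coe_pow, Subgroup.coe_one, ← hrq, hrj]
      exact pow_orderOf_eq_one c
    · exfalso
      have hcomm : Commute (z : G) c :=
        (Subgroup.mem_centralizer_iff.mp hc (z : G) (mem_zpowers (z : G)))
      have hz1 : (z : G) ≠ 1 := by
        intro h
        rw [h, orderOf_one] at hz₀o
        exact hq.one_lt.ne hz₀o
      refine cp_commute_false hpp hcomm hz1 hc1 ?_
      rw [hz₀o, ← hrj]
      exact Nat.Coprime.pow_right _ ((Nat.coprime_primes hq hr.nat_prime).mpr (Ne.symm hrq))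
  have hT : Group.IsSolvable (normalizer ((zpowers (z : G) : Subgroup G) : Set G)) :=
    isSolvable_normalizer_zpowers (z : G) (isSolvable_of_isPGroup hq _ hCq)
  have hsurj : Function.Surjective ((QuotientGroup.mk' R).comp
      (normalizer ((zpowers (z : G) : Subgroup G) : Set G)).subtype) := by
    intro y
    obtain ⟨g, rfl⟩ := QuotientGroup.mk'_surjective R y
    have hg : g ∈ normalizer (Q : Set G) ⊔ R := hF ▸ Subgroup.mem_top g
    obtain ⟨t, ht, r, hr, rfl⟩ := Subgroup.mem_sup_of_normal_right.mp hg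
    refine ⟨⟨t, hNQ ht⟩, ?_⟩
    simp only [MonoidHom.comp_apply, Subgroup.coe_subtype, QuotientGroup.mk'_apply]
    exact (QuotientGroup.mk_mul_of_mem t hr).symm
  have : Group.IsSolvable (G ⧸ R) := Group.isSolvable_of_surjective hsurj
  exact hns (Group.isSolvable_of_ker_le_range R.subtype (QuotientGroup.mk' R) (by simp))

/-- A nonsolvable CP-group with trivial solvable radical has a unique minimal normal subgroup,
which is non-abelian simple. -/
theorem cp_unique_minimal_normal {G : Type*} [Group G] [Finite G]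
    (hns : ¬ Group.IsSolvable G) (hpp : ∀ g : G, g ≠ 1 → IsPrimePow (orderOf g))
    (hrad : ∀ N : Subgroup G, N.Normal → Group.IsSolvable N → N = ⊥) :
    ∃ M : Subgroup G, M.Normal ∧ IsSimpleGroup M ∧ ¬ IsMulCommutative M ∧
      ∀ N : Subgroup G, N.Normal → N ≠ ⊥ → M ≤ N := by
  have : Nontrivial G := by
    by_contra h
    rw [not_nontrivial_iff_subsingleton] at h
    exact hns inferInstance
  obtain ⟨M, hM0, hMn, hMmin⟩ := helper12.exists_minimal_normal (G := G)
  have hMns : ¬ Group.IsSolvable M := fun h => hM0 (hrad M hMn h)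
  have hMnc : ¬ IsMulCommutative M := fun h =>
    hMns (Group.isSolvable_of_comm (fun a b => h.is_comm.comm a b))
  have hcommsolv : ∀ A B : Subgroup G, (∀ a ∈ A, ∀ b ∈ B, a * b = b * a) → B ≠ ⊥ →
      Group.IsSolvable A := by
    intro A B hAB hB
    obtain ⟨t, ht, hA⟩ := cp_isPGroup_of_commuting hpp A B hAB hB
    exact isSolvable_of_isPGroup ht A hA
  have hcont : ∀ N : Subgroup G, N.Normal → N ≠ ⊥ → M ≤ N := by
    intro N hN hN0
    rcases hMmin (M ⊓ N) inferInstance inf_le_left with h | h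
    · exfalso
      refine hMns (hcommsolv M N ?_ hN0)
      intro a ha b hb
      exact (Subgroup.commute_of_normal_of_disjoint M N hMn hN (disjoint_iff.mpr h) a b ha hb).eq
    · exact inf_eq_left.mp h
  refine ⟨M, hMn, ?_, hMnc, hcont⟩
  by_contra hsimple
  have hnab : ¬ ∀ a ∈ M, ∀ b ∈ M, a * b = b * a := fun h =>
    hMnc ⟨⟨fun a b => Subtype.ext (h a a.2 b b.2)⟩⟩
  obtain ⟨T, C, hTM, hCM, hT0, hTC, hTCi, hprod, hMT, hdich, g, t, htT, hgt⟩ :=
    helper62.exists_TC_of_minimal_normal M
      (fun K hK hK0 hKM => (hMmin K hK hKM).resolve_left hK0) hnab hsimple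
  have hgC : ∀ t ∈ T, g * t * g⁻¹ ∈ C := (hdich g).resolve_left (fun h => hgt (h t htT))
  obtain ⟨t₀, ht₀T, ht₀1⟩ : ∃ n ∈ T, n ≠ 1 := by
    by_contra h
    push Not at h
    exact hT0 ((Subgroup.eq_bot_iff_forall _).mpr h)
  have hC0 : C ≠ ⊥ := by
    intro h
    have := hgC t₀ ht₀T
    rw [h, Subgroup.mem_bot, conj_eq_one_iff] at this
    exact ht₀1 this
  obtain ⟨s, hs, hTs⟩ := cp_isPGroup_of_commuting hpp T C hTC hC0
  have : Fact s.Prime := ⟨hs⟩
  have hTn : (T.subgroupOf M).Normal := ⟨fun x hx m => by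
    rw [Subgroup.mem_subgroupOf] at hx ⊢
    simpa using hMT m m.2 x hx⟩
  have hTs' : IsPGroup s (T.subgroupOf M) := hTs.comap_subtype
  have hle := helper40.le_pCore (T.subgroupOf M) hTn hTs'
  have hchar : (Cfsg.pCore s ↥M).Characteristic := helper28.pCore_characteristic s ↥M
  have hn : ((Cfsg.pCore s ↥M).map M.subtype).Normal := inferInstance
  have hps : IsPGroup s ((Cfsg.pCore s ↥M).map M.subtype) :=
    (helper40.pCore_isPGroup s ↥M).map _
  have hbot := hrad _ hn (isSolvable_of_isPGroup hs _ hps)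
  have hmem : t₀ ∈ (Cfsg.pCore s ↥M).map M.subtype :=
    ⟨⟨t₀, hTM ht₀T⟩, hle (by rw [Subgroup.mem_subgroupOf]; exact ht₀T), rfl⟩
  rw [hbot, Subgroup.mem_bot] at hmem
  exact ht₀1 hmem

/-- In a CP-group the order of a solvable subgroup has at most two prime divisors. -/
theorem cp_solvable_card_primeFactors_le_two {G : Type*} [Group G] [Finite G]
    (hpp : ∀ g : G, g ≠ 1 → IsPrimePow (orderOf g)) (H : Subgroup G)
    (hH : Group.IsSolvable H) : (Nat.card H).primeFactors.card ≤ 2 := by
  by_contra h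
  push Not at h
  obtain ⟨a, ha, b, hb, hab, x, hx⟩ :=
    helper64.solvable_three_primes hH (Nat.card H).primeFactors
      (fun a ha => ⟨Nat.prime_of_mem_primeFactors ha, Nat.dvd_of_mem_primeFactors ha⟩) h
  have hx' : orderOf (x : G) = a * b := by rw [Subgroup.orderOf_coe]; exact hx
  have ha' := Nat.prime_of_mem_primeFactors ha
  have hb' := Nat.prime_of_mem_primeFactors hb
  have hx1 : (x : G) ≠ 1 := by
    intro h1
    rw [h1, orderOf_one] at hx'
    exact ha'.one_lt.ne' (Nat.eq_one_of_mul_eq_one_right hx'.symm)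
  obtain ⟨r, k, hr, hk, hrk⟩ := hpp x hx1
  rw [hx'] at hrk
  have h1 : a ∣ r ^ k := Dvd.intro _ hrk.symm
  have h2 : b ∣ r ^ k := Dvd.intro_left _ hrk.symm
  have e1 := (Nat.prime_dvd_prime_iff_eq ha' hr.nat_prime).mp (ha'.dvd_of_dvd_pow h1)
  have e2 := (Nat.prime_dvd_prime_iff_eq hb' hr.nat_prime).mp (hb'.dvd_of_dvd_pow h2)
  exact hab (e1.trans e2.symm)

end Cfsg.Agent.Lib.helper70
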