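import Mathlib
import Cfsg.Agent.Lib.helper12.Coprime
import Cfsg.Agent.Lib.helper70.Miller

/-!
# Class sizes and nilpotency (Cossey–Hawkes–Mann)

Tools for: a finite group with the same multiset of conjugacy class sizes as a nilpotent group is
nilpotent.

* `cidx x`: the index of the centralizer of `x` (the class size).
* `not_dvd_card_map_centralizer`: if `r * |Z(G)|` does not divide the number of elements of
  class size prime to `r`, then `C_G(R) / Z(G)` has order prime to `r` for a Sylow `r`-subgroup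
  `R` (fixed points of `R` on the `Z(G)`-cosets of such elements).
* `mem_sylow_of_ppow_cidx`: a `p`-element with `p`-power class size lies in every Sylow
  `p`-subgroup.
-/

set_option autoImplicit false

namespace Cfsg.Agent.Lib.helper70

open Subgroup
open scoped Pointwise

/-- The class size of `x`, as the index of its centralizer. -/
noncomputable def cidx {G : Type*} [Group G] (x : G) : ℕ :=
  (Subgroup.centralizer ({x} : Set G)).index

theorem card_carrier_eq_cidx {G : Type*} [Group G] (x : G) :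
    Nat.card (ConjClasses.mk x).carrier = cidx x := by
  rw [Nat.card_coe_set_eq, ← ConjAct.orbit_eq_carrier_conjClasses, ← MulAction.index_stabilizer,
    ConjAct.stabilizer_eq_centralizer]
  rfl

theorem cidx_conj {G : Type*} [Group G] (g x : G) : cidx (g * x * g⁻¹) = cidx x := by
  rw [← card_carrier_eq_cidx, ← card_carrier_eq_cidx]
  have : ConjClasses.mk (g * x * g⁻¹) = ConjClasses.mk x :=
    ConjClasses.mk_eq_mk_iff_isConj.2 (isConj_iff.2 ⟨g, rfl⟩).symm
  rw [this]

theorem cidx_mul_central {G : Type*} [Group G] (x z : G) (hz : z ∈ Subgroup.center G) :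
    cidx (x * z) = cidx x := by
  unfold cidx
  congr 1
  ext g
  rw [Subgroup.mem_centralizer_singleton_iff, Subgroup.mem_centralizer_singleton_iff]
  have hz' : ∀ a : G, a * z = z * a := fun a => (Subgroup.mem_center_iff.1 hz a)
  constructor
  · intro h
    have h1 : g * x * z = x * g * z := by
      rw [mul_assoc, h, mul_assoc x z g, ← hz' g, mul_assoc]
    exact mul_right_cancel h1
  · intro h
    rw [← mul_assoc, h, mul_assoc x g z, hz' g, ← mul_assoc]

theorem mem_center_iff_cidx_eq_one {G : Type*} [Group G] (x : G) :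
    x ∈ Subgroup.center G ↔ cidx x = 1 := by
  unfold cidx
  rw [Subgroup.index_eq_one, Subgroup.centralizer_eq_top_iff_subset, Set.singleton_subset_iff]
  rfl

/-- A subgroup of index prime to `r` contains a Sylow `r`-subgroup. -/
theorem exists_sylow_le_of_not_dvd_index {G : Type*} [Group G] [Finite G] (r : ℕ) [Fact r.Prime]
    (C : Subgroup G) (h : ¬ r ∣ C.index) : ∃ R : Sylow r G, (R : Subgroup G) ≤ C := by
  obtain ⟨S⟩ := (inferInstance : Nonempty (Sylow r C))
  have hS : IsPGroup r ((S : Subgroup C).map C.subtype) := S.2.map C.subtype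
  obtain ⟨R, hR⟩ := hS.exists_le_sylow
  have hcardS : Nat.card ((S : Subgroup C).map C.subtype) = Nat.card (S : Subgroup C) :=
    Subgroup.card_map_of_injective C.subtype_injective
  have hfac : (Nat.card G).factorization r = (Nat.card C).factorization r := by
    rw [← Subgroup.card_mul_index C, Nat.factorization_mul (Nat.card_pos.ne')
      Subgroup.index_ne_zero_of_finite]
    simp [Nat.factorization_eq_zero_of_not_dvd h]
  have heq : (S : Subgroup C).map C.subtype = R := by
    apply Subgroup.eq_of_le_of_card_ge hR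
    rw [hcardS, Sylow.card_eq_multiplicity, Sylow.card_eq_multiplicity, hfac]
  refine ⟨R, ?_⟩
  rw [← heq]
  exact Subgroup.map_subtype_le _

theorem not_dvd_index_of_sylow_le {G : Type*} [Group G] [Finite G] (r : ℕ) [Fact r.Prime]
    (R : Sylow r G) (C : Subgroup G) (h : (R : Subgroup G) ≤ C) : ¬ r ∣ C.index :=
  fun hd => R.not_dvd_index (hd.trans (Subgroup.index_dvd_of_le h))

/-- A subgroup containing a Sylow `q`-subgroup for every prime `q` is the whole group. -/
theorem eq_top_of_forall_sylow_le {G : Type*} [Group G] [Finite G] (K : Subgroup G)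
    (h : ∀ (q : ℕ) [Fact q.Prime], ∃ Q : Sylow q G, (Q : Subgroup G) ≤ K) : K = ⊤ := by
  rw [← Subgroup.index_eq_one, Nat.eq_one_iff_not_exists_prime_dvd]
  intro q hq
  have : Fact q.Prime := ⟨hq⟩
  obtain ⟨Q, hQ⟩ := h q
  exact not_dvd_index_of_sylow_le q Q K hQ

/-- An `r`-element normalizing a subgroup of index prime to `r` lies in it. -/
theorem mem_of_mem_normalizer_of_pow {G : Type*} [Group G] [Finite G] (r : ℕ) [Fact r.Prime]
    (C : Subgroup G) (hC : ¬ r ∣ C.index) (g : G) (hg : g ∈ Subgroup.normalizer (C : Set G))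
    (k : ℕ) (hk : g ^ r ^ k = 1) : g ∈ C := by
  have hr : r.Prime := Fact.out
  set N := Subgroup.normalizer (C : Set G) with hN
  let g' : N := ⟨g, hg⟩
  let q : N ⧸ C.subgroupOf N := QuotientGroup.mk g'
  have hq : q ^ r ^ k = 1 := by
    have : g' ^ r ^ k = 1 := Subtype.ext (by simpa using hk)
    show (QuotientGroup.mk (g' ^ r ^ k) : N ⧸ C.subgroupOf N) = 1
    rw [this]; rfl
  have h1 : orderOf q ∣ r ^ k := orderOf_dvd_of_pow_eq_one hq
  have h2 : orderOf q ∣ C.index := by
    have : orderOf q ∣ Nat.card (N ⧸ C.subgroupOf N) := orderOf_dvd_natCard q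
    rw [← Subgroup.index_eq_card] at this
    exact this.trans (Subgroup.relIndex_dvd_index_of_le Subgroup.le_normalizer)
  obtain ⟨j, -, hj⟩ := (Nat.dvd_prime_pow hr).1 h1
  have hj0 : j = 0 := by
    by_contra hne
    exact hC ((dvd_pow_self r hne).trans (hj ▸ h2))
  rw [hj0, pow_zero, orderOf_eq_one_iff] at hj
  have : g' ∈ C.subgroupOf N := (QuotientGroup.eq_one_iff g').1 hj
  exact Subgroup.mem_subgroupOf.1 this

/-- A `p`-element whose class size is a power of `p` lies in every Sylow `p`-subgroup. -/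
theorem mem_sylow_of_ppow_cidx {G : Type*} [Group G] [Finite G] (p : ℕ) [Fact p.Prime] (u : G)
    (k j : ℕ) (hu : u ^ p ^ k = 1) (hc : cidx u = p ^ j) (P : Sylow p G) : u ∈ P := by
  have hp : p.Prime := Fact.out
  obtain ⟨m, -, hm⟩ := (Nat.dvd_prime_pow hp).1 (orderOf_dvd_of_pow_eq_one hu)
  have hz : IsPGroup p (Subgroup.zpowers u) := by
    apply IsPGroup.of_card (n := m)
    rw [Nat.card_zpowers, hm]
  obtain ⟨S, hS⟩ := hz.exists_le_sylow
  have huS : u ∈ (S : Subgroup G) := hS (Subgroup.mem_zpowers u)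
  obtain ⟨g, hg⟩ := MulAction.exists_smul_eq G S P
  have hcop : (S : Subgroup G).index.Coprime (Subgroup.centralizer ({u} : Set G)).index := by
    have h1 : (Subgroup.centralizer ({u} : Set G)).index = p ^ j := hc
    rw [h1]
    exact Nat.Coprime.pow_right j ((Nat.Prime.coprime_iff_not_dvd hp).2 S.not_dvd_index).symm
  obtain ⟨a, ha, b, hb, hab⟩ := Cfsg.Agent.Lib.helper12.exists_mul_of_coprime_index
    (S : Subgroup G) (Subgroup.centralizer ({u} : Set G)) hcop g⁻¹
  have hb' : b * u = u * b := Subgroup.mem_centralizer_singleton_iff.1 hb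
  have hmem : g⁻¹ * u * g ∈ (S : Subgroup G) := by
    have hg' : g = b⁻¹ * a⁻¹ := by
      rw [← mul_inv_rev, ← hab, inv_inv]
    have : g⁻¹ * u * g = a * u * a⁻¹ := by
      rw [hab, hg']
      have : a * b * u * (b⁻¹ * a⁻¹) = a * (b * u * b⁻¹) * a⁻¹ := by group
      rw [this, hb']
      group
    rw [this]
    exact (S : Subgroup G).mul_mem ((S : Subgroup G).mul_mem ha huS) ((S : Subgroup G).inv_mem ha)
  have hP : (P : Subgroup G) = MulAut.conj g • (S : Subgroup G) := by
    rw [← hg, Sylow.coe_subgroup_smul]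
  show u ∈ (P : Subgroup G)
  rw [hP, Subgroup.mem_pointwise_smul_iff_inv_smul_mem]
  simpa [MulAut.smul_def, mul_assoc] using hmem

/-- **Key fixed-point count.** Let `R` be a Sylow `r`-subgroup of `G`.  If `r * |Z(G)|` does not
divide the number of elements of `G` whose class size is prime to `r`, then the image of `C_G(R)`
in `G / Z(G)` has order prime to `r`. -/
theorem not_dvd_card_map_centralizer {G : Type*} [Group G] [Finite G] (r : ℕ) [Fact r.Prime]
    (R : Sylow r G)
    (h : ¬ (r * Nat.card (Subgroup.center G)) ∣ Nat.card {x : G // ¬ r ∣ cidx x}) :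
    ¬ r ∣ Nat.card ((Subgroup.centralizer ((R : Subgroup G) : Set G)).map
      (QuotientGroup.mk' (Subgroup.center G))) := by
  classical
  set Z := Subgroup.center G with hZ
  let T : Set (G ⧸ Z) := {y | ∃ x : G, (x : G ⧸ Z) = y ∧ ¬ r ∣ cidx x}
  have hpre : (QuotientGroup.mk ⁻¹' T : Set G) = {x : G | ¬ r ∣ cidx x} := by
    ext x
    constructor
    · rintro ⟨x', hx', hx'r⟩
      have hz : x'⁻¹ * x ∈ Z := QuotientGroup.eq.1 hx'
      have : cidx x = cidx x' := by
        have h1 : x = x' * (x'⁻¹ * x) := by group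
        rw [h1]
        exact cidx_mul_central x' _ hz
      show ¬ r ∣ cidx x
      rw [this]; exact hx'r
    · intro hx
      exact ⟨x, rfl, hx⟩
  have hcard : Nat.card {x : G // ¬ r ∣ cidx x} = Nat.card Z * Nat.card T := by
    rw [← QuotientGroup.card_preimage_mk, hpre]
    rfl
  have hT : ¬ r ∣ Nat.card T := by
    intro hd
    apply h
    rw [hcard, mul_comm r]
    exact Nat.mul_dvd_mul_left _ hd
  -- the action of `R` on `G ⧸ Z` by conjugation
  let φ : (R : Subgroup G) →* ConjAct (G ⧸ Z) :=
    (ConjAct.toConjAct (G := G ⧸ Z)).toMonoidHom.comp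
      ((QuotientGroup.mk' Z).comp (R : Subgroup G).subtype)
  let inst : MulAction (R : Subgroup G) (G ⧸ Z) := MulAction.compHom (G ⧸ Z) φ
  have hsmul : ∀ (γ : (R : Subgroup G)) (x : G),
      @HSMul.hSMul _ _ _ (@instHSMul _ _ inst.toSMul) γ ((x : G) : G ⧸ Z)
        = (((γ : G) * x * (γ : G)⁻¹ : G) : G ⧸ Z) := by
    intro γ x
    rfl
  have hTfin : T.Finite := Set.toFinite T
  have hinv : ∀ γ : (R : Subgroup G), ∀ a ∈ hTfin.toFinset,
      @HSMul.hSMul _ _ _ (@instHSMul _ _ inst.toSMul) γ a ∈ hTfin.toFinset := by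
    intro γ a ha
    rw [Set.Finite.mem_toFinset] at ha ⊢
    obtain ⟨x, rfl, hx⟩ := ha
    rw [hsmul]
    exact ⟨(γ : G) * x * (γ : G)⁻¹, rfl, by rw [cidx_conj]; exact hx⟩
  have hmod := @card_modEq_card_fixed (R : Subgroup G) (G ⧸ Z) _ inst r _ R.2 hTfin.toFinset hinv
  rw [← Nat.card_eq_card_finite_toFinset hTfin] at hmod
  -- the fixed points are the image of the centralizer of `R`
  have hfix : Nat.card {a : G ⧸ Z // a ∈ hTfin.toFinset ∧
      ∀ γ : (R : Subgroup G), @HSMul.hSMul _ _ _ (@instHSMul _ _ inst.toSMul) γ a = a} =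
      Nat.card ((Subgroup.centralizer ((R : Subgroup G) : Set G)).map (QuotientGroup.mk' Z)) := by
    refine Nat.card_congr (Equiv.subtypeEquivRight ?_)
    intro a
    constructor
    · rintro ⟨ha, hfixa⟩
      rw [Set.Finite.mem_toFinset] at ha
      obtain ⟨x, rfl, hx⟩ := ha
      refine ⟨x, ?_, rfl⟩
      -- every element of `R` commutes with `x`
      have hcen : ∀ γ : G, γ ∈ (R : Subgroup G) → ∃ z ∈ Z, γ⁻¹ * x * γ = x * z := by
        intro γ hγ
        have h1 := hfixa ⟨γ⁻¹, (R : Subgroup G).inv_mem hγ⟩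
        rw [hsmul] at h1
        have h2 : x⁻¹ * (γ⁻¹ * x * γ⁻¹⁻¹) ∈ Z := QuotientGroup.eq.1 h1.symm
        rw [inv_inv] at h2
        exact ⟨_, h2, by group⟩
      have hconj : ∀ γ : G, γ ∈ (R : Subgroup G) → ∀ c : G,
          c ∈ Subgroup.centralizer ({x} : Set G) →
          γ * c * γ⁻¹ ∈ Subgroup.centralizer ({x} : Set G) := by
        intro γ hγ c hc
        obtain ⟨z, hz, hzx⟩ := hcen γ hγ
        rw [Subgroup.mem_centralizer_singleton_iff] at hc ⊢
        have hzc : z * c = c * z := (Subgroup.mem_center_iff.1 hz c).symm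
        calc γ * c * γ⁻¹ * x = γ * (c * (γ⁻¹ * x * γ)) * γ⁻¹ := by group
          _ = γ * (c * (x * z)) * γ⁻¹ := by rw [hzx]
          _ = γ * ((x * z) * c) * γ⁻¹ := by
              congr 2
              rw [← mul_assoc, hc, mul_assoc, mul_assoc, hzc]
          _ = γ * ((γ⁻¹ * x * γ) * c) * γ⁻¹ := by rw [hzx]
          _ = x * (γ * c * γ⁻¹) := by group
      show x ∈ Subgroup.centralizer ((R : Subgroup G) : Set G)
      rw [Subgroup.mem_centralizer_iff]
      intro γ hγ
      have hγR : γ ∈ (R : Subgroup G) := hγ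
      have hnorm : γ ∈ Subgroup.normalizer
          ((Subgroup.centralizer ({x} : Set G) : Subgroup G) : Set G) := by
        rw [Subgroup.mem_normalizer_iff]
        intro c
        constructor
        · exact hconj γ hγR c
        · intro hc
          have := hconj γ⁻¹ ((R : Subgroup G).inv_mem hγR) _ hc
          have h3 : γ⁻¹ * (γ * c * γ⁻¹) * γ⁻¹⁻¹ = c := by group
          rwa [h3] at this
      obtain ⟨k, hk⟩ := R.2 ⟨γ, hγR⟩
      have hk' : γ ^ r ^ k = 1 := by
        have := congrArg Subtype.val hk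
        simpa using this
      have hγC := mem_of_mem_normalizer_of_pow r (Subgroup.centralizer ({x} : Set G)) hx γ hnorm
        k hk'
      exact Subgroup.mem_centralizer_singleton_iff.1 hγC
    · rintro ⟨c, hc, rfl⟩
      have hcR : ∀ γ : G, γ ∈ (R : Subgroup G) → γ * c = c * γ := by
        intro γ hγ
        exact (Subgroup.mem_centralizer_iff.1 hc) γ hγ
      constructor
      · rw [Set.Finite.mem_toFinset]
        refine ⟨c, rfl, ?_⟩
        apply not_dvd_index_of_sylow_le r R
        intro γ hγ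
        rw [Subgroup.mem_centralizer_singleton_iff]
        exact hcR γ hγ
      · intro γ
        show @HSMul.hSMul _ _ _ (@instHSMul _ _ inst.toSMul) γ ((c : G) : G ⧸ Z) = ((c : G) : G ⧸ Z)
        rw [hsmul, hcR (γ : G) γ.2, mul_assoc, mul_inv_cancel, mul_one]
  rw [hfix] at hmod
  intro hd
  exact hT ((Nat.modEq_zero_iff_dvd.1 ((hmod.trans (Nat.modEq_zero_iff_dvd.2 hd)))))

/-- If `C_G(R)/Z(G)` has order prime to `r` for all Sylow `r`-subgroups with `r ≠ p`, then the
image in `G / Z(G)` of an element of `p`-power class size lies in every Sylow `p`-subgroup. -/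
theorem mk_mem_sylow_of_ppow_cidx {G : Type*} [Group G] [Finite G] (p : ℕ) [Fact p.Prime]
    (hA : ∀ (r : ℕ) [Fact r.Prime], r ≠ p → ∀ R : Sylow r G,
      ¬ r ∣ Nat.card ((Subgroup.centralizer ((R : Subgroup G) : Set G)).map
        (QuotientGroup.mk' (Subgroup.center G))))
    (x : G) (j : ℕ) (hx : cidx x = p ^ j) (P : Sylow p (G ⧸ Subgroup.center G)) :
    ((x : G) : G ⧸ Subgroup.center G) ∈ P := by
  have hp : p.Prime := Fact.out
  set Z := Subgroup.center G with hZ
  set y : G ⧸ Z := (x : G ⧸ Z) with hy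
  -- the order of `y` is a power of `p`
  have hord : ∀ {d : ℕ}, d.Prime → d ∣ orderOf y → d = p := by
    intro d hd hdy
    by_contra hne
    have : Fact d.Prime := ⟨hd⟩
    have hnd : ¬ d ∣ cidx x := by
      rw [hx]
      intro h
      exact hne ((Nat.prime_dvd_prime_iff_eq hd hp).1 (hd.dvd_of_dvd_pow h))
    obtain ⟨R, hR⟩ := exists_sylow_le_of_not_dvd_index d (Subgroup.centralizer ({x} : Set G)) hnd
    have hxR : x ∈ Subgroup.centralizer ((R : Subgroup G) : Set G) := by
      rw [Subgroup.mem_centralizer_iff]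
      intro γ hγ
      exact Subgroup.mem_centralizer_singleton_iff.1 (hR hγ)
    have hyK : y ∈ (Subgroup.centralizer ((R : Subgroup G) : Set G)).map (QuotientGroup.mk' Z) :=
      ⟨x, hxR, rfl⟩
    exact hA d hne R (hdy.trans (Subgroup.orderOf_dvd_natCard _ hyK))
  have hpow : y ^ p ^ (orderOf y).primeFactorsList.length = 1 := by
    have := Nat.eq_prime_pow_of_unique_prime_dvd (orderOf_pos y).ne' hord
    rw [← this]
    exact pow_orderOf_eq_one y
  -- the class size of `y` divides that of `x`
  have hle : (Subgroup.centralizer ({x} : Set G)).map (QuotientGroup.mk' Z) ≤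
      Subgroup.centralizer ({y} : Set (G ⧸ Z)) := by
    rintro _ ⟨c, hc0, rfl⟩
    have hc : c ∈ Subgroup.centralizer ({x} : Set G) := hc0
    rw [Subgroup.mem_centralizer_singleton_iff] at hc ⊢
    show ((c : G) : G ⧸ Z) * ((x : G) : G ⧸ Z) = ((x : G) : G ⧸ Z) * ((c : G) : G ⧸ Z)
    rw [← QuotientGroup.mk_mul, ← QuotientGroup.mk_mul, hc]
  have hdvd : cidx y ∣ p ^ j := by
    rw [← hx]
    exact (Subgroup.index_dvd_of_le hle).trans
      (Subgroup.index_map_dvd _ (QuotientGroup.mk'_surjective Z))
  obtain ⟨j', -, hj'⟩ := (Nat.dvd_prime_pow hp).1 hdvd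
  exact mem_sylow_of_ppow_cidx p y _ j' hpow hj' P

/-- In a nilpotent group, elements of Sylow subgroups for different primes commute. -/
theorem commute_of_mem_sylow_of_ne {H : Type*} [Group H] [Finite H] [Group.IsNilpotent H]
    (p q : ℕ) [Fact p.Prime] [Fact q.Prime] (hne : p ≠ q) (P : Sylow p H) (Q : Sylow q H)
    (x y : H) (hx : x ∈ P) (hy : y ∈ Q) : Commute x y :=
  Subgroup.commute_of_normal_of_disjoint _ _ inferInstance inferInstance
    (IsPGroup.disjoint_of_ne p q hne _ _ P.2 Q.2) x y hx hy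

/-- In a nilpotent group the centre of a Sylow subgroup is central. -/
theorem mem_center_of_mem_sylow_center {H : Type*} [Group H] [Finite H] [Group.IsNilpotent H]
    (p : ℕ) [Fact p.Prime] (P : Sylow p H) (u : H) (hu : u ∈ P)
    (hc : ∀ g ∈ (P : Subgroup H), g * u = u * g) : u ∈ Subgroup.center H := by
  have htop : Subgroup.centralizer ({u} : Set H) = ⊤ := by
    apply eq_top_of_forall_sylow_le
    intro q _
    by_cases hq : q = p
    · subst hq
      refine ⟨P, ?_⟩
      intro g hg
      rw [Subgroup.mem_centralizer_singleton_iff]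
      exact hc g hg
    · obtain ⟨Q⟩ := (inferInstance : Nonempty (Sylow q H))
      refine ⟨Q, ?_⟩
      intro g hg
      rw [Subgroup.mem_centralizer_singleton_iff]
      exact (commute_of_mem_sylow_of_ne q p hq Q P g u hg hu).eq
  rw [mem_center_iff_cidx_eq_one]
  unfold cidx
  rw [htop, Subgroup.index_top]

/-- In a nilpotent group `H`, the number of elements of class size prime to `r` is not divisible
by `r * |Z(H)|`. -/
theorem nilpotent_not_dvd_card {H : Type*} [Group H] [Finite H] [Group.IsNilpotent H]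
    (r : ℕ) [Fact r.Prime] :
    ¬ (r * Nat.card (Subgroup.center H)) ∣ Nat.card {x : H // ¬ r ∣ cidx x} := by
  obtain ⟨R⟩ := (inferInstance : Nonempty (Sylow r H))
  have hRn : (R : Subgroup H).Normal := inferInstance
  set C := Subgroup.centralizer ((R : Subgroup H) : Set H) with hC
  set Z := Subgroup.center H with hZ
  have hset : ∀ x : H, ¬ r ∣ cidx x ↔ x ∈ C := by
    intro x
    constructor
    · intro hx
      obtain ⟨R', hR'⟩ :=
        exists_sylow_le_of_not_dvd_index r (Subgroup.centralizer ({x} : Set H)) hx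
      have := Sylow.unique_of_normal R hRn
      have hRR : R' = R := Subsingleton.elim _ _
      rw [hRR] at hR'
      rw [hC, Subgroup.mem_centralizer_iff]
      intro γ hγ
      exact Subgroup.mem_centralizer_singleton_iff.1 (hR' hγ)
    · intro hx
      apply not_dvd_index_of_sylow_le r R
      intro γ hγ
      rw [Subgroup.mem_centralizer_singleton_iff]
      exact (Subgroup.mem_centralizer_iff.1 hx) γ hγ
  have hcard : Nat.card {x : H // ¬ r ∣ cidx x} = Nat.card C :=
    Nat.card_congr (Equiv.subtypeEquivRight hset)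
  have hZC : Z ≤ C := Subgroup.center_le_centralizer _
  have hCZ : Nat.card C = Nat.card Z * Z.relIndex C := by
    have h1 := Subgroup.card_mul_index (Z.subgroupOf C)
    rw [Nat.card_congr (Subgroup.subgroupOfEquivOfLe hZC).toEquiv] at h1
    exact h1.symm
  have hinf : C ⊓ (R : Subgroup H) ≤ Z := by
    rintro u ⟨huC, huR⟩
    apply mem_center_of_mem_sylow_center r R u huR
    intro g hg
    exact (Subgroup.mem_centralizer_iff.1 huC) g hg
  have hnd : ¬ r ∣ Z.relIndex C := by
    intro hd
    have h1 : Z.relIndex C ∣ (C ⊓ (R : Subgroup H)).relIndex C :=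
      Subgroup.relIndex_dvd_of_le_left C hinf
    rw [Subgroup.inf_relIndex_left] at h1
    exact R.not_dvd_index ((hd.trans h1).trans (Subgroup.relIndex_dvd_index_of_normal _ _))
  rw [hcard, hCZ, mul_comm r]
  intro hd
  exact hnd ((Nat.mul_dvd_mul_iff_left Nat.card_pos).1 hd)

/-- In a nilpotent group `H`, at least `|Z(H)| * |H/Z(H)|_p` elements have `p`-power class
size. -/
theorem nilpotent_card_ppow_ge {H : Type*} [Group H] [Finite H] [Group.IsNilpotent H]
    (p : ℕ) [Fact p.Prime] :
    Nat.card (Subgroup.center H) * p ^ (Nat.card (H ⧸ Subgroup.center H)).factorization p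
      ≤ Nat.card {x : H // ∃ j, cidx x = p ^ j} := by
  obtain ⟨P⟩ := (inferInstance : Nonempty (Sylow p H))
  set Z := Subgroup.center H with hZ
  let P' : Sylow p (H ⧸ Z) := P.mapSurjective (QuotientGroup.mk'_surjective Z)
  have hsub : (QuotientGroup.mk ⁻¹' ((P' : Subgroup (H ⧸ Z)) : Set (H ⧸ Z)) : Set H) ⊆
      {x : H | ∃ j, cidx x = p ^ j} := by
    intro x hx
    have hx' : (x : H ⧸ Z) ∈ (P : Subgroup H).map (QuotientGroup.mk' Z) := hx
    obtain ⟨u, hu, hux⟩ := hx'
    have hz : u⁻¹ * x ∈ Z := QuotientGroup.eq.1 hux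
    have h1 : cidx x = cidx u := by
      have : x = u * (u⁻¹ * x) := by group
      rw [this]
      exact cidx_mul_central u _ hz
    have h2 : ∀ {d : ℕ}, d.Prime → d ∣ cidx u → d = p := by
      intro d hd hdu
      by_contra hne
      have : Fact d.Prime := ⟨hd⟩
      obtain ⟨Q⟩ := (inferInstance : Nonempty (Sylow d H))
      refine not_dvd_index_of_sylow_le d Q (Subgroup.centralizer ({u} : Set H)) ?_ hdu
      intro g hg
      rw [Subgroup.mem_centralizer_singleton_iff]
      exact (commute_of_mem_sylow_of_ne d p hne Q P g u hg hu).eq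
    refine ⟨(cidx u).primeFactorsList.length, ?_⟩
    rw [h1]
    exact Nat.eq_prime_pow_of_unique_prime_dvd
      (by unfold cidx; exact Subgroup.index_ne_zero_of_finite) h2
  have hc := QuotientGroup.card_preimage_mk Z ((P' : Subgroup (H ⧸ Z)) : Set (H ⧸ Z))
  have hle := Nat.card_mono (Set.toFinite _) hsub
  rw [hc] at hle
  have h3 : Nat.card ((P' : Subgroup (H ⧸ Z)) : Set (H ⧸ Z)) =
      p ^ (Nat.card (H ⧸ Z)).factorization p := P'.card_eq_multiplicity
  rw [h3] at hle
  exact hle

end Cfsg.Agent.Lib.helper70
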