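import Mathlib
import Cfsg.Agent.Lib.helper70.Basic
import Cfsg.Agent.Lib.helper70.TI

set_option autoImplicit false

namespace Cfsg.Agent.Lib.helper70

/-- Every `p`-subgroup of a subgroup `C` lies in a "Sylow `p`-subgroup of `C`", seen as a
subgroup of the ambient group. -/
theorem exists_sylow_of_subgroup_ge {G : Type*} [Group G] [Finite G] (p : ℕ) [Fact p.Prime]
    (C R : Subgroup G) (hR : IsPGroup p R) (hle : R ≤ C) :
    ∃ P₀ : Subgroup G, R ≤ P₀ ∧ P₀ ≤ C ∧ IsPGroup p P₀ ∧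
      Nat.card P₀ = p ^ (Nat.card C).factorization p := by
  have h1 : IsPGroup p (R.subgroupOf C) :=
    hR.comap_of_injective C.subtype (Subgroup.subtype_injective C)
  obtain ⟨S, hS⟩ := h1.exists_le_sylow
  refine ⟨(S : Subgroup C).map C.subtype, ?_, Subgroup.map_subtype_le _, S.2.map C.subtype, ?_⟩
  · intro r hr
    refine ⟨⟨r, hle hr⟩, hS ?_, rfl⟩
    rw [Subgroup.mem_subgroupOf]; exact hr
  · rw [← S.card_eq_multiplicity]
    exact (Nat.card_congr
      (Subgroup.equivMapOfInjective _ _ (Subgroup.subtype_injective C)).toEquiv).symm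

/-- Frattini argument, element form: if `g` normalizes `H` and `P₀ ≤ H` has the order of a
Sylow `p`-subgroup of `H`, then `h * g` normalizes `P₀` for some `h ∈ H`. -/
theorem exists_mul_mem_normalizer_of_card {G : Type*} [Group G] [Finite G] (p : ℕ)
    [Fact p.Prime] (H P₀ : Subgroup G) (hP₀H : P₀ ≤ H)
    (hcard : Nat.card P₀ = p ^ (Nat.card H).factorization p)
    (g : G) (hg : g ∈ Subgroup.normalizer (H : Set G)) :
    ∃ h ∈ H, h * g ∈ Subgroup.normalizer (P₀ : Set G) := by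
  classical
  have e1 : Nat.card (P₀.subgroupOf H) = p ^ (Nat.card H).factorization p := by
    rw [← hcard]; exact Nat.card_congr (Subgroup.subgroupOfEquivOfLe hP₀H).toEquiv
  have hP₁H : P₀.map (MulAut.conj g).toMonoidHom ≤ H := by
    rintro _ ⟨y, hy, rfl⟩
    exact (Subgroup.mem_normalizer_iff.1 hg y).1 (hP₀H hy)
  have e2 : Nat.card ((P₀.map (MulAut.conj g).toMonoidHom).subgroupOf H) =
      p ^ (Nat.card H).factorization p := by
    rw [← hcard, Nat.card_congr (Subgroup.subgroupOfEquivOfLe hP₁H).toEquiv]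
    exact (Nat.card_congr
      (Subgroup.equivMapOfInjective P₀ _ (MulAut.conj g).injective).toEquiv).symm
  obtain ⟨c, hc⟩ := MulAction.exists_smul_eq H (Sylow.ofCard (P₀.subgroupOf H) e1)
    (Sylow.ofCard ((P₀.map (MulAut.conj g).toMonoidHom).subgroupOf H) e2)
  refine ⟨(c : G)⁻¹, H.inv_mem c.2, ?_⟩
  apply Subgroup.mem_normalizer_fintype
  intro y hy
  have hy1 : g * y * g⁻¹ ∈ P₀.map (MulAut.conj g).toMonoidHom := ⟨y, hy, rfl⟩
  have hy2 : (⟨g * y * g⁻¹, hP₁H hy1⟩ : H) ∈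
      ((Sylow.ofCard ((P₀.map (MulAut.conj g).toMonoidHom).subgroupOf H) e2 : Sylow p H) :
        Subgroup H) := by
    rw [Sylow.coe_ofCard, Subgroup.mem_subgroupOf]; exact hy1
  rw [← hc, mem_sylow_smul_iff, Sylow.coe_ofCard, Subgroup.mem_subgroupOf] at hy2
  have e3 : (c : G)⁻¹ * g * y * ((c : G)⁻¹ * g)⁻¹ = (c : G)⁻¹ * (g * y * g⁻¹) * c := by group
  rw [SetLike.mem_coe, e3]
  simpa using hy2

/-- If `h ∈ C` and `t` normalizes `C`, then `(h * t) ^ j ∈ C * t ^ j`. -/
theorem mul_pow_mul_inv_mem {G : Type*} [Group G] (C : Subgroup G) (h t : G) (hh : h ∈ C)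
    (ht : t ∈ Subgroup.normalizer (C : Set G)) (j : ℕ) : (h * t) ^ j * (t ^ j)⁻¹ ∈ C := by
  induction j with
  | zero => simp
  | succ j ih =>
    have e : (h * t) ^ (j + 1) * (t ^ (j + 1))⁻¹ =
        ((h * t) ^ j * (t ^ j)⁻¹) * (t ^ j * h * (t ^ j)⁻¹) := by
      rw [pow_succ, pow_succ]
      generalize (h * t) ^ j = A
      generalize t ^ j = b
      group
    rw [e]
    exact C.mul_mem ih ((Subgroup.mem_normalizer_iff.1 (Subgroup.pow_mem _ ht j) h).1 hh)

end Cfsg.Agent.Lib.helper70
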