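import Mathlib
import Cfsg.Agent.Lib.helper2.Schmidt
import Cfsg.Agent.Lib.helper4.BurnsidePQ

set_option autoImplicit false

namespace Cfsg.Agent.Lib.helper70

universe u

open scoped Pointwise
open scoped commutatorElement

/-- If `x` normalizes the abelian `r`-group `R`, some power `x ^ m` with `m` prime to `r`
centralizes `R`, and `x` centralizes all elements of `R` of order dividing `r`, then `x`
centralizes `R`. -/
theorem comm_of_comm_on_omega {X : Type*} [Group X] (R : Subgroup X) (x : X) (r m : ℕ)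
    (hcop : Nat.Coprime m r)
    (hRc : ∀ a ∈ R, ∀ b ∈ R, a * b = b * a)
    (hRr : ∀ a ∈ R, ∃ j : ℕ, a ^ (r ^ j) = 1)
    (hxR : ∀ a ∈ R, x * a * x⁻¹ ∈ R)
    (hxm : ∀ a ∈ R, x ^ m * a = a * x ^ m)
    (hom : ∀ a ∈ R, a ^ r = 1 → x * a = a * x) :
    ∀ a ∈ R, x * a = a * x := by
  have key : ∀ j : ℕ, ∀ a ∈ R, a ^ (r ^ j) = 1 → x * a = a * x := by
    intro j
    induction j with
    | zero =>
      intro a _ ha
      rw [pow_zero, pow_one] at ha
      rw [ha, mul_one, one_mul]
    | succ j ih =>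
      intro a haR ha
      have har : x * a ^ r = a ^ r * x := by
        apply ih _ (R.pow_mem haR r)
        rw [← pow_mul, ← pow_succ']
        exact ha
      have hcR : x * a * x⁻¹ * a⁻¹ ∈ R := R.mul_mem (hxR a haR) (R.inv_mem haR)
      have hcr : (x * a * x⁻¹ * a⁻¹) ^ r = 1 := by
        have hcomm : Commute (x * a * x⁻¹) a⁻¹ := hRc _ (hxR a haR) _ (R.inv_mem haR)
        rw [hcomm.mul_pow, conj_pow, har, inv_pow]
        group
      have hxc : x * (x * a * x⁻¹ * a⁻¹) = (x * a * x⁻¹ * a⁻¹) * x := hom _ hcR hcr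
      have hpow : ∀ i : ℕ, x ^ i * a * (x ^ i)⁻¹ = (x * a * x⁻¹ * a⁻¹) ^ i * a := by
        intro i
        induction i with
        | zero => simp
        | succ i ihi =>
          have h1 : x ^ (i + 1) * a * (x ^ (i + 1))⁻¹ = x * (x ^ i * a * (x ^ i)⁻¹) * x⁻¹ := by
            rw [pow_succ']; group
          have hxci : x * (x * a * x⁻¹ * a⁻¹) ^ i = (x * a * x⁻¹ * a⁻¹) ^ i * x :=
            (Commute.pow_right (show Commute x (x * a * x⁻¹ * a⁻¹) from hxc) i).eq
          rw [h1, ihi]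
          calc x * ((x * a * x⁻¹ * a⁻¹) ^ i * a) * x⁻¹
              = (x * (x * a * x⁻¹ * a⁻¹) ^ i) * a * x⁻¹ := by group
            _ = (x * a * x⁻¹ * a⁻¹) ^ i * (x * a * x⁻¹ * a⁻¹) * a := by rw [hxci]; group
            _ = (x * a * x⁻¹ * a⁻¹) ^ (i + 1) * a := by rw [← pow_succ]
      have hcm : (x * a * x⁻¹ * a⁻¹) ^ m = 1 := by
        have h1 := hpow m
        have h2 : x ^ m * a * (x ^ m)⁻¹ = a := by rw [hxm a haR]; group
        rw [h2] at h1
        exact mul_eq_right.mp h1.symm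
      have hc1 : x * a * x⁻¹ * a⁻¹ = 1 := by
        have h1 : orderOf (x * a * x⁻¹ * a⁻¹) ∣ m := orderOf_dvd_of_pow_eq_one hcm
        have h2 : orderOf (x * a * x⁻¹ * a⁻¹) ∣ r := orderOf_dvd_of_pow_eq_one hcr
        have h3 : orderOf (x * a * x⁻¹ * a⁻¹) ∣ 1 := by
          have := Nat.dvd_gcd h1 h2
          rwa [hcop] at this
        exact orderOf_eq_one_iff.mp (Nat.dvd_one.mp h3)
      calc x * a = (x * a * x⁻¹ * a⁻¹) * a * x := by group
        _ = a * x := by rw [hc1, one_mul]
  intro a haR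
  obtain ⟨j, hj⟩ := hRr a haR
  exact key j a haR hj

/-- If `y` commutes with `t = a⁻¹ * (y * a * y⁻¹)` then `y ^ k * a * y ^ (-k) = a * t ^ k`. -/
theorem conj_pow_eq_mul_pow {X : Type*} [Group X] (y a : X)
    (hc : y * (a⁻¹ * (y * a * y⁻¹)) = (a⁻¹ * (y * a * y⁻¹)) * y) (k : ℕ) :
    y ^ k * a * (y ^ k)⁻¹ = a * (a⁻¹ * (y * a * y⁻¹)) ^ k := by
  have hya : y * a * y⁻¹ = a * (a⁻¹ * (y * a * y⁻¹)) := by group
  generalize a⁻¹ * (y * a * y⁻¹) = t at hc hya ⊢
  induction k with
  | zero => simp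
  | succ k ih =>
    have h4 : y ^ (k + 1) * a * (y ^ (k + 1))⁻¹ = y * (y ^ k * a * (y ^ k)⁻¹) * y⁻¹ := by
      rw [pow_succ']; group
    have h5 : y * t ^ k = t ^ k * y := (Commute.pow_right (show Commute y t from hc) k).eq
    rw [h4, ih]
    calc y * (a * t ^ k) * y⁻¹ = (y * a * y⁻¹) * ((y * t ^ k) * y⁻¹) := by group
      _ = (y * a * y⁻¹) * t ^ k := by rw [h5]; group
      _ = a * t ^ (k + 1) := by rw [hya, pow_succ', mul_assoc]

/-- Pigeonhole principle for an element `x` of prime order `p` acting on `R`: if `x` centralizes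
an invariant subgroup `S` without `p`-torsion and the cosets of `S` in `R` are separated by a
function with fewer than `p` values, then `x` centralizes `R`. -/
theorem comm_of_few_cosets {X : Type*} [Group X] {β : Type*} [Fintype β] (R S : Subgroup X)
    (x : X) (p : ℕ) (hp : p.Prime) (hx : x ^ p = 1) (hβ : Fintype.card β < p)
    (hxR : ∀ a ∈ R, x * a * x⁻¹ ∈ R)
    (hxS : ∀ s ∈ S, x * s = s * x)
    (hSp : ∀ s ∈ S, s ^ p = 1 → s = 1)
    (κ : X → β) (hκ : ∀ g ∈ R, ∀ g' ∈ R, κ g = κ g' → g⁻¹ * g' ∈ S) :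
    ∀ a ∈ R, x * a = a * x := by
  intro a haR
  have hR' : ∀ i : ℕ, x ^ i * a * (x ^ i)⁻¹ ∈ R := by
    intro i
    induction i with
    | zero => simpa using haR
    | succ i ih =>
      have h1 : x ^ (i + 1) * a * (x ^ (i + 1))⁻¹ = x * (x ^ i * a * (x ^ i)⁻¹) * x⁻¹ := by
        rw [pow_succ']; group
      rw [h1]; exact hxR _ ih
  have hSi : ∀ i : ℕ, ∀ s ∈ S, x ^ i * s = s * x ^ i := fun i s hs =>
    (Commute.pow_left (show Commute x s from hxS s hs) i).eq
  -- two conjugates in the same class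
  have hcard : Fintype.card β < Fintype.card (Fin p) := by simpa using hβ
  obtain ⟨i, j, hij, hκij⟩ := Fintype.exists_ne_map_eq_of_card_lt
    (fun i : Fin p => κ (x ^ (i : ℕ) * a * (x ^ (i : ℕ))⁻¹)) hcard
  -- reduce to `i < j`
  have main : ∀ i j : ℕ, i < j → j < p →
      (x ^ i * a * (x ^ i)⁻¹)⁻¹ * (x ^ j * a * (x ^ j)⁻¹) ∈ S → x * a = a * x := by
    intro i j hlt hjp hmem
    obtain ⟨d, rfl⟩ : ∃ d, j = i + d := ⟨j - i, by omega⟩
    have hd0 : 0 < d := by omega
    have hdp : d < p := by omega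
    -- `a⁻¹ * x^d * a * x^(-d) ∈ S`
    have h1 : (x ^ i * a * (x ^ i)⁻¹)⁻¹ * (x ^ (i + d) * a * (x ^ (i + d))⁻¹)
        = x ^ i * (a⁻¹ * (x ^ d * a * (x ^ d)⁻¹)) * (x ^ i)⁻¹ := by
      rw [pow_add]; group
    rw [h1] at hmem
    have h2 : a⁻¹ * (x ^ d * a * (x ^ d)⁻¹) = x ^ i * (a⁻¹ * (x ^ d * a * (x ^ d)⁻¹)) * (x ^ i)⁻¹ := by
      have := hSi i _ hmem
      -- x^i * t = t * x^i where t = x^i * s * x^-i
      have h3 : x ^ i * (a⁻¹ * (x ^ d * a * (x ^ d)⁻¹)) * (x ^ i)⁻¹
          = (x ^ i)⁻¹ * (x ^ i * (x ^ i * (a⁻¹ * (x ^ d * a * (x ^ d)⁻¹)) * (x ^ i)⁻¹)) := by group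
      rw [h3, this]; group
    have hs : a⁻¹ * (x ^ d * a * (x ^ d)⁻¹) ∈ S := by rw [h2]; exact hmem
    -- powers
    have hpow := conj_pow_eq_mul_pow (x ^ d) a (hSi d _ hs)
    have hsp : (a⁻¹ * (x ^ d * a * (x ^ d)⁻¹)) ^ p = 1 := by
      have h6 := hpow p
      have h7 : (x ^ d) ^ p = 1 := by rw [← pow_mul, mul_comm, pow_mul, hx, one_pow]
      rw [h7] at h6
      simp only [one_mul, inv_one, mul_one] at h6
      exact mul_eq_left.mp h6.symm
    have hs1 := hSp _ hs hsp
    have hxd : x ^ d * a = a * x ^ d := by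
      calc x ^ d * a = a * (a⁻¹ * (x ^ d * a * (x ^ d)⁻¹)) * x ^ d := by group
        _ = a * x ^ d := by rw [hs1, mul_one]
    -- `x` is a power of `x ^ d`
    have hcop : Nat.Coprime d p := (Nat.coprime_comm.mp ((Nat.Prime.coprime_iff_not_dvd hp).mpr
      (fun h => by have := Nat.le_of_dvd hd0 h; omega)))
    obtain ⟨e, -, he⟩ := Nat.exists_mul_mod_eq_one_of_coprime hcop hp.one_lt
    have hxe : (x ^ d) ^ e = x := by
      rw [← pow_mul]
      have h8 : x ^ (d * e) = x ^ (d * e % p) := by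
        conv_lhs => rw [← Nat.div_add_mod (d * e) p, pow_add, pow_mul, hx, one_pow, one_mul]
      rw [h8, he, pow_one]
    have := (Commute.pow_left (show Commute (x ^ d) a from hxd) e).eq
    rwa [hxe] at this
  rcases Nat.lt_or_gt_of_ne (fun h => hij (Fin.ext h) : (i : ℕ) ≠ (j : ℕ)) with hlt | hgt
  · exact main i j hlt j.2 (hκ _ (hR' i) _ (hR' j) hκij)
  · exact main j i hgt i.2 (hκ _ (hR' j) _ (hR' i) hκij.symm)

/-- The order of a conjugate. -/
theorem orderOf_conj_eq {X : Type*} [Group X] (g z : X) : orderOf (g * z * g⁻¹) = orderOf z := by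
  have := MulEquiv.orderOf_eq (MulAut.conj g) z
  rwa [MulAut.conj_apply] at this

/-- Membership in `zpowers` for elements of a subgroup. -/
theorem coe_mem_zpowers_iff {X : Type*} [Group X] (A : Subgroup X) (y c : ↥A) :
    y ∈ Subgroup.zpowers c ↔ (y : X) ∈ Subgroup.zpowers (c : X) := by
  rw [Subgroup.mem_zpowers_iff, Subgroup.mem_zpowers_iff]
  constructor
  · rintro ⟨k, hk⟩
    exact ⟨k, by rw [← hk]; simp⟩
  · rintro ⟨k, hk⟩
    exact ⟨k, Subtype.ext (by rw [← hk]; simp)⟩

/-- `zpowers c` has index at most two in `R`, in elementary form. -/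
def CycIdx2 {X : Type*} [Group X] (R : Subgroup X) (c : X) : Prop :=
  c ∈ R ∧ ∀ g ∈ R, ∀ g' ∈ R, g ∉ Subgroup.zpowers c → g' ∉ Subgroup.zpowers c →
    g⁻¹ * g' ∈ Subgroup.zpowers c

theorem CycIdx2.sq_mem {X : Type*} [Group X] {R : Subgroup X} {c : X} (h : CycIdx2 R c)
    (g : X) (hg : g ∈ R) : g ^ 2 ∈ Subgroup.zpowers c := by
  by_cases hgc : g ∈ Subgroup.zpowers c
  · exact Subgroup.pow_mem _ hgc 2
  · have h1 : g⁻¹ ∉ Subgroup.zpowers c := fun h' => hgc (by simpa using Subgroup.inv_mem _ h')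
    have := h.2 g⁻¹ (R.inv_mem hg) g hg h1 hgc
    rwa [inv_inv, ← sq] at this

theorem CycIdx2.le_of_odd {X : Type*} [Group X] {R : Subgroup X} {c : X} (h : CycIdx2 R c)
    (hodd : ∀ g ∈ R, Odd (orderOf g)) : R ≤ Subgroup.zpowers c := by
  intro g hg
  obtain ⟨k, hk⟩ := hodd g hg
  have h1 : g = (g ^ 2) ^ (k + 1) := by
    rw [← pow_mul]
    have : 2 * (k + 1) = orderOf g + 1 := by omega
    rw [this, pow_succ, pow_orderOf_eq_one, one_mul]
  rw [h1]
  exact Subgroup.pow_mem _ (h.sq_mem g hg) _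

/-- Two elements of `zpowers c` outside `zpowers (c ^ 2)` differ by an element of
`zpowers (c ^ 2)`. -/
theorem zpowers_sq_idx2 {X : Type*} [Group X] (c z z' : X) (hz : z ∈ Subgroup.zpowers c)
    (hz' : z' ∈ Subgroup.zpowers c) (hzs : z ∉ Subgroup.zpowers (c ^ 2))
    (hzs' : z' ∉ Subgroup.zpowers (c ^ 2)) : z⁻¹ * z' ∈ Subgroup.zpowers (c ^ 2) := by
  obtain ⟨i, rfl⟩ := Subgroup.mem_zpowers_iff.mp hz
  obtain ⟨j, rfl⟩ := Subgroup.mem_zpowers_iff.mp hz'
  have hsq : ∀ k : ℤ, c ^ (2 * k) ∈ Subgroup.zpowers (c ^ 2) := by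
    intro k
    rw [zpow_mul]
    exact Subgroup.zpow_mem _ (by rw [zpow_ofNat]; exact Subgroup.mem_zpowers _) k
  have hi : Odd i := by
    rcases Int.even_or_odd i with ⟨k, hk⟩ | h
    · exact absurd (by rw [hk, ← two_mul]; exact hsq k) hzs
    · exact h
  have hj : Odd j := by
    rcases Int.even_or_odd j with ⟨k, hk⟩ | h
    · exact absurd (by rw [hk, ← two_mul]; exact hsq k) hzs'
    · exact h
  obtain ⟨k, hk⟩ := hi
  obtain ⟨l, hl⟩ := hj
  have : (c ^ i)⁻¹ * c ^ j = c ^ (2 * (l - k)) := by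
    rw [← zpow_neg, ← zpow_add]
    congr 1
    omega
  rw [this]
  exact hsq _

/-- The properties of Frobenius complements used below: groups of order `p * r` are abelian,
`r`-subgroups have a cyclic subgroup of index at most two, and abelian subgroups of exponent
`p` are cyclic. -/
def FCLike (X : Type*) [Group X] : Prop :=
  (∀ p r : ℕ, p.Prime → r.Prime → p ≠ r → ∀ x z : X, orderOf x = p → orderOf z = r →
    x * z * x⁻¹ ∈ Subgroup.zpowers z → x * z = z * x) ∧
  (∀ r : ℕ, r.Prime → ∀ R : Subgroup X, IsPGroup r R → ∃ c : X, CycIdx2 R c) ∧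
  (∀ p : ℕ, p.Prime → ∀ x y : X, x * y = y * x → x ^ p = 1 → y ^ p = 1 → x ≠ 1 →
    y ∈ Subgroup.zpowers x)

theorem FCLike.subgroup {X : Type*} [Group X] (h : FCLike X) (A : Subgroup X) : FCLike ↥A := by
  obtain ⟨h1, h2, h3⟩ := h
  refine ⟨?_, ?_, ?_⟩
  · intro p r hp hr hpr x z hx hz hmem
    have hmem' : (x : X) * z * (x : X)⁻¹ ∈ Subgroup.zpowers (z : X) := by
      have := (coe_mem_zpowers_iff A _ z).mp hmem
      simpa using this
    have := h1 p r hp hr hpr (x : X) (z : X) (by rw [Subgroup.orderOf_coe]; exact hx)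
      (by rw [Subgroup.orderOf_coe]; exact hz) hmem'
    exact Subtype.ext (by simpa using this)
  · intro r hr R hR
    obtain ⟨c, hc, hprop⟩ := h2 r hr (R.map A.subtype) (hR.map A.subtype)
    obtain ⟨c', hc'R, rfl⟩ := Subgroup.mem_map.mp hc
    refine ⟨c', hc'R, ?_⟩
    intro g hg g' hg' hgc hg'c
    rw [coe_mem_zpowers_iff] at hgc hg'c ⊢
    have := hprop (g : X) (Subgroup.mem_map_of_mem A.subtype hg) (g' : X)
      (Subgroup.mem_map_of_mem A.subtype hg') hgc hg'c
    simpa using this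
  · intro p hp x y hxy hx hy hx1
    rw [coe_mem_zpowers_iff]
    apply h3 p hp (x : X) (y : X)
    · have := congrArg Subtype.val hxy
      simpa using this
    · have := congrArg Subtype.val hx
      simpa using this
    · have := congrArg Subtype.val hy
      simpa using this
    · intro h
      exact hx1 (Subtype.ext (by simpa using h))

/-- In a Frobenius-complement-like group, an element of prime order `p ≥ 5` normalizing an
`r`-subgroup (`r ≠ p`) centralizes it. -/
theorem FCLike.comm_of_normalizes {X : Type*} [Group X] (h : FCLike X)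
    (p : ℕ) (hp : p.Prime) (hp5 : 5 ≤ p) (x : X) (hx : orderOf x = p)
    (r : ℕ) (hr : r.Prime) (hrp : r ≠ p) (R : Subgroup X) (hR : IsPGroup r R)
    (hxR : ∀ a ∈ R, x * a * x⁻¹ ∈ R) : ∀ a ∈ R, x * a = a * x := by
  classical
  have : Fact r.Prime := ⟨hr⟩
  obtain ⟨h1, h2, h3⟩ := h
  obtain ⟨c, hc⟩ := h2 r hr R hR
  have hxp : x ^ p = 1 := by rw [← hx]; exact pow_orderOf_eq_one x
  have hcoppr : Nat.Coprime p r := (Nat.coprime_primes hp hr).mpr hrp.symm
  have hRr : ∀ a ∈ R, ∃ j : ℕ, a ^ (r ^ j) = 1 := by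
    intro a ha
    obtain ⟨j, hj⟩ := hR ⟨a, ha⟩
    exact ⟨j, by simpa using congrArg Subtype.val hj⟩
  have hRp : ∀ a ∈ R, a ^ p = 1 → a = 1 := by
    intro a ha hap
    obtain ⟨j, hj⟩ := hRr a ha
    have h1' : orderOf a ∣ p := orderOf_dvd_of_pow_eq_one hap
    have h2' : orderOf a ∣ r ^ j := orderOf_dvd_of_pow_eq_one hj
    have hcop : Nat.Coprime p (r ^ j) := Nat.Coprime.pow_right j hcoppr
    have := Nat.dvd_gcd h1' h2'
    rw [hcop] at this
    exact orderOf_eq_one_iff.mp (Nat.dvd_one.mp this)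
  -- the subgroup generated by the squares
  let S : Subgroup X := Subgroup.closure {y | ∃ g ∈ R, y = g ^ 2}
  have hSZ : S ≤ Subgroup.zpowers c := by
    rw [Subgroup.closure_le]
    rintro y ⟨g, hg, rfl⟩
    exact hc.sq_mem g hg
  have hSR : S ≤ R := by
    rw [Subgroup.closure_le]
    rintro y ⟨g, hg, rfl⟩
    exact R.pow_mem hg 2
  have hS0 : Subgroup.zpowers (c ^ 2) ≤ S := by
    rw [Subgroup.zpowers_le]
    exact Subgroup.subset_closure ⟨c, hc.1, rfl⟩
  have hxS : ∀ s ∈ S, x * s * x⁻¹ ∈ S := by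
    intro s hs
    induction hs using Subgroup.closure_induction with
    | mem y hy =>
      obtain ⟨g, hg, rfl⟩ := hy
      apply Subgroup.subset_closure
      exact ⟨x * g * x⁻¹, hxR g hg, by rw [conj_pow]⟩
    | one => simp
    | mul a b _ _ iha ihb =>
      have : x * (a * b) * x⁻¹ = (x * a * x⁻¹) * (x * b * x⁻¹) := by group
      rw [this]; exact S.mul_mem iha ihb
    | inv a _ iha =>
      have : x * a⁻¹ * x⁻¹ = (x * a * x⁻¹)⁻¹ := by group
      rw [this]; exact S.inv_mem iha
  have hScomm : ∀ a ∈ S, ∀ b ∈ S, a * b = b * a := by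
    intro a ha b hb
    obtain ⟨i, rfl⟩ := Subgroup.mem_zpowers_iff.mp (hSZ ha)
    obtain ⟨j, rfl⟩ := Subgroup.mem_zpowers_iff.mp (hSZ hb)
    rw [← zpow_add, ← zpow_add, add_comm]
  have hxScent : ∀ s ∈ S, x * s = s * x := by
    apply comm_of_comm_on_omega S x r p hcoppr hScomm (fun a ha => hRr a (hSR ha)) hxS
      (fun a _ => by rw [hxp, one_mul, mul_one])
    intro a ha har
    by_cases ha1 : a = 1
    · rw [ha1, mul_one, one_mul]
    · have hoa : orderOf a = r := orderOf_eq_prime har ha1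
      have hmem : x * a * x⁻¹ ∈ Subgroup.zpowers a :=
        h3 r hr a (x * a * x⁻¹) (hScomm a ha _ (hxS a ha)) har
          (by rw [conj_pow, har]; group) ha1
      exact h1 p r hp hr hrp.symm x a hx hoa hmem
  have hSp : ∀ s ∈ S, s ^ p = 1 → s = 1 := fun s hs => hRp s (hSR hs)
  by_cases hex : ∃ b ∈ R, b ∉ Subgroup.zpowers c
  · obtain ⟨b, hbR, hbZ⟩ := hex
    have hβ : Fintype.card (Bool × Bool) < p := by
      simp only [Fintype.card_prod, Fintype.card_bool]; omega
    apply comm_of_few_cosets R S x p hp hxp hβ hxR hxScent hSp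
      (fun g => (decide (g ∈ Subgroup.zpowers c),
        decide (g ∈ Subgroup.zpowers (c ^ 2) ∨ b⁻¹ * g ∈ Subgroup.zpowers (c ^ 2))))
    intro g hg g' hg' hκ
    simp only [Prod.mk.injEq, decide_eq_decide] at hκ
    obtain ⟨hκ1, hκ2⟩ := hκ
    apply hS0
    have hS0Z : Subgroup.zpowers (c ^ 2) ≤ Subgroup.zpowers c := by
      rw [Subgroup.zpowers_le]; exact Subgroup.pow_mem _ (Subgroup.mem_zpowers c) 2
    by_cases hgZ : g ∈ Subgroup.zpowers c
    · have hg'Z : g' ∈ Subgroup.zpowers c := hκ1.mp hgZ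
      have hno : ∀ z ∈ Subgroup.zpowers c, b⁻¹ * z ∉ Subgroup.zpowers (c ^ 2) := by
        intro z hz hbz
        apply hbZ
        have h5 : b = z * (b⁻¹ * z)⁻¹ := by group
        rw [h5]
        exact Subgroup.mul_mem _ hz (Subgroup.inv_mem _ (hS0Z hbz))
      by_cases hgS : g ∈ Subgroup.zpowers (c ^ 2)
      · have hg'S : g' ∈ Subgroup.zpowers (c ^ 2) := by
          rcases hκ2.mp (Or.inl hgS) with h | h
          · exact h
          · exact absurd h (hno g' hg'Z)
        exact Subgroup.mul_mem _ (Subgroup.inv_mem _ hgS) hg'S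
      · have hg'S : g' ∉ Subgroup.zpowers (c ^ 2) := by
          intro h
          rcases hκ2.mpr (Or.inl h) with h' | h'
          · exact hgS h'
          · exact hno g hgZ h'
        exact zpowers_sq_idx2 c g g' hgZ hg'Z hgS hg'S
    · have hg'Z : g' ∉ Subgroup.zpowers c := fun h => hgZ (hκ1.mpr h)
      have hbg : b⁻¹ * g ∈ Subgroup.zpowers c := hc.2 b hbR g hg hbZ hgZ
      have hbg' : b⁻¹ * g' ∈ Subgroup.zpowers c := hc.2 b hbR g' hg' hbZ hg'Z
      have hgS : g ∉ Subgroup.zpowers (c ^ 2) := fun h => hgZ (hS0Z h)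
      have hg'S : g' ∉ Subgroup.zpowers (c ^ 2) := fun h => hg'Z (hS0Z h)
      have heq : g⁻¹ * g' = (b⁻¹ * g)⁻¹ * (b⁻¹ * g') := by group
      rw [heq]
      by_cases hbgS : b⁻¹ * g ∈ Subgroup.zpowers (c ^ 2)
      · have hbg'S : b⁻¹ * g' ∈ Subgroup.zpowers (c ^ 2) := by
          rcases hκ2.mp (Or.inr hbgS) with h | h
          · exact absurd h hg'S
          · exact h
        exact Subgroup.mul_mem _ (Subgroup.inv_mem _ hbgS) hbg'S
      · have hbg'S : b⁻¹ * g' ∉ Subgroup.zpowers (c ^ 2) := by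
          intro h
          rcases hκ2.mpr (Or.inr h) with h' | h'
          · exact hgS h'
          · exact hbgS h'
        exact zpowers_sq_idx2 c _ _ hbg hbg' hbgS hbg'S
  · push Not at hex
    have hβ : Fintype.card Bool < p := by
      simp only [Fintype.card_bool]; omega
    apply comm_of_few_cosets R S x p hp hxp hβ hxR hxScent hSp
      (fun g => decide (g ∈ Subgroup.zpowers (c ^ 2)))
    intro g hg g' hg' hκ
    simp only [decide_eq_decide] at hκ
    apply hS0
    by_cases hgS : g ∈ Subgroup.zpowers (c ^ 2)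
    · exact Subgroup.mul_mem _ (Subgroup.inv_mem _ hgS) (hκ.mp hgS)
    · exact zpowers_sq_idx2 c g g' (hex g hg) (hex g' hg') hgS (fun h => hgS (hκ.mpr h))


/-- An element of prime order `p` normalizing a normal subgroup `M` of order prime to `p`
normalizes some Sylow `r`-subgroup of `M`. -/
theorem exists_invariant_sylow {X : Type*} [Group X] [Finite X] (M : Subgroup X) [M.Normal]
    (x : X) (p : ℕ) (hp : p.Prime) (hx : orderOf x = p) (hpM : ¬ p ∣ Nat.card M)
    (r : ℕ) [Fact r.Prime] :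
    ∃ P : Sylow r ↥M, ∀ a ∈ (P : Subgroup ↥M).map M.subtype,
      x * a * x⁻¹ ∈ (P : Subgroup ↥M).map M.subtype := by
  have : Fact p.Prime := ⟨hp⟩
  have hoc : orderOf (ConjAct.toConjAct x) = p := by
    rw [← hx]; exact MulEquiv.orderOf_eq ConjAct.toConjAct x
  have hZp : IsPGroup p ↥(Subgroup.zpowers (ConjAct.toConjAct x)) :=
    IsPGroup.of_card (n := 1) (by rw [Nat.card_zpowers, hoc, pow_one])
  obtain ⟨P₀⟩ := (inferInstance : Nonempty (Sylow r ↥M))
  have hnd : ¬ p ∣ Nat.card (Sylow r ↥M) := fun h =>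
    hpM (dvd_trans h (dvd_trans (Sylow.card_dvd_index P₀) (Subgroup.index_dvd_card _)))
  obtain ⟨P, hP⟩ := hZp.nonempty_fixed_point_of_prime_not_dvd_card (Sylow r ↥M) hnd
  have hfix : ConjAct.toConjAct x • P = P :=
    hP ⟨ConjAct.toConjAct x, Subgroup.mem_zpowers _⟩
  refine ⟨P, ?_⟩
  rintro a ⟨m, hm, rfl⟩
  have h1 : ConjAct.toConjAct x • m ∈ ((ConjAct.toConjAct x • P : Sylow r ↥M) : Subgroup ↥M) := by
    rw [Sylow.pointwise_smul_def]
    exact Subgroup.smul_mem_pointwise_smul m _ _ hm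
  rw [hfix] at h1
  refine ⟨ConjAct.toConjAct x • m, h1, ?_⟩
  simp [ConjAct.Subgroup.val_conj_smul, ConjAct.toConjAct_smul]

/-- Uniqueness of the subgroups of prime order `p ≥ 5`. -/
def UniqP (X : Type*) [Group X] : Prop :=
  ∀ p : ℕ, p.Prime → 5 ≤ p → ∀ x y : X, orderOf x = p → orderOf y = p →
    y ∈ Subgroup.zpowers x

theorem UniqP.subgroup {X : Type*} [Group X] (h : UniqP X) (A : Subgroup X) : UniqP ↥A := by
  intro p hp hp5 x y hx hy
  rw [coe_mem_zpowers_iff]
  exact h p hp hp5 (x : X) (y : X) (by rw [Subgroup.orderOf_coe]; exact hx)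
    (by rw [Subgroup.orderOf_coe]; exact hy)

/-- `p`-subgroups of a Frobenius-complement-like group are abelian for odd `p`. -/
theorem FCLike.comm_of_isPGroup {X : Type*} [Group X] (h : FCLike X) (p : ℕ) (hp : p.Prime)
    (hp2 : p ≠ 2) (R : Subgroup X) (hR : IsPGroup p R) : ∀ a ∈ R, ∀ b ∈ R, a * b = b * a := by
  obtain ⟨c, hc⟩ := h.2.1 p hp R hR
  have hle : R ≤ Subgroup.zpowers c := by
    apply hc.le_of_odd
    intro g hg
    obtain ⟨j, hj⟩ := hR ⟨g, hg⟩
    have hj' : g ^ (p ^ j) = 1 := by simpa using congrArg Subtype.val hj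
    obtain ⟨i, -, hi⟩ := (Nat.dvd_prime_pow hp).mp (orderOf_dvd_of_pow_eq_one hj')
    rw [hi]
    exact (hp.odd_of_ne_two hp2).pow
  intro a ha b hb
  obtain ⟨i, rfl⟩ := Subgroup.mem_zpowers_iff.mp (hle ha)
  obtain ⟨j, rfl⟩ := Subgroup.mem_zpowers_iff.mp (hle hb)
  rw [← zpow_add, ← zpow_add, add_comm]

/-- A solvable Frobenius-complement-like group has a unique subgroup of order `p` for every
prime `p ≥ 5`. -/
theorem uniqP_of_isSolvable_aux : ∀ (n : ℕ) (X : Type u) [Group X] [Finite X],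
    Nat.card X = n → FCLike X → Group.IsSolvable X → UniqP X := by
  intro n
  induction n using Nat.strong_induction_on with
  | _ n ih =>
  intro X _ _ hn hF hsol p hp hp5 x y hx hy
  have : Fact p.Prime := ⟨hp⟩
  have hp2 : p ≠ 2 := by omega
  have hxp : x ^ p = 1 := by rw [← hx]; exact pow_orderOf_eq_one x
  have hyp : y ^ p = 1 := by rw [← hy]; exact pow_orderOf_eq_one y
  have hx1 : x ≠ 1 := by
    intro h; rw [h, orderOf_one] at hx; omega
  have hnt : Nontrivial X := ⟨⟨x, 1, hx1⟩⟩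
  obtain ⟨M, hMn, hMi⟩ := Cfsg.Agent.Lib.helper2.exists_normal_prime_index X
  have hcardM : Nat.card M * M.index = Nat.card X := Subgroup.card_mul_index M
  have hlt : Nat.card M < n := by
    rw [← hn, ← hcardM]
    have h2 := hMi.two_le
    have h0 : 0 < Nat.card M := Nat.card_pos
    nlinarith
  have IH : UniqP ↥M := ih (Nat.card M) hlt ↥M rfl (hF.subgroup M) inferInstance
  by_cases hpM : p ∣ Nat.card M
  · obtain ⟨z, hz⟩ := exists_prime_orderOf_dvd_card' p hpM
    have hzX : orderOf (z : X) = p := by rw [Subgroup.orderOf_coe]; exact hz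
    have hzp : (z : X) ^ p = 1 := by rw [← hzX]; exact pow_orderOf_eq_one _
    have hz1 : (z : X) ≠ 1 := by
      intro h; rw [h, orderOf_one] at hzX; omega
    have hMz : ∀ w : X, w ∈ M → orderOf w = p → w ∈ Subgroup.zpowers (z : X) := by
      intro w hw how
      have := IH p hp hp5 z ⟨w, hw⟩ hz (by rw [← Subgroup.orderOf_coe]; exact how)
      exact (coe_mem_zpowers_iff M _ z).mp this
    have hZn : (Subgroup.zpowers (z : X)).Normal := by
      refine ⟨fun n hn g => ?_⟩
      obtain ⟨k, rfl⟩ := Subgroup.mem_zpowers_iff.mp hn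
      rw [← conj_zpow]
      apply Subgroup.zpow_mem
      apply hMz _ (hMn.conj_mem _ z.2 g)
      rw [orderOf_conj_eq]; exact hzX
    have hyZ : ∀ y : X, orderOf y = p → y ∈ Subgroup.zpowers (z : X) := by
      intro y hy
      have hyp : y ^ p = 1 := by rw [← hy]; exact pow_orderOf_eq_one y
      have hpg : IsPGroup p ↥(Subgroup.zpowers (z : X) ⊔ Subgroup.zpowers y) :=
        IsPGroup.to_sup_of_normal_left
          (IsPGroup.of_card (n := 1) (by rw [Nat.card_zpowers, hzX, pow_one]))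
          (IsPGroup.of_card (n := 1) (by rw [Nat.card_zpowers, hy, pow_one]))
      have hcomm := hF.comm_of_isPGroup p hp hp2 _ hpg (z : X)
        (Subgroup.mem_sup_left (Subgroup.mem_zpowers _)) y
        (Subgroup.mem_sup_right (Subgroup.mem_zpowers y))
      exact hF.2.2 p hp z y hcomm hzp hyp hz1
    have hxZ := hyZ x hx
    have hyZ' := hyZ y hy
    have hcomm : x * y = y * x := by
      obtain ⟨i, rfl⟩ := Subgroup.mem_zpowers_iff.mp hxZ
      obtain ⟨j, rfl⟩ := Subgroup.mem_zpowers_iff.mp hyZ'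
      rw [← zpow_add, ← zpow_add, add_comm]
    exact hF.2.2 p hp x y hcomm hxp hyp hx1
  · have hpX : p ∣ Nat.card X := hx ▸ orderOf_dvd_natCard x
    have hidx : M.index = p := by
      rw [← hcardM] at hpX
      rcases (Nat.Prime.dvd_mul hp).mp hpX with h | h
      · exact absurd h hpM
      · exact ((Nat.prime_dvd_prime_iff_eq hp hMi).mp h).symm
    -- every element of order `p` centralizes `M`
    have hcent : ∀ x : X, orderOf x = p → ∀ m ∈ M, x * m = m * x := by
      intro x hx
      have hdvd : Nat.card M ∣ Nat.card ↥(M ⊓ Subgroup.centralizer {x}) := by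
        rw [← Nat.factorization_prime_le_iff_dvd Nat.card_pos.ne' Nat.card_pos.ne']
        intro r hr
        have : Fact r.Prime := ⟨hr⟩
        by_cases hrp : r = p
        · rw [hrp, Nat.factorization_eq_zero_of_not_dvd hpM]; exact Nat.zero_le _
        · obtain ⟨P, hP⟩ := exists_invariant_sylow M x p hp hx hpM r
          have hPg : IsPGroup r ↥((P : Subgroup ↥M).map M.subtype) := P.2.map M.subtype
          have hcentP := hF.comm_of_normalizes p hp hp5 x hx r hr hrp _ hPg hP
          have hle : (P : Subgroup ↥M).map M.subtype ≤ M ⊓ Subgroup.centralizer {x} := by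
            intro a ha
            refine Subgroup.mem_inf.mpr ⟨?_, ?_⟩
            · obtain ⟨m, -, rfl⟩ := ha
              exact m.2
            · rw [Subgroup.mem_centralizer_singleton_iff]
              exact (hcentP a ha).symm
          have hcardP : Nat.card ↥((P : Subgroup ↥M).map M.subtype)
              = r ^ (Nat.card M).factorization r := by
            rw [Subgroup.card_map_of_injective M.subtype_injective]
            exact Sylow.card_eq_multiplicity P
          have := Subgroup.card_dvd_of_le hle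
          rw [hcardP] at this
          exact (hr.pow_dvd_iff_le_factorization Nat.card_pos.ne').mp this
      have heq : M ⊓ Subgroup.centralizer {x} = M :=
        Subgroup.eq_of_le_of_card_ge inf_le_left (Nat.le_of_dvd Nat.card_pos hdvd)
      intro m hm
      have h1 : m ∈ M ⊓ Subgroup.centralizer {x} := by rw [heq]; exact hm
      exact (Subgroup.mem_centralizer_singleton_iff.mp (Subgroup.mem_inf.mp h1).2).symm
    have hcx := hcent x hx
    have hxM : x ∉ M := fun h => hpM (hx ▸ Subgroup.orderOf_dvd_natCard M h)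
    have hq : Nat.card (X ⧸ M) = p := by rw [← Subgroup.index_eq_card]; exact hidx
    have hx1' : (QuotientGroup.mk x : X ⧸ M) ≠ 1 := by
      rwa [Ne, QuotientGroup.eq_one_iff]
    have htop := zpowers_eq_top_of_prime_card hq hx1'
    have hmemq : (QuotientGroup.mk y : X ⧸ M) ∈ Subgroup.zpowers (QuotientGroup.mk x : X ⧸ M) :=
      htop ▸ Subgroup.mem_top _
    obtain ⟨k, hk⟩ := Subgroup.mem_zpowers_iff.mp hmemq
    have hm : (x ^ k)⁻¹ * y ∈ M := by
      rw [← QuotientGroup.eq, QuotientGroup.mk_zpow]; exact hk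
    have hy' : y = x ^ k * ((x ^ k)⁻¹ * y) := by group
    have hcm : Commute (x ^ k) ((x ^ k)⁻¹ * y) :=
      Commute.zpow_left (show Commute x ((x ^ k)⁻¹ * y) from hcx _ hm) k
    have hmp : ((x ^ k)⁻¹ * y) ^ p = 1 := by
      have h1 : y ^ p = 1 := hyp
      rw [hy', hcm.mul_pow] at h1
      have h2 : (x ^ k) ^ p = 1 := by
        rw [← zpow_natCast, ← zpow_mul, mul_comm, zpow_mul, zpow_natCast, hxp, one_zpow]
      rwa [h2, one_mul] at h1
    have hm1 : (x ^ k)⁻¹ * y = 1 := by
      have h1 : orderOf ((x ^ k)⁻¹ * y) ∣ p := orderOf_dvd_of_pow_eq_one hmp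
      rcases (Nat.dvd_prime hp).mp h1 with h | h
      · exact orderOf_eq_one_iff.mp h
      · exact absurd (h ▸ Subgroup.orderOf_dvd_natCard M hm) hpM
    rw [hy', hm1, mul_one]
    exact Subgroup.zpow_mem_zpowers x k

theorem uniqP_of_isSolvable {X : Type u} [Group X] [Finite X] (hF : FCLike X)
    (hsol : Group.IsSolvable X) : UniqP X :=
  uniqP_of_isSolvable_aux _ X rfl hF hsol


/-- A finite group whose order is divisible only by primes less than `5` is solvable
(Burnside). -/
theorem isSolvable_of_primes_lt_five {X : Type u} [Group X] [Finite X]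
    (h : ∀ r : ℕ, r.Prime → r ∣ Nat.card X → r < 5) : Group.IsSolvable X := by
  have h23 : ∀ r : ℕ, r.Prime → r ∣ Nat.card X → r = 2 ∨ r = 3 := by
    intro r hr hd
    have h5 := h r hr hd
    have h2 := hr.two_le
    interval_cases r
    · exact Or.inl rfl
    · exact Or.inr rfl
    · exact absurd hr (by decide)
  obtain ⟨a, m, hm, hcard⟩ :=
    Nat.exists_eq_pow_mul_and_not_dvd (Nat.card_pos (α := X)).ne' 2 (by norm_num)
  have hm0 : m ≠ 0 := by rintro rfl; exact hm (dvd_zero 2)
  have hm3 : m = 3 ^ m.primeFactorsList.length := Nat.eq_prime_pow_of_unique_prime_dvd hm0 (by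
    intro d hd hdm
    rcases h23 d hd (hcard ▸ Dvd.dvd.mul_left hdm _) with h2 | h3
    · exact absurd (h2 ▸ hdm) hm
    · exact h3)
  rw [hm3] at hcard
  exact Cfsg.Agent.Lib.helper4.isSolvable_of_card_eq_prime_pow_mul_prime_pow 2 3 a _
    Nat.prime_two Nat.prime_three hcard

/-- A Frobenius-complement-like group with unique subgroups of order `p` for all primes
`p ≥ 5` is solvable. -/
theorem isSolvable_of_uniqP_aux : ∀ (n : ℕ) (X : Type u) [Group X] [Finite X],
    Nat.card X = n → FCLike X → UniqP X → Group.IsSolvable X := by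
  intro n
  induction n using Nat.strong_induction_on with
  | _ n ih =>
  intro X _ _ hn hF hU
  by_cases hex : ∃ p : ℕ, p.Prime ∧ 5 ≤ p ∧ p ∣ Nat.card X
  · obtain ⟨p, hp, hp5, hpX⟩ := hex
    have : Fact p.Prime := ⟨hp⟩
    have hp2 : p ≠ 2 := by omega
    obtain ⟨z, hz⟩ := exists_prime_orderOf_dvd_card' p hpX
    have hz1 : z ≠ 1 := by
      intro h; rw [h, orderOf_one] at hz; omega
    have hconj : ∀ g : X, ∃ i : ℤ, z ^ i = g * z * g⁻¹ := fun g =>
      Subgroup.mem_zpowers_iff.mp
        (hU p hp hp5 z (g * z * g⁻¹) hz (by rw [orderOf_conj_eq]; exact hz))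
    by_cases htop : Subgroup.centralizer {z} = ⊤
    · -- `z` is central: Burnside's transfer theorem
      have hzc : ∀ g : X, g * z = z * g := fun g =>
        Subgroup.mem_centralizer_singleton_iff.mp (htop ▸ Subgroup.mem_top g)
      obtain ⟨P⟩ := (inferInstance : Nonempty (Sylow p X))
      have hPab := hF.comm_of_isPGroup p hp hp2 (P : Subgroup X) P.2
      have hPr : ∀ a ∈ (P : Subgroup X), ∃ j : ℕ, a ^ (p ^ j) = 1 := by
        intro a ha
        obtain ⟨j, hj⟩ := P.2 ⟨a, ha⟩
        exact ⟨j, by simpa using congrArg Subtype.val hj⟩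
      have hNC : Subgroup.normalizer ((P : Subgroup X) : Set X) ≤ Subgroup.centralizer ((P : Subgroup X) : Set X) := by
        intro g hg
        rw [Subgroup.mem_centralizer_iff]
        intro a ha
        have hgP : ∀ a ∈ (P : Subgroup X), g * a * g⁻¹ ∈ (P : Subgroup X) := fun a ha =>
          (Subgroup.mem_normalizer_iff.mp hg a).mp ha
        -- a `p'`-power of `g` lies in `P`
        have hcop : Nat.Coprime (Nat.card X / p ^ (Nat.card X).factorization p) p :=
          (Nat.coprime_ordCompl hp Nat.card_pos.ne').symm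
        have hgm : g ^ (Nat.card X / p ^ (Nat.card X).factorization p) ∈ (P : Subgroup X) := by
          have hgmN : g ^ (Nat.card X / p ^ (Nat.card X).factorization p)
              ∈ Subgroup.normalizer ((P : Subgroup X) : Set X) := Subgroup.pow_mem _ hg _
          have hpow : (g ^ (Nat.card X / p ^ (Nat.card X).factorization p))
              ^ (p ^ (Nat.card X).factorization p) = 1 := by
            rw [← pow_mul, Nat.div_mul_cancel (Nat.ordProj_dvd _ _)]
            exact pow_card_eq_one'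
          have hzp : IsPGroup p ↥(Subgroup.zpowers
              (g ^ (Nat.card X / p ^ (Nat.card X).factorization p))) := by
            obtain ⟨j, -, hj⟩ := (Nat.dvd_prime_pow hp).mp (orderOf_dvd_of_pow_eq_one hpow)
            exact IsPGroup.of_card (n := j) (by rw [Nat.card_zpowers, hj])
          have hle : Subgroup.zpowers (g ^ (Nat.card X / p ^ (Nat.card X).factorization p))
              ≤ Subgroup.normalizer ((P : Subgroup X) : Set X) := by
            rw [Subgroup.zpowers_le]; exact hgmN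
          have hsup : IsPGroup p ↥(Subgroup.zpowers
              (g ^ (Nat.card X / p ^ (Nat.card X).factorization p)) ⊔ (P : Subgroup X)) :=
            IsPGroup.to_sup_of_normal_right' hzp P.2 hle
          have hPle : (P : Subgroup X) ≤ Subgroup.zpowers
              (g ^ (Nat.card X / p ^ (Nat.card X).factorization p)) ⊔ (P : Subgroup X) :=
            le_sup_right
          have heq := P.3 hsup hPle
          rw [← heq]
          exact Subgroup.mem_sup_left (Subgroup.mem_zpowers _)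
        have key := comm_of_comm_on_omega (P : Subgroup X) g p
          (Nat.card X / p ^ (Nat.card X).factorization p) hcop hPab hPr hgP
          (fun b hb => hPab _ hgm b hb)
          (fun b hb hbp => by
            by_cases hb1 : b = 1
            · rw [hb1, mul_one, one_mul]
            · have hob : orderOf b = p := orderOf_eq_prime hbp hb1
              obtain ⟨i, rfl⟩ := Subgroup.mem_zpowers_iff.mp (hU p hp hp5 z b hz hob)
              exact (Commute.zpow_right (show Commute g z from hzc g) i).eq)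
        exact (key a ha).symm
      have hcompl := MonoidHom.ker_transferSylow_isComplement' P hNC
      have hcardK : Nat.card ↥(MonoidHom.transferSylow P hNC).ker * Nat.card ↥(P : Subgroup X)
          = Nat.card X := hcompl.card_mul_card
      have hPgt : 1 < Nat.card ↥(P : Subgroup X) := by
        have h1 : p ∣ Nat.card ↥(P : Subgroup X) := by
          rw [Sylow.card_eq_multiplicity]
          exact dvd_pow_self p
            ((Nat.Prime.factorization_pos_of_dvd hp Nat.card_pos.ne' hpX).ne')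
        exact lt_of_lt_of_le hp.one_lt (Nat.le_of_dvd Nat.card_pos h1)
      have hKlt : Nat.card ↥(MonoidHom.transferSylow P hNC).ker < n := by
        rw [← hn, ← hcardK]
        have h0 : 0 < Nat.card ↥(MonoidHom.transferSylow P hNC).ker := Nat.card_pos
        nlinarith
      have hKs : Group.IsSolvable ↥(MonoidHom.transferSylow P hNC).ker :=
        ih _ hKlt _ rfl (hF.subgroup _) (hU.subgroup _)
      have hPn : Group.IsNilpotent ↥(P : Subgroup X) := P.2.isNilpotent
      exact Group.isSolvable_of_ker_le_range (MonoidHom.transferSylow P hNC).ker.subtype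
        (MonoidHom.transferSylow P hNC) (by rw [Subgroup.range_subtype])
    · -- the centralizer of `z` is a proper subgroup containing the commutator subgroup
      have hlt : Nat.card ↥(Subgroup.centralizer {z}) < n := by
        rw [← hn]
        exact lt_of_le_of_ne (Subgroup.card_le_card_group _)
          (fun h => htop (Subgroup.eq_top_of_card_eq _ h))
      have hAs : Group.IsSolvable ↥(Subgroup.centralizer {z}) :=
        ih _ hlt _ rfl (hF.subgroup _) (hU.subgroup _)
      have hcomm : commutator X ≤ Subgroup.centralizer {z} := by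
        rw [commutator_def, Subgroup.commutator_le]
        intro g _ h _
        rw [Subgroup.mem_centralizer_singleton_iff]
        obtain ⟨i, hi⟩ := hconj g⁻¹
        obtain ⟨j, hj⟩ := hconj h⁻¹
        have e1 : g⁻¹ * h⁻¹ * z * (g⁻¹ * h⁻¹)⁻¹ = h⁻¹ * g⁻¹ * z * (h⁻¹ * g⁻¹)⁻¹ := by
          calc g⁻¹ * h⁻¹ * z * (g⁻¹ * h⁻¹)⁻¹ = g⁻¹ * (h⁻¹ * z * h⁻¹⁻¹) * g⁻¹⁻¹ := by group
            _ = g⁻¹ * z ^ j * g⁻¹⁻¹ := by rw [← hj]
            _ = (g⁻¹ * z * g⁻¹⁻¹) ^ j := by rw [conj_zpow]
            _ = (z ^ i) ^ j := by rw [← hi]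
            _ = (z ^ j) ^ i := by rw [← zpow_mul, mul_comm, zpow_mul]
            _ = (h⁻¹ * z * h⁻¹⁻¹) ^ i := by rw [hj]
            _ = h⁻¹ * z ^ i * h⁻¹⁻¹ := by rw [conj_zpow]
            _ = h⁻¹ * (g⁻¹ * z * g⁻¹⁻¹) * h⁻¹⁻¹ := by rw [hi]
            _ = h⁻¹ * g⁻¹ * z * (h⁻¹ * g⁻¹)⁻¹ := by group
        calc ⁅g, h⁆ * z
            = (h⁻¹ * g⁻¹)⁻¹ * (g⁻¹ * h⁻¹ * z * (g⁻¹ * h⁻¹)⁻¹) * (g⁻¹ * h⁻¹) := by
              rw [commutatorElement_def]; group
          _ = (h⁻¹ * g⁻¹)⁻¹ * (h⁻¹ * g⁻¹ * z * (h⁻¹ * g⁻¹)⁻¹) * (g⁻¹ * h⁻¹) := by rw [e1]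
          _ = z * ⁅g, h⁆ := by rw [commutatorElement_def]; group
      exact Group.isSolvable_of_ker_le_range (Subgroup.centralizer {z}).subtype
        (Abelianization.of (G := X))
        (by rw [Abelianization.ker_of, Subgroup.range_subtype]; exact hcomm)
  · push Not at hex
    apply isSolvable_of_primes_lt_five
    intro r hr hd
    by_contra h5
    exact hex r hr (by omega) hd

theorem isSolvable_of_uniqP {X : Type u} [Group X] [Finite X] (hF : FCLike X)
    (hU : UniqP X) : Group.IsSolvable X :=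
  isSolvable_of_uniqP_aux _ X rfl hF hU


end Cfsg.Agent.Lib.helper70
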