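import Mathlib
import Cfsg.Agent.S0035
import Cfsg.Agent.S0039
import Cfsg.Agent.S0041
import Cfsg.Agent.S0042
import Cfsg.Agent.S0068
import Cfsg.Agent.S0666
import Cfsg.Agent.Lib.helper75.FrobComplement
import Cfsg.Agent.Lib.helper75.FpfRank
import Cfsg.Agent.Lib.helper75.FrobBasic
import Cfsg.Agent.Lib.helper75.FrobKernel
import Cfsg.Agent.Lib.helper1.Frob2

set_option autoImplicit false
set_option linter.unusedSectionVars false

/-!
# Frobenius groups and 2-Frobenius groups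

General facts about a Frobenius complement `C` with kernel subgroup `N`, and the structure of
2-Frobenius groups `H < K ≤ G`.
-/

namespace Cfsg.Agent.Lib.helper70

open Cfsg
open scoped Pointwise

/-- The kernel subgroup of a Frobenius group is normal, complements the complement, and is
nilpotent (Thompson). -/
theorem frob_kernel_props {L : Type*} [Group L] [Finite L] (C N : Subgroup L)
    (hC : IsFrobeniusComplement C) (hN : (N : Set L) = frobeniusKernel C) :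
    N.Normal ∧ Subgroup.IsComplement' N C ∧ Group.IsNilpotent N := by
  obtain ⟨N₁, h1, hn1, hc1⟩ := Cfsg.Agent.S0035.result C hC
  obtain ⟨N₂, h2, _, hnil⟩ := Cfsg.Agent.S0042.result C hC
  have e1 : N₁ = N := SetLike.coe_injective (h1.trans hN.symm)
  have e2 : N₂ = N := SetLike.coe_injective (h2.trans hN.symm)
  exact ⟨e1 ▸ hn1, e1 ▸ hc1, e2 ▸ hnil⟩

/-- In a Frobenius group the centralizer of a nonidentity kernel element lies in the kernel. -/
theorem frob_centralizer_le_kernel {L : Type*} [Group L] (C : Subgroup L)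
    (hC : IsFrobeniusComplement C) (n x : L) (hn : n ∈ frobeniusKernel C) (hn1 : n ≠ 1)
    (hx : x * n = n * x) : x ∈ frobeniusKernel C := by
  by_contra hx'
  have hx1 : x ≠ 1 := fun h => hx' (Or.inl h)
  have hx2 : ∃ g : L, x ∈ MulAut.conj g • C := by
    by_contra hne
    push Not at hne
    exact hx' (Or.inr hne)
  obtain ⟨g, hg⟩ := hx2
  rw [Subgroup.mem_pointwise_smul_iff_inv_smul_mem] at hg
  have hc : g⁻¹ * x * g ∈ C := by simpa [MulAut.smul_def] using hg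
  have hC' := (Cfsg.Agent.Lib.helper75.isFrobeniusComplement_iff C).mp hC
  have hu : g⁻¹ * n * g ∈ C := by
    by_contra hu
    have h1 : n * x * n⁻¹ = x := by rw [← hx, mul_inv_cancel_right]
    have h2 : g⁻¹ * n * g * (g⁻¹ * x * g) * (g⁻¹ * n * g)⁻¹ = g⁻¹ * (n * x * n⁻¹) * g := by
      group
    have h3 := hC'.2.2 (g⁻¹ * n * g) hu (g⁻¹ * x * g) hc (by rw [h2, h1]; exact hc)
    apply hx1
    have h4 : x = g * (g⁻¹ * x * g) * g⁻¹ := by group
    rw [h4, h3]; group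
  rcases hn with hn | hn
  · exact hn1 hn
  · apply hn g
    rw [Subgroup.mem_pointwise_smul_iff_inv_smul_mem]
    simpa [MulAut.smul_def] using hu

/-- The Frobenius kernel is transported by group isomorphisms. -/
theorem frobeniusKernel_map_equiv {L L' : Type*} [Group L] [Group L'] (e : L ≃* L')
    (C : Subgroup L) (x : L) (hx : x ∈ frobeniusKernel C) :
    e x ∈ frobeniusKernel (C.map e.toMonoidHom) := by
  rcases hx with hx | hx
  · left; rw [hx, map_one]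
  · right
    intro g' hg'
    apply hx (e.symm g')
    rw [Subgroup.mem_pointwise_smul_iff_inv_smul_mem] at hg' ⊢
    obtain ⟨c, hc, hce⟩ := Subgroup.mem_map.mp hg'
    have h1 : (MulAut.conj (e.symm g'))⁻¹ • x = c := by
      apply e.injective
      have h2 : e c = g'⁻¹ * e x * g' := by
        simpa [MulAut.smul_def] using hce
      rw [h2]
      simp [MulAut.smul_def]
    rw [h1]; exact hc

/-- A finite nilpotent group has an element of order `p * q` for distinct primes dividing its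
order. -/
theorem exists_orderOf_eq_mul_of_isNilpotent {N : Type*} [Group N] [Finite N]
    [Group.IsNilpotent N] (p q : ℕ) (hp : p.Prime) (hq : q.Prime) (hpq : p ≠ q)
    (hpN : p ∣ Nat.card N) (hqN : q ∣ Nat.card N) : ∃ g : N, orderOf g = p * q := by
  have : Fact p.Prime := ⟨hp⟩
  have : Fact q.Prime := ⟨hq⟩
  obtain ⟨x, hx⟩ := exists_prime_orderOf_dvd_card' p hpN
  obtain ⟨y, hy⟩ := exists_prime_orderOf_dvd_card' q hqN
  obtain ⟨P, hxP⟩ := (IsPGroup.of_card (p := p) (n := 1)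
    (by rw [Nat.card_zpowers, hx, pow_one] : Nat.card (Subgroup.zpowers x) = p ^ 1)).exists_le_sylow
  obtain ⟨Q, hyQ⟩ := (IsPGroup.of_card (p := q) (n := 1)
    (by rw [Nat.card_zpowers, hy, pow_one] : Nat.card (Subgroup.zpowers y) = q ^ 1)).exists_le_sylow
  have hdis : Disjoint (P : Subgroup N) (Q : Subgroup N) :=
    IsPGroup.disjoint_of_ne p q hpq (P : Subgroup N) (Q : Subgroup N) P.2 Q.2
  have hc : Commute x y := Subgroup.commute_of_normal_of_disjoint P Q inferInstance inferInstance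
    hdis x y (hxP (Subgroup.mem_zpowers x)) (hyQ (Subgroup.mem_zpowers y))
  refine ⟨x * y, ?_⟩
  rw [hc.orderOf_mul_eq_mul_orderOf_of_coprime (by rw [hx, hy]; exact (Nat.coprime_primes hp hq).mpr hpq),
    hx, hy]

/-- A finite nilpotent group of order divisible by `p` has a nonidentity `p`-element commuting
with all `p`-elements. -/
theorem exists_central_pElement_of_isNilpotent {N : Type*} [Group N] [Finite N]
    [Group.IsNilpotent N] (p : ℕ) [Fact p.Prime] (hpN : p ∣ Nat.card N) :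
    ∃ z : N, z ≠ 1 ∧ (∃ k, orderOf z = p ^ k) ∧
      ∀ h : N, (∃ k, orderOf h = p ^ k) → h * z = z * h := by
  obtain ⟨x, hx⟩ := exists_prime_orderOf_dvd_card' p hpN
  obtain ⟨P, hxP⟩ := (IsPGroup.of_card (p := p) (n := 1)
    (by rw [Nat.card_zpowers, hx, pow_one] : Nat.card (Subgroup.zpowers x) = p ^ 1)).exists_le_sylow
  have huniq : ∀ Q : Sylow p N, Q = P := fun Q => by
    let _ := Sylow.unique_of_normal P inferInstance
    exact Subsingleton.elim Q P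
  have hmem : ∀ h : N, (∃ k, orderOf h = p ^ k) → h ∈ (P : Subgroup N) := by
    rintro h ⟨k, hk⟩
    obtain ⟨Q, hQ⟩ := (IsPGroup.of_card (p := p) (n := k)
      (by rw [Nat.card_zpowers, hk] : Nat.card (Subgroup.zpowers h) = p ^ k)).exists_le_sylow
    rw [huniq Q] at hQ
    exact hQ (Subgroup.mem_zpowers h)
  have hx1 : x ≠ 1 := by
    intro h
    rw [h, orderOf_one] at hx
    exact (Fact.out : p.Prime).one_lt.ne hx
  have hnt : Nontrivial (P : Subgroup N) :=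
    ⟨⟨⟨x, hxP (Subgroup.mem_zpowers x)⟩, 1, fun h => hx1 (congrArg Subtype.val h)⟩⟩
  have hcnt := IsPGroup.center_nontrivial P.2
  obtain ⟨z, hz⟩ := exists_ne (1 : Subgroup.center (P : Subgroup N))
  refine ⟨((z : (P : Subgroup N)) : N), ?_, ?_, ?_⟩
  · intro h
    apply hz
    exact Subtype.ext (Subtype.ext h)
  · obtain ⟨k, hk⟩ := IsPGroup.iff_orderOf.mp P.2 (z : (P : Subgroup N))
    exact ⟨k, by rw [Subgroup.orderOf_coe]; exact hk⟩
  · intro h hh
    have h1 := Subgroup.mem_center_iff.mp z.2 ⟨h, hmem h hh⟩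
    exact congrArg Subtype.val h1

/-- In a finite group, `g` normalizes `H` as soon as it conjugates `H` into `H`. -/
theorem mem_normalizer_of_conj_mem_fin2 {G : Type*} [Group G] [Finite G] (H : Subgroup G) (g : G)
    (h : ∀ x ∈ H, g * x * g⁻¹ ∈ H) : g ∈ Subgroup.normalizer (H : Set G) := by
  rw [Subgroup.mem_normalizer_iff]
  intro x
  refine ⟨h x, fun hx => ?_⟩
  let φ : H → H := fun y => ⟨g * y * g⁻¹, h y y.2⟩
  have hinj : Function.Injective φ := by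
    intro y y' hyy
    have := congrArg Subtype.val hyy
    simp only [φ] at this
    exact Subtype.ext (by simpa using this)
  obtain ⟨y, hy⟩ := (Finite.injective_iff_surjective.mp hinj) ⟨g * x * g⁻¹, hx⟩
  have := congrArg Subtype.val hy
  simp only [φ] at this
  have hyx : (y : G) = x := by simpa using this
  rw [← hyx]
  exact y.2

/-- The subgroup of elements `z` of `H` with `z ^ (p ^ N) = 1` commuting with all such elements
of `H`. -/
def pCentral {G : Type*} [Group G] (H : Subgroup G) (p N : ℕ) : Subgroup G where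
  carrier := {z | z ∈ H ∧ z ^ (p ^ N) = 1 ∧ ∀ h ∈ H, h ^ (p ^ N) = 1 → h * z = z * h}
  mul_mem' := by
    rintro a b ⟨haH, hap, hac⟩ ⟨hbH, hbp, hbc⟩
    refine ⟨H.mul_mem haH hbH, ?_, ?_⟩
    · have hcomm : Commute a b := (show Commute b a from hac b hbH hbp).symm
      rw [hcomm.mul_pow, hap, hbp, one_mul]
    · intro h hh hhp
      rw [← mul_assoc, hac h hh hhp, mul_assoc, hbc h hh hhp, mul_assoc]
  one_mem' := ⟨H.one_mem, one_pow _, fun h _ _ => by rw [mul_one, one_mul]⟩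
  inv_mem' := by
    rintro a ⟨haH, hap, hac⟩
    refine ⟨H.inv_mem haH, by rw [inv_pow, hap, inv_one], fun h hh hhp => ?_⟩
    exact (show Commute h a from hac h hh hhp).inv_right.eq

theorem mem_pCentral {G : Type*} [Group G] (H : Subgroup G) (p N : ℕ) (z : G) :
    z ∈ pCentral H p N ↔
      z ∈ H ∧ z ^ (p ^ N) = 1 ∧ ∀ h ∈ H, h ^ (p ^ N) = 1 → h * z = z * h := Iff.rfl

theorem pCentral_le {G : Type*} [Group G] (H : Subgroup G) (p N : ℕ) : pCentral H p N ≤ H :=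
  fun _ hz => hz.1

theorem pCentral_normal {G : Type*} [Group G] (H : Subgroup G) [hHn : H.Normal] (p N : ℕ) :
    (pCentral H p N).Normal := by
  refine ⟨fun z hz g => ?_⟩
  obtain ⟨hzH, hzp, hzc⟩ := hz
  refine ⟨hHn.conj_mem z hzH g, by rw [conj_pow, hzp]; group, fun h hh hhp => ?_⟩
  have h1 : g⁻¹ * h * g⁻¹⁻¹ ∈ H := hHn.conj_mem h hh g⁻¹
  have h2 : (g⁻¹ * h * g⁻¹⁻¹) ^ (p ^ N) = 1 := by rw [conj_pow, hhp]; group
  have h3 := hzc _ h1 h2
  have h4 : h * (g * z * g⁻¹) = g * (g⁻¹ * h * g⁻¹⁻¹ * z) * g⁻¹ := by group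
  rw [h4, h3]; group

theorem pCentral_isMulCommutative {G : Type*} [Group G] (H : Subgroup G) (p N : ℕ) :
    IsMulCommutative (pCentral H p N) :=
  ⟨⟨fun a b => Subtype.ext (b.2.2.2 a.1 a.2.1 a.2.2.1)⟩⟩

theorem pCentral_isPGroup {G : Type*} [Group G] (H : Subgroup G) (p N : ℕ) :
    IsPGroup p (pCentral H p N) :=
  fun z => ⟨N, Subtype.ext (by simpa using z.2.2.1)⟩

theorem pCentral_ne_bot {G : Type*} [Group G] [Finite G] (H : Subgroup G)
    [Group.IsNilpotent H] (p : ℕ) [Fact p.Prime] (hp1 : p ∣ Nat.card H) :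
    pCentral H p (Nat.card G) ≠ ⊥ := by
  have hp : p.Prime := Fact.out
  obtain ⟨z, hz1, ⟨k, hk⟩, hzc⟩ := exists_central_pElement_of_isNilpotent (N := H) p hp1
  have hkN : k ≤ Nat.card G := by
    have h1 : orderOf (z : G) ∣ Nat.card G := orderOf_dvd_natCard _
    rw [Subgroup.orderOf_coe, hk] at h1
    have h2 := Nat.le_of_dvd Nat.card_pos h1
    exact le_trans (Nat.lt_pow_self hp.one_lt).le h2
  intro hbot
  have hmem : (z : G) ∈ pCentral H p (Nat.card G) := by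
    refine ⟨z.2, ?_, fun h hh hhp => ?_⟩
    · rw [← orderOf_dvd_iff_pow_eq_one, Subgroup.orderOf_coe, hk]
      exact pow_dvd_pow p hkN
    · have h1 : orderOf h ∣ p ^ Nat.card G := orderOf_dvd_of_pow_eq_one hhp
      obtain ⟨j, _, hj⟩ := (Nat.dvd_prime_pow hp).mp h1
      have h2 := hzc ⟨h, hh⟩ ⟨j, by rw [← Subgroup.orderOf_coe]; exact hj⟩
      exact congrArg Subtype.val h2
  rw [hbot, Subgroup.mem_bot] at hmem
  exact hz1 (Subtype.ext hmem)

section TwoFrobenius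

variable {G : Type*} [Group G] [Finite G] (H K : Subgroup G) [hHn : H.Normal] [hKn : K.Normal]

/-- In `K` (Frobenius with kernel `H`), the centralizer of a nonidentity element of `H` lies
in `H`. -/
theorem tf_K_cent (C₁ : Subgroup ↥K) (hC₁ : IsFrobeniusComplement C₁)
    (hker₁ : frobeniusKernel C₁ = (H.subgroupOf K : Set ↥K)) (h : G) (hh : h ∈ H) (hK' : h ∈ K)
    (h1 : h ≠ 1) (x : G) (hx : x ∈ K) (hcomm : x * h = h * x) : x ∈ H := by
  have hn : (⟨h, hK'⟩ : ↥K) ∈ frobeniusKernel C₁ := by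
    rw [hker₁]; exact Subgroup.mem_subgroupOf.mpr hh
  have h2 := frob_centralizer_le_kernel C₁ hC₁ ⟨h, hK'⟩ ⟨x, hx⟩ hn
    (fun e => h1 (congrArg Subtype.val e)) (Subtype.ext hcomm)
  rw [hker₁] at h2
  exact Subgroup.mem_subgroupOf.mp h2

/-- In `G ⧸ H` (Frobenius with kernel `K ⧸ H`), the centralizer of a nonidentity element of
`K ⧸ H` lies in `K ⧸ H`. -/
theorem tf_Q_cent (C₂ : Subgroup (G ⧸ H)) (hC₂ : IsFrobeniusComplement C₂)
    (hker₂ : frobeniusKernel C₂ = (K.map (QuotientGroup.mk' H) : Set (G ⧸ H))) (hHK : H ≤ K)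
    (x : G) (hx : x ∈ K) (hxH : x ∉ H) (y : G)
    (hcomm : (y : G ⧸ H) * (x : G ⧸ H) = (x : G ⧸ H) * (y : G ⧸ H)) : y ∈ K := by
  have hn : (x : G ⧸ H) ∈ frobeniusKernel C₂ := by
    rw [hker₂]; exact Subgroup.mem_map_of_mem (QuotientGroup.mk' H) hx
  have h1 : (x : G ⧸ H) ≠ 1 := fun e => hxH ((QuotientGroup.eq_one_iff x).mp e)
  have h2 := frob_centralizer_le_kernel C₂ hC₂ _ _ hn h1 hcomm
  rw [hker₂] at h2
  obtain ⟨k, hk, hky⟩ := Subgroup.mem_map.mp h2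
  have h3 : k⁻¹ * y ∈ H := QuotientGroup.eq.mp hky
  have h4 : y = k * (k⁻¹ * y) := by group
  rw [h4]; exact K.mul_mem hk (hHK h3)

/-- The complement `C₁` acts fixed-point-freely on `H`. -/
theorem tf_K_fpf (C₁ : Subgroup ↥K) (hC₁ : IsFrobeniusComplement C₁)
    (hker₁ : frobeniusKernel C₁ = (H.subgroupOf K : Set ↥K)) (hHK : H ≤ K)
    (c : ↥K) (hc : c ∈ C₁) (hc1 : c ≠ 1) (h : G) (hh : h ∈ H)
    (hfix : (c : G) * h * (c : G)⁻¹ = h) : h = 1 := by
  obtain ⟨_, hcomp, _⟩ := frob_kernel_props C₁ (H.subgroupOf K) hC₁ hker₁.symm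
  have h1 := Cfsg.Agent.Lib.helper75.frob_fpf C₁ hC₁ (H.subgroupOf K) hcomp c hc hc1
    ⟨h, hHK hh⟩ (Subgroup.mem_subgroupOf.mpr hh) (Subtype.ext hfix)
  exact congrArg Subtype.val h1

/-- `K = H C₁`. -/
theorem tf_K_decomp (C₁ : Subgroup ↥K) (hC₁ : IsFrobeniusComplement C₁)
    (hker₁ : frobeniusKernel C₁ = (H.subgroupOf K : Set ↥K)) (k : G) (hk : k ∈ K) :
    ∃ h ∈ H, ∃ c ∈ C₁, k = h * (c : G) := by
  obtain ⟨_, hcomp, _⟩ := frob_kernel_props C₁ (H.subgroupOf K) hC₁ hker₁.symm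
  have h1 : (⟨k, hk⟩ : ↥K) ∈ H.subgroupOf K ⊔ C₁ := by rw [hcomp.sup_eq_top]; trivial
  obtain ⟨y, hy, z, hz, hyz⟩ := Subgroup.mem_sup_of_normal_left.mp h1
  exact ⟨(y : G), Subgroup.mem_subgroupOf.mp hy, z, hz, by rw [← Subgroup.coe_mul, hyz]⟩

/-- `H ∩ C₁ = 1`. -/
theorem tf_K_inter (C₁ : Subgroup ↥K) (hC₁ : IsFrobeniusComplement C₁)
    (hker₁ : frobeniusKernel C₁ = (H.subgroupOf K : Set ↥K)) (c : ↥K) (hc : c ∈ C₁)
    (hcH : (c : G) ∈ H) : c = 1 := by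
  obtain ⟨_, hcomp, _⟩ := frob_kernel_props C₁ (H.subgroupOf K) hC₁ hker₁.symm
  have h1 := hcomp.disjoint
  rw [Subgroup.disjoint_def] at h1
  exact h1 (Subgroup.mem_subgroupOf.mpr hcH) hc

/-- `C₁ ≅ K ⧸ H` realised inside `G ⧸ H`. -/
theorem tf_exists_equiv (C₁ : Subgroup ↥K) (hC₁ : IsFrobeniusComplement C₁)
    (hker₁ : frobeniusKernel C₁ = (H.subgroupOf K : Set ↥K)) :
    ∃ e : ↥C₁ ≃* ↥(K.map (QuotientGroup.mk' H)),
      ∀ c : ↥C₁, ((e c : ↥(K.map (QuotientGroup.mk' H))) : G ⧸ H) = (((c : ↥K) : G) : G ⧸ H) := by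
  let φ : ↥C₁ →* ↥(K.map (QuotientGroup.mk' H)) :=
    ((QuotientGroup.mk' H).comp (K.subtype.comp C₁.subtype)).codRestrict
      (K.map (QuotientGroup.mk' H)) (fun c => Subgroup.mem_map_of_mem _ c.1.2)
  have hinj : Function.Injective φ := by
    rw [injective_iff_map_eq_one]
    intro c hc
    have h1 : (((c : ↥K) : G) : G ⧸ H) = 1 := congrArg Subtype.val hc
    have h2 := tf_K_inter H K C₁ hC₁ hker₁ (c : ↥K) c.2 ((QuotientGroup.eq_one_iff _).mp h1)
    exact Subtype.ext h2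
  have hsurj : Function.Surjective φ := by
    rintro ⟨y, hy⟩
    obtain ⟨k, hk, rfl⟩ := Subgroup.mem_map.mp hy
    obtain ⟨h, hh, c, hc, rfl⟩ := tf_K_decomp H K C₁ hC₁ hker₁ k hk
    refine ⟨⟨c, hc⟩, Subtype.ext ?_⟩
    show (((c : ↥K) : G) : G ⧸ H) = QuotientGroup.mk' H (h * (c : G))
    rw [QuotientGroup.mk'_apply, QuotientGroup.mk_mul, (QuotientGroup.eq_one_iff h).mpr hh,
      one_mul]
  exact ⟨MulEquiv.ofBijective φ ⟨hinj, hsurj⟩, fun c => rfl⟩

theorem tf_card_quot (C₁ : Subgroup ↥K) (hC₁ : IsFrobeniusComplement C₁)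
    (hker₁ : frobeniusKernel C₁ = (H.subgroupOf K : Set ↥K)) :
    Nat.card (↥K ⧸ H.subgroupOf K) = Nat.card C₁ := by
  obtain ⟨_, hcomp, _⟩ := frob_kernel_props C₁ (H.subgroupOf K) hC₁ hker₁.symm
  rw [← Subgroup.index_eq_card]; exact hcomp.symm.index_eq_card

theorem tf_card_GK (C₂ : Subgroup (G ⧸ H)) (hC₂ : IsFrobeniusComplement C₂)
    (hker₂ : frobeniusKernel C₂ = (K.map (QuotientGroup.mk' H) : Set (G ⧸ H))) (hHK : H ≤ K) :
    Nat.card (G ⧸ K) = Nat.card C₂ := by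
  obtain ⟨_, hcomp, _⟩ := frob_kernel_props C₂ (K.map (QuotientGroup.mk' H)) hC₂ hker₂.symm
  rw [← Subgroup.index_eq_card, ← hcomp.symm.index_eq_card]
  exact (Subgroup.index_map_eq K (QuotientGroup.mk'_surjective H)
    (by rw [QuotientGroup.ker_mk']; exact hHK)).symm

theorem tf_coprime_H (C₁ : Subgroup ↥K) (hC₁ : IsFrobeniusComplement C₁)
    (hker₁ : frobeniusKernel C₁ = (H.subgroupOf K : Set ↥K)) (hHK : H ≤ K) :
    (Nat.card C₁).Coprime (Nat.card H) := by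
  obtain ⟨_, hcomp, _⟩ := frob_kernel_props C₁ (H.subgroupOf K) hC₁ hker₁.symm
  have h1 := Cfsg.Agent.Lib.helper75.frob_coprime_card_index C₁ hC₁
  rw [hcomp.index_eq_card] at h1
  rwa [Nat.card_congr (Subgroup.subgroupOfEquivOfLe hHK).toEquiv] at h1

theorem tf_coprime_C2 (C₁ : Subgroup ↥K) (hC₁ : IsFrobeniusComplement C₁)
    (hker₁ : frobeniusKernel C₁ = (H.subgroupOf K : Set ↥K))
    (C₂ : Subgroup (G ⧸ H)) (hC₂ : IsFrobeniusComplement C₂)
    (hker₂ : frobeniusKernel C₂ = (K.map (QuotientGroup.mk' H) : Set (G ⧸ H))) :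
    (Nat.card C₁).Coprime (Nat.card C₂) := by
  obtain ⟨_, hcomp₂, _⟩ := frob_kernel_props C₂ (K.map (QuotientGroup.mk' H)) hC₂ hker₂.symm
  obtain ⟨e, _⟩ := tf_exists_equiv H K C₁ hC₁ hker₁
  have h1 := Cfsg.Agent.Lib.helper75.frob_coprime_card_index C₂ hC₂
  rw [hcomp₂.index_eq_card, ← Nat.card_congr e.toEquiv] at h1
  exact h1.symm

theorem tf_card_G (C₁ : Subgroup ↥K) (hC₁ : IsFrobeniusComplement C₁)
    (hker₁ : frobeniusKernel C₁ = (H.subgroupOf K : Set ↥K))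
    (C₂ : Subgroup (G ⧸ H)) (hC₂ : IsFrobeniusComplement C₂)
    (hker₂ : frobeniusKernel C₂ = (K.map (QuotientGroup.mk' H) : Set (G ⧸ H))) (hHK : H ≤ K) :
    Nat.card G = Nat.card H * Nat.card C₁ * Nat.card C₂ := by
  rw [← tf_card_GK H K C₂ hC₂ hker₂ hHK, ← tf_card_quot H K C₁ hC₁ hker₁,
    ← Nat.card_congr (Subgroup.subgroupOfEquivOfLe hHK).toEquiv, ← Subgroup.index_eq_card,
    ← Subgroup.index_eq_card, Subgroup.card_mul_index, Subgroup.card_mul_index]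

/-- The quotient `K ⧸ H ≅ C₁` of a 2-Frobenius group has odd order. -/
theorem tf_odd (C₁ : Subgroup ↥K) (hC₁ : IsFrobeniusComplement C₁)
    (hker₁ : frobeniusKernel C₁ = (H.subgroupOf K : Set ↥K))
    (C₂ : Subgroup (G ⧸ H)) (hC₂ : IsFrobeniusComplement C₂)
    (hker₂ : frobeniusKernel C₂ = (K.map (QuotientGroup.mk' H) : Set (G ⧸ H))) (hHK : H ≤ K) :
    Odd (Nat.card C₁) := by
  obtain ⟨_, hcomp, _⟩ := frob_kernel_props C₁ (H.subgroupOf K) hC₁ hker₁.symm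
  obtain ⟨_, hcomp₂, _⟩ := frob_kernel_props C₂ (K.map (QuotientGroup.mk' H)) hC₂ hker₂.symm
  by_contra hodd
  have heven : 2 ∣ Nat.card C₁ := by
    rcases Nat.even_or_odd (Nat.card C₁) with h | h
    · exact h.two_dvd
    · exact absurd h hodd
  have hHKne : H.subgroupOf K ≠ ⊥ := by
    intro h
    rw [h] at hcomp
    exact hC₁.2.1 (Subgroup.isComplement'_bot_left.mp hcomp)
  have hfpf := (Cfsg.Agent.S0039.result (H.subgroupOf K) C₁ hcomp hHKne hC₁.1).mp hC₁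
  obtain ⟨⟨s, hs, hs2, huniq, _⟩, _⟩ :=
    Cfsg.Agent.S0068.result (H.subgroupOf K) C₁ hcomp hHKne hfpf heven
  have hs1 : s ≠ 1 := by
    intro h; rw [h, orderOf_one] at hs2; omega
  have hss : s * s = 1 := by
    have := pow_orderOf_eq_one s
    rwa [hs2, sq] at this
  have hsH : (s : G) ∉ H := fun h => hs1 (tf_K_inter H K C₁ hC₁ hker₁ s hs h)
  -- every conjugate of `s` is congruent to `s` modulo `H`
  have hconj : ∀ g : G, g * (s : G) * g⁻¹ * (s : G)⁻¹ ∈ H := by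
    intro g
    have hkK : g * (s : G) * g⁻¹ ∈ K := hKn.conj_mem _ s.2 g
    obtain ⟨h, hh, c, hc, hk⟩ := tf_K_decomp H K C₁ hC₁ hker₁ _ hkK
    have hkk : g * (s : G) * g⁻¹ * (g * (s : G) * g⁻¹) = 1 := by
      have h1 : g * (s : G) * g⁻¹ * (g * (s : G) * g⁻¹) = g * ((s : G) * (s : G)) * g⁻¹ := by
        group
      have h2 : (s : G) * (s : G) = 1 := by
        have := congrArg Subtype.val hss
        simpa using this
      rw [h1, h2]; group
    -- c * c ∈ H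
    have hccH : ((c * c : ↥K) : G) ∈ H := by
      rw [hk] at hkk
      have h1 : ((c * c : ↥K) : G) = ((c : G) * h * (c : G)⁻¹)⁻¹ * h⁻¹ * (h * (c : G) * (h * (c : G))) := by
        rw [Subgroup.coe_mul]; group
      rw [h1, hkk, mul_one]
      exact H.mul_mem (H.inv_mem (hHn.conj_mem _ hh _)) (H.inv_mem hh)
    have hcc : c * c = 1 := tf_K_inter H K C₁ hC₁ hker₁ (c * c) (C₁.mul_mem hc hc) hccH
    have hc1 : c ≠ 1 := by
      intro hc1
      rw [hc1, Subgroup.coe_one, mul_one] at hk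
      apply hsH
      have h1 : (s : G) = g⁻¹ * (g * (s : G) * g⁻¹) * g⁻¹⁻¹ := by group
      rw [h1]
      exact hHn.conj_mem _ (hk ▸ hh) _
    have hc2 : orderOf c = 2 := orderOf_eq_prime (by rw [sq]; exact hcc) hc1
    have hcs : c = s := huniq c hc hc2
    rw [hk, hcs]
    have h1 : h * (s : G) * (s : G)⁻¹ = h := by group
    rw [h1]; exact hh
  -- hence `K = ⊤`
  have hKtop : ∀ g : G, g ∈ K := by
    intro g
    apply tf_Q_cent H K C₂ hC₂ hker₂ hHK (s : G) s.2 hsH g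
    have h1 := (QuotientGroup.eq_one_iff _).mpr (hconj g)
    rw [QuotientGroup.mk_mul, QuotientGroup.mk_mul, QuotientGroup.mk_mul, QuotientGroup.mk_inv,
      QuotientGroup.mk_inv] at h1
    have h2 : (g : G ⧸ H) * ((s : G) : G ⧸ H) =
        (g : G ⧸ H) * ((s : G) : G ⧸ H) * (g : G ⧸ H)⁻¹ * (((s : G) : G ⧸ H))⁻¹ *
          (((s : G) : G ⧸ H) * (g : G ⧸ H)) := by group
    rw [h2, h1, one_mul]
  have hKH : K.map (QuotientGroup.mk' H) = ⊤ := by
    rw [eq_top_iff]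
    intro y _
    obtain ⟨g, rfl⟩ := QuotientGroup.mk'_surjective H y
    exact Subgroup.mem_map_of_mem _ (hKtop g)
  rw [hKH] at hcomp₂
  exact hC₂.1 (Subgroup.isComplement'_top_left.mp hcomp₂)

/-- The complement `C₁ ≅ K ⧸ H` of a 2-Frobenius group is cyclic. -/
theorem tf_C1_cyclic (C₁ : Subgroup ↥K) (hC₁ : IsFrobeniusComplement C₁)
    (hker₁ : frobeniusKernel C₁ = (H.subgroupOf K : Set ↥K))
    (C₂ : Subgroup (G ⧸ H)) (hC₂ : IsFrobeniusComplement C₂)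
    (hker₂ : frobeniusKernel C₂ = (K.map (QuotientGroup.mk' H) : Set (G ⧸ H))) (hHK : H ≤ K) :
    IsCyclic C₁ := by
  obtain ⟨_, hcomp₂, hnil₂⟩ := frob_kernel_props C₂ (K.map (QuotientGroup.mk' H)) hC₂ hker₂.symm
  obtain ⟨e, _⟩ := tf_exists_equiv H K C₁ hC₁ hker₁
  have hnil : Group.IsNilpotent C₁ := Group.nilpotent_of_mulEquiv e.symm
  have hodd := tf_odd H K C₁ hC₁ hker₁ C₂ hC₂ hker₂ hHK
  have hZ : IsZGroup C₁ := by
    refine ⟨fun p hp P => ?_⟩
    have : Fact p.Prime := ⟨hp⟩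
    rcases Cfsg.Agent.Lib.helper75.frob_sylow_cyclic_or_quat C₁ hC₁ p P with h | ⟨h2, _⟩
    · exact h
    · subst h2
      have h1 : Nat.card P ∣ Nat.card C₁ := Subgroup.card_subgroup_dvd_card _
      obtain ⟨k, hk⟩ := IsPGroup.exists_card_eq P.2
      have hk0 : k = 0 := by
        by_contra hk0
        have h2 : 2 ∣ Nat.card C₁ := dvd_trans (hk ▸ dvd_pow_self 2 hk0) h1
        exact (Nat.not_even_iff_odd.mpr hodd) (even_iff_two_dvd.mpr h2)
      rw [hk0, pow_zero] at hk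
      have : Subsingleton (P : Subgroup C₁) := (Nat.card_eq_one_iff_unique.mp hk).1
      exact isCyclic_of_subsingleton
  infer_instance

/-- The complement `C₂ ≅ G ⧸ K` of a 2-Frobenius group is cyclic. -/
theorem tf_C2_cyclic (C₁ : Subgroup ↥K) (hC₁ : IsFrobeniusComplement C₁)
    (hker₁ : frobeniusKernel C₁ = (H.subgroupOf K : Set ↥K))
    (C₂ : Subgroup (G ⧸ H)) (hC₂ : IsFrobeniusComplement C₂)
    (hker₂ : frobeniusKernel C₂ = (K.map (QuotientGroup.mk' H) : Set (G ⧸ H))) (hHK : H ≤ K) :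
    IsCyclic C₂ := by
  obtain ⟨hn₂, hcomp₂, _⟩ := frob_kernel_props C₂ (K.map (QuotientGroup.mk' H)) hC₂ hker₂.symm
  obtain ⟨e, _⟩ := tf_exists_equiv H K C₁ hC₁ hker₁
  have hC₁c := tf_C1_cyclic H K C₁ hC₁ hker₁ C₂ hC₂ hker₂ hHK
  have hKHc : IsCyclic ↥(K.map (QuotientGroup.mk' H)) := e.isCyclic.mp hC₁c
  have hKHne : K.map (QuotientGroup.mk' H) ≠ ⊥ := by
    intro h; rw [h] at hcomp₂; exact hC₂.2.1 (Subgroup.isComplement'_bot_left.mp hcomp₂)
  have hcomm : IsMulCommutative ↥(K.map (QuotientGroup.mk' H)) := IsCyclic.isMulCommutative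
  obtain ⟨k₀, hk₀⟩ := IsCyclic.exists_generator (α := ↥(K.map (QuotientGroup.mk' H)))
  have hk₀1 : (k₀ : G ⧸ H) ≠ 1 := by
    intro h
    apply hKHne
    rw [eq_bot_iff]; intro y hy
    obtain ⟨i, hi⟩ := Subgroup.mem_zpowers_iff.mp (hk₀ ⟨y, hy⟩)
    have h1 : y = (k₀ : G ⧸ H) ^ i := by
      have := congrArg Subtype.val hi
      simpa using this.symm
    rw [h1, h, one_zpow]; exact Subgroup.mem_bot.mpr rfl
  have hact : ∀ a : G ⧸ H, ∃ i : ℤ, a * (k₀ : G ⧸ H) * a⁻¹ = (k₀ : G ⧸ H) ^ i := by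
    intro a
    have h1 : a * (k₀ : G ⧸ H) * a⁻¹ ∈ K.map (QuotientGroup.mk' H) := hn₂.conj_mem _ k₀.2 a
    obtain ⟨i, hi⟩ := Subgroup.mem_zpowers_iff.mp (hk₀ ⟨_, h1⟩)
    exact ⟨i, by have := congrArg Subtype.val hi; simpa using this.symm⟩
  have hab : IsMulCommutative C₂ := by
    refine ⟨⟨fun c d => ?_⟩⟩
    obtain ⟨i, hi⟩ := hact (c : G ⧸ H)
    obtain ⟨j, hj⟩ := hact (d : G ⧸ H)
    by_contra hne
    have hu1 : ((d * c)⁻¹ * (c * d) : ↥C₂) ≠ 1 := by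
      intro h; apply hne; rw [inv_mul_eq_one] at h; exact h.symm
    have h1 : (c : G ⧸ H) * (d : G ⧸ H) * (k₀ : G ⧸ H) * ((c : G ⧸ H) * (d : G ⧸ H))⁻¹ =
        (k₀ : G ⧸ H) ^ (i * j) := by
      have h : (c : G ⧸ H) * (d : G ⧸ H) * (k₀ : G ⧸ H) * ((c : G ⧸ H) * (d : G ⧸ H))⁻¹ =
          (c : G ⧸ H) * ((d : G ⧸ H) * (k₀ : G ⧸ H) * (d : G ⧸ H)⁻¹) * (c : G ⧸ H)⁻¹ := by group
      rw [h, hj, ← conj_zpow, hi, ← zpow_mul]
    have h2 : (d : G ⧸ H) * (c : G ⧸ H) * (k₀ : G ⧸ H) * ((d : G ⧸ H) * (c : G ⧸ H))⁻¹ =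
        (k₀ : G ⧸ H) ^ (i * j) := by
      have h : (d : G ⧸ H) * (c : G ⧸ H) * (k₀ : G ⧸ H) * ((d : G ⧸ H) * (c : G ⧸ H))⁻¹ =
          (d : G ⧸ H) * ((c : G ⧸ H) * (k₀ : G ⧸ H) * (c : G ⧸ H)⁻¹) * (d : G ⧸ H)⁻¹ := by group
      rw [h, hi, ← conj_zpow, hj, ← zpow_mul, mul_comm]
    have hfix : (((d * c)⁻¹ * (c * d) : ↥C₂) : G ⧸ H) * (k₀ : G ⧸ H) *
        (((d * c)⁻¹ * (c * d) : ↥C₂) : G ⧸ H)⁻¹ = (k₀ : G ⧸ H) := by
      have h : (((d * c)⁻¹ * (c * d) : ↥C₂) : G ⧸ H) * (k₀ : G ⧸ H) *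
          (((d * c)⁻¹ * (c * d) : ↥C₂) : G ⧸ H)⁻¹ =
          ((d : G ⧸ H) * (c : G ⧸ H))⁻¹ * ((c : G ⧸ H) * (d : G ⧸ H) * (k₀ : G ⧸ H) *
            ((c : G ⧸ H) * (d : G ⧸ H))⁻¹) * ((d : G ⧸ H) * (c : G ⧸ H)) := by
        push_cast; group
      rw [h, h1, ← h2]; group
    have h3 := Cfsg.Agent.Lib.helper75.frob_fpf C₂ hC₂ (K.map (QuotientGroup.mk' H)) hcomp₂
      (((d * c)⁻¹ * (c * d) : ↥C₂) : G ⧸ H) ((d * c)⁻¹ * (c * d) : ↥C₂).2
      (fun h => hu1 (Subtype.ext h)) (k₀ : G ⧸ H) k₀.2 hfix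
    exact hk₀1 h3
  have hfpf := (Cfsg.Agent.S0039.result (K.map (QuotientGroup.mk' H)) C₂ hcomp₂ hKHne hC₂.1).mp hC₂
  refine Cfsg.Agent.S0041.result C₂ (K.map (QuotientGroup.mk' H)) hKHne (fun a _ => ?_) hfpf
    (Or.inl hab)
  rw [Subgroup.normalizer_eq_top_iff.mpr hn₂]; trivial

/-- `G ⧸ K` is cyclic in a 2-Frobenius group. -/
theorem tf_GK_cyclic (C₁ : Subgroup ↥K) (hC₁ : IsFrobeniusComplement C₁)
    (hker₁ : frobeniusKernel C₁ = (H.subgroupOf K : Set ↥K))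
    (C₂ : Subgroup (G ⧸ H)) (hC₂ : IsFrobeniusComplement C₂)
    (hker₂ : frobeniusKernel C₂ = (K.map (QuotientGroup.mk' H) : Set (G ⧸ H))) (hHK : H ≤ K) :
    IsCyclic (G ⧸ K) := by
  obtain ⟨hn₂, hcomp₂, _⟩ := frob_kernel_props C₂ (K.map (QuotientGroup.mk' H)) hC₂ hker₂.symm
  have hC₂c := tf_C2_cyclic H K C₁ hC₁ hker₁ C₂ hC₂ hker₂ hHK
  have hHK' : H ≤ K.comap (MonoidHom.id G) := hHK
  let ψ : ↥C₂ →* G ⧸ K := (QuotientGroup.map H K (MonoidHom.id G) hHK').comp C₂.subtype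
  have hsurj : Function.Surjective ψ := by
    intro y
    obtain ⟨g, rfl⟩ := QuotientGroup.mk_surjective y
    have h1 : (g : G ⧸ H) ∈ K.map (QuotientGroup.mk' H) ⊔ C₂ := by
      rw [hcomp₂.sup_eq_top]; trivial
    obtain ⟨x, hx, c, hc, hxc⟩ := Subgroup.mem_sup_of_normal_left.mp h1
    obtain ⟨k, hk, rfl⟩ := Subgroup.mem_map.mp hx
    refine ⟨⟨c, hc⟩, ?_⟩
    have h2 : c = (QuotientGroup.mk' H k)⁻¹ * (g : G ⧸ H) := by rw [← hxc]; group
    show QuotientGroup.map H K (MonoidHom.id G) hHK' c = (g : G ⧸ K)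
    rw [h2, map_mul, map_inv, QuotientGroup.mk'_apply, QuotientGroup.map_mk,
      QuotientGroup.map_mk, MonoidHom.id_apply, MonoidHom.id_apply,
      (QuotientGroup.eq_one_iff k).mpr hk, inv_one, one_mul]
  exact isCyclic_of_surjective ψ hsurj

/-- A 2-Frobenius group is solvable. -/
theorem tf_solvable (C₁ : Subgroup ↥K) (hC₁ : IsFrobeniusComplement C₁)
    (hker₁ : frobeniusKernel C₁ = (H.subgroupOf K : Set ↥K))
    (C₂ : Subgroup (G ⧸ H)) (hC₂ : IsFrobeniusComplement C₂)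
    (hker₂ : frobeniusKernel C₂ = (K.map (QuotientGroup.mk' H) : Set (G ⧸ H))) (hHK : H ≤ K) :
    Group.IsSolvable G := by
  obtain ⟨_, hcomp, hnil⟩ := frob_kernel_props C₁ (H.subgroupOf K) hC₁ hker₁.symm
  have hC₁c := tf_C1_cyclic H K C₁ hC₁ hker₁ C₂ hC₂ hker₂ hHK
  have hGKc := tf_GK_cyclic H K C₁ hC₁ hker₁ C₂ hC₂ hker₂ hHK
  have hsolvC₁ : Group.IsSolvable C₁ :=
    Group.isSolvable_of_comm (isMulCommutative_iff.mp IsCyclic.isMulCommutative)
  have hsolvQ : Group.IsSolvable (↥K ⧸ H.subgroupOf K) := by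
    let π : ↥C₁ →* ↥K ⧸ H.subgroupOf K := (QuotientGroup.mk' (H.subgroupOf K)).comp C₁.subtype
    have hsurj : Function.Surjective π := by
      intro y
      obtain ⟨k, rfl⟩ := QuotientGroup.mk_surjective y
      obtain ⟨h, hh, c, hc, hk⟩ := tf_K_decomp H K C₁ hC₁ hker₁ (k : G) k.2
      refine ⟨⟨c, hc⟩, ?_⟩
      show ((c : ↥K) : ↥K ⧸ H.subgroupOf K) = (k : ↥K ⧸ H.subgroupOf K)
      rw [QuotientGroup.eq, Subgroup.mem_subgroupOf, Subgroup.coe_mul, Subgroup.coe_inv, hk]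
      have h1 : (c : G)⁻¹ * (h * (c : G)) = (c : G)⁻¹ * h * (c : G)⁻¹⁻¹ := by group
      rw [h1]; exact hHn.conj_mem _ hh _
    exact Group.isSolvable_of_surjective hsurj
  have hsolvK : Group.IsSolvable ↥K :=
    Group.isSolvable_of_ker_le_range (H.subgroupOf K).subtype
      (QuotientGroup.mk' (H.subgroupOf K))
      (by rw [QuotientGroup.ker_mk', Subgroup.range_subtype])
  have hsolvGK : Group.IsSolvable (G ⧸ K) :=
    Group.isSolvable_of_comm (isMulCommutative_iff.mp IsCyclic.isMulCommutative)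
  exact Group.isSolvable_of_ker_le_range K.subtype (QuotientGroup.mk' K)
    (by rw [QuotientGroup.ker_mk', Subgroup.range_subtype])

/-- In a 2-Frobenius group no element has order `p * q` with `p ∣ |K/H|` and `q ∤ |K/H|`. -/
theorem tf_no_mixed (C₁ : Subgroup ↥K) (hC₁ : IsFrobeniusComplement C₁)
    (hker₁ : frobeniusKernel C₁ = (H.subgroupOf K : Set ↥K))
    (C₂ : Subgroup (G ⧸ H)) (hC₂ : IsFrobeniusComplement C₂)
    (hker₂ : frobeniusKernel C₂ = (K.map (QuotientGroup.mk' H) : Set (G ⧸ H))) (hHK : H ≤ K)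
    (p q : ℕ) (hp : p.Prime) (hq : q.Prime)
    (hp1 : p ∣ Nat.card C₁) (hq1 : ¬ q ∣ Nat.card C₁) (g : G) (hg : orderOf g = p * q) :
    False := by
  have hoa : orderOf (g ^ q) = p := by
    rw [orderOf_pow' g hq.ne_zero, hg, Nat.gcd_eq_right (dvd_mul_left q p),
      Nat.mul_div_cancel _ hq.pos]
  have hob : orderOf (g ^ p) = q := by
    rw [orderOf_pow' g hp.ne_zero, hg, Nat.gcd_eq_right (dvd_mul_right p q),
      Nat.mul_div_cancel_left _ hp.pos]
  have hab : g ^ p * g ^ q = g ^ q * g ^ p := ((Commute.refl g).pow_pow p q).eq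
  have hb1 : g ^ p ≠ 1 := by
    intro h; rw [h, orderOf_one] at hob; exact hq.one_lt.ne hob
  have haK : g ^ q ∈ K := by
    have h1 : orderOf ((g ^ q : G) : G ⧸ K) ∣ p := hoa ▸ orderOf_map_dvd (QuotientGroup.mk' K) _
    have h2 : orderOf ((g ^ q : G) : G ⧸ K) ∣ Nat.card (G ⧸ K) := orderOf_dvd_natCard _
    rw [tf_card_GK H K C₂ hC₂ hker₂ hHK] at h2
    have hcop : p.Coprime (Nat.card C₂) :=
      Nat.Coprime.coprime_dvd_left hp1 (tf_coprime_C2 H K C₁ hC₁ hker₁ C₂ hC₂ hker₂)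
    have h3 : orderOf ((g ^ q : G) : G ⧸ K) = 1 := Nat.eq_one_of_dvd_coprimes hcop h1 h2
    exact (QuotientGroup.eq_one_iff _).mp (orderOf_eq_one_iff.mp h3)
  have haH : g ^ q ∉ H := by
    intro h
    have h1 : p ∣ Nat.card H := by
      have h2 := orderOf_dvd_natCard (⟨g ^ q, h⟩ : ↥H)
      rwa [← Subgroup.orderOf_coe, hoa] at h2
    have hcop := tf_coprime_H H K C₁ hC₁ hker₁ hHK
    exact hp.one_lt.ne' (Nat.eq_one_of_dvd_coprimes hcop hp1 h1)
  by_cases hbH : g ^ p ∈ H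
  · exact haH (tf_K_cent H K C₁ hC₁ hker₁ (g ^ p) hbH (hHK hbH) hb1 (g ^ q) haK hab.symm)
  · have hbK : g ^ p ∈ K := tf_Q_cent H K C₂ hC₂ hker₂ hHK (g ^ q) haK haH (g ^ p)
      (by rw [← QuotientGroup.mk_mul, ← QuotientGroup.mk_mul, hab])
    apply hq1
    rw [← tf_card_quot H K C₁ hC₁ hker₁]
    have h1 : orderOf ((⟨g ^ p, hbK⟩ : ↥K) : ↥K ⧸ H.subgroupOf K) ∣ q := by
      have h2 := orderOf_map_dvd (QuotientGroup.mk' (H.subgroupOf K)) (⟨g ^ p, hbK⟩ : ↥K)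
      rwa [← Subgroup.orderOf_coe, hob] at h2
    have h2 : orderOf ((⟨g ^ p, hbK⟩ : ↥K) : ↥K ⧸ H.subgroupOf K) ≠ 1 := by
      intro h
      rw [orderOf_eq_one_iff, QuotientGroup.eq_one_iff, Subgroup.mem_subgroupOf] at h
      exact hbH h
    have h3 := ((Nat.dvd_prime hq).mp h1).resolve_left h2
    rw [← h3]; exact orderOf_dvd_natCard _

/-- If some element has order divisible by `n`, some element has order `n`. -/
theorem exists_orderOf_eq_of_dvd_orderOf {X : Type*} [Group X] [Finite X] (x : X) (n : ℕ)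
    (h : n ∣ orderOf x) : ∃ y : X, orderOf y = n :=
  ⟨x ^ (orderOf x / n), orderOf_pow_orderOf_div (orderOf_pos x).ne' h⟩

/-- Both primes divide `|K/H|`. -/
theorem tf_exists_A (C₁ : Subgroup ↥K) (hC₁ : IsFrobeniusComplement C₁)
    (hker₁ : frobeniusKernel C₁ = (H.subgroupOf K : Set ↥K))
    (C₂ : Subgroup (G ⧸ H)) (hC₂ : IsFrobeniusComplement C₂)
    (hker₂ : frobeniusKernel C₂ = (K.map (QuotientGroup.mk' H) : Set (G ⧸ H))) (hHK : H ≤ K)
    (p q : ℕ) (hp : p.Prime) (hq : q.Prime) (hpq : p ≠ q)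
    (hp1 : p ∣ Nat.card C₁) (hq1 : q ∣ Nat.card C₁) : ∃ g : G, orderOf g = p * q := by
  have hC₁c := tf_C1_cyclic H K C₁ hC₁ hker₁ C₂ hC₂ hker₂ hHK
  obtain ⟨c, hc⟩ := IsCyclic.exists_ofOrder_eq_natCard (α := C₁)
  have hdvd : p * q ∣ orderOf c := by
    rw [hc]
    exact Nat.Coprime.mul_dvd_of_dvd_of_dvd ((Nat.coprime_primes hp hq).mpr hpq) hp1 hq1
  obtain ⟨y, hy⟩ := exists_orderOf_eq_of_dvd_orderOf c _ hdvd
  exact ⟨((y : ↥K) : G), by rw [Subgroup.orderOf_coe, Subgroup.orderOf_coe]; exact hy⟩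

/-- Both primes divide `|G/K|`. -/
theorem tf_exists_B1 (C₁ : Subgroup ↥K) (hC₁ : IsFrobeniusComplement C₁)
    (hker₁ : frobeniusKernel C₁ = (H.subgroupOf K : Set ↥K))
    (C₂ : Subgroup (G ⧸ H)) (hC₂ : IsFrobeniusComplement C₂)
    (hker₂ : frobeniusKernel C₂ = (K.map (QuotientGroup.mk' H) : Set (G ⧸ H))) (hHK : H ≤ K)
    (p q : ℕ) (hp : p.Prime) (hq : q.Prime) (hpq : p ≠ q)
    (hp1 : p ∣ Nat.card C₂) (hq1 : q ∣ Nat.card C₂) : ∃ g : G, orderOf g = p * q := by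
  have hGKc := tf_GK_cyclic H K C₁ hC₁ hker₁ C₂ hC₂ hker₂ hHK
  obtain ⟨y, hy⟩ := IsCyclic.exists_ofOrder_eq_natCard (α := G ⧸ K)
  obtain ⟨g, rfl⟩ := QuotientGroup.mk_surjective y
  rw [tf_card_GK H K C₂ hC₂ hker₂ hHK] at hy
  have hdvd : p * q ∣ orderOf g := by
    refine dvd_trans ?_ (orderOf_map_dvd (QuotientGroup.mk' K) g)
    rw [QuotientGroup.mk'_apply, hy]
    exact Nat.Coprime.mul_dvd_of_dvd_of_dvd ((Nat.coprime_primes hp hq).mpr hpq) hp1 hq1
  exact exists_orderOf_eq_of_dvd_orderOf g _ hdvd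

/-- Both primes divide `|H|`. -/
theorem tf_exists_B2 (C₁ : Subgroup ↥K) (hC₁ : IsFrobeniusComplement C₁)
    (hker₁ : frobeniusKernel C₁ = (H.subgroupOf K : Set ↥K)) (hHK : H ≤ K)
    (p q : ℕ) (hp : p.Prime) (hq : q.Prime) (hpq : p ≠ q)
    (hp1 : p ∣ Nat.card H) (hq1 : q ∣ Nat.card H) : ∃ g : G, orderOf g = p * q := by
  obtain ⟨_, _, hnil⟩ := frob_kernel_props C₁ (H.subgroupOf K) hC₁ hker₁.symm
  have hnilH : Group.IsNilpotent H := Group.nilpotent_of_mulEquiv (Subgroup.subgroupOfEquivOfLe hHK)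
  obtain ⟨x, hx⟩ := exists_orderOf_eq_mul_of_isNilpotent (N := H) p q hp hq hpq hp1 hq1
  exact ⟨(x : G), by rw [Subgroup.orderOf_coe]; exact hx⟩

/-- `p ∣ |H|` and `q ∣ |G/K|`: an element of order `p * q`, from the action of the Frobenius
group `N_G(C₁) ≅ G ⧸ H` on a central `p`-subgroup of `H`. -/
theorem tf_exists_B3 (C₁ : Subgroup ↥K) (hC₁ : IsFrobeniusComplement C₁)
    (hker₁ : frobeniusKernel C₁ = (H.subgroupOf K : Set ↥K))
    (C₂ : Subgroup (G ⧸ H)) (hC₂ : IsFrobeniusComplement C₂)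
    (hker₂ : frobeniusKernel C₂ = (K.map (QuotientGroup.mk' H) : Set (G ⧸ H))) (hHK : H ≤ K)
    (p q : ℕ) (hp : p.Prime) (hq : q.Prime) (hpq : p ≠ q)
    (hp1 : p ∣ Nat.card H) (hq1 : q ∣ Nat.card C₂) : ∃ g : G, orderOf g = p * q := by
  have : Fact p.Prime := ⟨hp⟩
  have : Fact q.Prime := ⟨hq⟩
  obtain ⟨_, hcomp, hnil⟩ := frob_kernel_props C₁ (H.subgroupOf K) hC₁ hker₁.symm
  obtain ⟨hn₂, hcomp₂, _⟩ := frob_kernel_props C₂ (K.map (QuotientGroup.mk' H)) hC₂ hker₂.symm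
  have hnilH : Group.IsNilpotent H :=
    Group.nilpotent_of_mulEquiv (Subgroup.subgroupOfEquivOfLe hHK)
  -- the abelian normal `p`-subgroup `V ≤ H`
  set V : Subgroup G := pCentral H p (Nat.card G) with hVdef
  have hVn : V.Normal := pCentral_normal H p _
  have hVab : IsMulCommutative V := pCentral_isMulCommutative H p _
  have hV1 : V ≠ ⊥ := pCentral_ne_bot H p hp1
  have hVH : V ≤ H := pCentral_le H p _
  have hVp : IsPGroup p V := pCentral_isPGroup H p _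
  -- the subgroup `F = N_G(C₁)`
  set C₁' : Subgroup G := C₁.map K.subtype with hC₁'
  have hmemC₁' : ∀ c : ↥K, c ∈ C₁ → (c : G) ∈ C₁' := fun c hc =>
    Subgroup.mem_map_of_mem K.subtype hc
  set F : Subgroup G := Subgroup.normalizer (C₁' : Set G) with hFdef
  have hC₁F : C₁' ≤ F := Subgroup.le_normalizer
  obtain ⟨c₀', hc₀'⟩ := Subgroup.ne_bot_iff_exists_ne_one.mp hC₁.1
  have hc₀1 : (c₀' : ↥K) ≠ 1 := fun h => hc₀' (Subtype.ext h)
  let θ : ↥F →* G ⧸ H := (QuotientGroup.mk' H).comp F.subtype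
  have hθ : ∀ f : ↥F, θ f = ((f : G) : G ⧸ H) := fun _ => rfl
  have hinj : Function.Injective θ := by
    rw [injective_iff_map_eq_one]
    intro f hf
    rw [hθ, QuotientGroup.eq_one_iff] at hf
    have h1 : (f : G) * ((c₀' : ↥K) : G) * (f : G)⁻¹ ∈ C₁' :=
      (Subgroup.mem_normalizer_iff.mp f.2 _).mp (hmemC₁' _ c₀'.2)
    obtain ⟨c', hc', hc'e⟩ := Subgroup.mem_map.mp h1
    have hc'e' : (c' : G) = (f : G) * ((c₀' : ↥K) : G) * (f : G)⁻¹ := hc'e
    have h2 : ((c' * (c₀' : ↥K)⁻¹ : ↥K) : G) ∈ H := by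
      rw [Subgroup.coe_mul, Subgroup.coe_inv, hc'e']
      have h3 : (f : G) * ((c₀' : ↥K) : G) * (f : G)⁻¹ * ((c₀' : ↥K) : G)⁻¹ =
          (f : G) * (((c₀' : ↥K) : G) * (f : G)⁻¹ * ((c₀' : ↥K) : G)⁻¹) := by group
      rw [h3]
      exact H.mul_mem hf (hHn.conj_mem _ (H.inv_mem hf) _)
    have h4 := tf_K_inter H K C₁ hC₁ hker₁ _ (C₁.mul_mem hc' (C₁.inv_mem c₀'.2)) h2
    have h5 : c' = (c₀' : ↥K) := mul_inv_eq_one.mp h4
    rw [h5] at hc'e'
    have h6 : ((c₀' : ↥K) : G) * (f : G) * ((c₀' : ↥K) : G)⁻¹ = (f : G) := by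
      have h7 : ((c₀' : ↥K) : G) * (f : G) = (f : G) * ((c₀' : ↥K) : G) := by
        nth_rewrite 1 [hc'e']; group
      rw [h7]; group
    exact Subtype.ext (tf_K_fpf H K C₁ hC₁ hker₁ hHK (c₀' : ↥K) c₀'.2 hc₀1 (f : G) hf h6)
  have hsurj : Function.Surjective θ := by
    intro y
    obtain ⟨g, rfl⟩ := QuotientGroup.mk_surjective y
    have hC₁g := Cfsg.Agent.Lib.helper75.isFrobeniusComplement_map_equiv
      (MulAut.conjNormal g : ↥K ≃* ↥K) C₁ hC₁
    obtain ⟨k, hk⟩ := Cfsg.Agent.Lib.helper1.frob_complements_conj C₁ _ hC₁ hC₁g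
    have hkgF : (k : G) * g ∈ F := by
      apply mem_normalizer_of_conj_mem_fin2
      intro n hn
      obtain ⟨c, hc, rfl⟩ := Subgroup.mem_map.mp hn
      have h1 : (MulAut.conjNormal g : ↥K ≃* ↥K) c ∈
          C₁.map (MulAut.conjNormal g : ↥K ≃* ↥K).toMonoidHom := Subgroup.mem_map_of_mem _ hc
      have h2 := Subgroup.smul_mem_pointwise_smul _ (MulAut.conj k) _ h1
      rw [hk] at h2
      have h3 := hmemC₁' _ h2
      have h4 : ((MulAut.conj k • (MulAut.conjNormal g : ↥K ≃* ↥K) c : ↥K) : G) =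
          (k : G) * g * K.subtype c * ((k : G) * g)⁻¹ := by
        rw [MulAut.smul_def, MulAut.conj_apply, Subgroup.coe_mul, Subgroup.coe_mul,
          MulAut.conjNormal_apply, Subgroup.coe_inv, Subgroup.coe_subtype]
        group
      rw [h4] at h3
      exact h3
    obtain ⟨h, hh, c, hc, hkc⟩ := tf_K_decomp H K C₁ hC₁ hker₁ ((k : G)⁻¹) (K.inv_mem k.2)
    refine ⟨⟨(c : G) * ((k : G) * g), F.mul_mem (hC₁F (hmemC₁' c hc)) hkgF⟩, ?_⟩
    rw [hθ]
    show (((c : G) * ((k : G) * g) : G) : G ⧸ H) = (g : G ⧸ H)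
    rw [QuotientGroup.eq]
    have h1 : ((c : G) * ((k : G) * g))⁻¹ * g = g⁻¹ * (h * (c : G) * (c : G)⁻¹) * g⁻¹⁻¹ := by
      rw [← hkc]; group
    rw [h1, mul_inv_cancel_right]
    exact hHn.conj_mem _ hh _
  let e : ↥F ≃* G ⧸ H := MulEquiv.ofBijective θ ⟨hinj, hsurj⟩
  have he : ∀ f : ↥F, e f = ((f : G) : G ⧸ H) := fun _ => rfl
  set D : Subgroup ↥F := C₂.map e.symm.toMonoidHom with hDdef
  have hD : IsFrobeniusComplement D :=
    Cfsg.Agent.Lib.helper75.isFrobeniusComplement_map_equiv e.symm C₂ hC₂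
  have hkerD : ∀ f : ↥F, (f : G) ∈ K → f ∈ frobeniusKernel D := by
    intro f hf
    have h1 : e f ∈ frobeniusKernel C₂ := by
      rw [hker₂, he]; exact Subgroup.mem_map_of_mem (QuotientGroup.mk' H) hf
    have h2 := frobeniusKernel_map_equiv e.symm C₂ (e f) h1
    rwa [e.symm_apply_apply] at h2
  obtain ⟨e', _⟩ := tf_exists_equiv H K C₁ hC₁ hker₁
  have hcardker : Nat.card (frobeniusKernel D) = Nat.card C₁ := by
    rw [Cfsg.Agent.Lib.helper75.frob_card_kernel D hD, hDdef, MulEquiv.toMonoidHom_eq_coe,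
      Subgroup.index_map_equiv, hcomp₂.index_eq_card, ← Nat.card_congr e'.toEquiv]
  have hpC₁ : ¬ p ∣ Nat.card C₁ := by
    intro h
    exact hp.one_lt.ne' (Nat.eq_one_of_dvd_coprimes (tf_coprime_H H K C₁ hC₁ hker₁ hHK) h hp1)
  have hcop : (Nat.card V).Coprime (Nat.card (frobeniusKernel D)) := by
    rw [hcardker]
    obtain ⟨j, hj⟩ := IsPGroup.exists_card_eq hVp
    rw [hj]
    exact Nat.Coprime.pow_left _ ((Nat.Prime.coprime_iff_not_dvd hp).mpr hpC₁)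
  have hCK : V ⊓ Subgroup.centralizer (Subtype.val '' frobeniusKernel D : Set G) = ⊥ := by
    rw [eq_bot_iff]
    rintro v ⟨hvV, hvC⟩
    have h1 : ((c₀' : ↥K) : G) ∈ (Subtype.val '' frobeniusKernel D : Set G) :=
      ⟨⟨((c₀' : ↥K) : G), hC₁F (hmemC₁' _ c₀'.2)⟩, hkerD _ (c₀' : ↥K).2, rfl⟩
    have h2 := Subgroup.mem_centralizer_iff.mp hvC _ h1
    have h3 : ((c₀' : ↥K) : G) * v * ((c₀' : ↥K) : G)⁻¹ = v := by rw [h2]; group
    exact Subgroup.mem_bot.mpr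
      (tf_K_fpf H K C₁ hC₁ hker₁ hHK (c₀' : ↥K) c₀'.2 hc₀1 v (hVH hvV) h3)
  have hFV : F ≤ Subgroup.normalizer (V : Set G) := by
    rw [Subgroup.normalizer_eq_top_iff.mpr hVn]; exact le_top
  have hres := Cfsg.Agent.S0666.result V F hVab hV1 hFV D hD hcop hCK
  obtain ⟨v', hv'1⟩ := Subgroup.ne_bot_iff_exists_ne_one.mp hres
  have hvV : (v' : G) ∈ V := v'.2.1
  have hvC := Subgroup.mem_centralizer_iff.mp v'.2.2
  have hv1 : (v' : G) ≠ 1 := fun h => hv'1 (Subtype.ext h)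
  -- an element of order `q` in `D`
  have hcardD : Nat.card D = Nat.card C₂ :=
    (Nat.card_congr (Subgroup.equivMapOfInjective C₂ e.symm.toMonoidHom e.symm.injective).toEquiv).symm
  obtain ⟨d, hd⟩ := exists_prime_orderOf_dvd_card' (G := D) q (hcardD ▸ hq1)
  have hd' : orderOf (((d : ↥F) : G)) = q := by
    rw [Subgroup.orderOf_coe, Subgroup.orderOf_coe]; exact hd
  have hdm : ((d : ↥F) : G) ∈ D.map F.subtype := Subgroup.mem_map_of_mem F.subtype d.2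
  have hcomm : Commute (v' : G) ((d : ↥F) : G) := (hvC _ hdm).symm
  -- the order of `v'` is a nontrivial power of `p`
  have hvp : (v' : G) ^ (p ^ Nat.card G) = 1 := hvV.2.1
  obtain ⟨j, _, hj⟩ := (Nat.dvd_prime_pow hp).mp (orderOf_dvd_of_pow_eq_one hvp)
  have hj0 : j ≠ 0 := by
    intro h
    rw [h, pow_zero, orderOf_eq_one_iff] at hj
    exact hv1 hj
  have hcopo : (orderOf (v' : G)).Coprime (orderOf ((d : ↥F) : G)) := by
    rw [hj, hd']
    exact Nat.Coprime.pow_left _ ((Nat.coprime_primes hp hq).mpr hpq)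
  have hord := hcomm.orderOf_mul_eq_mul_orderOf_of_coprime hcopo
  apply exists_orderOf_eq_of_dvd_orderOf ((v' : G) * ((d : ↥F) : G))
  rw [hord, hj, hd']
  exact Nat.mul_dvd_mul_right (dvd_pow_self p hj0) q

end TwoFrobenius

end Cfsg.Agent.Lib.helper70
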