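import Mathlib
import Cfsg.Agent.Lib.helper70.FrobTypeA
import Cfsg.Agent.Lib.helper70.TwoFrob
import Cfsg.Agent.Lib.helper12.FrobTools

set_option autoImplicit false

/-!
# Groups with the order type of a Frobenius group

Frobenius complements are `FCLike`, counting elements of prime order in a Frobenius group, and
recognition of Frobenius groups from order data.
-/

namespace Cfsg.Agent.Lib.helper70

open Cfsg
open scoped Pointwise

universe u

/-- The index-at-most-two property passes to subgroups. -/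
theorem CycIdx2.of_le {X : Type*} [Group X] {P R : Subgroup X} {cP : X} (h : CycIdx2 P cP)
    (hRP : R ≤ P) : ∃ c : X, CycIdx2 R c := by
  have hcyc : IsCyclic ↥(R ⊓ Subgroup.zpowers cP) :=
    isCyclic_of_injective
      (Subgroup.inclusion (inf_le_right : R ⊓ Subgroup.zpowers cP ≤ Subgroup.zpowers cP))
      (Subgroup.inclusion_injective _)
  obtain ⟨g, hg⟩ := IsCyclic.exists_generator (α := ↥(R ⊓ Subgroup.zpowers cP))
  have hD : ∀ d ∈ R ⊓ Subgroup.zpowers cP, d ∈ Subgroup.zpowers (g : X) := by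
    intro d hd
    exact (coe_mem_zpowers_iff _ ⟨d, hd⟩ g).mp (hg ⟨d, hd⟩)
  refine ⟨(g : X), (Subgroup.mem_inf.mp g.2).1, ?_⟩
  intro a ha a' ha' hac ha'c
  have h1 : a ∉ Subgroup.zpowers cP := fun h' => hac (hD a (Subgroup.mem_inf.mpr ⟨ha, h'⟩))
  have h2 : a' ∉ Subgroup.zpowers cP := fun h' => ha'c (hD a' (Subgroup.mem_inf.mpr ⟨ha', h'⟩))
  exact hD _ (Subgroup.mem_inf.mpr
    ⟨R.mul_mem (R.inv_mem ha) ha', h.2 a (hRP ha) a' (hRP ha') h1 h2⟩)

/-- In a generalized quaternion group the rotations form a subgroup of index two. -/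
theorem quaternion_cycIdx2 (m : ℕ) [NeZero m] (u v : QuaternionGroup m)
    (hu : u ∉ Subgroup.zpowers (QuaternionGroup.a 1 : QuaternionGroup m))
    (hv : v ∉ Subgroup.zpowers (QuaternionGroup.a 1 : QuaternionGroup m)) :
    u⁻¹ * v ∈ Subgroup.zpowers (QuaternionGroup.a 1 : QuaternionGroup m) := by
  have ha : ∀ i : ZMod (2 * m), (QuaternionGroup.a i : QuaternionGroup m)
      ∈ Subgroup.zpowers (QuaternionGroup.a 1 : QuaternionGroup m) := by
    intro i
    have h1 : (QuaternionGroup.a 1 : QuaternionGroup m) ^ i.val = QuaternionGroup.a i := by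
      rw [QuaternionGroup.a_one_pow, ZMod.natCast_zmod_val]
    rw [← h1]
    exact Subgroup.pow_mem _ (Subgroup.mem_zpowers _) _
  rcases u with i | i
  · exact absurd (ha i) hu
  rcases v with j | j
  · exact absurd (ha j) hv
  rcases hw : (QuaternionGroup.xa i)⁻¹ * QuaternionGroup.xa j with k | k
  · exact ha k
  · exfalso
    have h2 : QuaternionGroup.xa j = QuaternionGroup.xa i * QuaternionGroup.xa k := by
      rw [← hw]; group
    rw [QuaternionGroup.xa_mul_xa] at h2
    cases h2

/-- A Frobenius complement is `FCLike`. -/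
theorem fcLike_of_frobeniusComplement {L : Type*} [Group L] [Finite L] (H : Subgroup L)
    (hH : IsFrobeniusComplement H) : FCLike ↥H := by
  classical
  obtain ⟨N, hNset, hNn, hNnil⟩ := Cfsg.Agent.S0042.result H hH
  obtain ⟨_, hcomp, _⟩ := frob_kernel_props H N hH hNset
  refine ⟨?_, ?_, ?_⟩
  · intro p r hp hr hpr x z hx hz hmem
    have hNne : N ≠ ⊥ := by
      intro hb
      rw [hb] at hcomp
      exact hH.2.1 (Subgroup.isComplement'_bot_left.mp hcomp)
    have hcardN : Nat.card N ≠ 1 := fun h => hNne (Subgroup.eq_bot_of_card_eq N h)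
    obtain ⟨q, hq, hqN⟩ := Nat.exists_prime_and_dvd hcardN
    have : Fact q.Prime := ⟨hq⟩
    have hVne : pCentral N q (Nat.card L) ≠ ⊥ := pCentral_ne_bot N q hqN
    have hVn : (pCentral N q (Nat.card L)).Normal := pCentral_normal N q (Nat.card L)
    have hVc : IsMulCommutative ↥(pCentral N q (Nat.card L)) :=
      pCentral_isMulCommutative N q (Nat.card L)
    have hox : orderOf (x : L) = p := by rw [Subgroup.orderOf_coe]; exact hx
    have hoz : orderOf (z : L) = r := by rw [Subgroup.orderOf_coe]; exact hz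
    have hAH : Subgroup.zpowers (x : L) ⊔ Subgroup.zpowers (z : L) ≤ H :=
      sup_le (by rw [Subgroup.zpowers_le]; exact x.2) (by rw [Subgroup.zpowers_le]; exact z.2)
    have hmem' : (x : L) * z * (x : L)⁻¹ ∈ Subgroup.zpowers (z : L) := by
      have := (coe_mem_zpowers_iff H _ z).mp hmem
      simpa using this
    have hnorm : Subgroup.zpowers (x : L)
        ≤ Subgroup.normalizer (Subgroup.zpowers (z : L) : Set L) := by
      rw [Subgroup.zpowers_le]
      apply mem_normalizer_of_conj_mem_fin2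
      intro w hw
      obtain ⟨k, rfl⟩ := Subgroup.mem_zpowers_iff.mp hw
      rw [← conj_zpow]
      exact Subgroup.zpow_mem _ hmem' k
    have hcardle : Nat.card ↥(Subgroup.zpowers (x : L) ⊔ Subgroup.zpowers (z : L)) ≤ p * r := by
      have h := Subgroup.coe_mul_of_left_le_normalizer_right _ _ hnorm
      have h2 : Nat.card ↥(Subgroup.zpowers (x : L) ⊔ Subgroup.zpowers (z : L))
          = Nat.card ((Subgroup.zpowers (x : L) : Set L) * (Subgroup.zpowers (z : L) : Set L) : Set L) := by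
        rw [← h]; rfl
      have h3 : Nat.card ((Subgroup.zpowers (x : L) : Set L) * (Subgroup.zpowers (z : L) : Set L) : Set L)
          ≤ Nat.card (Subgroup.zpowers (x : L)) * Nat.card (Subgroup.zpowers (z : L)) :=
        Set.natCard_mul_le
      rw [Nat.card_zpowers, Nat.card_zpowers, hox, hoz] at h3
      rw [h2]; exact h3
    have hpA : p ∣ Nat.card ↥(Subgroup.zpowers (x : L) ⊔ Subgroup.zpowers (z : L)) := by
      have := Subgroup.card_dvd_of_le
        (le_sup_left : Subgroup.zpowers (x : L) ≤ Subgroup.zpowers (x : L) ⊔ Subgroup.zpowers (z : L))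
      rwa [Nat.card_zpowers, hox] at this
    have hrA : r ∣ Nat.card ↥(Subgroup.zpowers (x : L) ⊔ Subgroup.zpowers (z : L)) := by
      have := Subgroup.card_dvd_of_le
        (le_sup_right : Subgroup.zpowers (z : L) ≤ Subgroup.zpowers (x : L) ⊔ Subgroup.zpowers (z : L))
      rwa [Nat.card_zpowers, hoz] at this
    have hcardA : Nat.card ↥(Subgroup.zpowers (x : L) ⊔ Subgroup.zpowers (z : L)) = p * r :=
      le_antisymm hcardle (Nat.le_of_dvd Nat.card_pos
        (Nat.Coprime.mul_dvd_of_dvd_of_dvd ((Nat.coprime_primes hp hr).mpr hpr) hpA hrA))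
    have hfpf : ∀ a ∈ Subgroup.zpowers (x : L) ⊔ Subgroup.zpowers (z : L), a ≠ 1 →
        pCentral N q (Nat.card L) ⊓ Subgroup.centralizer {a} = ⊥ := by
      intro a ha ha1
      rw [eq_bot_iff]
      intro v hv
      obtain ⟨hvV, hvc⟩ := Subgroup.mem_inf.mp hv
      rw [Subgroup.mem_centralizer_singleton_iff] at hvc
      rw [Subgroup.mem_bot]
      apply Cfsg.Agent.Lib.helper75.frob_fpf H hH N hcomp a (hAH ha) ha1 v
        (pCentral_le N q _ hvV)
      rw [← hvc, mul_inv_cancel_right]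
    have hcyc : IsCyclic ↥(Subgroup.zpowers (x : L) ⊔ Subgroup.zpowers (z : L)) :=
      Cfsg.Agent.S0041.result _ (pCentral N q (Nat.card L)) hVne
        (fun a _ => by rw [Subgroup.normalizer_eq_top_iff.mpr hVn]; trivial) hfpf
        (Or.inr ⟨p, r, hp, hr, hcardA⟩)
    have hcomm : IsMulCommutative ↥(Subgroup.zpowers (x : L) ⊔ Subgroup.zpowers (z : L)) :=
      IsCyclic.isMulCommutative
    have hxz := hcomm.is_comm.comm
      (⟨(x : L), Subgroup.mem_sup_left (Subgroup.mem_zpowers _)⟩ :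
        ↥(Subgroup.zpowers (x : L) ⊔ Subgroup.zpowers (z : L)))
      ⟨(z : L), Subgroup.mem_sup_right (Subgroup.mem_zpowers _)⟩
    have hxz' : (x : L) * z = z * x := congrArg Subtype.val hxz
    exact Subtype.ext (by simpa using hxz')
  · intro r hr R hR
    have : Fact r.Prime := ⟨hr⟩
    obtain ⟨P, hRP⟩ := hR.exists_le_sylow
    have hP : ∃ cP : ↥H, CycIdx2 (P : Subgroup ↥H) cP := by
      rcases Cfsg.Agent.Lib.helper75.frob_sylow_cyclic_or_quat H hH r P with hcyc | ⟨h2, n, ⟨e⟩⟩
      · obtain ⟨g, hg⟩ := IsCyclic.exists_generator (α := ↥(P : Subgroup ↥H))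
        refine ⟨(g : ↥H), g.2, ?_⟩
        intro a ha _ _ hac _
        exact absurd ((coe_mem_zpowers_iff _ ⟨a, ha⟩ g).mp (hg ⟨a, ha⟩)) hac
      · have hne : NeZero (2 ^ n) := ⟨by positivity⟩
        refine ⟨((e.symm (QuaternionGroup.a 1) : ↥(P : Subgroup ↥H)) : ↥H), (e.symm _).2, ?_⟩
        intro a ha a' ha' hac ha'c
        have key : ∀ w : ↥(P : Subgroup ↥H),
            (w : ↥H) ∈ Subgroup.zpowers ((e.symm (QuaternionGroup.a 1) : ↥(P : Subgroup ↥H)) : ↥H)
              ↔ e w ∈ Subgroup.zpowers (QuaternionGroup.a 1 : QuaternionGroup (2 ^ n)) := by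
          intro w
          rw [← coe_mem_zpowers_iff, Subgroup.mem_zpowers_iff, Subgroup.mem_zpowers_iff]
          constructor
          · rintro ⟨k, hk⟩
            exact ⟨k, by rw [← hk, map_zpow, MulEquiv.apply_symm_apply]⟩
          · rintro ⟨k, hk⟩
            exact ⟨k, by apply e.injective; rw [map_zpow, MulEquiv.apply_symm_apply, hk]⟩
        have h1 := quaternion_cycIdx2 (2 ^ n) (e ⟨a, ha⟩) (e ⟨a', ha'⟩)
          (fun h => hac ((key ⟨a, ha⟩).mpr h)) (fun h => ha'c ((key ⟨a', ha'⟩).mpr h))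
        have h2 : (e ⟨a, ha⟩)⁻¹ * e ⟨a', ha'⟩
            = e ((⟨a, ha⟩ : ↥(P : Subgroup ↥H))⁻¹ * ⟨a', ha'⟩) := by
          rw [map_mul, map_inv]
        rw [h2] at h1
        exact (key _).mpr h1
    obtain ⟨cP, hcP⟩ := hP
    exact hcP.of_le hRP
  · intro p hp x y hxy hxp hyp hx1
    have : Fact p.Prime := ⟨hp⟩
    rw [coe_mem_zpowers_iff]
    refine Cfsg.Agent.Lib.helper75.frob_no_rank_two H hH p (x : L) (y : L) x.2 y.2 ?_ ?_ ?_ ?_
    · have := congrArg Subtype.val hxy
      simpa using this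
    · have := congrArg Subtype.val hxp
      simpa using this
    · have := congrArg Subtype.val hyp
      simpa using this
    · intro h
      exact hx1 (Subtype.ext (by simpa using h))

/-- In a Frobenius group with kernel `N`, the elements of prime order `p ∤ |N|` are the
`N`-conjugates of those of the complement: upper bound. -/
theorem frob_card_orderOf_le {L : Type*} [Group L] [Finite L] (C N : Subgroup L)
    (hN : frobeniusKernel C = (N : Set L))
    (hcomp : Subgroup.IsComplement' N C) (p : ℕ) (hpN : ¬ p ∣ Nat.card N) :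
    Nat.card {f : L // orderOf f = p} ≤ Nat.card N * Nat.card {c : ↥C // orderOf c = p} := by
  rw [← Nat.card_prod]
  apply Nat.card_le_card_of_surjective
    (fun kc : ↥N × {c : ↥C // orderOf c = p} =>
      (⟨(kc.1 : L) * (kc.2.1 : L) * (kc.1 : L)⁻¹, by
        rw [orderOf_conj_eq, Subgroup.orderOf_coe]; exact kc.2.2⟩ : {f : L // orderOf f = p}))
  rintro ⟨f, hf⟩
  have hfN : f ∉ N := fun h => hpN (hf ▸ Subgroup.orderOf_dvd_natCard N h)
  have hfk : f ∉ frobeniusKernel C := by rw [hN]; exact hfN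
  have hex : ∃ g : L, f ∈ MulAut.conj g • C := by
    by_contra hne
    push Not at hne
    exact hfk (Or.inr hne)
  obtain ⟨g, hg⟩ := hex
  rw [Subgroup.mem_pointwise_smul_iff_inv_smul_mem] at hg
  have hc : g⁻¹ * f * g ∈ C := by simpa [MulAut.smul_def] using hg
  obtain ⟨⟨k, c₀⟩, hkc⟩ := hcomp.2 g
  have hkc' : (k : L) * (c₀ : L) = g := hkc
  have hkN : (k : L) ∈ N := k.2
  have hc₀C : (c₀ : L) ∈ C := c₀.2
  have hcC : (c₀ : L) * (g⁻¹ * f * g) * (c₀ : L)⁻¹ ∈ C :=
    C.mul_mem (C.mul_mem hc₀C hc) (C.inv_mem hc₀C)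
  have hord : orderOf (⟨(c₀ : L) * (g⁻¹ * f * g) * (c₀ : L)⁻¹, hcC⟩ : ↥C) = p := by
    rw [← Subgroup.orderOf_coe]
    show orderOf ((c₀ : L) * (g⁻¹ * f * g) * (c₀ : L)⁻¹) = p
    rw [orderOf_conj_eq]
    have h1 : g⁻¹ * f * g = g⁻¹ * f * g⁻¹⁻¹ := by rw [inv_inv]
    rw [h1, orderOf_conj_eq]; exact hf
  refine ⟨(⟨(k : L), hkN⟩, ⟨⟨(c₀ : L) * (g⁻¹ * f * g) * (c₀ : L)⁻¹, hcC⟩, hord⟩), ?_⟩
  apply Subtype.ext
  show (k : L) * ((c₀ : L) * (g⁻¹ * f * g) * (c₀ : L)⁻¹) * (k : L)⁻¹ = f
  rw [← hkc']; group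

/-- Lower bound for the number of elements of order `p` in a Frobenius group. -/
theorem frob_card_orderOf_ge {L : Type*} [Group L] [Finite L] (C N : Subgroup L)
    (hC : IsFrobeniusComplement C) (hcomp : Subgroup.IsComplement' N C) (p : ℕ) (hp1 : p ≠ 1) :
    Nat.card N * Nat.card {c : ↥C // orderOf c = p} ≤ Nat.card {f : L // orderOf f = p} := by
  rw [← Nat.card_prod]
  apply Nat.card_le_card_of_injective
    (fun kc : ↥N × {c : ↥C // orderOf c = p} =>
      (⟨(kc.1 : L) * (kc.2.1 : L) * (kc.1 : L)⁻¹, by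
        rw [orderOf_conj_eq, Subgroup.orderOf_coe]; exact kc.2.2⟩ : {f : L // orderOf f = p}))
  rintro ⟨k, ⟨c, hc⟩⟩ ⟨k', ⟨c', hc'⟩⟩ heq
  have heq' : (k : L) * c * (k : L)⁻¹ = k' * c' * (k' : L)⁻¹ := congrArg Subtype.val heq
  have hc1 : (c : L) ≠ 1 := by
    intro h
    have h1 : c = 1 := Subtype.ext h
    rw [h1, orderOf_one] at hc
    exact hp1 hc.symm
  have hC' := (Cfsg.Agent.Lib.helper75.isFrobeniusComplement_iff C).mp hC
  have hgC : (k' : L)⁻¹ * k ∈ C := by
    by_contra hg
    apply hc1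
    apply hC'.2.2 _ hg (c : L) c.2
    have h1 : (k' : L)⁻¹ * k * c * ((k' : L)⁻¹ * k)⁻¹ = (k' : L)⁻¹ * ((k : L) * c * (k : L)⁻¹) * k' := by
      group
    rw [h1, heq']
    have h2 : (k' : L)⁻¹ * ((k' : L) * c' * (k' : L)⁻¹) * k' = c' := by group
    rw [h2]; exact c'.2
  have hg1 : (k' : L)⁻¹ * k = 1 := by
    have h1 : (k' : L)⁻¹ * k ∈ N ⊓ C :=
      Subgroup.mem_inf.mpr ⟨N.mul_mem (N.inv_mem k'.2) k.2, hgC⟩
    rw [hcomp.disjoint.eq_bot] at h1
    exact Subgroup.mem_bot.mp h1
  have hkk : (k : L) = k' := by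
    rw [inv_mul_eq_one] at hg1; exact hg1.symm
  have hcc : (c : L) = c' := by
    rw [hkk] at heq'
    exact mul_left_cancel (mul_right_cancel heq')
  exact Prod.ext (Subtype.ext hkk) (Subtype.ext (Subtype.ext hcc))

/-- A Frobenius group is solvable iff its complement is. -/
theorem frob_isSolvable_iff {L : Type*} [Group L] [Finite L] (C N : Subgroup L)
    (hC : IsFrobeniusComplement C) (hN : frobeniusKernel C = (N : Set L)) :
    Group.IsSolvable L ↔ Group.IsSolvable ↥C := by
  obtain ⟨hNn, hcomp, hnil⟩ := frob_kernel_props C N hC hN.symm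
  constructor
  · intro h
    infer_instance
  · intro h
    have hsurj : Function.Surjective ((QuotientGroup.mk' N).comp C.subtype) := by
      intro y
      obtain ⟨g, rfl⟩ := QuotientGroup.mk'_surjective N y
      obtain ⟨⟨k, c⟩, hkc⟩ := hcomp.2 g
      have hkc' : (k : L) * (c : L) = g := hkc
      refine ⟨⟨(c : L), c.2⟩, ?_⟩
      show (QuotientGroup.mk' N) (c : L) = (QuotientGroup.mk' N) g
      rw [← hkc', map_mul]
      have h1 : (QuotientGroup.mk' N) (k : L) = 1 := by
        rw [QuotientGroup.mk'_apply, QuotientGroup.eq_one_iff]; exact k.2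
      rw [h1, one_mul]
    have hq : Group.IsSolvable (L ⧸ N) := Group.isSolvable_of_surjective hsurj
    exact Group.isSolvable_of_ker_le_range N.subtype (QuotientGroup.mk' N)
      (by rw [QuotientGroup.ker_mk', Subgroup.range_subtype])

/-- The number of elements of order `p` in a group with unique subgroups of order `p`. -/
theorem UniqP.card_le {X : Type*} [Group X] [Finite X] (h : UniqP X) (p : ℕ) (hp : p.Prime)
    (hp5 : 5 ≤ p) : Nat.card {c : X // orderOf c = p} ≤ p - 1 := by
  by_cases hex : ∃ x₀ : X, orderOf x₀ = p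
  · obtain ⟨x₀, hx₀⟩ := hex
    have hsub : {c : X | orderOf c = p} ⊆ (Subgroup.zpowers x₀ : Set X) \ {1} := by
      intro c hc
      refine ⟨h p hp hp5 x₀ c hx₀ hc, ?_⟩
      intro hc1
      rw [Set.mem_singleton_iff] at hc1
      rw [Set.mem_ofPred_eq, hc1, orderOf_one] at hc
      exact hp.one_lt.ne hc
    have h1 : Nat.card {c : X // orderOf c = p} = ({c : X | orderOf c = p} : Set X).ncard := rfl
    rw [h1]
    have h2 := Set.ncard_le_ncard hsub (Set.toFinite _)
    have h3 : ((Subgroup.zpowers x₀ : Set X) \ {1}).ncard = p - 1 := by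
      rw [Set.ncard_sdiff_singleton_of_mem (Subgroup.one_mem _)]
      have h4 : (Subgroup.zpowers x₀ : Set X).ncard = Nat.card ↥(Subgroup.zpowers x₀) := rfl
      rw [h4, Nat.card_zpowers, hx₀]
    rw [h3] at h2
    exact h2
  · push Not at hex
    have : IsEmpty {c : X // orderOf c = p} := ⟨fun c => hex c.1 c.2⟩
    rw [Nat.card_of_isEmpty]
    exact Nat.zero_le _

/-- Conversely, few elements of order `p` force uniqueness of the subgroup of order `p`. -/
theorem uniqP_of_card_le {X : Type*} [Group X] [Finite X]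
    (h : ∀ p : ℕ, p.Prime → 5 ≤ p → Nat.card {c : X // orderOf c = p} ≤ p - 1) : UniqP X := by
  intro p hp hp5 x y hx hy
  have : Fact p.Prime := ⟨hp⟩
  have hsub : (Subgroup.zpowers x : Set X) \ {1} ⊆ {c : X | orderOf c = p} := by
    rintro c ⟨hc, hc1⟩
    obtain ⟨k, rfl⟩ := Subgroup.mem_zpowers_iff.mp hc
    have hcp : (x ^ k) ^ p = 1 := by
      rw [← zpow_natCast, ← zpow_mul, mul_comm, zpow_mul, zpow_natCast, ← hx, pow_orderOf_eq_one,
        one_zpow]
    exact orderOf_eq_prime hcp (by simpa using hc1)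
  have h3 : ((Subgroup.zpowers x : Set X) \ {1}).ncard = p - 1 := by
    rw [Set.ncard_sdiff_singleton_of_mem (Subgroup.one_mem _)]
    have h4 : (Subgroup.zpowers x : Set X).ncard = Nat.card ↥(Subgroup.zpowers x) := rfl
    rw [h4, Nat.card_zpowers, hx]
  have h1 : ({c : X | orderOf c = p} : Set X).ncard ≤ p - 1 := h p hp hp5
  have heq := Set.eq_of_subset_of_ncard_le hsub (by rw [h3]; exact h1) (Set.toFinite _)
  have hy' : y ∈ ({c : X | orderOf c = p} : Set X) := hy
  rw [← heq] at hy'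
  exact hy'.1

/-- Transfer of solvability between complements of Frobenius groups with kernels of the same
order and the same numbers of elements of each prime order. -/
theorem frob_complement_isSolvable_transfer {L₁ : Type*} {L₂ : Type*} [Group L₁] [Finite L₁]
    [Group L₂] [Finite L₂] (C₁ N₁ : Subgroup L₁) (C₂ N₂ : Subgroup L₂)
    (hC₁ : IsFrobeniusComplement C₁) (hN₁ : frobeniusKernel C₁ = (N₁ : Set L₁))
    (hC₂ : IsFrobeniusComplement C₂) (hN₂ : frobeniusKernel C₂ = (N₂ : Set L₂))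
    (hcardN : Nat.card N₁ = Nat.card N₂) (hcardC : Nat.card C₁ = Nat.card C₂)
    (hT : ∀ p : ℕ, Nat.card {f : L₁ // orderOf f = p} = Nat.card {g : L₂ // orderOf g = p})
    (hsol : Group.IsSolvable ↥C₁) : Group.IsSolvable ↥C₂ := by
  obtain ⟨_, hcomp₁, _⟩ := frob_kernel_props C₁ N₁ hC₁ hN₁.symm
  obtain ⟨_, hcomp₂, _⟩ := frob_kernel_props C₂ N₂ hC₂ hN₂.symm
  have hF₁ := fcLike_of_frobeniusComplement C₁ hC₁
  have hF₂ := fcLike_of_frobeniusComplement C₂ hC₂
  have hU₁ : UniqP ↥C₁ := uniqP_of_isSolvable hF₁ hsol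
  apply isSolvable_of_uniqP hF₂
  apply uniqP_of_card_le
  intro p hp hp5
  by_cases hpC : p ∣ Nat.card C₂
  · -- `p` does not divide the order of the kernels
    have hcop : (Nat.card C₁).Coprime (Nat.card N₁) := by
      have h1 := Cfsg.Agent.Lib.helper75.frob_coprime_card_index C₁ hC₁
      have h2 : Nat.card N₁ * Nat.card C₁ = Nat.card L₁ := hcomp₁.card_mul_card
      have h3 : Nat.card C₁ * C₁.index = Nat.card L₁ := Subgroup.card_mul_index C₁
      have h4 : C₁.index = Nat.card N₁ := by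
        have h5 : Nat.card C₁ * C₁.index = Nat.card C₁ * Nat.card N₁ := by
          rw [h3, ← h2, mul_comm]
        exact Nat.eq_of_mul_eq_mul_left Nat.card_pos h5
      rwa [h4] at h1
    have hpN₁ : ¬ p ∣ Nat.card N₁ := by
      intro hpN
      have h1 : p ∣ Nat.gcd (Nat.card C₁) (Nat.card N₁) := Nat.dvd_gcd (hcardC ▸ hpC) hpN
      rw [hcop] at h1
      exact hp.one_lt.ne' (Nat.dvd_one.mp h1)
    have h1 := frob_card_orderOf_ge C₂ N₂ hC₂ hcomp₂ p hp.one_lt.ne'
    have h2 := frob_card_orderOf_le C₁ N₁ hN₁ hcomp₁ p hpN₁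
    have h3 := hU₁.card_le p hp hp5
    rw [← hT p, ← hcardN] at h1
    have h4 : Nat.card N₁ * Nat.card {c : ↥C₂ // orderOf c = p} ≤ Nat.card N₁ * (p - 1) :=
      le_trans h1 (le_trans h2 (Nat.mul_le_mul_left _ h3))
    exact Nat.le_of_mul_le_mul_left h4 Nat.card_pos
  · have : IsEmpty {c : ↥C₂ // orderOf c = p} :=
      ⟨fun c => hpC (c.2 ▸ orderOf_dvd_natCard c.1)⟩
    rw [Nat.card_of_isEmpty]
    exact Nat.zero_le _


/-- The order of a join with a normal subgroup divides the product of the orders. -/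
theorem card_sup_dvd_mul {G : Type*} [Group G] [Finite G] (H K : Subgroup G) [K.Normal] :
    Nat.card ↥(H ⊔ K) ∣ Nat.card H * Nat.card K := by
  have h1 : (⊥ : Subgroup G).relIndex K * K.relIndex (H ⊔ K) = (⊥ : Subgroup G).relIndex (H ⊔ K) :=
    Subgroup.relIndex_mul_relIndex ⊥ K (H ⊔ K) bot_le le_sup_right
  rw [Subgroup.relIndex_bot_left, Subgroup.relIndex_bot_left, Subgroup.relIndex_sup_right] at h1
  have h2 : K.relIndex H ∣ Nat.card H := Subgroup.relIndex_dvd_card K H
  rw [← h1, mul_comm (Nat.card H)]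
  exact Nat.mul_dvd_mul_left _ h2

/-- A finite join of normal subgroups is normal of order dividing the product of the orders. -/
theorem finset_sup_normal_card {G : Type*} [Group G] [Finite G] (T : ℕ → Subgroup G)
    (s : Finset ℕ) (hT : ∀ p ∈ s, (T p).Normal) :
    (s.sup T).Normal ∧ Nat.card ↥(s.sup T) ∣ ∏ p ∈ s, Nat.card ↥(T p) := by
  classical
  induction s using Finset.induction_on with
  | empty =>
    rw [Finset.sup_empty, Finset.prod_empty, Subgroup.card_bot]
    exact ⟨inferInstance, dvd_refl 1⟩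
  | insert a s ha ih =>
    obtain ⟨hn, hd⟩ := ih (fun p hp => hT p (Finset.mem_insert_of_mem hp))
    have hTa : (T a).Normal := hT a (Finset.mem_insert_self a s)
    rw [Finset.sup_insert, Finset.prod_insert ha]
    exact ⟨inferInstance, dvd_trans (card_sup_dvd_mul (T a) (s.sup T)) (Nat.mul_dvd_mul_left _ hd)⟩

/-- Recognition of Frobenius groups from order data: if `|G| = n * h` with `n`, `h` coprime,
every element has order dividing `n` or `h`, and for each prime `p ∣ n` there are at most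
`|G|_p` elements of `p`-power order, then `G` is a Frobenius group with kernel of order `n`. -/
theorem frobenius_of_order_data {G : Type*} [Group G] [Finite G] (n h : ℕ)
    (hcard : Nat.card G = n * h) (hcop : Nat.Coprime n h) (hn1 : 1 < n) (hh1 : 1 < h)
    (hdich : ∀ g : G, orderOf g ∣ n ∨ orderOf g ∣ h)
    (hcount : ∀ p : ℕ, p.Prime → p ∣ n →
      Nat.card {g : G // ∃ k : ℕ, orderOf g = p ^ k} ≤ p ^ n.factorization p) :
    ∃ N C : Subgroup G, N.Normal ∧ Nat.card N = n ∧ Nat.card C = h ∧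
      Subgroup.IsComplement' N C ∧ IsFrobeniusComplement C ∧ frobeniusKernel C = (N : Set G) := by
  classical
  have hn0 : n ≠ 0 := by omega
  have hh0 : h ≠ 0 := by omega
  have hcardT : ∀ p : ℕ, p.Prime → p ∣ n → ∀ P : Sylow p G,
      Nat.card ↥(P : Subgroup G) = p ^ n.factorization p := by
    intro p hp hpn P
    have : Fact p.Prime := ⟨hp⟩
    have hph : ¬ p ∣ h := by
      intro hph
      have h2 : p ∣ Nat.gcd n h := Nat.dvd_gcd hpn hph
      rw [hcop] at h2
      exact hp.one_lt.ne' (Nat.dvd_one.mp h2)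
    rw [Sylow.card_eq_multiplicity, hcard, Nat.factorization_mul hn0 hh0]
    simp [Nat.factorization_eq_zero_of_not_dvd hph]
  have hTset : ∀ p : ℕ, p.Prime → p ∣ n → ∀ P : Sylow p G,
      ((P : Subgroup G) : Set G) = {g : G | ∃ k : ℕ, orderOf g = p ^ k} := by
    intro p hp hpn P
    apply Set.eq_of_subset_of_ncard_le
    · intro g hg
      obtain ⟨k, hk⟩ := P.2 ⟨g, hg⟩
      have hk' : g ^ (p ^ k) = 1 := by simpa using congrArg Subtype.val hk
      obtain ⟨j, -, hj⟩ := (Nat.dvd_prime_pow hp).1 (orderOf_dvd_of_pow_eq_one hk')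
      exact ⟨j, hj⟩
    · have h1 : (((P : Subgroup G) : Set G)).ncard = Nat.card ↥(P : Subgroup G) := rfl
      rw [h1, hcardT p hp hpn P]
      exact hcount p hp hpn
    · exact Set.toFinite _
  have hTn : ∀ p ∈ n.primeFactors,
      (((Classical.arbitrary (Sylow p G) : Sylow p G) : Subgroup G)).Normal := by
    intro p hp
    have hpp := Nat.prime_of_mem_primeFactors hp
    have hpn := Nat.dvd_of_mem_primeFactors hp
    refine ⟨fun x hx g => ?_⟩
    have hx' : x ∈ (((Classical.arbitrary (Sylow p G) : Sylow p G) : Subgroup G) : Set G) := hx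
    rw [hTset p hpp hpn] at hx'
    obtain ⟨k, hk⟩ := hx'
    have h1 : g * x * g⁻¹ ∈ (((Classical.arbitrary (Sylow p G) : Sylow p G) : Subgroup G) : Set G) := by
      rw [hTset p hpp hpn]; exact ⟨k, by rw [orderOf_conj_eq]; exact hk⟩
    exact h1
  obtain ⟨hNn, hNd⟩ := finset_sup_normal_card
    (fun p => ((Classical.arbitrary (Sylow p G) : Sylow p G) : Subgroup G)) n.primeFactors hTn
  have hNdvd : Nat.card ↥(n.primeFactors.sup
      (fun p => ((Classical.arbitrary (Sylow p G) : Sylow p G) : Subgroup G))) ∣ n := by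
    have h1 : ∏ p ∈ n.primeFactors,
        Nat.card ↥((Classical.arbitrary (Sylow p G) : Sylow p G) : Subgroup G) = n := by
      rw [Finset.prod_congr rfl (fun p hp => hcardT p (Nat.prime_of_mem_primeFactors hp)
        (Nat.dvd_of_mem_primeFactors hp) _)]
      exact (Nat.prod_primeFactors_pow_factorization hn0).symm
    exact dvd_trans hNd (dvd_of_eq h1)
  have hnN : n ∣ Nat.card ↥(n.primeFactors.sup
      (fun p => ((Classical.arbitrary (Sylow p G) : Sylow p G) : Subgroup G))) := by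
    rw [← Nat.factorization_prime_le_iff_dvd hn0 Nat.card_pos.ne']
    intro p hp
    by_cases hpn : p ∣ n
    · have hmem : p ∈ n.primeFactors := Nat.mem_primeFactors.mpr ⟨hp, hpn, hn0⟩
      have h1 := Subgroup.card_dvd_of_le (Finset.le_sup (f := fun p =>
        ((Classical.arbitrary (Sylow p G) : Sylow p G) : Subgroup G)) hmem)
      rw [hcardT p hp hpn] at h1
      exact (hp.pow_dvd_iff_le_factorization Nat.card_pos.ne').mp h1
    · rw [Nat.factorization_eq_zero_of_not_dvd hpn]; exact Nat.zero_le _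
  generalize n.primeFactors.sup
      (fun p => ((Classical.arbitrary (Sylow p G) : Sylow p G) : Subgroup G)) = N at hNn hNdvd hnN
  have hcardN : Nat.card N = n := Nat.dvd_antisymm hNdvd hnN
  have hidx : N.index = h := by
    have h1 := Subgroup.card_mul_index N
    rw [hcardN, hcard] at h1
    exact Nat.eq_of_mul_eq_mul_left (by omega) h1
  obtain ⟨C, hC⟩ := Subgroup.exists_right_complement'_of_coprime (N := N)
    (by rw [hcardN, hidx]; exact hcop)
  have hcardC : Nat.card C = h := by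
    have h1 := hC.card_mul_card
    rw [hcardN, hcard] at h1
    exact Nat.eq_of_mul_eq_mul_left (by omega) h1
  have hNne : N ≠ ⊥ := by
    intro hb; rw [hb, Subgroup.card_bot] at hcardN; omega
  have hCne : C ≠ ⊥ := by
    intro hb; rw [hb, Subgroup.card_bot] at hcardC; omega
  have hfpf : ∀ c ∈ C, c ≠ 1 → ∀ x ∈ N, c * x = x * c → x = 1 := by
    intro c hc hc1 x hx hcx
    by_contra hx1
    have hox : orderOf x ≠ 1 := fun h => hx1 (orderOf_eq_one_iff.mp h)
    obtain ⟨p, hp, hpx⟩ := Nat.exists_prime_and_dvd hox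
    have hoxp : orderOf (x ^ (orderOf x / p)) = p :=
      orderOf_pow_orderOf_div (orderOf_pos x).ne' hpx
    have hpn : p ∣ n := hcardN ▸ dvd_trans hpx (Subgroup.orderOf_dvd_natCard N hx)
    have hoc : orderOf c ∣ h := hcardC ▸ Subgroup.orderOf_dvd_natCard C hc
    have hcomm : Commute c (x ^ (orderOf x / p)) := Commute.pow_right hcx _
    have hcop' : Nat.Coprime (orderOf c) (orderOf (x ^ (orderOf x / p))) := by
      rw [hoxp]
      exact Nat.Coprime.coprime_dvd_left hoc (Nat.Coprime.coprime_dvd_right hpn hcop.symm)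
    have hmul := hcomm.orderOf_mul_eq_mul_orderOf_of_coprime hcop'
    rw [hoxp] at hmul
    have hoc1 : orderOf c ≠ 1 := fun h => hc1 (orderOf_eq_one_iff.mp h)
    rcases hdich (c * x ^ (orderOf x / p)) with hd | hd
    · rw [hmul] at hd
      have h1 : orderOf c ∣ n := dvd_trans (dvd_mul_right _ _) hd
      have h2 : orderOf c ∣ Nat.gcd n h := Nat.dvd_gcd h1 hoc
      rw [hcop] at h2
      exact hoc1 (Nat.dvd_one.mp h2)
    · rw [hmul] at hd
      have h1 : p ∣ h := dvd_trans (dvd_mul_left _ _) hd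
      have h2 : p ∣ Nat.gcd n h := Nat.dvd_gcd hpn h1
      rw [hcop] at h2
      exact hp.one_lt.ne' (Nat.dvd_one.mp h2)
  obtain ⟨hFC, hker⟩ := Cfsg.Agent.Lib.helper12.frob_of_fpf_complement N C hC hNne hCne hfpf
  exact ⟨N, C, hNn, hcardN, hcardC, hC, hFC, hker⟩


end Cfsg.Agent.Lib.helper70
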