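import Mathlib

set_option autoImplicit false

namespace Cfsg.Agent.Lib.helper3.Gf

universe u

/-- HFB (M/L), race copy by helper70 (prefixed name; statement verbatim from `tools/S4395_HSkel.lean.txt`):
`lam` generates the field, so `lam`-stable additive subgroups are trivial. -/
theorem h70_hfb (p q : ℕ) [Fact p.Prime] [Fact q.Prime] (hpq : p ≠ q) (L : Type u) [Field L] [Finite L] [CharP L p]
    (hcard : Nat.card L = p ^ orderOf (p : ZMod q)) (lam : L) (hq : lam ^ q = 1) (hne : lam ≠ 1) :
    ∀ W : AddSubgroup L, (∀ w ∈ W, lam * w ∈ W) → W = ⊥ ∨ W = ⊤ := by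
  classical
  intro W hW
  haveI : Fintype L := Fintype.ofFinite L
  letI : Algebra (ZMod p) L := ZMod.algebra L p
  have hp : p.Prime := Fact.out
  have hq' : q.Prime := Fact.out
  let F : IntermediateField (ZMod p) L := IntermediateField.adjoin (ZMod p) {lam}
  have hlamF : lam ∈ F := IntermediateField.mem_adjoin_simple_self (ZMod p) lam
  -- stability of `W` under `F`
  have hstab : ∀ c ∈ F, ∀ w ∈ W, c * w ∈ W := by
    intro c hc
    refine IntermediateField.adjoin_induction (F := ZMod p) (s := ({lam} : Set L))
      (p := fun c _ => ∀ w ∈ W, c * w ∈ W) ?_ ?_ ?_ ?_ ?_ hc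
    · intro x hx
      rw [Set.mem_singleton_iff] at hx
      subst hx
      exact hW
    · intro x w hw
      have hx : algebraMap (ZMod p) L x = ((x.val : ℕ) : L) := by
        conv_lhs => rw [← ZMod.natCast_zmod_val x]
        exact map_natCast _ _
      rw [hx, ← nsmul_eq_mul]
      exact W.nsmul_mem hw _
    · intro x y _ _ ihx ihy w hw
      rw [add_mul]
      exact W.add_mem (ihx w hw) (ihy w hw)
    · intro x _ ih w hw
      by_cases hx0 : x = 0
      · rw [hx0, inv_zero, zero_mul]
        exact W.zero_mem
      · have hinj : Function.Injective (fun w : W => (⟨x * w.1, ih w.1 w.2⟩ : W)) := by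
          intro u v huv
          have h1 : x * u.1 = x * v.1 := congrArg Subtype.val huv
          exact Subtype.ext (mul_left_cancel₀ hx0 h1)
        have hsurj := Finite.injective_iff_surjective.mp hinj
        obtain ⟨v, hv⟩ := hsurj ⟨w, hw⟩
        have hv' : x * v.1 = w := congrArg Subtype.val hv
        rw [← hv', ← mul_assoc, inv_mul_cancel₀ hx0, one_mul]
        exact v.2
    · intro x y _ _ ihx ihy w hw
      rw [mul_assoc]
      exact ihx _ (ihy w hw)
  -- `F = ⊤`
  have hFtop : F = ⊤ := by
    have hcardL : Fintype.card L = p ^ orderOf (p : ZMod q) := by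
      rw [← Nat.card_eq_fintype_card]
      exact hcard
    have hcL := Module.card_eq_pow_finrank (K := ZMod p) (V := L)
    rw [ZMod.card, hcardL] at hcL
    have haL : orderOf (p : ZMod q) = Module.finrank (ZMod p) L :=
      Nat.pow_right_injective hp.two_le hcL
    haveI : Fintype F := Fintype.ofFinite F
    have hcF := Module.card_eq_pow_finrank (K := ZMod p) (V := F)
    rw [ZMod.card] at hcF
    have htower : Module.finrank (ZMod p) F * Module.finrank F L = Module.finrank (ZMod p) L :=
      Module.finrank_mul_finrank (ZMod p) F L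
    have hlam0 : (⟨lam, hlamF⟩ : F) ≠ 0 := by
      intro h
      have h0 : lam = 0 := congrArg Subtype.val h
      rw [h0, zero_pow hq'.ne_zero] at hq
      exact zero_ne_one hq
    have hpow := FiniteField.pow_card_sub_one_eq_one (⟨lam, hlamF⟩ : F) hlam0
    rw [hcF] at hpow
    have hpow' : lam ^ (p ^ Module.finrank (ZMod p) F - 1) = 1 := by
      have h1 := congrArg Subtype.val hpow
      simpa using h1
    have hord : orderOf lam = q := orderOf_eq_prime hq hne
    have hdvd : q ∣ p ^ Module.finrank (ZMod p) F - 1 := by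
      rw [← hord]
      exact orderOf_dvd_of_pow_eq_one hpow'
    have hpb : (p : ZMod q) ^ Module.finrank (ZMod p) F = 1 := by
      have h1 : 1 ≤ p ^ Module.finrank (ZMod p) F := Nat.one_le_pow _ _ hp.pos
      have h2 : ((p ^ Module.finrank (ZMod p) F - 1 : ℕ) : ZMod q) = 0 :=
        (ZMod.natCast_eq_zero_iff _ _).mpr hdvd
      have h3 : ((p ^ Module.finrank (ZMod p) F : ℕ) : ZMod q)
          = ((p ^ Module.finrank (ZMod p) F - 1 : ℕ) : ZMod q) + 1 := by
        rw [← Nat.cast_succ, Nat.succ_eq_add_one, Nat.sub_add_cancel h1]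
      rw [← Nat.cast_pow, h3, h2, zero_add]
    have hab : orderOf (p : ZMod q) ∣ Module.finrank (ZMod p) F := orderOf_dvd_of_pow_eq_one hpb
    have hba : Module.finrank (ZMod p) F ∣ orderOf (p : ZMod q) := by
      rw [haL, ← htower]
      exact dvd_mul_right _ _
    have hab' : orderOf (p : ZMod q) = Module.finrank (ZMod p) F := Nat.dvd_antisymm hab hba
    have ha1 : 0 < orderOf (p : ZMod q) := by
      by_contra h
      have h0 : orderOf (p : ZMod q) = 0 := by omega
      rw [h0, pow_zero] at hcardL
      have h1 := Fintype.one_lt_card (α := L)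
      omega
    have hd : Module.finrank F L = 1 := by
      have h1 : Module.finrank (ZMod p) F * Module.finrank F L = Module.finrank (ZMod p) F * 1 := by
        rw [htower, ← haL, hab', mul_one]
      exact Nat.eq_of_mul_eq_mul_left (by omega) h1
    exact IntermediateField.finrank_eq_one_iff_eq_top.mp hd
  by_cases hbot : W = ⊥
  · left
    exact hbot
  · right
    obtain ⟨w0, hw0, hw0ne⟩ : ∃ w ∈ W, w ≠ 0 := by
      by_contra h
      push Not at h
      exact hbot ((AddSubgroup.eq_bot_iff_forall W).mpr h)
    rw [eq_top_iff]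
    intro x _
    have hx : x * w0⁻¹ ∈ F := by
      rw [hFtop]
      exact IntermediateField.mem_top
    have h1 := hstab _ hx w0 hw0
    rwa [mul_assoc, inv_mul_cancel₀ hw0ne, mul_one] at h1

end Cfsg.Agent.Lib.helper3.Gf
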