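import Mathlib
import Cfsg.Agent.Lib.helper70.Basic

set_option autoImplicit false

namespace Cfsg.Agent.Lib.helper70

/-- For subgroups of coprime finite index, the index of the intersection is the product. -/
theorem index_inf_eq_of_coprime {G : Type*} [Group G] [Finite G] (A B : Subgroup G)
    (h : Nat.Coprime A.index B.index) : (A ⊓ B).index = A.index * B.index := by
  apply le_antisymm Subgroup.index_inf_le
  apply Nat.le_of_dvd (Nat.pos_of_ne_zero Subgroup.index_ne_zero_of_finite)
  exact Nat.Coprime.mul_dvd_of_dvd_of_dvd h (Subgroup.index_dvd_of_le inf_le_left)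
    (Subgroup.index_dvd_of_le inf_le_right)

/-- A subgroup contained in another of the same finite index is equal to it. -/
theorem eq_of_le_of_index_eq' {G : Type*} [Group G] [Finite G] (A B : Subgroup G)
    (hle : A ≤ B) (h : A.index = B.index) : A = B := by
  apply le_antisymm hle
  have h1 := Subgroup.relIndex_mul_index hle
  rw [h] at h1
  have h2 : A.relIndex B = 1 := by
    have h3 : B.index ≠ 0 := Subgroup.index_ne_zero_of_finite
    have h4 : A.relIndex B * B.index = 1 * B.index := by rw [h1, one_mul]
    exact Nat.eq_of_mul_eq_mul_right (Nat.pos_of_ne_zero h3) h4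
  exact Subgroup.relIndex_eq_one.1 h2

/-- For commuting elements of coprime orders, the centralizer of the product is the
intersection of the centralizers. -/
theorem centralizer_mul_eq_inf_of_coprime {G : Type*} [Group G] (x y : G) (hxy : x * y = y * x)
    (hcop : Nat.Coprime (orderOf x) (orderOf y)) :
    Subgroup.centralizer ({x * y} : Set G) =
      Subgroup.centralizer ({x} : Set G) ⊓ Subgroup.centralizer ({y} : Set G) := by
  ext z
  simp only [Subgroup.mem_inf, Subgroup.mem_centralizer_iff, Set.mem_singleton_iff, forall_eq]
  constructor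
  · intro hz
    have hx : x * z = z * x := by
      have key : x ∈ Subgroup.centralizer ({z} : Set G) := by
        have h1 : x ^ (orderOf y) ∈ Subgroup.centralizer ({z} : Set G) := by
          have h2 : x ^ (orderOf y) = (x * y) ^ (orderOf y) := by
            rw [(show Commute x y from hxy).mul_pow, pow_orderOf_eq_one, mul_one]
          rw [h2]
          apply Subgroup.pow_mem
          rw [Subgroup.mem_centralizer_iff]
          intro w hw
          rw [Set.mem_singleton_iff] at hw
          rw [hw]; exact hz.symm
        have h3 : x ^ (orderOf x) ∈ Subgroup.centralizer ({z} : Set G) := by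
          rw [pow_orderOf_eq_one]; exact Subgroup.one_mem _
        exact Cfsg.Agent.Lib.helper70.mem_of_pow_mem_of_coprime _ hcop.symm h1 h3
      rw [Subgroup.mem_centralizer_iff] at key
      exact (key z rfl).symm
    refine ⟨hx, ?_⟩
    have h4 : y = x⁻¹ * (x * y) := by group
    rw [h4, mul_assoc x⁻¹, hz, ← mul_assoc x⁻¹, ← mul_assoc z]
    congr 1
    rw [inv_mul_eq_iff_eq_mul, ← mul_assoc, hx, mul_inv_cancel_right]
  · rintro ⟨h1, h2⟩
    rw [mul_assoc, h2, ← mul_assoc, h1, mul_assoc]

end Cfsg.Agent.Lib.helper70
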