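import Mathlib
import Cfsg.Agent.Lib.helper85.McLDefs

set_option autoImplicit false
set_option maxHeartbeats 400000

/-!
# S5075 piece SYSB1 (helper70): `sysB_add`

Abstract transvection system `T` in which every centre has a unique axis up to scalars:
every nonzero vector is a centre, and the axis of `c + d` lies in the span of the axes of
`c` and `d`.
-/

open Cfsg.Agent.Lib.helper85.McL

namespace Cfsg.Agent.Lib.helper70.McL

universe u

variable {p : ℕ} [Fact p.Prime] {V : Type u} [AddCommGroup V] [Module (ZMod p) V]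

theorem sb_two_ne (hp : p ≠ 2) : (2 : ZMod p) ≠ 0 := by
  intro h
  have h' : ((2 : ℕ) : ZMod p) = 0 := by exact_mod_cast h
  rw [ZMod.natCast_eq_zero_iff] at h'
  exact hp ((Nat.prime_dvd_prime_iff_eq (Fact.out : p.Prime) Nat.prime_two).mp h')

/-- (T3) -/
theorem sb_T3 {T : Set (V × Module.Dual (ZMod p) V)} (hT : TSys T) {c d : V}
    {φ ψ : Module.Dual (ZMod p) V} (hc : (c, φ) ∈ T) (hd : (d, ψ) ∈ T) (h1 : φ d ≠ 0)
    (h2 : ψ c = 0) : (c, ψ) ∈ T := by
  have h3 := hT.conj c φ d ψ hc hd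
  rw [h2, zero_smul, sub_zero] at h3
  have h4 := hT.smul_left d ψ hd (-1) (neg_ne_zero.mpr one_ne_zero)
  have e : (d + φ d • c) + (-1 : ZMod p) • d = φ d • c := by
    rw [neg_smul, one_smul]; abel
  have hne : (d + φ d • c) + (-1 : ZMod p) • d ≠ 0 := by
    rw [e]; exact smul_ne_zero h1 (hT.ne c φ hc).1
  have h5 := hT.add_left _ _ ψ h3 h4 hne
  rw [e] at h5
  have h6 := hT.smul_left _ ψ h5 (φ d)⁻¹ (inv_ne_zero h1)
  rwa [smul_smul, inv_mul_cancel₀ h1, one_smul] at h6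

/-- (S): "perp" is symmetric. -/
theorem sb_S {T : Set (V × Module.Dual (ZMod p) V)} (hT : TSys T)
    (hB1 : ∀ c φ ψ, (c, φ) ∈ T → (c, ψ) ∈ T → ∃ a : ZMod p, ψ = a • φ)
    {c d : V} {φ ψ : Module.Dual (ZMod p) V} (hc : (c, φ) ∈ T) (hd : (d, ψ) ∈ T)
    (h1 : φ d ≠ 0) : ψ c ≠ 0 := by
  intro h2
  have h3 := sb_T3 hT hc hd h1 h2
  obtain ⟨a, ha⟩ := hB1 c φ ψ hc h3
  have h4 : ψ d = 0 := (hT.ne d ψ hd).2.2
  rw [ha, LinearMap.smul_apply, smul_eq_mul] at h4
  rcases mul_eq_zero.mp h4 with h5 | h5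
  · rw [h5, zero_smul] at ha
    exact (hT.ne d ψ hd).2.1 ha
  · exact h1 h5

/-- the class `P1` of axes vanishing at `c` but not at `d` is empty. -/
theorem sb_P1 (hp : p ≠ 2) {T : Set (V × Module.Dual (ZMod p) V)} (hT : TSys T)
    (hirr : TIrr T) (hB1 : ∀ c φ ψ, (c, φ) ∈ T → (c, ψ) ∈ T → ∃ a : ZMod p, ψ = a • φ)
    (c d : V) (hc0 : c ≠ 0)
    (h : ∀ u ξ, (u, ξ) ∈ T → ξ c = 0 ∨ ξ d = 0 ∨ ξ c + ξ d = 0) :
    ∀ u ξ, (u, ξ) ∈ T → ξ c = 0 → ξ d = 0 := by
  classical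
  have h2 := sb_two_ne (p := p) hp
  let U : Submodule (ZMod p) V :=
    { carrier := {v | ∀ u ξ, (u, ξ) ∈ T → ξ c = 0 → ξ d ≠ 0 → ξ v = 0}
      add_mem' := by
        intro a b ha hb u ξ hu h1 h2
        rw [map_add, ha u ξ hu h1 h2, hb u ξ hu h1 h2, add_zero]
      zero_mem' := by
        intro u ξ _ _ _
        exact map_zero ξ
      smul_mem' := by
        intro r a ha u ξ hu h1 h2
        rw [map_smul, ha u ξ hu h1 h2, smul_zero] }
  have hUmem : ∀ v, v ∈ U ↔ ∀ u ξ, (u, ξ) ∈ T → ξ c = 0 → ξ d ≠ 0 → ξ v = 0 :=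
    fun v => Iff.rfl
  have hinv : TInv T U := by
    intro x ξ hx
    by_cases hξc : ξ c = 0
    · by_cases hξd : ξ d = 0
      · by_cases hxU : x ∈ U
        · exact Or.inl hxU
        · right
          rw [hUmem] at hxU
          push Not at hxU
          obtain ⟨x₁, ψ₁, hx₁, hψc, hψd, hψx⟩ := hxU
          intro v hv
          rw [LinearMap.mem_ker]
          have hconj := hT.conj x ξ x₁ ψ₁ hx hx₁
          have e1 := (hUmem v).mp hv _ _ hconj
            (by rw [LinearMap.sub_apply, LinearMap.smul_apply, hψc, hξc, smul_zero, sub_zero])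
            (by rw [LinearMap.sub_apply, LinearMap.smul_apply, hξd, smul_zero, sub_zero]
                exact hψd)
          have e2 := (hUmem v).mp hv _ _ hx₁ hψc hψd
          rw [LinearMap.sub_apply, LinearMap.smul_apply, e2, zero_sub, smul_eq_mul,
            neg_eq_zero] at e1
          exact (mul_eq_zero.mp e1).resolve_left hψx
      · right
        intro v hv
        exact (hUmem v).mp hv x ξ hx hξc hξd
    · left
      rw [hUmem]
      intro x₁ ψ₁ hx₁ hψc hψd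
      by_contra hψx
      have hξx₁ : ξ x₁ ≠ 0 := sb_S hT hB1 hx₁ hx hψx
      have hm : ξ x₁ * ψ₁ d ≠ 0 := mul_ne_zero hξx₁ hψd
      have key : ∀ l : ZMod p, l ≠ 0 →
          ξ d - l * (ξ x₁ * ψ₁ d) = 0 ∨ ξ c + ξ d - l * (ξ x₁ * ψ₁ d) = 0 := by
        intro l hl
        have h1 := hT.smul_right x₁ ψ₁ hx₁ l hl
        have hconj := hT.conj x₁ (l • ψ₁) x ξ h1 hx
        have h3 := h _ _ hconj
        simp only [LinearMap.sub_apply, LinearMap.smul_apply, smul_eq_mul, hψc, mul_zero,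
          sub_zero] at h3
        rcases h3 with h3 | h3 | h3
        · exact absurd h3 hξc
        · left; linear_combination h3
        · right; linear_combination h3
      have k1 := key 1 one_ne_zero
      have k2 := key 2 h2
      rcases h x ξ hx with h0 | h0 | h0
      · exact hξc h0
      · rcases k1 with k1 | k1
        · exact hm (by linear_combination h0 - k1)
        · rcases k2 with k2 | k2
          · exact mul_ne_zero h2 hm (by linear_combination h0 - k2)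
          · exact hm (by linear_combination k1 - k2)
      · rcases k1 with k1 | k1
        · rcases k2 with k2 | k2
          · exact hm (by linear_combination k1 - k2)
          · exact mul_ne_zero h2 hm (by linear_combination h0 - k2)
        · exact hm (by linear_combination h0 - k1)
  rcases hirr U hinv with hU | hU
  · exfalso
    have : c ∈ U := by
      rw [hUmem]; intro u ξ _ h1 _; exact h1
    rw [hU, Submodule.mem_bot] at this
    exact hc0 this
  · intro u ξ hu h1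
    by_contra h3
    have : d ∈ U := by rw [hU]; exact Submodule.mem_top
    exact h3 ((hUmem d).mp this u ξ hu h1 h3)

/-- (U) -/
theorem sb_U (hp : p ≠ 2) {T : Set (V × Module.Dual (ZMod p) V)} (hT : TSys T)
    (hirr : TIrr T) (hB1 : ∀ c φ ψ, (c, φ) ∈ T → (c, ψ) ∈ T → ∃ a : ZMod p, ψ = a • φ)
    {c d : V} {φ ψ : Module.Dual (ZMod p) V} (hc : (c, φ) ∈ T) (hd : (d, ψ) ∈ T)
    (hcd : c + d ≠ 0) :
    ∃ u ξ, (u, ξ) ∈ T ∧ ξ c ≠ 0 ∧ ξ d ≠ 0 ∧ ξ c + ξ d ≠ 0 := by
  classical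
  by_contra hcon
  have h : ∀ u ξ, (u, ξ) ∈ T → ξ c = 0 ∨ ξ d = 0 ∨ ξ c + ξ d = 0 := by
    intro u ξ hu
    by_contra h'
    push Not at h'
    exact hcon ⟨u, ξ, hu, h'.1, h'.2.1, h'.2.2⟩
  have h' : ∀ u ξ, (u, ξ) ∈ T → ξ d = 0 ∨ ξ c = 0 ∨ ξ d + ξ c = 0 := by
    intro u ξ hu
    rcases h u ξ hu with h1 | h1 | h1
    · exact Or.inr (Or.inl h1)
    · exact Or.inl h1
    · exact Or.inr (Or.inr (by rw [add_comm]; exact h1))
  have P1 := sb_P1 hp hT hirr hB1 c d (hT.ne c φ hc).1 h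
  have P2 := sb_P1 hp hT hirr hB1 d c (hT.ne d ψ hd).1 h'
  let K : Submodule (ZMod p) V :=
    { carrier := {v | ∀ u ξ, (u, ξ) ∈ T → ξ v = 0}
      add_mem' := by
        intro a b ha hb u ξ hu
        rw [map_add, ha u ξ hu, hb u ξ hu, add_zero]
      zero_mem' := by
        intro u ξ _
        exact map_zero ξ
      smul_mem' := by
        intro r a ha u ξ hu
        rw [map_smul, ha u ξ hu, smul_zero] }
  have hKmem : ∀ v, v ∈ K ↔ ∀ u ξ, (u, ξ) ∈ T → ξ v = 0 := fun v => Iff.rfl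
  have hKinv : TInv T K := by
    intro x ξ hx
    right
    intro v hv
    exact (hKmem v).mp hv x ξ hx
  have hcdK : c + d ∈ K := by
    rw [hKmem]
    intro u ξ hu
    rw [map_add]
    rcases h u ξ hu with h1 | h1 | h1
    · rw [h1, P1 u ξ hu h1, add_zero]
    · rw [h1, P2 u ξ hu h1, add_zero]
    · exact h1
  rcases hirr K hKinv with hK | hK
  · rw [hK, Submodule.mem_bot] at hcdK
    exact hcd hcdK
  · have hφ : φ = 0 := by
      ext v
      have : v ∈ K := by rw [hK]; exact Submodule.mem_top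
      exact (hKmem v).mp this c φ hc
    exact (hT.ne c φ hc).2.1 hφ

/-- (Sum): the sum of two centres is a centre (if nonzero), with an axis in the span. -/
theorem sb_sum (hp : p ≠ 2) {T : Set (V × Module.Dual (ZMod p) V)} (hT : TSys T)
    (hirr : TIrr T) (hB1 : ∀ c φ ψ, (c, φ) ∈ T → (c, ψ) ∈ T → ∃ a : ZMod p, ψ = a • φ)
    {c d : V} {φ ψ : Module.Dual (ZMod p) V} (hc : (c, φ) ∈ T) (hd : (d, ψ) ∈ T)
    (hcd : c + d ≠ 0) :
    ∃ a b : ZMod p, (c + d, a • φ + b • ψ) ∈ T := by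
  by_cases h1 : φ d = 0
  · have h2 : ψ c = 0 := by
      by_contra h2
      exact sb_S hT hB1 hd hc h2 h1
    obtain ⟨u, ξ, hu, hξc, hξd, hξcd⟩ := sb_U hp hT hirr hB1 hc hd hcd
    have hφu : φ u ≠ 0 := sb_S hT hB1 hu hc hξc
    have hξu : ξ u = 0 := (hT.ne u ξ hu).2.2
    have hφc : φ c = 0 := (hT.ne c φ hc).2.2
    -- step 1
    obtain ⟨ψ1, hψ1⟩ : ∃ ψ1, ψ1 = ψ - ψ u • ξ := ⟨_, rfl⟩
    have s1 : (d + ξ d • u, ψ1) ∈ T := by
      rw [hψ1]; exact hT.conj u ξ d ψ hu hd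
    -- step 2
    obtain ⟨ν, hν⟩ : ∃ ν : ZMod p, ν = (ξ d * φ u)⁻¹ := ⟨_, rfl⟩
    have hν0 : ν ≠ 0 := by rw [hν]; exact inv_ne_zero (mul_ne_zero hξd hφu)
    obtain ⟨ψ2, hψ2⟩ : ∃ ψ2, ψ2 = ψ1 - ψ1 c • (ν • φ) := ⟨_, rfl⟩
    have s2 : (d + ξ d • u + c, ψ2) ∈ T := by
      have s := hT.conj c (ν • φ) _ _ (hT.smul_right c φ hc ν hν0) s1
      have e2 : (ν • φ) (d + ξ d • u) = 1 := by
        rw [LinearMap.smul_apply, map_add, map_smul, h1, zero_add, smul_eq_mul, smul_eq_mul,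
          hν]
        exact inv_mul_cancel₀ (mul_ne_zero hξd hφu)
      rw [e2, one_smul] at s
      rw [hψ2]; exact s
    -- step 3
    obtain ⟨l, hl⟩ : ∃ l : ZMod p, l = -(ξ d) * (ξ c + ξ d)⁻¹ := ⟨_, rfl⟩
    have hl0 : l ≠ 0 := by
      rw [hl]; exact mul_ne_zero (neg_ne_zero.mpr hξd) (inv_ne_zero hξcd)
    obtain ⟨χ, hχ⟩ : ∃ χ, χ = ψ2 - ψ2 u • (l • ξ) := ⟨_, rfl⟩
    have s3 : (c + d, χ) ∈ T := by
      have s := hT.conj u (l • ξ) _ _ (hT.smul_right u ξ hu l hl0) s2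
      have e3 : (l • ξ) (d + ξ d • u + c) = - ξ d := by
        rw [LinearMap.smul_apply, map_add, map_add, map_smul, hξu, smul_eq_mul, smul_eq_mul,
          mul_zero, add_zero, hl, add_comm (ξ d) (ξ c)]
        field_simp
      have e3' : d + ξ d • u + c + (l • ξ) (d + ξ d • u + c) • u = c + d := by
        rw [e3, neg_smul]; abel
      rw [e3'] at s
      rw [hχ]; exact s
    have hχc : χ c = 0 := by
      by_contra hne
      have := sb_S hT hB1 s3 hc hne
      apply this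
      rw [map_add, hφc, h1, add_zero]
    have hχ_eq : χ = ψ - (ψ1 c * ν) • φ - (ψ u + ψ2 u * l) • ξ := by
      rw [hχ, hψ2, hψ1]
      ext x
      simp only [LinearMap.sub_apply, LinearMap.smul_apply, smul_eq_mul]
      ring
    have hb : ψ u + ψ2 u * l = 0 := by
      have h3 := hχc
      rw [hχ_eq] at h3
      simp only [LinearMap.sub_apply, LinearMap.smul_apply, smul_eq_mul, h2, hφc, mul_zero,
        sub_zero, zero_sub, neg_eq_zero] at h3
      exact (mul_eq_zero.mp h3).resolve_right hξc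
    refine ⟨-(ψ1 c * ν), 1, ?_⟩
    have e : (-(ψ1 c * ν)) • φ + (1 : ZMod p) • ψ = χ := by
      rw [hχ_eq, hb]
      ext x
      simp only [LinearMap.sub_apply, LinearMap.add_apply, LinearMap.smul_apply, smul_eq_mul]
      ring
    rw [e]; exact s3
  · have hl0 : (φ d)⁻¹ ≠ 0 := inv_ne_zero h1
    have s := hT.conj c ((φ d)⁻¹ • φ) d ψ (hT.smul_right c φ hc _ hl0) hd
    have e : ((φ d)⁻¹ • φ) d = 1 := by
      rw [LinearMap.smul_apply, smul_eq_mul, inv_mul_cancel₀ h1]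
    rw [e, one_smul] at s
    refine ⟨-(ψ c * (φ d)⁻¹), 1, ?_⟩
    have e1 : c + d = d + c := add_comm c d
    have e2 : (-(ψ c * (φ d)⁻¹)) • φ + (1 : ZMod p) • ψ = ψ - ψ c • ((φ d)⁻¹ • φ) := by
      ext x
      simp only [LinearMap.sub_apply, LinearMap.add_apply, LinearMap.smul_apply, smul_eq_mul]
      ring
    rw [e1, e2]; exact s

/-- PIECE SYSB1. -/
theorem sysB_add (hp : p ≠ 2) [Finite V] {T : Set (V × Module.Dual (ZMod p) V)}
    (hT : TSys T) (hne : T.Nonempty) (hirr : TIrr T)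
    (hB1 : ∀ c φ ψ, (c, φ) ∈ T → (c, ψ) ∈ T → ∃ a : ZMod p, ψ = a • φ)
    (hB2 : ∀ c d φ, (c, φ) ∈ T → (d, φ) ∈ T → ∃ a : ZMod p, d = a • c) :
    (∀ v : V, v ≠ 0 → ∃ φ, (v, φ) ∈ T) ∧
    (∀ c d φ ψ χ, (c, φ) ∈ T → (d, ψ) ∈ T → (c + d, χ) ∈ T →
      ∃ a b : ZMod p, χ = a • φ + b • ψ) := by
  classical
  constructor
  · let P : Submodule (ZMod p) V :=
      { carrier := {v | v = 0 ∨ ∃ φ, (v, φ) ∈ T}
        add_mem' := by
          rintro a b (ha | ⟨φ, ha⟩) (hb | ⟨ψ, hb⟩)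
          · left; rw [ha, hb, add_zero]
          · right; rw [ha, zero_add]; exact ⟨ψ, hb⟩
          · right; rw [hb, add_zero]; exact ⟨φ, ha⟩
          · by_cases h0 : a + b = 0
            · exact Or.inl h0
            · obtain ⟨x, y, hxy⟩ := sb_sum hp hT hirr hB1 ha hb h0
              exact Or.inr ⟨_, hxy⟩
        zero_mem' := Or.inl rfl
        smul_mem' := by
          rintro r a (ha | ⟨φ, ha⟩)
          · left; rw [ha, smul_zero]
          · by_cases hr : r = 0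
            · left; rw [hr, zero_smul]
            · right; exact ⟨φ, hT.smul_left a φ ha r hr⟩ }
    have hPmem : ∀ v, v ∈ P ↔ (v = 0 ∨ ∃ φ, (v, φ) ∈ T) := fun v => Iff.rfl
    have hPinv : TInv T P := fun c φ hc => Or.inl ((hPmem c).mpr (Or.inr ⟨φ, hc⟩))
    obtain ⟨⟨c₀, φ₀⟩, h0⟩ := hne
    rcases hirr P hPinv with hP | hP
    · exfalso
      have : c₀ ∈ P := (hPmem c₀).mpr (Or.inr ⟨φ₀, h0⟩)
      rw [hP, Submodule.mem_bot] at this
      exact (hT.ne c₀ φ₀ h0).1 this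
    · intro v hv
      have : v ∈ P := by rw [hP]; exact Submodule.mem_top
      rcases (hPmem v).mp this with h | h
      · exact absurd h hv
      · exact h
  · intro c d φ ψ χ hc hd hcd
    have h0 : c + d ≠ 0 := (hT.ne _ _ hcd).1
    obtain ⟨a, b, hab⟩ := sb_sum hp hT hirr hB1 hc hd h0
    obtain ⟨e, he⟩ := hB1 _ _ χ hab hcd
    refine ⟨e * a, e * b, ?_⟩
    rw [he, smul_add, smul_smul, smul_smul]

end Cfsg.Agent.Lib.helper70.McL
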