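import Mathlib
import Cfsg.Agent.Lib.helper70.TI

/-!
# Sylow arithmetic with TI Sylow subgroups; a group of order 126000 with TI Sylow 5-subgroups
and Sylow 7-normalizers of order 21 has no proper subgroup of index below 50.

Piece A of S2149 (requested by helper94).
-/

namespace Cfsg.Agent.Lib.helper70

/-- Class formula consequence: a finite group acting with one fixed point and freely on all the
other points. -/
theorem card_modEq_one_of_free_away {A X : Type*} [Group A] [Finite A] [MulAction A X] [Finite X]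
    (x₀ : X) (hfix : ∀ a : A, a • x₀ = x₀)
    (hfree : ∀ x : X, x ≠ x₀ → ∀ a : A, a • x = x → a = 1) :
    Nat.card X ≡ 1 [MOD Nat.card A] := by
  classical
  have : Fintype A := Fintype.ofFinite A
  have : Fintype X := Fintype.ofFinite X
  have : Fintype (Quotient (MulAction.orbitRel A X)) := Fintype.ofFinite _
  have key := MulAction.card_eq_sum_card_group_div_card_stabilizer A X
  simp only [Fintype.card_eq_nat_card] at key
  rw [key]
  set ω₀ : Quotient (MulAction.orbitRel A X) := Quotient.mk'' x₀ with hω₀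
  have hApos : 0 < Nat.card A := Nat.card_pos
  have h0 : Nat.card A / Nat.card (MulAction.stabilizer A ω₀.out) = 1 := by
    have h1 : ω₀.out = x₀ := by
      have h2 : (Quotient.mk'' ω₀.out : Quotient (MulAction.orbitRel A X)) = Quotient.mk'' x₀ := by
        rw [Quotient.out_eq']
      rw [Quotient.eq''] at h2
      obtain ⟨a, ha⟩ := h2
      rw [← ha]; exact hfix a
    have h2 : MulAction.stabilizer A ω₀.out = ⊤ := by
      rw [h1]; ext a; simp [MulAction.mem_stabilizer_iff, hfix a]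
    rw [h2, Subgroup.card_top, Nat.div_self hApos]
  have h1 : ∀ ω ∈ (Finset.univ : Finset (Quotient (MulAction.orbitRel A X))).erase ω₀,
      Nat.card A / Nat.card (MulAction.stabilizer A ω.out) = Nat.card A := by
    intro ω hω
    have hne : ω ≠ ω₀ := Finset.ne_of_mem_erase hω
    have h2 : ω.out ≠ x₀ := by
      intro h
      apply hne
      rw [← Quotient.out_eq' ω, h]
    have h3 : MulAction.stabilizer A ω.out = ⊥ := by
      rw [eq_bot_iff]
      intro a ha
      rw [Subgroup.mem_bot]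
      exact hfree _ h2 a (MulAction.mem_stabilizer_iff.mp ha)
    rw [h3, Subgroup.card_bot, Nat.div_one]
  rw [← Finset.add_sum_erase Finset.univ _ (Finset.mem_univ ω₀), h0, Finset.sum_congr rfl h1,
    Finset.sum_const, smul_eq_mul]
  unfold Nat.ModEq
  rw [Nat.add_mul_mod_self_right]

/-- If the Sylow `p`-subgroups are TI, their number is `≡ 1` modulo the Sylow order. -/
theorem card_sylow_modEq_one_of_ti {K : Type*} [Group K] [Finite K] {p : ℕ} [Fact p.Prime]
    (hTI : ∀ P Q : Sylow p K, P ≠ Q → ((P : Subgroup K) ⊓ (Q : Subgroup K)) = ⊥)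
    (P : Sylow p K) :
    Nat.card (Sylow p K) ≡ 1 [MOD Nat.card (P : Subgroup K)] := by
  refine card_modEq_one_of_free_away (A := (P : Subgroup K)) (X := Sylow p K) P ?_ ?_
  · intro a
    have h : (a : K) • P = P :=
      Sylow.smul_eq_iff_mem_normalizer.mpr (Subgroup.le_normalizer a.2)
    exact h
  · intro Q hQ a ha
    have ha' : (a : K) • Q = Q := ha
    have h1 : (a : K) ∈ Subgroup.normalizer ((Q : Subgroup K) : Set K) :=
      Sylow.smul_eq_iff_mem_normalizer.mp ha'
    have h2 : (a : K) ∈ (P : Subgroup K) ⊓ (Q : Subgroup K) := by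
      rw [← P.2.inf_normalizer_sylow Q]
      exact ⟨a.2, h1⟩
    rw [hTI P Q (Ne.symm hQ)] at h2
    exact Subtype.ext ((Subgroup.mem_bot).mp h2)

/-- Every Sylow `p`-subgroup of a subgroup `H` is the trace of a Sylow `p`-subgroup of `G`. -/
theorem sylow_subgroup_eq_subgroupOf {G : Type*} [Group G] [Finite G] {p : ℕ} [Fact p.Prime]
    (H : Subgroup G) (Q : Sylow p H) :
    ∃ P : Sylow p G, (Q : Subgroup H) = (P : Subgroup G).subgroupOf H := by
  obtain ⟨P, hP⟩ := (Q.2.map H.subtype).exists_le_sylow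
  refine ⟨P, ?_⟩
  have hle : (Q : Subgroup H) ≤ (P : Subgroup G).subgroupOf H := by
    intro x hx
    rw [Subgroup.mem_subgroupOf]
    exact hP (Subgroup.mem_map_of_mem _ hx)
  have hpg : IsPGroup p ((P : Subgroup G).subgroupOf H) := P.2.comap_subtype
  exact (Q.3 hpg hle).symm

/-- The TI property of Sylow `p`-subgroups passes to subgroups. -/
theorem ti_sylow_subgroup {G : Type*} [Group G] [Finite G] {p : ℕ} [Fact p.Prime]
    (hTI : ∀ P Q : Sylow p G, P ≠ Q → ((P : Subgroup G) ⊓ (Q : Subgroup G)) = ⊥)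
    (H : Subgroup G) (Q₁ Q₂ : Sylow p H) (hne : Q₁ ≠ Q₂) :
    ((Q₁ : Subgroup H) ⊓ (Q₂ : Subgroup H)) = ⊥ := by
  obtain ⟨P₁, h1⟩ := sylow_subgroup_eq_subgroupOf H Q₁
  obtain ⟨P₂, h2⟩ := sylow_subgroup_eq_subgroupOf H Q₂
  have hP : P₁ ≠ P₂ := by
    rintro rfl
    exact hne (Sylow.ext (h1.trans h2.symm))
  rw [eq_bot_iff]
  intro x hx
  have hx1 : (x : G) ∈ (P₁ : Subgroup G) := by
    have h : x ∈ (Q₁ : Subgroup H) := hx.1
    rw [h1, Subgroup.mem_subgroupOf] at h
    exact h
  have hx2 : (x : G) ∈ (P₂ : Subgroup G) := by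
    have h : x ∈ (Q₂ : Subgroup H) := hx.2
    rw [h2, Subgroup.mem_subgroupOf] at h
    exact h
  have h3 : (x : G) ∈ (P₁ : Subgroup G) ⊓ (P₂ : Subgroup G) := ⟨hx1, hx2⟩
  rw [hTI P₁ P₂ hP, Subgroup.mem_bot] at h3
  rw [Subgroup.mem_bot]
  exact Subtype.ext h3

/-- With TI Sylow `p`-subgroups in `G`, the normalizer in `H` of a nontrivial Sylow `p`-subgroup
of `H` embeds in the normalizer of a Sylow `p`-subgroup of `G`. -/
theorem card_normalizer_sylow_subgroup_dvd {G : Type*} [Group G] [Finite G] {p : ℕ}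
    [Fact p.Prime]
    (hTI : ∀ P Q : Sylow p G, P ≠ Q → ((P : Subgroup G) ⊓ (Q : Subgroup G)) = ⊥)
    (H : Subgroup G) (Q : Sylow p H) (hQ : (Q : Subgroup H) ≠ ⊥) :
    ∃ P : Sylow p G, Nat.card (Subgroup.normalizer ((Q : Subgroup H) : Set H)) ∣
      Nat.card (Subgroup.normalizer ((P : Subgroup G) : Set G)) := by
  obtain ⟨P, h1⟩ := sylow_subgroup_eq_subgroupOf H Q
  refine ⟨P, ?_⟩
  have hmap : (Subgroup.normalizer ((Q : Subgroup H) : Set H)).map H.subtype ≤
      Subgroup.normalizer ((P : Subgroup G) : Set G) := by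
    rintro _ ⟨g, hg, rfl⟩
    have hgoal : ((g : G) • P : Sylow p G) = P := by
      by_contra hne
      apply hQ
      rw [eq_bot_iff]
      intro x hx
      have hxP : (x : G) ∈ (P : Subgroup G) := by
        have h : x ∈ (Q : Subgroup H) := hx
        rw [h1, Subgroup.mem_subgroupOf] at h
        exact h
      have hconj : g⁻¹ * x * g ∈ (Q : Subgroup H) :=
        (Subgroup.mem_normalizer_iff''.mp hg x).mp hx
      have hconjP : (g : G)⁻¹ * (x : G) * (g : G) ∈ (P : Subgroup G) := by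
        have h : g⁻¹ * x * g ∈ (Q : Subgroup H) := hconj
        rw [h1, Subgroup.mem_subgroupOf] at h
        simpa using h
      have hx2 : (x : G) ∈ (((g : G) • P : Sylow p G) : Subgroup G) :=
        (mem_sylow_smul_iff (g : G) (x : G) P).mpr hconjP
      have h3 : (x : G) ∈ (P : Subgroup G) ⊓ (((g : G) • P : Sylow p G) : Subgroup G) :=
        ⟨hxP, hx2⟩
      rw [hTI P _ (Ne.symm hne), Subgroup.mem_bot] at h3
      rw [Subgroup.mem_bot]
      exact Subtype.ext h3
    exact Sylow.smul_eq_iff_mem_normalizer.mp hgoal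
  have hc : Nat.card ((Subgroup.normalizer ((Q : Subgroup H) : Set H)).map H.subtype) =
      Nat.card (Subgroup.normalizer ((Q : Subgroup H) : Set H)) :=
    Subgroup.card_map_of_injective H.subtype_injective
  rw [← hc]
  exact Subgroup.card_dvd_of_le hmap

/-- Sylow subgroups of prime order are TI. -/
theorem ti_sylow_of_card_prime {K : Type*} [Group K] [Finite K] {p : ℕ} [Fact p.Prime]
    (hc : ∀ P : Sylow p K, Nat.card (P : Subgroup K) = p) (P Q : Sylow p K) (hne : P ≠ Q) :
    ((P : Subgroup K) ⊓ (Q : Subgroup K)) = ⊥ := by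
  have hp : p.Prime := Fact.out
  have hdvd : Nat.card ((P : Subgroup K) ⊓ (Q : Subgroup K) : Subgroup K) ∣ p := by
    have h0 : Nat.card ((P : Subgroup K) ⊓ (Q : Subgroup K) : Subgroup K) ∣
        Nat.card (P : Subgroup K) := Subgroup.card_dvd_of_le inf_le_left
    rwa [hc P] at h0
  rcases (Nat.dvd_prime hp).mp hdvd with h | h
  · exact Subgroup.eq_bot_of_card_eq _ h
  · exfalso
    have h1 : (P : Subgroup K) ⊓ (Q : Subgroup K) = (P : Subgroup K) :=
      Subgroup.eq_of_le_of_card_ge inf_le_left (by rw [h, hc P])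
    have h2 : (P : Subgroup K) ≤ (Q : Subgroup K) := by
      rw [← h1]; exact inf_le_right
    exact hne (Sylow.ext (P.3 Q.2 h2).symm)

/-- The number of nonidentity elements of a finite subgroup, as a subtype of a set difference. -/
theorem card_diff_one_subgroup {H : Type*} [Group H] [Finite H] (S : Subgroup H) :
    Nat.card ↥((S : Set H) \ {1}) = Nat.card S - 1 := by
  rw [Nat.card_coe_set_eq, Set.ncard_sdiff_singleton_of_mem (Subgroup.one_mem S),
    ← Nat.card_coe_set_eq]
  rfl

/-- An element lying in Sylow subgroups for two different primes is trivial. -/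
theorem eq_one_of_mem_sylow_of_mem_sylow {H : Type*} [Group H] {p q : ℕ} [Fact p.Prime]
    [Fact q.Prime] (hpq : p ≠ q) (P : Sylow p H) (Q : Sylow q H) (x : H)
    (hx : x ∈ (P : Subgroup H)) (hx' : x ∈ (Q : Subgroup H)) : x = 1 := by
  have hp : p.Prime := Fact.out
  have hq : q.Prime := Fact.out
  obtain ⟨k, hk⟩ := P.2 ⟨x, hx⟩
  obtain ⟨m, hm⟩ := Q.2 ⟨x, hx'⟩
  have hk' : x ^ p ^ k = 1 := by
    have := congrArg Subtype.val hk
    simpa using this
  have hm' : x ^ q ^ m = 1 := by
    have := congrArg Subtype.val hm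
    simpa using this
  have h1 : orderOf x ∣ p ^ k := orderOf_dvd_of_pow_eq_one hk'
  have h2 : orderOf x ∣ q ^ m := orderOf_dvd_of_pow_eq_one hm'
  have hcop : Nat.Coprime (p ^ k) (q ^ m) :=
    Nat.Coprime.pow k m ((Nat.coprime_primes hp hq).mpr hpq)
  have h3 : orderOf x ∣ 1 := by
    have := Nat.dvd_gcd h1 h2
    rwa [hcop.gcd_eq_one] at this
  exact orderOf_eq_one_iff.mp (Nat.dvd_one.mp h3)

/-- Counting the nonidentity elements of TI Sylow subgroups for two different primes. -/
theorem ti_count_two {H : Type*} [Group H] [Finite H] (p q : ℕ) [Fact p.Prime] [Fact q.Prime]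
    (hpq : p ≠ q)
    (hTIp : ∀ P Q : Sylow p H, P ≠ Q → ((P : Subgroup H) ⊓ (Q : Subgroup H)) = ⊥)
    (hTIq : ∀ P Q : Sylow q H, P ≠ Q → ((P : Subgroup H) ⊓ (Q : Subgroup H)) = ⊥)
    (P : Sylow p H) (Q : Sylow q H) :
    1 + Nat.card (Sylow p H) * (Nat.card (P : Subgroup H) - 1) +
      Nat.card (Sylow q H) * (Nat.card (Q : Subgroup H) - 1) ≤ Nat.card H := by
  classical
  have : Fintype (Sylow p H) := Fintype.ofFinite _
  have : Fintype (Sylow q H) := Fintype.ofFinite _
  have hcardp : Nat.card (Σ P' : Sylow p H, ↥(((P' : Subgroup H) : Set H) \ {1})) =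
      Nat.card (Sylow p H) * (Nat.card (P : Subgroup H) - 1) := by
    rw [Nat.card_sigma]
    have h1 : ∀ P' : Sylow p H, Nat.card ↥(((P' : Subgroup H) : Set H) \ {1}) =
        Nat.card (P : Subgroup H) - 1 := by
      intro P'
      rw [card_diff_one_subgroup, Sylow.card_eq_multiplicity P', Sylow.card_eq_multiplicity P]
    simp only [h1]
    rw [Finset.sum_const, Finset.card_univ, smul_eq_mul, Fintype.card_eq_nat_card]
  have hcardq : Nat.card (Σ Q' : Sylow q H, ↥(((Q' : Subgroup H) : Set H) \ {1})) =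
      Nat.card (Sylow q H) * (Nat.card (Q : Subgroup H) - 1) := by
    rw [Nat.card_sigma]
    have h1 : ∀ Q' : Sylow q H, Nat.card ↥(((Q' : Subgroup H) : Set H) \ {1}) =
        Nat.card (Q : Subgroup H) - 1 := by
      intro Q'
      rw [card_diff_one_subgroup, Sylow.card_eq_multiplicity Q', Sylow.card_eq_multiplicity Q]
    simp only [h1]
    rw [Finset.sum_const, Finset.card_univ, smul_eq_mul, Fintype.card_eq_nat_card]
  let f : Unit ⊕ ((Σ P' : Sylow p H, ↥(((P' : Subgroup H) : Set H) \ {1})) ⊕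
      (Σ Q' : Sylow q H, ↥(((Q' : Subgroup H) : Set H) \ {1}))) → H :=
    Sum.elim (fun _ => 1) (Sum.elim (fun t => (t.2 : H)) (fun t => (t.2 : H)))
  have hne1p : ∀ t : (Σ P' : Sylow p H, ↥(((P' : Subgroup H) : Set H) \ {1})),
      (t.2 : H) ≠ 1 := fun t => t.2.2.2
  have hne1q : ∀ t : (Σ Q' : Sylow q H, ↥(((Q' : Subgroup H) : Set H) \ {1})),
      (t.2 : H) ≠ 1 := fun t => t.2.2.2
  have hinjp : ∀ t t' : (Σ P' : Sylow p H, ↥(((P' : Subgroup H) : Set H) \ {1})),
      (t.2 : H) = (t'.2 : H) → t = t' := by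
    rintro ⟨P₁, x, hx⟩ ⟨P₂, y, hy⟩ hxy
    simp only at hxy
    subst hxy
    by_cases hP : P₁ = P₂
    · subst hP; rfl
    · exfalso
      have h3 : x ∈ (P₁ : Subgroup H) ⊓ (P₂ : Subgroup H) := ⟨hx.1, hy.1⟩
      rw [hTIp P₁ P₂ hP, Subgroup.mem_bot] at h3
      exact hx.2 h3
  have hinjq : ∀ t t' : (Σ Q' : Sylow q H, ↥(((Q' : Subgroup H) : Set H) \ {1})),
      (t.2 : H) = (t'.2 : H) → t = t' := by
    rintro ⟨P₁, x, hx⟩ ⟨P₂, y, hy⟩ hxy
    simp only at hxy
    subst hxy
    by_cases hP : P₁ = P₂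
    · subst hP; rfl
    · exfalso
      have h3 : x ∈ (P₁ : Subgroup H) ⊓ (P₂ : Subgroup H) := ⟨hx.1, hy.1⟩
      rw [hTIq P₁ P₂ hP, Subgroup.mem_bot] at h3
      exact hx.2 h3
  have hpqne : ∀ (t : (Σ P' : Sylow p H, ↥(((P' : Subgroup H) : Set H) \ {1})))
      (t' : (Σ Q' : Sylow q H, ↥(((Q' : Subgroup H) : Set H) \ {1}))),
      (t.2 : H) ≠ (t'.2 : H) := by
    intro t t' h
    apply hne1p t
    exact eq_one_of_mem_sylow_of_mem_sylow hpq t.1 t'.1 _ t.2.2.1 (h ▸ t'.2.2.1)
  have hf : Function.Injective f := by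
    rintro (a | a | a) (b | b | b) hab
    · rfl
    · exact absurd hab.symm (hne1p b)
    · exact absurd hab.symm (hne1q b)
    · exact absurd hab (hne1p a)
    · exact congrArg (fun t => Sum.inr (Sum.inl t)) (hinjp a b hab)
    · exact absurd hab (hpqne a b)
    · exact absurd hab (hne1q a)
    · exact absurd hab.symm (hpqne b a)
    · exact congrArg (fun t => Sum.inr (Sum.inr t)) (hinjq a b hab)
  have hle := Nat.card_le_card_of_injective f hf
  rw [Nat.card_sum, Nat.card_sum, hcardp, hcardq, Nat.card_unique] at hle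
  omega

/-- The Sylow order in arithmetic form. -/
theorem sylow_card_spec {K : Type*} [Group K] [Finite K] {p : ℕ} [Fact p.Prime] (P : Sylow p K) :
    ∃ e : ℕ, Nat.card (P : Subgroup K) = p ^ e ∧ p ^ e ∣ Nat.card K ∧
      ¬ p ^ (e + 1) ∣ Nat.card K := by
  have hp : p.Prime := Fact.out
  obtain ⟨e, he⟩ := IsPGroup.iff_card.mp P.2
  refine ⟨e, he, ?_, ?_⟩
  · rw [← he]; exact Subgroup.card_subgroup_dvd_card _
  · intro h
    apply P.not_dvd_index
    have hmul := Subgroup.card_mul_index (P : Subgroup K)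
    rw [he] at hmul
    rw [← hmul, pow_succ] at h
    exact (Nat.mul_dvd_mul_iff_left (pow_pos hp.pos e)).mp h

theorem exp_lt_eight {p e m : ℕ} (hp : 5 ≤ p) (h : p ^ e ∣ m) (hm : 0 < m) (hlt : m < 5 ^ 8) :
    e < 8 := by
  by_contra hcon
  push Not at hcon
  have h1 : 5 ^ 8 ≤ p ^ 8 := Nat.pow_le_pow_left hp 8
  have h2 : p ^ 8 ≤ p ^ e := Nat.pow_le_pow_right (by omega) hcon
  have h3 : p ^ e ≤ m := Nat.le_of_dvd hm h
  omega

theorem arith_five_exp : ∀ e < 8, 5 ^ e ∣ 126000 → ¬ 5 ^ (e + 1) ∣ 126000 → e = 3 := by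
  decide

theorem arith_seven_exp : ∀ e < 8, 7 ^ e ∣ 126000 → ¬ 7 ^ (e + 1) ∣ 126000 → e = 1 := by
  decide

theorem arith_n5 : ∀ m < 1009, m ∣ 1008 → m % 125 = 1 → m ≠ 1 → m = 126 := by
  decide +kernel

theorem arith_five_dvd : ∀ n < 50, n ∣ 126000 → 5 ∣ 126000 / n := by
  decide +kernel

/-- The constraints on `d₅ = |N_H(Q)|` for a Sylow `5`-subgroup `Q` of order `5 ^ e` of `H`,
`h = |H|`. -/
def C5 (h e d₅ : ℕ) : Prop :=
  d₅ ∣ 1000 ∧ 5 ^ e ∣ d₅ ∧ d₅ ∣ h ∧ (h / d₅) % 5 ^ e = 1

instance (h e d₅ : ℕ) : Decidable (C5 h e d₅) := by unfold C5; infer_instance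

/-- The constraints on `d₇ = |N_H(S)|` for a Sylow `7`-subgroup `S` of `H`, and the count. -/
def C7 (h e d₅ d₇ : ℕ) : Prop :=
  7 ∣ h → d₇ ∣ 21 ∧ 7 ∣ d₇ ∧ d₇ ∣ h ∧ (h / d₇) % 7 = 1 ∧
    1 + (h / d₅) * (5 ^ e - 1) + (h / d₇) * 6 ≤ h

instance (h e d₅ d₇ : ℕ) : Decidable (C7 h e d₅ d₇) := by unfold C7; infer_instance

/-- The constraints on the exponent of the Sylow `5`-subgroup. -/
def CE (h e : ℕ) : Prop := 5 ^ e ∣ h ∧ ¬ 5 ^ (e + 1) ∣ h

instance (h e : ℕ) : Decidable (CE h e) := by unfold CE; infer_instance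

/-- The arithmetic condition excluded for every index `n < 50`. -/
def CN (n : ℕ) : Prop := n ∣ 126000 → 2 ≤ n → ∀ e < 8, CE (126000 / n) e →
    ∀ d₅ ∈ [1, 2, 4, 5, 8, 10, 20, 25, 40, 50, 100, 125, 200, 250, 500, 1000],
      C5 (126000 / n) e d₅ → ∀ d₇ ∈ [7, 21], ¬ C7 (126000 / n) e d₅ d₇

instance (n : ℕ) : Decidable (CN n) := by unfold CN; infer_instance

theorem arith_126000 : ∀ n < 50, CN n := by
  decide +kernel

theorem arith_div_1000 : ∀ d < 1001, d ∣ 1000 →
    d ∈ [1, 2, 4, 5, 8, 10, 20, 25, 40, 50, 100, 125, 200, 250, 500, 1000] := by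
  decide +kernel

theorem arith_div_21 : ∀ d < 22, d ∣ 21 → 7 ∣ d → d ∈ [7, 21] := by
  decide +kernel

/-- **Piece A of S2149.** A group of order `126000` whose Sylow `5`-subgroups are TI and not
normal and whose Sylow `7`-normalizers have order `21` has no proper subgroup of index `< 50`. -/
theorem min_index_fifty {G : Type*} [Group G] [Finite G] (hcard : Nat.card G = 126000)
    (hTI : ∀ P Q : Sylow 5 G, P ≠ Q → ((P : Subgroup G) ⊓ (Q : Subgroup G)) = ⊥)
    (hne : ∃ P Q : Sylow 5 G, P ≠ Q)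
    (hN7 : ∀ S : Sylow 7 G, Nat.card (Subgroup.normalizer ((S : Subgroup G) : Set G)) = 21) :
    ∀ H : Subgroup G, H ≠ ⊤ → 50 ≤ H.index := by
  have : Fact (Nat.Prime 5) := ⟨by norm_num⟩
  have : Fact (Nat.Prime 7) := ⟨by norm_num⟩
  -- Sylow orders in `G`
  have h125 : ∀ P : Sylow 5 G, Nat.card (P : Subgroup G) = 125 := by
    intro P
    obtain ⟨e, he, hd, hnd⟩ := sylow_card_spec P
    rw [hcard] at hd hnd
    have he8 : e < 8 := exp_lt_eight (le_refl 5) hd (by norm_num) (by norm_num)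
    have he3 : e = 3 := arith_five_exp e he8 hd hnd
    rw [he, he3]; norm_num
  have h7 : ∀ S : Sylow 7 G, Nat.card (S : Subgroup G) = 7 := by
    intro S
    obtain ⟨e, he, hd, hnd⟩ := sylow_card_spec S
    rw [hcard] at hd hnd
    have he8 : e < 8 := exp_lt_eight (by norm_num) hd (by norm_num) (by norm_num)
    have he1 : e = 1 := arith_seven_exp e he8 hd hnd
    rw [he, he1]; norm_num
  have hTI7 : ∀ P Q : Sylow 7 G, P ≠ Q → ((P : Subgroup G) ⊓ (Q : Subgroup G)) = ⊥ :=
    ti_sylow_of_card_prime h7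
  -- the number of Sylow 5-subgroups of `G` is 126, their normalizers have order 1000
  have hn5G : Nat.card (Sylow 5 G) = 126 := by
    obtain ⟨P₁, P₂, h12⟩ := hne
    have hmod := card_sylow_modEq_one_of_ti hTI P₁
    rw [h125 P₁] at hmod
    have hdvd := P₁.card_dvd_index
    have hmul := Subgroup.card_mul_index (P₁ : Subgroup G)
    rw [h125 P₁, hcard] at hmul
    have hidx : (P₁ : Subgroup G).index = 1008 := by omega
    rw [hidx] at hdvd
    have hlt : Nat.card (Sylow 5 G) < 1009 := by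
      have := Nat.le_of_dvd (by norm_num) hdvd
      omega
    have hne1 : Nat.card (Sylow 5 G) ≠ 1 := by
      intro h1
      obtain ⟨hs, -⟩ := Nat.card_eq_one_iff_unique.mp h1
      exact h12 (Subsingleton.elim _ _)
    exact arith_n5 _ hlt hdvd hmod hne1
  have hN5 : ∀ P : Sylow 5 G,
      Nat.card (Subgroup.normalizer ((P : Subgroup G) : Set G)) = 1000 := by
    intro P
    have h1 := P.card_eq_index_normalizer
    rw [hn5G] at h1
    have hmul := Subgroup.card_mul_index (Subgroup.normalizer ((P : Subgroup G) : Set G))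
    rw [hcard] at hmul
    have h2 : (Subgroup.normalizer ((P : Subgroup G) : Set G)).index = 126 := h1.symm
    rw [h2] at hmul
    omega
  intro H hH
  by_contra hlt
  push Not at hlt
  have hmul := Subgroup.card_mul_index H
  rw [hcard] at hmul
  have hn1 : H.index ≠ 1 := fun h1 => hH (Subgroup.index_eq_one.mp h1)
  have hn0 : H.index ≠ 0 := by
    intro h0
    rw [h0] at hmul
    omega
  have hn2 : 2 ≤ H.index := by omega
  have hndvd : H.index ∣ 126000 := Dvd.intro_left _ hmul
  have hhdvd : Nat.card H ∣ 126000 := Dvd.intro _ hmul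
  have hh : Nat.card H = 126000 / H.index := by
    rw [← hmul]
    exact (Nat.mul_div_cancel _ (by omega)).symm
  -- Sylow 5-subgroup of `H`
  obtain ⟨Q⟩ := (Sylow.nonempty : Nonempty (Sylow 5 H))
  obtain ⟨e, he, hde, hnde⟩ := sylow_card_spec Q
  have he8 : e < 8 := exp_lt_eight (le_refl 5) (hde.trans hhdvd) (by norm_num) (by norm_num)
  have h5h : 5 ∣ Nat.card H := by
    rw [hh]; exact arith_five_dvd _ hlt hndvd
  have he1 : 1 ≤ e := by
    by_contra hcon
    have he0 : e = 0 := by omega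
    rw [he0] at hnde
    exact hnde (by simpa using h5h)
  have hpow : 1 < 5 ^ e := Nat.one_lt_pow (by omega) (by norm_num)
  have hQne : (Q : Subgroup H) ≠ ⊥ := by
    intro hb
    rw [hb, Subgroup.card_bot] at he
    omega
  obtain ⟨P, hPd⟩ := card_normalizer_sylow_subgroup_dvd hTI H Q hQne
  rw [hN5 P] at hPd
  have hd5a : 5 ^ e ∣ Nat.card (Subgroup.normalizer ((Q : Subgroup H) : Set H)) := by
    rw [← he]
    exact Subgroup.card_dvd_of_le Subgroup.le_normalizer
  have hd5h : Nat.card (Subgroup.normalizer ((Q : Subgroup H) : Set H)) ∣ Nat.card H :=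
    Subgroup.card_subgroup_dvd_card _
  have hd5pos : 0 < Nat.card (Subgroup.normalizer ((Q : Subgroup H) : Set H)) := Nat.card_pos
  have hn5 : Nat.card (Sylow 5 H) =
      Nat.card H / Nat.card (Subgroup.normalizer ((Q : Subgroup H) : Set H)) := by
    have h1 := Q.card_eq_index_normalizer
    have h2 := Subgroup.card_mul_index (Subgroup.normalizer ((Q : Subgroup H) : Set H))
    rw [h1]
    exact (Nat.div_eq_of_eq_mul_right hd5pos h2.symm).symm
  have hmod5 : (Nat.card H / Nat.card (Subgroup.normalizer ((Q : Subgroup H) : Set H))) %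
      5 ^ e = 1 := by
    have h1 := card_sylow_modEq_one_of_ti (ti_sylow_subgroup hTI H) Q
    rw [he, hn5] at h1
    have h2 : 1 % 5 ^ e = 1 := Nat.mod_eq_of_lt hpow
    exact Eq.trans h1 h2
  have hd5mem := arith_div_1000 _ (by
    have := Nat.le_of_dvd (by norm_num) hPd
    omega) hPd
  have hCE : CE (126000 / H.index) e := by
    rw [← hh]; exact ⟨hde, hnde⟩
  have hC5 : C5 (126000 / H.index) e
      (Nat.card (Subgroup.normalizer ((Q : Subgroup H) : Set H))) := by
    rw [← hh]; exact ⟨hPd, hd5a, hd5h, hmod5⟩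
  by_cases h7h : 7 ∣ Nat.card H
  · obtain ⟨S⟩ := (Sylow.nonempty : Nonempty (Sylow 7 H))
    obtain ⟨f, hf, hdf, hndf⟩ := sylow_card_spec S
    have hf1 : f = 1 := by
      have h1 : 1 ≤ f := by
        by_contra hcon
        have hf0 : f = 0 := by omega
        rw [hf0] at hndf
        exact hndf (by simpa using h7h)
      have h2 : f < 2 := by
        by_contra hcon
        push Not at hcon
        have h3 : 7 ^ 2 ∣ 7 ^ f := Nat.pow_dvd_pow 7 hcon
        have h4 : 7 ^ 2 ∣ 126000 := (h3.trans hdf).trans hhdvd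
        norm_num at h4
      omega
    rw [hf1, pow_one] at hf
    have hSne : (S : Subgroup H) ≠ ⊥ := by
      intro hb
      rw [hb, Subgroup.card_bot] at hf
      omega
    obtain ⟨P7, hP7d⟩ := card_normalizer_sylow_subgroup_dvd hTI7 H S hSne
    rw [hN7 P7] at hP7d
    have hd7a : 7 ∣ Nat.card (Subgroup.normalizer ((S : Subgroup H) : Set H)) := by
      have h0 : Nat.card (S : Subgroup H) ∣
          Nat.card (Subgroup.normalizer ((S : Subgroup H) : Set H)) :=
        Subgroup.card_dvd_of_le Subgroup.le_normalizer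
      rwa [hf] at h0
    have hd7h : Nat.card (Subgroup.normalizer ((S : Subgroup H) : Set H)) ∣ Nat.card H :=
      Subgroup.card_subgroup_dvd_card _
    have hd7pos : 0 < Nat.card (Subgroup.normalizer ((S : Subgroup H) : Set H)) := Nat.card_pos
    have hn7 : Nat.card (Sylow 7 H) =
        Nat.card H / Nat.card (Subgroup.normalizer ((S : Subgroup H) : Set H)) := by
      have h1 := S.card_eq_index_normalizer
      have h2 := Subgroup.card_mul_index (Subgroup.normalizer ((S : Subgroup H) : Set H))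
      rw [h1]
      exact (Nat.div_eq_of_eq_mul_right hd7pos h2.symm).symm
    have hmod7 : (Nat.card H / Nat.card (Subgroup.normalizer ((S : Subgroup H) : Set H))) %
        7 = 1 := by
      have h1 := card_sylow_modEq_one_of_ti (ti_sylow_subgroup hTI7 H) S
      rw [hf, hn7] at h1
      exact h1
    have hcount := ti_count_two 5 7 (by norm_num) (ti_sylow_subgroup hTI H)
      (ti_sylow_subgroup hTI7 H) Q S
    rw [he, hf, hn5, hn7] at hcount
    have hd7mem := arith_div_21 _ (by
      have := Nat.le_of_dvd (by norm_num) hP7d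
      omega) hP7d hd7a
    have hC7 : C7 (126000 / H.index) e
        (Nat.card (Subgroup.normalizer ((Q : Subgroup H) : Set H)))
        (Nat.card (Subgroup.normalizer ((S : Subgroup H) : Set H))) := by
      rw [← hh]
      intro _
      exact ⟨hP7d, hd7a, hd7h, hmod7, hcount⟩
    exact arith_126000 _ hlt hndvd hn2 e he8 hCE _ hd5mem hC5 _ hd7mem hC7
  · have hC7 : C7 (126000 / H.index) e
        (Nat.card (Subgroup.normalizer ((Q : Subgroup H) : Set H))) 7 := by
      rw [← hh]
      intro h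
      exact absurd h h7h
    exact arith_126000 _ hlt hndvd hn2 e he8 hCE _ hd5mem hC5 7 (by simp) hC7

end Cfsg.Agent.Lib.helper70
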