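import Mathlib

set_option autoImplicit false

/-!
# Fixed-point-free automorphisms of order 3 (abstract lemmas)

* `fpf3_class2`: a finite group with a fixed-point-free endomorphism `φ` with `φ³ = id` has all
  commutators central (nilpotency class at most 2).
* `s3_exp2`: a finite group acted on by `S₃ = ⟨φ, τ⟩` (`φ` fixed-point-free of order 3) such that
  the elements `τ φⁱ(v) v` square to one, has exponent 2.
-/

namespace Cfsg.Agent.Lib.helper70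

section Fpf3

variable {H : Type*} [Group H]

theorem fpf_hom_inj (φ : H →* H) (hfpf : ∀ g : H, φ g = g → g = 1) {a b : H}
    (hab : a⁻¹ * φ a = b⁻¹ * φ b) : a = b := by
  have h2 : φ (b * a⁻¹) = b * a⁻¹ := by
    rw [map_mul, map_inv]
    have h3 : φ b = b * (a⁻¹ * φ a) := by rw [hab, mul_inv_cancel_left]
    rw [h3]; group
  have h3 := hfpf _ h2
  exact (mul_inv_eq_one.mp h3).symm

/-- a fixed-point-free endomorphism of a finite group: every element is `w⁻¹ * φ w`. -/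
theorem fpf_hom_surj [Finite H] (φ : H →* H) (hfpf : ∀ g : H, φ g = g → g = 1) (g : H) :
    ∃ w : H, g = w⁻¹ * φ w := by
  have hinj : Function.Injective (fun w : H => w⁻¹ * φ w) := by
    intro a b hab
    exact fpf_hom_inj φ hfpf hab
  obtain ⟨w, hw⟩ := (Finite.injective_iff_surjective.mp hinj) g
  exact ⟨w, hw.symm⟩

/-- `g * φ g * φ² g = 1` for a fixed-point-free endomorphism of order 3. -/
theorem fpf3_prod [Finite H] (φ : H →* H) (h3 : ∀ g : H, φ (φ (φ g)) = g)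
    (hfpf : ∀ g : H, φ g = g → g = 1) (g : H) : g * φ g * φ (φ g) = 1 := by
  obtain ⟨w, rfl⟩ := fpf_hom_surj φ hfpf g
  simp only [map_mul, map_inv, h3]
  group

theorem fpf3_comm (φ : H →* H) (h1 : ∀ g : H, g * φ g * φ (φ g) = 1) (g : H) :
    g * φ g = φ g * g := by
  have a := h1 g
  have b := h1 g⁻¹
  simp only [map_inv] at b
  have e1 : g * φ g = (φ (φ g))⁻¹ := eq_inv_of_mul_eq_one_left a
  have e2 : φ g * g = (φ (φ g))⁻¹ := by
    have h' : (φ (φ g) * (φ g * g))⁻¹ = 1 := by rw [← b]; group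
    rw [inv_eq_one] at h'
    exact eq_inv_of_mul_eq_one_right h'
  rw [e1, e2]

theorem fpf3_conj (φ : H →* H) (h1 : ∀ g : H, g * φ g * φ (φ g) = 1) (g h : H) :
    h⁻¹ * g * h = φ h * g * φ g * (φ h)⁻¹ * (φ g)⁻¹ := by
  have X := h1 (g * h)
  simp only [map_mul] at X
  have eg : φ (φ g) = (g * φ g)⁻¹ := eq_inv_of_mul_eq_one_right (h1 g)
  have eh : φ (φ h) = (h * φ h)⁻¹ := eq_inv_of_mul_eq_one_right (h1 h)
  rw [eg, eh] at X
  have e : φ h * g * φ g * (φ h)⁻¹ * (φ g)⁻¹ =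
      h⁻¹ * (g * h * (φ g * φ h) * ((g * φ g)⁻¹ * (h * φ h)⁻¹))⁻¹ * g * h := by group
  rw [e, X, inv_one, mul_one]

theorem fpf3_conj_phi (φ : H →* H) (h1 : ∀ g : H, g * φ g * φ (φ g) = 1)
    (h3 : ∀ g : H, φ (φ (φ g)) = g) (g u : H) :
    φ u * g * (φ u)⁻¹ = u * φ g * u⁻¹ * (g * (φ g)⁻¹) := by
  have A : φ u * g * (φ u)⁻¹ = (φ (φ u))⁻¹ * g * φ g * φ (φ u) * (φ g)⁻¹ := by
    have A0 := fpf3_conj φ h1 g (φ u)⁻¹
    rw [map_inv, inv_inv, inv_inv] at A0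
    exact A0
  have B : (φ (φ u))⁻¹ * (g * φ g) * φ (φ u) =
      u * (g * φ g) * (φ g * φ (φ g)) * u⁻¹ * (φ g * φ (φ g))⁻¹ := by
    have B0 := fpf3_conj φ h1 (g * φ g) (φ (φ u))
    rw [h3, map_mul] at B0
    exact B0
  have eg : φ (φ g) = (g * φ g)⁻¹ := eq_inv_of_mul_eq_one_right (h1 g)
  have c := fpf3_comm φ h1 g
  have B' : (φ (φ u))⁻¹ * (g * φ g) * φ (φ u) = u * φ g * u⁻¹ * g := by
    calc (φ (φ u))⁻¹ * (g * φ g) * φ (φ u)
        = u * (g * φ g) * (φ g * φ (φ g)) * u⁻¹ * (φ g * φ (φ g))⁻¹ := B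
      _ = u * (g * φ g) * (φ g * (g * φ g)⁻¹) * u⁻¹ * (φ g * (g * φ g)⁻¹)⁻¹ := by rw [eg]
      _ = u * (g * φ g * g⁻¹) * u⁻¹ * g := by group
      _ = u * (φ g * g * g⁻¹) * u⁻¹ * g := by rw [c]
      _ = u * φ g * u⁻¹ * g := by group
  calc φ u * g * (φ u)⁻¹ = (φ (φ u))⁻¹ * g * φ g * φ (φ u) * (φ g)⁻¹ := A
    _ = ((φ (φ u))⁻¹ * (g * φ g) * φ (φ u)) * (φ g)⁻¹ := by group
    _ = (u * φ g * u⁻¹ * g) * (φ g)⁻¹ := by rw [B']
    _ = u * φ g * u⁻¹ * (g * (φ g)⁻¹) := by group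

theorem fpf3_central_aux (φ : H →* H) (h1 : ∀ g : H, g * φ g * φ (φ g) = 1)
    (h3 : ∀ g : H, φ (φ (φ g)) = g) (a b u : H) :
    (u * φ b * u⁻¹ * (φ b)⁻¹) * (a * (φ a)⁻¹) = (a * (φ a)⁻¹) * (u * φ b * u⁻¹ * (φ b)⁻¹) := by
  have Da := fpf3_conj_phi φ h1 h3 a u
  have Db := fpf3_conj_phi φ h1 h3 b u
  have Dab := fpf3_conj_phi φ h1 h3 (a * b) u
  rw [map_mul] at Dab
  have ca := fpf3_comm φ h1 a
  have cb := fpf3_comm φ h1 b
  have cab := fpf3_comm φ h1 (a * b)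
  rw [map_mul] at cab
  clear h1 h3
  generalize φ a = A at *
  generalize φ b = B at *
  generalize φ u = U at *
  have E' : u * (A * B) * u⁻¹ * (a * b * (A * B)⁻¹) =
      (u * A * u⁻¹ * (a * A⁻¹)) * (u * B * u⁻¹ * (b * B⁻¹)) := by
    rw [← Dab, ← Da, ← Db]; group
  have E : (u * B * u⁻¹) * (a * b * (A * B)⁻¹) = (a * A⁻¹) * ((u * B * u⁻¹) * (b * B⁻¹)) := by
    have l : u * (A * B) * u⁻¹ * (a * b * (A * B)⁻¹) =
        (u * A * u⁻¹) * ((u * B * u⁻¹) * (a * b * (A * B)⁻¹)) := by group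
    have r : (u * A * u⁻¹ * (a * A⁻¹)) * (u * B * u⁻¹ * (b * B⁻¹)) =
        (u * A * u⁻¹) * ((a * A⁻¹) * ((u * B * u⁻¹) * (b * B⁻¹))) := by group
    rw [l, r] at E'
    exact mul_left_cancel E'
  have s2 : A⁻¹ * a = a * A⁻¹ := by
    have h' : A⁻¹ * a = A⁻¹ * (a * A) * A⁻¹ := by group
    rw [h', ca]; group
  have s : a * b * (A * B)⁻¹ = B⁻¹ * (a * A⁻¹) * b := by
    have s1 : a * b * (A * B)⁻¹ = (A * B)⁻¹ * (A * B * (a * b)) * (A * B)⁻¹ := by group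
    have s3 : (A * B)⁻¹ * (a * b * (A * B)) * (A * B)⁻¹ = B⁻¹ * (A⁻¹ * a) * b := by group
    rw [s1, ← cab, s3, s2]
  have cbi : b * B⁻¹ = B⁻¹ * b := by
    have h' : b * B⁻¹ = B⁻¹ * (B * b) * B⁻¹ := by group
    rw [h', ← cb]; group
  rw [s, cbi] at E
  have l2 : (u * B * u⁻¹) * (B⁻¹ * (a * A⁻¹) * b) =
      ((u * B * u⁻¹ * B⁻¹) * (a * A⁻¹)) * b := by group
  have r2 : (a * A⁻¹) * ((u * B * u⁻¹) * (B⁻¹ * b)) =
      ((a * A⁻¹) * (u * B * u⁻¹ * B⁻¹)) * b := by group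
  rw [l2, r2] at E
  exact mul_right_cancel E

/-- A finite group with a fixed-point-free endomorphism of order 3 has class at most 2:
all commutators are central. -/
theorem fpf3_class2 [Finite H] (φ : H →* H) (h3 : ∀ g : H, φ (φ (φ g)) = g)
    (hfpf : ∀ g : H, φ g = g → g = 1) (u c g : H) :
    (u * c * u⁻¹ * c⁻¹) * g = g * (u * c * u⁻¹ * c⁻¹) := by
  have h1 := fpf3_prod φ h3 hfpf
  obtain ⟨w, hw⟩ := fpf_hom_surj φ hfpf g
  have key := fpf3_central_aux φ h1 h3 w⁻¹ (φ (φ c)) u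
  rw [h3, map_inv, inv_inv, ← hw] at key
  exact key

end Fpf3

section S3

variable {H : Type*} [Group H]

/-- class-2 expansion of a square -/
theorem cl2_sq (hc : ∀ u c g : H, (u * c * u⁻¹ * c⁻¹) * g = g * (u * c * u⁻¹ * c⁻¹)) (a b : H) :
    (a * b) * (a * b) = (a * a) * (b * b) * (b⁻¹ * a⁻¹ * b⁻¹⁻¹ * a⁻¹⁻¹) := by
  calc (a * b) * (a * b) = (a * a) * (b * ((b⁻¹ * a⁻¹ * b⁻¹⁻¹ * a⁻¹⁻¹) * b)) := by group
    _ = (a * a) * (b * (b * (b⁻¹ * a⁻¹ * b⁻¹⁻¹ * a⁻¹⁻¹))) := by rw [hc b⁻¹ a⁻¹ b]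
    _ = (a * a) * (b * b) * (b⁻¹ * a⁻¹ * b⁻¹⁻¹ * a⁻¹⁻¹) := by group

/-- bilinearity of commutators in class 2 -/
theorem cl2_bil (hc : ∀ u c g : H, (u * c * u⁻¹ * c⁻¹) * g = g * (u * c * u⁻¹ * c⁻¹))
    (a b c : H) :
    (a * b) * c * (a * b)⁻¹ * c⁻¹ = (a * c * a⁻¹ * c⁻¹) * (b * c * b⁻¹ * c⁻¹) := by
  calc (a * b) * c * (a * b)⁻¹ * c⁻¹ = a * ((b * c * b⁻¹ * c⁻¹) * (c * a⁻¹ * c⁻¹)) := by group
    _ = a * ((c * a⁻¹ * c⁻¹) * (b * c * b⁻¹ * c⁻¹)) := by rw [hc b c (c * a⁻¹ * c⁻¹)]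
    _ = (a * c * a⁻¹ * c⁻¹) * (b * c * b⁻¹ * c⁻¹) := by group

/-- A finite group acted on by `S₃ = ⟨φ, τ⟩`, `φ` fixed-point-free of order 3, `τ` of order 2,
such that all elements `τ φⁱ(v) v` square to one, has exponent 2. -/
theorem s3_exp2 [Finite H] (φ τ : H →* H) (h3 : ∀ g : H, φ (φ (φ g)) = g)
    (hfpf : ∀ g : H, φ g = g → g = 1) (hτ : ∀ g : H, τ (τ g) = g) (h4 : ∀ v : H, v ^ 4 = 1)
    (H0 : ∀ v : H, (τ v * v) * (τ v * v) = 1)
    (H1 : ∀ v : H, (τ (φ v) * v) * (τ (φ v) * v) = 1)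
    (H2 : ∀ v : H, (τ (φ (φ v)) * v) * (τ (φ (φ v)) * v) = 1) (v : H) : v * v = 1 := by
  have hc := fpf3_class2 φ h3 hfpf
  have h1 := fpf3_prod φ h3 hfpf
  have hcz : ∀ u c : H, u * c * u⁻¹ * c⁻¹ ∈ Subgroup.center H := fun u c =>
    Subgroup.mem_center_iff.mpr (fun g => (hc u c g).symm)
  have hφz : ∀ z ∈ Subgroup.center H, φ z ∈ Subgroup.center H := by
    intro z hz
    rw [Subgroup.mem_center_iff]
    intro g
    have k := congrArg φ (Subgroup.mem_center_iff.mp hz (φ (φ g)))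
    rw [map_mul, map_mul, h3] at k
    exact k
  have hτz : ∀ z ∈ Subgroup.center H, τ z ∈ Subgroup.center H := by
    intro z hz
    rw [Subgroup.mem_center_iff]
    intro g
    have k := congrArg τ (Subgroup.mem_center_iff.mp hz (τ g))
    rw [map_mul, map_mul, hτ] at k
    exact k
  have ha : ∀ w : H, w⁻¹ * φ w ∈ Subgroup.center H → w ∈ Subgroup.center H := by
    intro w hw
    let θ : Subgroup.center H → Subgroup.center H := fun z =>
      ⟨(z : H)⁻¹ * φ z, mul_mem (inv_mem z.2) (hφz z z.2)⟩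
    have hinj : Function.Injective θ := by
      intro a b hab
      have h' : (a : H)⁻¹ * φ a = (b : H)⁻¹ * φ b := congrArg Subtype.val hab
      exact Subtype.ext (fpf_hom_inj φ hfpf h')
    obtain ⟨z, hz⟩ := (Finite.injective_iff_surjective.mp hinj) ⟨w⁻¹ * φ w, hw⟩
    have h' : (z : H)⁻¹ * φ z = w⁻¹ * φ w := congrArg Subtype.val hz
    rw [← fpf_hom_inj φ hfpf h']
    exact z.2
  -- squares are central
  have hsq : ∀ v : H, v * v ∈ Subgroup.center H := by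
    intro v
    apply ha
    have E0 := H0 v
    rw [cl2_sq hc, ← map_mul τ] at E0
    have E1 := H1 v
    rw [cl2_sq hc, ← map_mul τ, ← map_mul φ] at E1
    have hC₀z : v⁻¹ * (τ v)⁻¹ * v⁻¹⁻¹ * (τ v)⁻¹⁻¹ ∈ Subgroup.center H := hcz _ _
    have hC₁z : v⁻¹ * (τ (φ v))⁻¹ * v⁻¹⁻¹ * (τ (φ v))⁻¹⁻¹ ∈ Subgroup.center H := hcz _ _
    generalize v⁻¹ * (τ v)⁻¹ * v⁻¹⁻¹ * (τ v)⁻¹⁻¹ = C₀ at E0 hC₀z
    generalize v⁻¹ * (τ (φ v))⁻¹ * v⁻¹⁻¹ * (τ (φ v))⁻¹⁻¹ = C₁ at E1 hC₁z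
    have e0 : τ (v * v) = (v * v * C₀)⁻¹ := by
      apply eq_inv_of_mul_eq_one_left
      rw [← mul_assoc]; exact E0
    have e1 : τ (φ (v * v)) = (v * v * C₁)⁻¹ := by
      apply eq_inv_of_mul_eq_one_left
      rw [← mul_assoc]; exact E1
    have e2 : φ (v * v) = (τ C₁)⁻¹ * (v * v * C₀) := by
      have k := congrArg τ e1
      rw [hτ, map_inv, map_mul τ (v * v) C₁, e0] at k
      rw [k, mul_inv_rev, inv_inv]
    have hz : (τ C₁)⁻¹ ∈ Subgroup.center H := inv_mem (hτz _ hC₁z)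
    have e3 : (v * v)⁻¹ * φ (v * v) = (τ C₁)⁻¹ * C₀ := by
      rw [e2, ← mul_assoc, Subgroup.mem_center_iff.mp hz ((v * v)⁻¹)]
      group
    rw [e3]
    exact mul_mem hz hC₀z
  -- the commutator identity
  have key : ∀ v : H, v * (τ v)⁻¹ * v⁻¹ * (τ v)⁻¹⁻¹ = v * v := by
    intro v
    have P1 : (τ v * φ v) * (τ v * φ v) = 1 := by
      have h' := H2 (φ v); rwa [h3] at h'
    have P2 : (τ v * φ (φ v)) * (τ v * φ (φ v)) = 1 := by
      have h' := H1 (φ (φ v)); rwa [h3] at h'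
    rw [cl2_sq hc] at P1 P2
    have cαβ := fpf3_comm φ h1 (φ v)
    have hv := h1 v
    have hab : φ v * φ (φ v) = v⁻¹ := by
      have h' : v * (φ v * φ (φ v)) = 1 := by rw [← mul_assoc]; exact hv
      exact eq_inv_of_mul_eq_one_right h'
    have hS : τ v * τ v ∈ Subgroup.center H := hsq (τ v)
    have hA : φ v * φ v ∈ Subgroup.center H := hsq _
    have hB : φ (φ v) * φ (φ v) ∈ Subgroup.center H := hsq _
    have hCA : (φ v)⁻¹ * (τ v)⁻¹ * (φ v)⁻¹⁻¹ * (τ v)⁻¹⁻¹ ∈ Subgroup.center H := hcz _ _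
    have hCB : (φ (φ v))⁻¹ * (τ v)⁻¹ * (φ (φ v))⁻¹⁻¹ * (τ v)⁻¹⁻¹ ∈ Subgroup.center H :=
      hcz _ _
    have hV : v * v ∈ Subgroup.center H := hsq v
    have hCV : v * (τ v)⁻¹ * v⁻¹ * (τ v)⁻¹⁻¹ ∈ Subgroup.center H := hcz _ _
    have r1 : (τ v * τ v) * (τ v * τ v) = 1 := by
      have h' := h4 (τ v)
      rw [pow_succ, pow_succ, pow_succ, pow_one] at h'
      rw [← mul_assoc]; exact h'
    have r2 : (φ v * φ v) * (φ (φ v) * φ (φ v)) = (v * v)⁻¹ := by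
      calc (φ v * φ v) * (φ (φ v) * φ (φ v)) = φ v * (φ v * φ (φ v)) * φ (φ v) := by group
        _ = φ v * (φ (φ v) * φ v) * φ (φ v) := by rw [cαβ]
        _ = (φ v * φ (φ v)) * (φ v * φ (φ v)) := by group
        _ = (v * v)⁻¹ := by rw [hab]; group
    have r3 : ((φ v)⁻¹ * (τ v)⁻¹ * (φ v)⁻¹⁻¹ * (τ v)⁻¹⁻¹) *
        ((φ (φ v))⁻¹ * (τ v)⁻¹ * (φ (φ v))⁻¹⁻¹ * (τ v)⁻¹⁻¹) =
        v * (τ v)⁻¹ * v⁻¹ * (τ v)⁻¹⁻¹ := by
      rw [← cl2_bil hc]
      have hv' : (φ v)⁻¹ * (φ (φ v))⁻¹ = v := by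
        rw [← mul_inv_rev, ← cαβ, hab, inv_inv]
      rw [hv']
    have e1 : (⟨_, hS⟩ : Subgroup.center H) * ⟨_, hA⟩ * ⟨_, hCA⟩ = 1 := Subtype.ext P1
    have e2 : (⟨_, hS⟩ : Subgroup.center H) * ⟨_, hB⟩ * ⟨_, hCB⟩ = 1 := Subtype.ext P2
    have R1 : (⟨_, hS⟩ : Subgroup.center H) * ⟨_, hS⟩ = 1 := Subtype.ext r1
    have R2 : (⟨_, hA⟩ : Subgroup.center H) * ⟨_, hB⟩ = (⟨_, hV⟩)⁻¹ := Subtype.ext r2
    have R3 : (⟨_, hCA⟩ : Subgroup.center H) * ⟨_, hCB⟩ = ⟨_, hCV⟩ := Subtype.ext r3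
    have e12 : ((⟨_, hS⟩ : Subgroup.center H) * ⟨_, hA⟩ * ⟨_, hCA⟩) *
        (⟨_, hS⟩ * ⟨_, hB⟩ * ⟨_, hCB⟩) = 1 := by rw [e1, e2, one_mul]
    have e3 : ((⟨_, hS⟩ : Subgroup.center H) * ⟨_, hS⟩) * (⟨_, hA⟩ * ⟨_, hB⟩) *
        (⟨_, hCA⟩ * ⟨_, hCB⟩) = 1 := by
      rw [← e12]; ac_rfl
    rw [R1, R2, R3, one_mul] at e3
    have e4 := inv_mul_eq_one.mp e3
    exact (congrArg Subtype.val e4).symm
  -- conclusion
  have E0 := H0 v
  rw [cl2_sq hc] at E0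
  have b1 := cl2_bil hc v⁻¹ v (τ v)⁻¹
  rw [key v] at b1
  have b2 : v⁻¹ * (τ v)⁻¹ * v⁻¹⁻¹ * (τ v)⁻¹⁻¹ = (v * v)⁻¹ := by
    apply eq_inv_of_mul_eq_one_left
    rw [← b1]; group
  rw [b2] at E0
  have e5 : τ v * τ v = 1 := by
    have h' : τ v * τ v = (τ v * τ v) * (v * v) * (v * v)⁻¹ := by group
    rw [h', E0]
  rw [← map_mul τ] at e5
  have h' := congrArg τ e5
  rw [hτ, map_one] at h'
  exact h'

end S3

section Misc

open scoped commutatorElement in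
/-- a nontrivial finite solvable group has a nontrivial normal `p`-subgroup -/
theorem exists_normal_pgroup_of_solvable {X : Type*} [Group X] [Finite X] [Nontrivial X]
    (hs : Group.IsSolvable X) :
    ∃ p : ℕ, p.Prime ∧ ∃ N : Subgroup X, N.Normal ∧ IsPGroup p N ∧ N ≠ ⊥ := by
  classical
  have hex : ∃ n, derivedSeries X n = ⊥ := hs.solvable
  have hm1 : derivedSeries X (Nat.find hex) = ⊥ := Nat.find_spec hex
  have hm0 : Nat.find hex ≠ 0 := by
    intro h0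
    rw [h0, derivedSeries_zero] at hm1
    exact top_ne_bot hm1
  obtain ⟨k, hk⟩ := Nat.exists_eq_add_one_of_ne_zero hm0
  have hk1 : derivedSeries X k ≠ ⊥ := Nat.find_min hex (by omega)
  have hAn : (derivedSeries X k).Normal := inferInstance
  have hAc : ∀ a ∈ derivedSeries X k, ∀ b ∈ derivedSeries X k, a * b = b * a := by
    intro a ha b hb
    have h1 : ⁅a, b⁆ ∈ derivedSeries X (k + 1) := by
      rw [derivedSeries_succ]; exact Subgroup.commutator_mem_commutator ha hb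
    rw [← hk, hm1, Subgroup.mem_bot] at h1
    exact commutatorElement_eq_one_iff_mul_comm.mp h1
  have hcard : Nat.card (derivedSeries X k) ≠ 1 := by
    intro h1
    exact hk1 (Subgroup.card_eq_one.mp h1)
  obtain ⟨p, hp, hpd⟩ := Nat.exists_prime_and_dvd hcard
  have : Fact p.Prime := ⟨hp⟩
  obtain ⟨x, hx⟩ := exists_prime_orderOf_dvd_card' (G := derivedSeries X k) p hpd
  let N : Subgroup X :=
    { carrier := {z | z ∈ derivedSeries X k ∧ z ^ p = 1}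
      mul_mem' := by
        rintro a b ⟨ha, hap⟩ ⟨hb, hbp⟩
        refine ⟨mul_mem ha hb, ?_⟩
        have hcm : Commute a b := hAc a ha b hb
        rw [hcm.mul_pow, hap, hbp, one_mul]
      one_mem' := ⟨one_mem _, one_pow _⟩
      inv_mem' := by
        rintro a ⟨ha, hap⟩
        exact ⟨inv_mem ha, by rw [inv_pow, hap, inv_one]⟩ }
  refine ⟨p, hp, N, ?_, ?_, ?_⟩
  · refine ⟨fun z hz g => ?_⟩
    obtain ⟨hzA, hzp⟩ := hz
    refine ⟨hAn.conj_mem z hzA g, ?_⟩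
    rw [conj_pow, hzp]; group
  · intro z
    refine ⟨1, Subtype.ext ?_⟩
    have := z.2.2
    simpa using this
  · intro hbot
    have hmem : (x : X) ∈ N := by
      refine ⟨x.2, ?_⟩
      have h1 : x ^ p = 1 := by rw [← hx]; exact pow_orderOf_eq_one x
      have := congrArg Subtype.val h1
      simpa using this
    rw [hbot, Subgroup.mem_bot] at hmem
    have hx1 : x = 1 := Subtype.ext hmem
    rw [hx1, orderOf_one] at hx
    exact hp.one_lt.ne hx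

/-- a non-abelian group of order six is `S₃` -/
theorem nonempty_mulEquiv_perm_fin_three' {E : Type*} [Group E] [Finite E]
    (h6 : Nat.card E = 6) (hne : ∃ a b : E, a * b ≠ b * a) :
    Nonempty (E ≃* Equiv.Perm (Fin 3)) := by
  classical
  have hp2 : Fact (Nat.Prime 2) := ⟨Nat.prime_two⟩
  obtain ⟨x, hx⟩ := exists_prime_orderOf_dvd_card' (G := E) 2 (by rw [h6]; norm_num)
  have hA : Nat.card (Subgroup.zpowers x) = 2 := by rw [Nat.card_zpowers, hx]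
  have hq : Nat.card (E ⧸ Subgroup.zpowers x) = 3 := by
    have := Subgroup.card_eq_card_quotient_mul_card_subgroup (Subgroup.zpowers x)
    rw [h6, hA] at this
    omega
  have hx1 : x ≠ 1 := by
    intro h; rw [h, orderOf_one] at hx; omega
  by_cases hn : (Subgroup.zpowers x).Normal
  · exfalso
    have hcen : Subgroup.zpowers x ≤ Subgroup.center E := by
      rw [Subgroup.zpowers_le, Subgroup.mem_center_iff]
      intro g
      have h1 : g * x * g⁻¹ ∈ Subgroup.zpowers x := hn.conj_mem x (Subgroup.mem_zpowers x) g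
      rw [mem_zpowers_iff_mem_range_orderOf, hx] at h1
      simp only [Finset.mem_image, Finset.mem_range] at h1
      obtain ⟨i, hi, hxi⟩ := h1
      interval_cases i
      · exfalso
        rw [pow_zero] at hxi
        apply hx1
        have : x = g⁻¹ * (g * x * g⁻¹) * g := by group
        rw [this, ← hxi]; group
      · rw [pow_one] at hxi
        have : g * x = (g * x * g⁻¹) * g := by group
        rw [this, ← hxi]
    have hcyc : IsCyclic (E ⧸ Subgroup.zpowers x) := isCyclic_of_prime_card (p := 3) hq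
    obtain ⟨a, b, hab⟩ := hne
    exact hab (commutative_of_cyclic_center_quotient (QuotientGroup.mk' (Subgroup.zpowers x))
      (by rw [QuotientGroup.ker_mk']; exact hcen) a b)
  · have hker : (MulAction.toPermHom E (E ⧸ Subgroup.zpowers x)).ker = ⊥ := by
      rw [← Subgroup.normalCore_eq_ker]
      have hle : (Subgroup.zpowers x).normalCore ≤ Subgroup.zpowers x := Subgroup.normalCore_le _
      have hd : Nat.card (Subgroup.zpowers x).normalCore ∣ 2 := hA ▸ Subgroup.card_dvd_of_le hle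
      rcases (Nat.dvd_prime Nat.prime_two).mp hd with h | h
      · exact Subgroup.card_eq_one.mp h
      · exfalso
        apply hn
        have : (Subgroup.zpowers x).normalCore = Subgroup.zpowers x :=
          Subgroup.eq_of_le_of_card_ge hle (by rw [h, hA])
        rw [← this]; infer_instance
    have hinj : Function.Injective (MulAction.toPermHom E (E ⧸ Subgroup.zpowers x)) :=
      (MonoidHom.ker_eq_bot_iff _).mp hker
    have hcardP : Nat.card (Equiv.Perm (E ⧸ Subgroup.zpowers x)) = 6 := by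
      rw [Nat.card_perm, hq]; rfl
    have hbij : Function.Bijective (MulAction.toPermHom E (E ⧸ Subgroup.zpowers x)) := by
      rw [Nat.bijective_iff_injective_and_card]
      exact ⟨hinj, by rw [h6, hcardP]⟩
    have e2 : (E ⧸ Subgroup.zpowers x) ≃ Fin 3 := (Finite.equivFin _).trans (finCongr hq)
    exact ⟨(MulEquiv.ofBijective _ hbij).trans e2.permCongrHom⟩

end Misc

end Cfsg.Agent.Lib.helper70
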