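import Mathlib
import Cfsg.Agent.Lib.helper70.OC4A
import Cfsg.Agent.Lib.helper70.Fpf
import Cfsg.Agent.Lib.helper70.FrobTypeA
import Cfsg.Agent.Lib.helper1.Fpf
import Cfsg.Agent.S0016
import Cfsg.Prelude.Def_Transfer

set_option autoImplicit false

/-!
# Groups whose element orders lie in `{1, 2, 3, 4}`

`OC4 G` : every element satisfies `g ^ 4 = 1` or `g ^ 3 = 1`.

* `oc4_A_final`: if `O_3(G) ≠ 1` then `O_3(G)` is elementary abelian and `G / O_3(G)` is cyclic of
  order 4 or quaternion of order 8.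
* `oc4_caseB`: if `G` is solvable with `O_3(G) = 1`, then `F = O_2(G)` has exponent 4, class `≤ 2`
  and index 3, or `F` has exponent 2 and `G / F` is nonabelian of order 6.
-/

namespace Cfsg.Agent.Lib.helper70

/-- every element has order dividing 4 or 3. -/
def OC4 (G : Type*) [Group G] : Prop := ∀ g : G, g ^ 4 = 1 ∨ g ^ 3 = 1

theorem eq_one_of_pow_coprime {G : Type*} [Group G] {g : G} {a b : ℕ} (ha : g ^ a = 1)
    (hb : g ^ b = 1) (hab : Nat.Coprime a b) : g = 1 := by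
  have h1 := orderOf_dvd_of_pow_eq_one ha
  have h2 := orderOf_dvd_of_pow_eq_one hb
  have h3 : orderOf g ∣ Nat.gcd a b := Nat.dvd_gcd h1 h2
  rw [Nat.Coprime] at hab
  rw [hab] at h3
  exact orderOf_eq_one_iff.mp (Nat.dvd_one.mp h3)

section

variable {G : Type*} [Group G]

theorem OC4.no_comm (hG : OC4 G) {u y : G} (hu : u ^ 4 = 1) (hu1 : u ≠ 1) (hy : y ^ 3 = 1)
    (hy1 : y ≠ 1) : u * y ≠ y * u := by
  intro hc
  have hcm : Commute u y := hc
  rcases hG (u * y) with h | h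
  · rw [hcm.mul_pow, hu, one_mul] at h
    exact hy1 (eq_one_of_pow_coprime h hy (by decide))
  · rw [hcm.mul_pow, hy, mul_one] at h
    exact hu1 (eq_one_of_pow_coprime hu h (by decide))

theorem OC4.pow_four (hG : OC4 G) {N : Subgroup G} (hN : IsPGroup 2 N) {g : G} (hg : g ∈ N) :
    g ^ 4 = 1 := by
  rcases hG g with h | h
  · exact h
  · obtain ⟨k, hk⟩ := hN ⟨g, hg⟩
    have hk' : g ^ (2 ^ k) = 1 := by
      have := congrArg Subtype.val hk
      simpa using this
    have h1 : g = 1 := eq_one_of_pow_coprime hk' h (Nat.Coprime.pow_left k (by decide))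
    rw [h1, one_pow]

theorem OC4.pow_three (hG : OC4 G) {N : Subgroup G} (hN : IsPGroup 3 N) {g : G} (hg : g ∈ N) :
    g ^ 3 = 1 := by
  rcases hG g with h | h
  · obtain ⟨k, hk⟩ := hN ⟨g, hg⟩
    have hk' : g ^ (3 ^ k) = 1 := by
      have := congrArg Subtype.val hk
      simpa using this
    have h1 : g = 1 := eq_one_of_pow_coprime hk' h (Nat.Coprime.pow_left k (by decide))
    rw [h1, one_pow]
  · exact h

theorem invol_pow_four {t : G} (htt : t * t = 1) : t ^ 4 = 1 := by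
  have h2 : t ^ 2 = 1 := by rw [pow_two]; exact htt
  calc t ^ 4 = (t ^ 2) ^ 2 := by rw [← pow_mul]
    _ = 1 := by rw [h2, one_pow]

theorem OC4.invol_inverts (hG : OC4 G) (R : Subgroup G) [Finite R] (hR : IsPGroup 3 R) (t : G)
    (htt : t * t = 1) (ht1 : t ≠ 1) (htR : ∀ a ∈ R, t * a * t⁻¹ ∈ R) :
    ∀ g ∈ R, t * g * t⁻¹ = g⁻¹ := by
  apply inverts_of_fpf R t htt htR
  intro a ha hfix
  by_contra ha1
  exact hG.no_comm (invol_pow_four htt) ht1 (hG.pow_three hR ha) ha1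
    (mul_inv_eq_iff_eq_mul.mp hfix)

theorem oc4_caseA [Finite G] (hG : OC4 G) (Q : Subgroup G) [hQn : Q.Normal]
    (hQ3 : IsPGroup 3 Q) (hQ1 : Q ≠ ⊥)
    (hmax : ∀ N : Subgroup G, N.Normal → IsPGroup 3 N → N ≤ Q)
    (t : G) (htt : t * t = 1) (ht1 : t ≠ 1) :
    (∀ a ∈ Q, ∀ b ∈ Q, a * b = b * a) ∧ (∀ y : G, y ^ 3 = 1 → y ∈ Q) ∧
    (∀ u : G, u * u = 1 → u ≠ 1 → t⁻¹ * u ∈ Q) := by
  have hinv : ∀ u : G, u * u = 1 → u ≠ 1 → ∀ g ∈ Q, u * g * u⁻¹ = g⁻¹ := fun u hu hu1 =>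
    hG.invol_inverts Q hQ3 u hu hu1 (fun a ha => hQn.conj_mem a ha u)
  have hcomm := comm_of_inverts Q t (hinv t htt ht1)
  obtain ⟨y₀, hy₀Q, hy₀1⟩ : ∃ y ∈ Q, y ≠ 1 := by
    by_contra hcon
    push Not at hcon
    exact hQ1 ((Subgroup.eq_bot_iff_forall Q).mpr hcon)
  have hcent : Subgroup.centralizer (Q : Set G) ≤ Q := by
    apply hmax _ inferInstance
    intro c
    have hc3 : (c : G) ^ 3 = 1 := by
      rcases hG (c : G) with h4 | h3
      · have hc1 : (c : G) = 1 := by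
          by_contra hc1
          have hcy : y₀ * (c : G) = (c : G) * y₀ := (Subgroup.mem_centralizer_iff.mp c.2) y₀ hy₀Q
          exact hG.no_comm h4 hc1 (hG.pow_three hQ3 hy₀Q) hy₀1 hcy.symm
        rw [hc1, one_pow]
      · exact h3
    refine ⟨1, Subtype.ext ?_⟩
    simpa using hc3
  have hinvQ : ∀ u : G, u * u = 1 → u ≠ 1 → t⁻¹ * u ∈ Q := by
    intro u hu hu1
    apply hcent
    rw [Subgroup.mem_centralizer_iff]
    intro q hq
    have h1 : u * q * u⁻¹ = q⁻¹ := hinv u hu hu1 q hq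
    have h2 : t * q * t⁻¹ = q⁻¹ := hinv t htt ht1 q hq
    calc q * (t⁻¹ * u) = t⁻¹ * (t * q * t⁻¹) * u := by group
      _ = t⁻¹ * (u * q * u⁻¹) * u := by rw [h2, h1]
      _ = (t⁻¹ * u) * q := by group
  refine ⟨hcomm, ?_, hinvQ⟩
  intro y hy
  have hu : (y * t * y⁻¹) * (y * t * y⁻¹) = 1 := by
    calc (y * t * y⁻¹) * (y * t * y⁻¹) = y * (t * t) * y⁻¹ := by group
      _ = 1 := by rw [htt]; group
  have hu1 : y * t * y⁻¹ ≠ 1 := by
    intro h
    apply ht1
    have h' : t = y⁻¹ * (y * t * y⁻¹) * y := by group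
    rw [h', h]; group
  have hc := hinvQ _ hu hu1
  have hcm : Commute ((t : G) : G ⧸ Q) (y : G ⧸ Q) := by
    have h1 : ((t⁻¹ * (y * t * y⁻¹) : G) : G ⧸ Q) = 1 := (QuotientGroup.eq_one_iff _).mpr hc
    simp only [QuotientGroup.mk_mul, QuotientGroup.mk_inv] at h1
    have h2 : (y : G ⧸ Q) * (t : G ⧸ Q) * (y : G ⧸ Q)⁻¹ = (t : G ⧸ Q) :=
      (inv_mul_eq_one.mp h1).symm
    exact (mul_inv_eq_iff_eq_mul.mp h2).symm
  rcases hG (t * y) with h4 | h3
  · have h5 : (((t * y) ^ 4 : G) : G ⧸ Q) = 1 := by rw [h4]; rfl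
    rw [QuotientGroup.mk_pow, QuotientGroup.mk_mul, hcm.mul_pow] at h5
    have ht4 : ((t : G) : G ⧸ Q) ^ 4 = 1 := by
      rw [← QuotientGroup.mk_pow, invol_pow_four htt]; rfl
    have hy4 : ((y : G) : G ⧸ Q) ^ 4 = (y : G ⧸ Q) := by
      rw [← QuotientGroup.mk_pow]
      have : y ^ 4 = y := by rw [pow_succ, hy, one_mul]
      rw [this]
    rw [ht4, hy4, one_mul] at h5
    exact (QuotientGroup.eq_one_iff _).mp h5
  · exfalso
    have h5 : (((t * y) ^ 3 : G) : G ⧸ Q) = 1 := by rw [h3]; rfl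
    rw [QuotientGroup.mk_pow, QuotientGroup.mk_mul, hcm.mul_pow] at h5
    have ht3 : ((t : G) : G ⧸ Q) ^ 3 = (t : G ⧸ Q) := by
      rw [← QuotientGroup.mk_pow]
      have : t ^ 3 = t := by rw [pow_succ, pow_two, htt, one_mul]
      rw [this]
    have hy3' : ((y : G) : G ⧸ Q) ^ 3 = 1 := by
      rw [← QuotientGroup.mk_pow, hy]; rfl
    rw [ht3, hy3', mul_one] at h5
    have htQ := (QuotientGroup.eq_one_iff _).mp h5
    exact ht1 (eq_one_of_pow_coprime (hG.pow_three hQ3 htQ) (by rw [pow_two]; exact htt)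
      (by decide))

theorem oc4_A_final [Finite G] (hG : OC4 G) (Q : Subgroup G) [hQn : Q.Normal]
    (hQ3 : IsPGroup 3 Q) (hQ1 : Q ≠ ⊥)
    (hmax : ∀ N : Subgroup G, N.Normal → IsPGroup 3 N → N ≤ Q)
    (t : G) (htt : t * t = 1) (ht1 : t ≠ 1) (g₄ : G) (hg₄ : orderOf g₄ = 4) :
    Cfsg.IsElementaryAbelian 3 Q ∧
      ((IsCyclic (G ⧸ Q) ∧ Q.index = 4) ∨ Nonempty (G ⧸ Q ≃* QuaternionGroup 2)) := by
  obtain ⟨hcomm, hy3, hinvQ⟩ := oc4_caseA hG Q hQ3 hQ1 hmax t htt ht1
  refine ⟨⟨⟨⟨fun a b => Subtype.ext (hcomm a a.2 b b.2)⟩⟩, fun a ha => hG.pow_three hQ3 ha⟩, ?_⟩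
  have : Fact (Nat.Prime 2) := ⟨Nat.prime_two⟩
  have hq4 : ∀ z : G ⧸ Q, z ^ 4 = 1 := by
    intro z
    obtain ⟨g, rfl⟩ := QuotientGroup.mk_surjective z
    rcases hG g with h4 | h3
    · rw [← QuotientGroup.mk_pow, h4]; rfl
    · have : (g : G ⧸ Q) = 1 := (QuotientGroup.eq_one_iff _).mpr (hy3 g h3)
      rw [this, one_pow]
  have hP : IsPGroup 2 (G ⧸ Q) := fun z => ⟨2, hq4 z⟩
  have htQ : ((t : G) : G ⧸ Q) ≠ 1 := by
    intro h
    have htQ := (QuotientGroup.eq_one_iff _).mp h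
    exact ht1 (eq_one_of_pow_coprime (hG.pow_three hQ3 htQ) (by rw [pow_two]; exact htt)
      (by decide))
  have htQ2 : ((t : G) : G ⧸ Q) ^ 2 = 1 := by
    rw [← QuotientGroup.mk_pow, pow_two, htt]; rfl
  have hinvol : ∀ z : G ⧸ Q, z * z = 1 → z ≠ 1 → z = (t : G ⧸ Q) := by
    intro z hz hz1
    obtain ⟨u, rfl⟩ := QuotientGroup.mk_surjective z
    have huQ : u * u ∈ Q := by
      rw [← QuotientGroup.eq_one_iff]; exact hz
    have hu4 : u ^ 4 = 1 := by
      rcases hG u with h4 | h3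
      · exact h4
      · exact absurd ((QuotientGroup.eq_one_iff _).mpr (hy3 u h3)) hz1
    have huu : u * u = 1 := by
      apply eq_one_of_pow_coprime (a := 2) (b := 3)
      · rw [← pow_two, ← pow_mul]; exact hu4
      · exact hG.pow_three hQ3 huQ
      · decide
    have hu1 : u ≠ 1 := by rintro rfl; exact hz1 rfl
    have h0 := hinvQ u huu hu1
    have h1 : ((t⁻¹ * u : G) : G ⧸ Q) = 1 := (QuotientGroup.eq_one_iff _).mpr h0
    rw [QuotientGroup.mk_mul, QuotientGroup.mk_inv] at h1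
    exact (inv_mul_eq_one.mp h1).symm
  have key : ∀ H : Subgroup (G ⧸ Q), Nat.card H = 2 → H = Subgroup.zpowers (t : G ⧸ Q) := by
    intro H hH
    have : Nontrivial H := by
      rw [← Finite.one_lt_card_iff_nontrivial, hH]; norm_num
    obtain ⟨z, hz⟩ := exists_ne (1 : H)
    have hz2 : z ^ 2 = 1 := by rw [← hH]; exact pow_card_eq_one'
    have hzt : (z : G ⧸ Q) = (t : G ⧸ Q) := by
      apply hinvol
      · have := congrArg Subtype.val hz2
        simpa [pow_two] using this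
      · intro h; exact hz (Subtype.ext h)
    symm
    apply Subgroup.eq_of_le_of_card_ge
    · rw [Subgroup.zpowers_le, ← hzt]; exact z.2
    · rw [hH, Nat.card_zpowers, orderOf_eq_prime htQ2 htQ]
  have huniq : ∀ H K : Subgroup (G ⧸ Q), Nat.card H = 2 → Nat.card K = 2 → H = K := by
    intro H K hH hK; rw [key H hH, key K hK]
  have hg4Q : orderOf ((g₄ : G) : G ⧸ Q) = 4 := by
    have h1 : ¬ ((g₄ : G) : G ⧸ Q) ^ 2 ^ 1 = 1 := by
      intro h
      rw [pow_one, ← QuotientGroup.mk_pow, QuotientGroup.eq_one_iff] at h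
      have h2 : g₄ ^ 2 = 1 := by
        apply eq_one_of_pow_coprime (a := 2) (b := 3)
        · rw [← pow_mul]
          have := pow_orderOf_eq_one g₄
          rw [hg₄] at this
          exact this
        · exact hG.pow_three hQ3 h
        · decide
      have h3 := orderOf_dvd_of_pow_eq_one h2
      rw [hg₄] at h3
      omega
    have h2 : ((g₄ : G) : G ⧸ Q) ^ 2 ^ (1 + 1) = 1 := hq4 _
    exact orderOf_eq_prime_pow h1 h2
  have hcard_of_cyc : IsCyclic (G ⧸ Q) → Q.index = 4 := by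
    intro hc
    rw [Subgroup.index_eq_card]
    apply Nat.dvd_antisymm
    · rw [← IsCyclic.exponent_eq_card]
      exact Monoid.exponent_dvd_of_forall_pow_eq_one hq4
    · rw [← hg4Q]; exact orderOf_dvd_natCard _
  rcases Cfsg.Agent.S0016.result 2 hP huniq with hcyc | ⟨_, n, ⟨e⟩⟩
  · left; exact ⟨hcyc, hcard_of_cyc hcyc⟩
  · have hord : orderOf (e.symm (QuaternionGroup.a 1)) = 2 * 2 ^ n := by
      rw [MulEquiv.orderOf_eq]; exact QuaternionGroup.orderOf_a_one
    have hdvd : 2 * 2 ^ n ∣ 4 := by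
      rw [← hord]; exact orderOf_dvd_of_pow_eq_one (hq4 _)
    have hn : n ≤ 1 := by
      by_contra hn
      push Not at hn
      have h4 : 2 ^ 2 ≤ 2 ^ n := Nat.pow_le_pow_right (by norm_num) hn
      have := Nat.le_of_dvd (by norm_num) hdvd
      omega
    obtain rfl | rfl : n = 0 ∨ n = 1 := by omega
    · left
      have hc1 : IsCyclic (QuaternionGroup (2 ^ 0)) := QuaternionGroup.quaternionGroup_one_isCyclic
      have hcyc : IsCyclic (G ⧸ Q) := (MulEquiv.isCyclic e).mpr hc1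
      exact ⟨hcyc, hcard_of_cyc hcyc⟩
    · right
      exact ⟨e⟩

theorem isPGroup_zpowers_of_pow {p k : ℕ} {g : G} (hg : g ^ p ^ k = 1) :
    IsPGroup p (Subgroup.zpowers g) := by
  rintro ⟨y, hy⟩
  obtain ⟨m, rfl⟩ := Subgroup.mem_zpowers_iff.mp hy
  refine ⟨k, Subtype.ext ?_⟩
  show (g ^ m) ^ p ^ k = 1
  rw [← zpow_natCast, ← zpow_mul, mul_comm, zpow_mul, zpow_natCast, hg, one_zpow]

theorem mem_card_three {H : Type*} [Group H] (N : Subgroup H) (hN : Nat.card N = 3) {a : H}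
    (ha : a ∈ N) (ha1 : a ≠ 1) {z : H} (hz : z ∈ N) : z = 1 ∨ z = a ∨ z = a⁻¹ := by
  have hp3 : Fact (Nat.Prime 3) := ⟨Nat.prime_three⟩
  have hfin : Finite N := Nat.finite_of_card_ne_zero (by rw [hN]; norm_num)
  have ha3 : a ^ 3 = 1 := by
    have := pow_card_eq_one' (G := N) (x := ⟨a, ha⟩)
    rw [hN] at this
    simpa using congrArg Subtype.val this
  have hord : orderOf a = 3 := orderOf_eq_prime ha3 ha1
  have hNz : Subgroup.zpowers a = N := by
    apply Subgroup.eq_of_le_of_card_ge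
    · rw [Subgroup.zpowers_le]; exact ha
    · rw [hN, Nat.card_zpowers, hord]
  rw [← hNz] at hz
  obtain ⟨k, rfl⟩ := Subgroup.mem_zpowers_iff.mp hz
  have hk := (zpow_mod_orderOf a k).symm
  rw [hord] at hk
  have h0 : 0 ≤ k % ((3 : ℕ) : ℤ) := Int.emod_nonneg _ (by norm_num)
  have h1 : k % ((3 : ℕ) : ℤ) < 3 := Int.emod_lt_of_pos _ (by norm_num)
  rw [hk]
  generalize k % ((3 : ℕ) : ℤ) = r at h0 h1
  interval_cases r
  · left; simp
  · right; left; simp
  · right; right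
    rw [show (2 : ℤ) = ((2 : ℕ) : ℤ) from rfl, zpow_natCast]
    apply eq_inv_of_mul_eq_one_left
    rw [← pow_succ]; exact ha3

/-- conjugation by `x` on a normal subgroup. -/
def conjSub (F : Subgroup G) [hF : F.Normal] (x : G) : ↥F →* ↥F where
  toFun v := ⟨x * v * x⁻¹, hF.conj_mem v v.2 x⟩
  map_one' := by ext; simp
  map_mul' a b := by ext; simp

@[simp] theorem conjSub_coe (F : Subgroup G) [hF : F.Normal] (x : G) (v : ↥F) :
    ((conjSub F x v : ↥F) : G) = x * v * x⁻¹ := rfl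

theorem OC4.conjSub_fpf (hG : OC4 G) (F : Subgroup G) [hF : F.Normal] (hF2 : IsPGroup 2 F)
    {x : G} (hx : x ^ 3 = 1) (hx1 : x ≠ 1) (v : ↥F) (hv : conjSub F x v = v) : v = 1 := by
  by_contra hv1
  have h1 : x * (v : G) * x⁻¹ = v := congrArg Subtype.val hv
  have h2 : x * (v : G) = v * x := mul_inv_eq_iff_eq_mul.mp h1
  exact hG.no_comm (hG.pow_four hF2 v.2) (fun h => hv1 (Subtype.ext h)) hx hx1 h2.symm

theorem OC4.mem_of_comm_mod [Finite G] (hG : OC4 G) (F : Subgroup G) [hF : F.Normal]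
    (hF2 : IsPGroup 2 F) {x : G} (hx : x ^ 3 = 1) (hx1 : x ≠ 1) {g : G} (hg : g ^ 4 = 1)
    (hc : g * x * g⁻¹ * x⁻¹ ∈ F) : g ∈ F := by
  obtain ⟨u, hu⟩ := fpf_hom_surj (conjSub F x) (hG.conjSub_fpf F hF2 hx hx1) ⟨_, hc⟩
  have hu' : g * x * g⁻¹ * x⁻¹ = (u : G)⁻¹ * (x * u * x⁻¹) := congrArg Subtype.val hu
  have hcomm : (u : G) * g * x = x * ((u : G) * g) := by
    have h1 : g * x * g⁻¹ = (u : G)⁻¹ * x * u := by
      calc g * x * g⁻¹ = (g * x * g⁻¹ * x⁻¹) * x := by group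
        _ = (u : G)⁻¹ * (x * u * x⁻¹) * x := by rw [hu']
        _ = (u : G)⁻¹ * x * u := by group
    calc (u : G) * g * x = u * (g * x * g⁻¹) * g := by group
      _ = u * ((u : G)⁻¹ * x * u) * g := by rw [h1]
      _ = x * ((u : G) * g) := by group
  have hT : IsPGroup 2 (Subgroup.zpowers g ⊔ F : Subgroup G) := by
    apply IsPGroup.to_sup_of_normal_right _ hF2
    apply isPGroup_zpowers_of_pow (k := 2)
    norm_num
    exact hg
  have hug : (u : G) * g ∈ Subgroup.zpowers g ⊔ F :=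
    Subgroup.mul_mem _ (Subgroup.mem_sup_right u.2) (Subgroup.mem_sup_left (Subgroup.mem_zpowers g))
  have hug4 := hG.pow_four hT hug
  have hug1 : (u : G) * g = 1 := by
    by_contra h1
    exact hG.no_comm hug4 h1 hx hx1 hcomm
  have h2 : g = (u : G)⁻¹ := eq_inv_of_mul_eq_one_right hug1
  rw [h2]; exact F.inv_mem u.2

theorem oc4_caseB [Finite G] (hG : OC4 G) (hsolv : Group.IsSolvable G) (F : Subgroup G)
    [hFn : F.Normal] (hF2 : IsPGroup 2 F)
    (hmax : ∀ N : Subgroup G, N.Normal → IsPGroup 2 N → N ≤ F)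
    (hno3 : ∀ N : Subgroup G, N.Normal → IsPGroup 3 N → N = ⊥)
    (x₀ : G) (hx₀ : orderOf x₀ = 3) (g₄ : G) (hg₄ : orderOf g₄ = 4) :
    (Monoid.exponent ↥F = 4 ∧ Group.nilpotencyClass ↥F ≤ 2 ∧ F.index = 3) ∨
    ((∀ v ∈ F, v * v = 1) ∧ F.index = 6 ∧ ∃ a b : G ⧸ F, a * b ≠ b * a) := by
  classical
  have hp2 : Fact (Nat.Prime 2) := ⟨Nat.prime_two⟩
  have hp3 : Fact (Nat.Prime 3) := ⟨Nat.prime_three⟩
  have hx₀3 : x₀ ^ 3 = 1 := by rw [← hx₀]; exact pow_orderOf_eq_one x₀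
  have hx₀1 : x₀ ≠ 1 := by
    intro h; rw [h, orderOf_one] at hx₀; omega
  have hx₀F : x₀ ∉ F := by
    intro h
    exact hx₀1 (eq_one_of_pow_coprime (hG.pow_four hF2 h) hx₀3 (by decide))
  have hnt : Nontrivial G := ⟨⟨x₀, 1, hx₀1⟩⟩
  -- (B1) `F ≠ ⊥`
  have hF1 : F ≠ ⊥ := by
    obtain ⟨p, hp, N, hNn, hNp, hN1⟩ := exists_normal_pgroup_of_solvable hsolv
    obtain ⟨g, hgN, hg1⟩ : ∃ g ∈ N, g ≠ 1 := by
      by_contra hcon
      push Not at hcon
      exact hN1 ((Subgroup.eq_bot_iff_forall N).mpr hcon)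
    obtain ⟨k, hk⟩ := hNp ⟨g, hgN⟩
    have hk' : g ^ p ^ k = 1 := by simpa using congrArg Subtype.val hk
    by_cases hp2' : p = 2
    · subst hp2'
      intro hF
      have h1 := hmax N hNn hNp
      rw [hF] at h1
      exact hN1 (le_bot_iff.mp h1)
    · by_cases hp3' : p = 3
      · subst hp3'
        exact absurd (hno3 N hNn hNp) hN1
      · exfalso
        rcases hG g with h4 | h3
        · exact hg1 (eq_one_of_pow_coprime hk' h4
            (Nat.Coprime.pow k 2 ((Nat.coprime_primes hp Nat.prime_two).mpr hp2')))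
        · exact hg1 (eq_one_of_pow_coprime hk' h3
            (Nat.Coprime.pow_left k ((Nat.coprime_primes hp Nat.prime_three).mpr hp3')))
  -- (B2) `9 ∤ |G|`
  have h9 : ¬ 3 ^ 2 ∣ Nat.card G := by
    intro hdvd
    obtain ⟨A, hA⟩ := Sylow.exists_subgroup_card_pow_prime 3 hdvd
    have hAc : IsMulCommutative A := IsPGroup.isMulCommutative_of_card_eq_prime_sq hA
    have hA3 : IsPGroup 3 A := IsPGroup.of_card hA
    have hVc : ∀ a ∈ F ⊓ Subgroup.centralizer (F : Set G),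
        ∀ b ∈ F ⊓ Subgroup.centralizer (F : Set G), a * b = b * a := by
      intro a ha b hb
      exact (Subgroup.mem_centralizer_iff.mp hb.2 a ha.1)
    have hV1 : F ⊓ Subgroup.centralizer (F : Set G) ≠ ⊥ := by
      have hFnt : Nontrivial F := (Subgroup.nontrivial_iff_ne_bot F).mpr hF1
      have hZ := IsPGroup.center_nontrivial hF2
      obtain ⟨z, hz⟩ := exists_ne (1 : Subgroup.center F)
      intro hVb
      have hzV : ((z : F) : G) ∈ F ⊓ Subgroup.centralizer (F : Set G) := by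
        refine Subgroup.mem_inf.mpr ⟨(z : F).2, ?_⟩
        rw [Subgroup.mem_centralizer_iff]
        intro h hh
        have h1 := Subgroup.mem_center_iff.mp z.2 ⟨h, hh⟩
        exact congrArg Subtype.val h1
      rw [hVb, Subgroup.mem_bot] at hzV
      exact hz (Subtype.ext (Subtype.ext hzV))
    have hAV : A ≤ Subgroup.normalizer ((F ⊓ Subgroup.centralizer (F : Set G) : Subgroup G) : Set G) := by
      rw [Subgroup.normalizer_eq_top]; exact le_top
    have hfpf : ∀ a ∈ A, a ≠ 1 → ∀ w ∈ F ⊓ Subgroup.centralizer (F : Set G),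
        a * w * a⁻¹ = w → w = 1 := by
      intro a ha ha1 w hw hfix
      by_contra hw1
      exact hG.no_comm (hG.pow_four hF2 hw.1) hw1 (hG.pow_three hA3 ha) ha1
        (mul_inv_eq_iff_eq_mul.mp hfix).symm
    have hcyc : IsCyclic A := Cfsg.Agent.Lib.helper1.fpf_abelian_cyclic A _ hVc hV1 hAV hfpf
      (fun a ha b hb => congrArg Subtype.val (hAc.is_comm.comm ⟨a, ha⟩ ⟨b, hb⟩))
    obtain ⟨g, hg⟩ := IsCyclic.exists_generator (α := A)
    have hord : orderOf g = 9 := by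
      rw [orderOf_eq_card_of_forall_mem_zpowers hg, hA]; norm_num
    have hord' : orderOf (g : G) = 9 := by rw [Subgroup.orderOf_coe]; exact hord
    rcases hG (g : G) with h4 | h3
    · have h1 := orderOf_dvd_of_pow_eq_one h4
      rw [hord'] at h1
      norm_num at h1
    · have h1 := orderOf_dvd_of_pow_eq_one h3
      rw [hord'] at h1
      norm_num at h1
  -- the quotient
  have hQsolv : Group.IsSolvable (G ⧸ F) := inferInstance
  have hQnt : Nontrivial (G ⧸ F) :=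
    ⟨⟨(x₀ : G ⧸ F), 1, fun h => hx₀F ((QuotientGroup.eq_one_iff _).mp h)⟩⟩
  obtain ⟨p, hp, Nb, hNbn, hNbp, hNb1⟩ := exists_normal_pgroup_of_solvable hQsolv
  have hGq : OC4 (G ⧸ F) := by
    intro z
    obtain ⟨g, rfl⟩ := QuotientGroup.mk_surjective z
    rcases hG g with h | h
    · left; rw [← QuotientGroup.mk_pow, h]; rfl
    · right; rw [← QuotientGroup.mk_pow, h]; rfl
  obtain ⟨nb, hnbN, hnb1⟩ : ∃ g ∈ Nb, g ≠ 1 := by
    by_contra hcon
    push Not at hcon
    exact hNb1 ((Subgroup.eq_bot_iff_forall Nb).mpr hcon)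
  have hp3' : p = 3 := by
    by_contra hp3'
    by_cases hp2' : p = 2
    · subst hp2'
      have hcomap : Nb.comap (QuotientGroup.mk' F) ≤ F := by
        apply hmax _ (hNbn.comap _)
        rintro ⟨g, hg⟩
        have hg' : (g : G ⧸ F) ∈ Nb := hg
        have hg4 : g ^ 4 = 1 := by
          rcases hG g with h4 | h3
          · exact h4
          · obtain ⟨k, hk⟩ := hNbp ⟨(g : G ⧸ F), hg'⟩
            have hk' : (g : G ⧸ F) ^ 2 ^ k = 1 := by simpa using congrArg Subtype.val hk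
            have h3' : (g : G ⧸ F) ^ 3 = 1 := by rw [← QuotientGroup.mk_pow, h3]; rfl
            have h1 := eq_one_of_pow_coprime hk' h3' (Nat.Coprime.pow_left k (by decide))
            exact hG.pow_four hF2 ((QuotientGroup.eq_one_iff _).mp h1)
        exact ⟨2, Subtype.ext (by simpa using hg4)⟩
      obtain ⟨g, rfl⟩ := QuotientGroup.mk_surjective nb
      exact hnb1 ((QuotientGroup.eq_one_iff _).mpr (hcomap hnbN))
    · obtain ⟨k, hk⟩ := hNbp ⟨nb, hnbN⟩
      have hk' : nb ^ p ^ k = 1 := by simpa using congrArg Subtype.val hk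
      rcases hGq nb with h4 | h3
      · exact hnb1 (eq_one_of_pow_coprime hk' h4
          (Nat.Coprime.pow k 2 ((Nat.coprime_primes hp Nat.prime_two).mpr hp2')))
      · exact hnb1 (eq_one_of_pow_coprime hk' h3
          (Nat.Coprime.pow_left k ((Nat.coprime_primes hp Nat.prime_three).mpr hp3')))
  subst hp3'
  have hNbcard : Nat.card Nb = 3 := by
    obtain ⟨k, hk⟩ := (IsPGroup.iff_card).mp hNbp
    have hdvd : Nat.card Nb ∣ Nat.card G :=
      (Subgroup.card_subgroup_dvd_card Nb).trans (Subgroup.card_quotient_dvd_card F)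
    rcases k with _ | _ | k
    · exfalso; apply hNb1; exact Subgroup.card_eq_one.mp (by simpa using hk)
    · simpa using hk
    · exfalso; apply h9
      rw [hk] at hdvd
      exact (pow_dvd_pow 3 (by omega)).trans hdvd
  have hNb3 : ∀ z ∈ Nb, z ^ 3 = 1 := by
    intro z hz
    have h1 := pow_card_eq_one' (G := Nb) (x := ⟨z, hz⟩)
    rw [hNbcard] at h1
    simpa using congrArg Subtype.val h1
  obtain ⟨x, rfl⟩ := QuotientGroup.mk_surjective nb
  have hLn : (Nb.comap (QuotientGroup.mk' F)).Normal := hNbn.comap _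
  have hFL : F ≤ Nb.comap (QuotientGroup.mk' F) := by
    intro g hg
    show (QuotientGroup.mk' F g) ∈ Nb
    have h1 : (QuotientGroup.mk' F g) = 1 := (QuotientGroup.eq_one_iff _).mpr hg
    rw [h1]; exact Nb.one_mem
  generalize hLdef : Nb.comap (QuotientGroup.mk' F) = L at hLn hFL
  have hmemL : ∀ g : G, g ∈ L ↔ (g : G ⧸ F) ∈ Nb := by
    intro g; rw [← hLdef]; rfl
  have hxL : x ∈ L := (hmemL x).mpr hnbN
  have hxF : x ∉ F := fun h => hnb1 ((QuotientGroup.eq_one_iff _).mpr h)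
  have hx3 : x ^ 3 = 1 := by
    rcases hG x with h4 | h3
    · exfalso
      apply hnb1
      exact eq_one_of_pow_coprime (a := 4) (b := 3) (by rw [← QuotientGroup.mk_pow, h4]; rfl)
        (hNb3 _ hnbN) (by decide)
    · exact h3
  have hx1 : x ≠ 1 := fun h => hxF (h ▸ F.one_mem)
  -- (L1)
  have hL1 : ∀ g : G, g ^ 3 = 1 → g ∈ L := by
    intro g hg
    by_contra hgL
    have hgL' : (g : G ⧸ F) ∉ Nb := fun h => hgL ((hmemL g).mpr h)
    have hz3 : IsPGroup 3 (Subgroup.zpowers (g : G ⧸ F)) := by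
      apply isPGroup_zpowers_of_pow (k := 1)
      rw [pow_one, ← QuotientGroup.mk_pow, hg]; rfl
    have hP : IsPGroup 3 (Subgroup.zpowers (g : G ⧸ F) ⊔ Nb : Subgroup (G ⧸ F)) :=
      IsPGroup.to_sup_of_normal_right hz3 hNbp
    obtain ⟨k, hk⟩ := (IsPGroup.iff_card).mp hP
    have hle : Nb ≤ Subgroup.zpowers (g : G ⧸ F) ⊔ Nb := le_sup_right
    have hdvd1 := Subgroup.card_dvd_of_le hle
    have hdvd : Nat.card (Subgroup.zpowers (g : G ⧸ F) ⊔ Nb : Subgroup (G ⧸ F)) ∣ Nat.card G :=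
      (Subgroup.card_subgroup_dvd_card _).trans (Subgroup.card_quotient_dvd_card F)
    rw [hk] at hdvd hdvd1
    rw [hNbcard] at hdvd1
    rcases k with _ | _ | k
    · norm_num at hdvd1
    · apply hgL'
      have h1 : Nb = Subgroup.zpowers (g : G ⧸ F) ⊔ Nb :=
        Subgroup.eq_of_le_of_card_ge hle (by rw [hk, hNbcard]; norm_num)
      rw [h1]
      exact Subgroup.mem_sup_left (Subgroup.mem_zpowers _)
    · exact h9 ((pow_dvd_pow 3 (by omega)).trans hdvd)
  -- (L4)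
  have hL4 : ∀ g : G, g ∈ L → g ^ 4 = 1 → g ∈ F := by
    intro g hgL hg4
    rw [← QuotientGroup.eq_one_iff]
    exact eq_one_of_pow_coprime (a := 4) (b := 3) (by rw [← QuotientGroup.mk_pow, hg4]; rfl)
      (hNb3 _ ((hmemL g).mp hgL)) (by decide)
  have hL3a : ∀ g : G, g ∉ L → g ^ 4 = 1 := by
    intro g hgL
    rcases hG g with h4 | h3
    · exact h4
    · exact absurd (hL1 g h3) hgL
  have hinvq : ∀ g : G, g ∉ L →
      (g : G ⧸ F) * (x : G ⧸ F) * (g : G ⧸ F)⁻¹ = (x : G ⧸ F)⁻¹ := by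
    intro g hgL
    have hz : (g : G ⧸ F) * (x : G ⧸ F) * (g : G ⧸ F)⁻¹ ∈ Nb := hNbn.conj_mem _ hnbN _
    rcases mem_card_three Nb hNbcard hnbN hnb1 hz with h | h | h
    · exfalso; apply hnb1
      have h1 : (x : G ⧸ F) =
          (g : G ⧸ F)⁻¹ * ((g : G ⧸ F) * (x : G ⧸ F) * (g : G ⧸ F)⁻¹) * (g : G ⧸ F) := by group
      rw [h1, h]; group
    · exfalso; apply hgL; apply hFL
      apply hG.mem_of_comm_mod F hF2 hx3 hx1 (hL3a g hgL)
      rw [← QuotientGroup.eq_one_iff]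
      show (g : G ⧸ F) * (x : G ⧸ F) * (g : G ⧸ F)⁻¹ * (x : G ⧸ F)⁻¹ = 1
      rw [h]; exact mul_inv_cancel _
    · exact h
  have hL3 : ∀ g : G, g ∉ L → g * x * g⁻¹ * x ∈ F := by
    intro g hgL
    rw [← QuotientGroup.eq_one_iff]
    show (g : G ⧸ F) * (x : G ⧸ F) * (g : G ⧸ F)⁻¹ * (x : G ⧸ F) = 1
    rw [hinvq g hgL]; exact inv_mul_cancel _
  have hL5 : ∀ g h : G, g ∉ L → h ∉ L → g * h ∈ L := by
    intro g h hg hh
    by_contra hgh
    apply hgh; apply hFL
    apply hG.mem_of_comm_mod F hF2 hx3 hx1 (hL3a _ hgh)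
    rw [← QuotientGroup.eq_one_iff]
    have e1 := hinvq g hg
    have e2 := hinvq h hh
    show (g : G ⧸ F) * (h : G ⧸ F) * (x : G ⧸ F) * ((g : G ⧸ F) * (h : G ⧸ F))⁻¹ *
      (x : G ⧸ F)⁻¹ = 1
    calc (g : G ⧸ F) * (h : G ⧸ F) * (x : G ⧸ F) * ((g : G ⧸ F) * (h : G ⧸ F))⁻¹ *
          (x : G ⧸ F)⁻¹
        = (g : G ⧸ F) * ((h : G ⧸ F) * (x : G ⧸ F) * (h : G ⧸ F)⁻¹) * (g : G ⧸ F)⁻¹ *
          (x : G ⧸ F)⁻¹ := by group
      _ = ((g : G ⧸ F) * (x : G ⧸ F) * (g : G ⧸ F)⁻¹)⁻¹ * (x : G ⧸ F)⁻¹ := by rw [e2]; group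
      _ = 1 := by rw [e1]; group
  have hidx : F.index = L.index * 3 := by
    have h1 : L.index = Nb.index := by
      rw [← hLdef]
      exact Subgroup.index_comap_of_surjective Nb (QuotientGroup.mk'_surjective F)
    have h2 := Subgroup.index_mul_card Nb
    rw [hNbcard] at h2
    rw [Subgroup.index_eq_card F, ← h2, h1]
  have hφ3 : ∀ v : F, conjSub F x (conjSub F x (conjSub F x v)) = v := by
    intro v
    apply Subtype.ext
    have hxxx : x * x * x = 1 := by rw [← hx3, pow_succ, pow_two]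
    calc x * (x * (x * (v : G) * x⁻¹) * x⁻¹) * x⁻¹ = (x * x * x) * v * (x * x * x)⁻¹ := by group
      _ = v := by rw [hxxx]; group
  have hφfpf := hG.conjSub_fpf F hF2 hx3 hx1
  by_cases hLtop : L = ⊤
  · left
    have hg4F : g₄ ∈ F := hL4 g₄ (by rw [hLtop]; trivial)
      (by rw [← hg₄]; exact pow_orderOf_eq_one g₄)
    refine ⟨?_, ?_, ?_⟩
    · apply Nat.dvd_antisymm
      · apply Monoid.exponent_dvd_of_forall_pow_eq_one
        intro v; exact Subtype.ext (by simpa using hG.pow_four hF2 v.2)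
      · have h1 := Monoid.order_dvd_exponent (⟨g₄, hg4F⟩ : F)
        have h2 : orderOf (⟨g₄, hg4F⟩ : F) = 4 := by
          rw [← Subgroup.orderOf_coe]; exact hg₄
        rwa [h2] at h1
    · have hnil : Group.IsNilpotent F := IsPGroup.isNilpotent hF2
      rw [← Subgroup.lowerCentralSeries_eq_bot_iff_nilpotencyClass_le]
      have hcl := fpf3_class2 (conjSub F x) hφ3 hφfpf
      rw [show (2 : ℕ) = 1 + 1 from rfl, Subgroup.lowerCentralSeries_succ,
        Subgroup.commutator_eq_bot_iff_le_centralizer,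
        show (1 : ℕ) = 0 + 1 from rfl, Subgroup.lowerCentralSeries_succ,
        Subgroup.lowerCentralSeries_zero, Subgroup.commutator_le]
      intro a _ b _
      rw [Subgroup.mem_centralizer_iff]
      intro h _
      rw [commutatorElement_def]
      exact (hcl a b h).symm
    · rw [hidx, hLtop, Subgroup.index_top]
  · right
    obtain ⟨g, hgL⟩ : ∃ g, g ∉ L := by
      by_contra hcon
      push Not at hcon
      exact hLtop ((Subgroup.eq_top_iff' L).mpr hcon)
    have hL2 : L.index = 2 := by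
      rw [Subgroup.index_eq_two_iff]
      refine ⟨g, fun b => ?_⟩
      by_cases hb : b ∈ L
      · right
        refine ⟨hb, fun hba => hgL ?_⟩
        have h1 : g = b⁻¹ * (b * g) := by group
        rw [h1]; exact L.mul_mem (L.inv_mem hb) hba
      · left
        exact ⟨hL5 b g hb hgL, hb⟩
    have hxi3 : x⁻¹ ^ 3 = 1 := by rw [inv_pow, hx3, inv_one]
    have hxi1 : x⁻¹ ≠ 1 := by rwa [ne_eq, inv_eq_one]
    obtain ⟨w, hw⟩ := fpf_hom_surj (conjSub F x⁻¹) (hG.conjSub_fpf F hF2 hxi3 hxi1)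
      ⟨_, hL3 g hgL⟩
    have hw' : g * x * g⁻¹ * x = (w : G)⁻¹ * (x⁻¹ * w * x⁻¹⁻¹) := congrArg Subtype.val hw
    rw [inv_inv] at hw'
    obtain ⟨t, ht⟩ : ∃ t : G, t = w * g := ⟨_, rfl⟩
    have htL : t ∉ L := by
      intro h
      apply hgL
      have h1 : g = (w : G)⁻¹ * t := by rw [ht]; group
      rw [h1]; exact L.mul_mem (L.inv_mem (hFL w.2)) h
    have htx : t * x * t⁻¹ = x⁻¹ := by
      calc t * x * t⁻¹ = w * (g * x * g⁻¹ * x) * x⁻¹ * (w : G)⁻¹ := by rw [ht]; group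
        _ = w * ((w : G)⁻¹ * (x⁻¹ * w * x)) * x⁻¹ * (w : G)⁻¹ := by rw [hw']
        _ = x⁻¹ := by group
    have ht4 : t ^ 4 = 1 := hL3a t htL
    have htt : t * t = 1 := by
      by_contra htt1
      have httL : t * t ∈ L := hL5 t t htL htL
      have htt4 : (t * t) ^ 4 = 1 := by
        rw [← pow_two, ← pow_mul, mul_comm, pow_mul, ht4, one_pow]
      have hcx : (t * t) * x = x * (t * t) := by
        have h1 : t * x = x⁻¹ * t := mul_inv_eq_iff_eq_mul.mp htx
        have h2 : t * x⁻¹ = x * t := by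
          have h3 : t * x⁻¹ * t⁻¹ = x := by
            have h5 : t * x⁻¹ * t⁻¹ = (t * x * t⁻¹)⁻¹ := by group
            rw [h5, htx, inv_inv]
          exact mul_inv_eq_iff_eq_mul.mp h3
        calc t * t * x = t * (t * x) := by group
          _ = t * (x⁻¹ * t) := by rw [h1]
          _ = (t * x⁻¹) * t := by group
          _ = x * t * t := by rw [h2]
          _ = x * (t * t) := by group
      exact hG.no_comm htt4 htt1 hx3 hx1 hcx
    have hti : t⁻¹ = t := inv_eq_of_mul_eq_one_right htt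
    have hS : ∀ s : G, s ∉ L → s * s = 1 → ∀ v ∈ F,
        (s * v * s⁻¹ * v) * (s * v * s⁻¹ * v) = 1 := by
      intro s hsL hss v hv
      have hsi : s⁻¹ = s := inv_eq_of_mul_eq_one_right hss
      have hsv : s * v ∉ L := by
        intro h
        apply hsL
        have h1 : s = (s * v) * v⁻¹ := by group
        rw [h1]; exact L.mul_mem h (L.inv_mem (hFL hv))
      have h4 := hL3a _ hsv
      have e : (s * v) ^ 4 = (s * v * s * v) * (s * v * s * v) := by
        rw [pow_succ, pow_succ, pow_succ, pow_one]; simp only [mul_assoc]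
      rw [hsi, ← e]; exact h4
    have hs1L : t * x ∉ L := by
      intro h
      apply htL
      have h1 : t = (t * x) * x⁻¹ := by group
      rw [h1]; exact L.mul_mem h (L.inv_mem hxL)
    have hs1 : (t * x) * (t * x) = 1 := by
      have h1 : (t * x) * (t * x) = (t * x * t⁻¹) * x := by rw [hti]; group
      rw [h1, htx]; group
    have hs2L : t * x * x ∉ L := by
      intro h
      apply hs1L
      have h1 : t * x = (t * x * x) * x⁻¹ := by group
      rw [h1]; exact L.mul_mem h (L.inv_mem hxL)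
    have hs2 : (t * x * x) * (t * x * x) = 1 := by
      have h0 : t * x * x * t⁻¹ = x⁻¹ * x⁻¹ := by
        calc t * x * x * t⁻¹ = (t * x * t⁻¹) * (t * x * t⁻¹) := by group
          _ = x⁻¹ * x⁻¹ := by rw [htx]
      have h1 : (t * x * x) * (t * x * x) = (t * x * x * t⁻¹) * x * x := by rw [hti]; group
      rw [h1, h0]; group
    have hexp2 : ∀ v : F, v * v = 1 := by
      apply s3_exp2 (conjSub F x) (conjSub F t) hφ3 hφfpf
      · intro v
        apply Subtype.ext
        calc t * (t * (v : G) * t⁻¹) * t⁻¹ = (t * t) * v * (t * t)⁻¹ := by group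
          _ = v := by rw [htt]; group
      · intro v; exact Subtype.ext (by simpa using hG.pow_four hF2 v.2)
      · intro v
        apply Subtype.ext
        exact hS t htL htt v v.2
      · intro v
        apply Subtype.ext
        have h1 := hS (t * x) hs1L hs1 v v.2
        have h2 : t * (x * (v : G) * x⁻¹) * t⁻¹ = (t * x) * v * (t * x)⁻¹ := by group
        show (t * (x * (v : G) * x⁻¹) * t⁻¹ * v) * (t * (x * (v : G) * x⁻¹) * t⁻¹ * v) = 1
        rw [h2]; exact h1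
      · intro v
        apply Subtype.ext
        have h1 := hS (t * x * x) hs2L hs2 v v.2
        have h2 : t * (x * (x * (v : G) * x⁻¹) * x⁻¹) * t⁻¹ = (t * x * x) * v * (t * x * x)⁻¹ := by
          group
        show (t * (x * (x * (v : G) * x⁻¹) * x⁻¹) * t⁻¹ * v) *
          (t * (x * (x * (v : G) * x⁻¹) * x⁻¹) * t⁻¹ * v) = 1
        rw [h2]; exact h1
    refine ⟨fun v hv => congrArg Subtype.val (hexp2 ⟨v, hv⟩), by rw [hidx, hL2],
      (t : G ⧸ F), (x : G ⧸ F), ?_⟩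
    intro hc
    have e1 := hinvq t htL
    rw [hc, mul_inv_cancel_right] at e1
    apply hnb1
    apply eq_one_of_pow_coprime (a := 2) (b := 3) _ (hNb3 _ hnbN) (by decide)
    have h1 := mul_inv_cancel (x : G ⧸ F)
    rw [← e1] at h1
    rw [pow_two]; exact h1

end

end Cfsg.Agent.Lib.helper70
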