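import Mathlib
import Cfsg.Agent.Lib.helper75.PQDefs

/-!
# S4306 piece NILCRIT (duplicate of `helper63.PQ_NILCRIT`, kept under another name):
a nilpotency criterion for groups of Fitting height at most two
-/

set_option autoImplicit false

namespace Cfsg.Agent.Lib.helper70.PQNil

open Cfsg.Agent.Lib.helper75.PQ

/-- A Sylow subgroup normalized by a nilpotent normal subgroup with nilpotent quotient is
normal. -/
theorem nilcrit_sylow_normal {G : Type*} [Group G] [Finite G] (F : Subgroup G) [F.Normal]
    (hGF : Group.IsNilpotent (G ⧸ F)) (s : ℕ) [Fact s.Prime] (P : Sylow s G)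
    (hP : F ≤ Subgroup.normalizer ((P : Subgroup G) : Set G)) : (P : Subgroup G).Normal := by
  classical
  -- the image of `P` in the quotient is a normal Sylow subgroup
  have hsurj : Function.Surjective (QuotientGroup.mk' F) := QuotientGroup.mk'_surjective F
  have hPbar : ((P.mapSurjective hsurj : Sylow s (G ⧸ F)) : Subgroup (G ⧸ F)).Normal :=
    (Group.isNilpotent_of_finite_tfae.out 0 3 rfl rfl).mp hGF s inferInstance _
  have hL : ((P : Subgroup G).map (QuotientGroup.mk' F)).Normal := by
    have h := hPbar
    rwa [Sylow.coe_mapSurjective] at h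
  have hLn : (F ⊔ (P : Subgroup G)).Normal := by
    rw [← QuotientGroup.comap_map_mk']
    exact hL.comap _
  have hLle : F ⊔ (P : Subgroup G) ≤ Subgroup.normalizer ((P : Subgroup G) : Set G) :=
    sup_le hP Subgroup.le_normalizer
  rw [← Subgroup.normalizer_eq_top_iff]
  rw [eq_top_iff]
  intro g _
  refine Sylow.smul_eq_iff_mem_normalizer.mp ?_
  -- the conjugate `g • P` lies in `F ⊔ P`, hence normalizes `P`
  have hQle : ((g • P : Sylow s G) : Subgroup G) ≤ F ⊔ (P : Subgroup G) := by
    intro x hx
    rw [Sylow.coe_subgroup_smul] at hx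
    rw [Subgroup.mem_pointwise_smul_iff_inv_smul_mem] at hx
    have hx' : g⁻¹ * x * g ∈ (P : Subgroup G) := by
      simpa [MulAut.smul_def, MulAut.conj_apply] using hx
    have h1 : g⁻¹ * x * g ∈ F ⊔ (P : Subgroup G) := (le_sup_right : (P : Subgroup G) ≤ _) hx'
    have h2 := hLn.conj_mem _ h1 g
    simpa [mul_assoc] using h2
  have hQn : ((g • P : Sylow s G) : Subgroup G) ≤ Subgroup.normalizer ((P : Subgroup G) : Set G) := hQle.trans hLle
  have hsup : IsPGroup s (((g • P : Sylow s G) : Subgroup G) ⊔ (P : Subgroup G) : Subgroup G) :=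
    IsPGroup.to_sup_of_normal_right' (g • P : Sylow s G).isPGroup' P.isPGroup' hQn
  have h3 : ((g • P : Sylow s G) : Subgroup G) ⊔ (P : Subgroup G) = (P : Subgroup G) :=
    P.is_maximal' hsup le_sup_right
  have h4 : ((g • P : Sylow s G) : Subgroup G) ≤ (P : Subgroup G) := by
    rw [← h3]; exact le_sup_left
  have h5 : (P : Subgroup G) = ((g • P : Sylow s G) : Subgroup G) :=
    (g • P : Sylow s G).is_maximal' P.isPGroup' h4
  exact Sylow.ext h5.symm

theorem nilcrit_lcs_normal {Γ : Type*} [Group Γ] (N : Subgroup Γ) (hN : N.Normal) (k : ℕ) :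
    (N.lowerCentralSeries k).Normal := by
  induction k with
  | zero => simpa using hN
  | succ d ih =>
    rw [Subgroup.lowerCentralSeries_succ]
    have := ih
    have := hN
    exact Subgroup.commutator_normal _ _

/-- NILCRIT: a group of Fitting height at most two in which, for every prime `s`, some Sylow
`s`-subgroup centralizes all normal `t`-subgroups (`t ≠ s`), is nilpotent. -/
theorem nilpotent_of_sylow_cz {Γ : Type*} [Group Γ] [Finite Γ] (N : Subgroup Γ) (hN : N.Normal)
    (k m : ℕ) (hkm : (N.lowerCentralSeries k).lowerCentralSeries m = ⊥)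
    (hsyl : ∀ s : ℕ, s.Prime → ∃ P : Sylow s N, ∀ t : ℕ, t.Prime → t ≠ s →
      ∀ T : Subgroup Γ, T ≤ N → T.Normal → IsPGroup t T →
        Cz ((P : Subgroup N).map N.subtype) T) :
    ∃ j : ℕ, N.lowerCentralSeries j = ⊥ := by
  classical
  rw [← Subgroup.isNilpotent_iff_lowerCentralSeries]
  -- `F`, the `k`-th term, inside `Γ` and inside `N`
  set F : Subgroup Γ := N.lowerCentralSeries k with hFdef
  have hFn : F.Normal := nilcrit_lcs_normal N hN k
  have hFN : F ≤ N := by
    have := Subgroup.lowerCentralSeries_antitone (S := N) (Nat.zero_le k)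
    simpa using this
  have hFnil : Group.IsNilpotent F := (Subgroup.isNilpotent_iff_lowerCentralSeries F).mpr ⟨m, hkm⟩
  set FN : Subgroup N := (⊤ : Subgroup N).lowerCentralSeries k with hFNdef
  have hFNmap : FN.map N.subtype = F := Subgroup.top_subtype_lowerCentralSeries N k
  have hFNn : FN.Normal := by
    have : (FN).Characteristic := by
      rw [hFNdef]; infer_instance
    exact Subgroup.normal_of_characteristic FN
  have hquot : Group.IsNilpotent (N ⧸ FN) := by
    rw [Subgroup.nilpotent_iff_lowerCentralSeries]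
    refine ⟨k, ?_⟩
    have h1 := Subgroup.map_lowerCentralSeries (S := (⊤ : Subgroup N)) (QuotientGroup.mk' FN) k
    rw [← MonoidHom.range_eq_map, MonoidHom.range_eq_top.mpr (QuotientGroup.mk'_surjective FN)]
      at h1
    rw [← h1, ← hFNdef]
    rw [Subgroup.map_eq_bot_iff, QuotientGroup.ker_mk']
  -- all Sylow subgroups of `N` are normal
  refine (Group.isNilpotent_of_finite_tfae.out 0 3 rfl rfl).mpr ?_
  intro s hsF Q
  have := hsF
  have hs : s.Prime := hsF.out
  obtain ⟨P, hP⟩ := hsyl s hs
  set P' : Subgroup Γ := (P : Subgroup N).map N.subtype with hP'def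
  have hP'N : P' ≤ N := by
    rintro _ ⟨x, -, rfl⟩; exact x.2
  -- every Sylow subgroup of `F` normalizes `P'`
  have hT : ∀ t : ℕ, ∀ _ : Fact t.Prime, ∀ Qt : Sylow t F,
      (Qt : Subgroup F).map F.subtype ≤ Subgroup.normalizer (P' : Set Γ) := by
    intro t htF Qt
    have := htF
    have : (Qt : Subgroup F).Normal :=
      (Group.isNilpotent_of_finite_tfae.out 0 3 rfl rfl).mp hFnil t htF Qt
    have : (Qt : Subgroup F).Characteristic := Sylow.characteristic_of_normal Qt inferInstance
    have hTn : ((Qt : Subgroup F).map F.subtype).Normal :=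
      ConjAct.normal_of_characteristic_of_normal
    have hTN : (Qt : Subgroup F).map F.subtype ≤ N := by
      rintro _ ⟨x, -, rfl⟩; exact hFN x.2
    have hTp : IsPGroup t ((Qt : Subgroup F).map F.subtype) := Qt.isPGroup'.map _
    by_cases hts : t = s
    · subst hts
      -- a normal `s`-subgroup lies in `P'`
      have h1 : IsPGroup t (((Qt : Subgroup F).map F.subtype).subgroupOf N) :=
        hTp.comap_of_injective N.subtype Subtype.coe_injective
      have : (((Qt : Subgroup F).map F.subtype).subgroupOf N).Normal := hTn.subgroupOf N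
      have h2 : ((Qt : Subgroup F).map F.subtype).subgroupOf N ≤ (P : Subgroup N) :=
        h1.le_sylow_of_normal P
      have h3 : (Qt : Subgroup F).map F.subtype ≤ P' := by
        intro x hx
        exact ⟨⟨x, hTN hx⟩, h2 (by simpa [Subgroup.mem_subgroupOf] using hx), rfl⟩
      exact h3.trans Subgroup.le_normalizer
    · have hcz := hP t htF.out hts _ hTN hTn hTp
      intro x hx
      rw [Subgroup.mem_normalizer_iff]
      intro y
      constructor
      · intro hy
        have : x * y * x⁻¹ = y := by
          have := hcz y hy x hx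
          rw [← this]; group
        rw [this]; exact hy
      · intro hy
        have h := hcz _ hy x hx
        have : x * y * x⁻¹ = y := by
          have h' : x * y * x⁻¹ * x = x * (x * y * x⁻¹) := h
          have h'' : x * y = x * (x * y * x⁻¹) := by simpa using h'
          exact (mul_left_cancel h'').symm
        rw [← this]; exact hy
  have hFnorm : F ≤ Subgroup.normalizer (P' : Set Γ) := by
    have hM : F ⊓ Subgroup.normalizer (P' : Set Γ) = F := by
      apply Subgroup.eq_of_le_of_card_ge inf_le_left
      apply Nat.le_of_dvd Nat.card_pos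
      rw [Nat.dvd_iff_prime_pow_dvd_dvd]
      intro t j ht hdvd
      have : Fact t.Prime := ⟨ht⟩
      obtain ⟨Qt⟩ : Nonempty (Sylow t F) := inferInstance
      have h1 : t ^ j ∣ Nat.card (Qt : Subgroup F) := Qt.pow_dvd_card_of_pow_dvd_card hdvd
      have h2 : Nat.card ((Qt : Subgroup F).map F.subtype) = Nat.card (Qt : Subgroup F) :=
        Subgroup.card_map_of_injective Subtype.coe_injective
      have h3 : (Qt : Subgroup F).map F.subtype ≤ F ⊓ Subgroup.normalizer (P' : Set Γ) := by
        refine le_inf ?_ (hT t inferInstance Qt)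
        rintro _ ⟨x, -, rfl⟩; exact x.2
      exact h1.trans (h2 ▸ Subgroup.card_dvd_of_le h3)
    rw [← hM]; exact inf_le_right
  -- transfer to `N`
  have hFNnorm : FN ≤ Subgroup.normalizer ((P : Subgroup N) : Set N) := by
    intro x hx
    have hxF : (x : Γ) ∈ F := by
      rw [← hFNmap]; exact ⟨x, hx, rfl⟩
    have hxn := hFnorm hxF
    rw [Subgroup.mem_normalizer_iff] at hxn ⊢
    intro y
    have key : ∀ z : N, z ∈ (P : Subgroup N) ↔ (z : Γ) ∈ P' := by
      intro z
      constructor
      · intro hz; exact ⟨z, hz, rfl⟩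
      · rintro ⟨z', hz', hzz⟩
        have : z' = z := Subtype.ext hzz
        rw [← this]; exact hz'
    rw [key y, key (x * y * x⁻¹)]
    simpa using hxn (y : Γ)
  have hPn : (P : Subgroup N).Normal := nilcrit_sylow_normal FN hquot s P hFNnorm
  obtain ⟨g, hg⟩ := MulAction.exists_smul_eq N P Q
  rw [← hg, Sylow.smul_eq_of_normal]
  exact hPn

end Cfsg.Agent.Lib.helper70.PQNil
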