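import Mathlib
import Cfsg.Agent.Lib.helper75.PQDefs
import Cfsg.Agent.Lib.helper66.ExtraZA
import Cfsg.Agent.Lib.helper66.ExtraRepD

/-!
# S4306 piece SQ: the index of the radical of a class-two group acting with scalar commutators
is a square
-/

set_option autoImplicit false

namespace Cfsg.Agent.Lib.helper75.PQ

open Cfsg.Agent.Lib.helper66 (restrictHom ExtraDataZ finrank_sq_eqZ schur_set smul_R_cancel)
open scoped commutatorElement

section SQ

variable {Γ : Type*} [Group Γ] [Finite Γ] {F : Type*} [Field F] [IsAlgClosed F]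
  {W : Type*} [AddCommGroup W] [Module F W] [FiniteDimensional F W]

/-- The elements of `Q` whose image under `φ` commutes with the whole image. -/
def sqRad {Q : Type*} [Group Q] {E : Type*} [Monoid E] (φ : Q →* E) : Subgroup Q where
  carrier := {u | ∀ v : Q, φ u * φ v = φ v * φ u}
  mul_mem' := by
    intro a b ha hb v
    rw [map_mul, mul_assoc, hb v, ← mul_assoc, ha v, mul_assoc]
  one_mem' := by
    intro v
    rw [map_one, one_mul, mul_one]
  inv_mem' := by
    intro a ha v
    have h1 : φ a⁻¹ * φ a = 1 := by rw [← map_mul, inv_mul_cancel, map_one]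
    have h2 : φ a * φ a⁻¹ = 1 := by rw [← map_mul, mul_inv_cancel, map_one]
    calc φ a⁻¹ * φ v = φ a⁻¹ * φ v * (φ a * φ a⁻¹) := by rw [h2, mul_one]
      _ = φ a⁻¹ * (φ v * φ a) * φ a⁻¹ := by simp only [mul_assoc]
      _ = φ a⁻¹ * (φ a * φ v) * φ a⁻¹ := by rw [ha v]
      _ = (φ a⁻¹ * φ a) * φ v * φ a⁻¹ := by simp only [mul_assoc]
      _ = φ v * φ a⁻¹ := by rw [h1, one_mul]

theorem mem_sqRad {Q : Type*} [Group Q] {E : Type*} [Monoid E] (φ : Q →* E) (u : Q) :
    u ∈ sqRad φ ↔ ∀ v : Q, φ u * φ v = φ v * φ u := Iff.rfl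

theorem sqRad_iff_comm {Q : Type*} [Group Q] {E : Type*} [Monoid E] (φ : Q →* E) (u v : Q) :
    φ u * φ v = φ v * φ u ↔ φ ⁅u, v⁆ = 1 := by
  constructor
  · intro h
    rw [commutatorElement_def, map_mul, map_mul, map_mul, h]
    rw [mul_assoc (φ v), ← map_mul φ u, mul_inv_cancel, map_one, mul_one, ← map_mul,
      mul_inv_cancel, map_one]
  · intro h
    have h1 : u * v = ⁅u, v⁆ * (v * u) := by
      rw [commutatorElement_def]; group
    rw [← map_mul, h1, map_mul, h, one_mul, map_mul]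

/-- SQ (from `helper66.finrank_sq_eqZ`): the index of the radical is a square. -/
theorem sq_index (ρ : Γ →* Module.End F W) (R : Subgroup Γ) (hRF : (Nat.card R : F) ≠ 0)
    (hcl : ∀ u ∈ R, ∀ v ∈ R, ∀ t ∈ R, ⁅u, v⁆ * t = t * ⁅u, v⁆)
    (M : Submodule F W) (hM : M ≠ ⊥) (hMR : ∀ u ∈ R, ∀ w ∈ M, ρ u w ∈ M)
    (hsc : ∀ u ∈ R, ∀ v ∈ R, ∃ c : F, ∀ w ∈ M, ρ ⁅u, v⁆ w = c • w) :
    ∃ m : ℕ, Nat.card R =
      m ^ 2 * Nat.card {u : Γ // u ∈ R ∧ ∀ v ∈ R, ∀ w ∈ M, ρ ⁅u, v⁆ w = w} := by
  classical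
  -- a minimal nonzero invariant subspace
  let 𝒰 : Set (Submodule F W) := {U | U ≠ ⊥ ∧ U ≤ M ∧ ∀ u ∈ R, ∀ w ∈ U, ρ u w ∈ U}
  have h𝒰ne : 𝒰.Nonempty := ⟨M, hM, le_refl _, hMR⟩
  obtain ⟨U, hU𝒰, hUmin⟩ := (wellFounded_lt :
    WellFounded ((· < ·) : Submodule F W → Submodule F W → Prop)).has_min 𝒰 h𝒰ne
  obtain ⟨hUne, hUle, hUR⟩ := hU𝒰
  have : Nontrivial U := Submodule.nontrivial_iff_ne_bot.mpr hUne
  -- the representations on `M` and on `U`
  let φ : R →* Module.End F M := restrictHom ρ R M hMR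
  have hφ : ∀ (u : R) (w : M), ((φ u w : M) : W) = ρ u w := fun u w => rfl
  let R' : R →* Module.End F U := restrictHom ρ R U hUR
  have hR' : ∀ (u : R) (w : U), ((R' u w : U) : W) = ρ u w := fun u w => rfl
  -- irreducibility of `U`
  have hirr : ∀ U' : Submodule F U, (∀ u, ∀ w ∈ U', R' u w ∈ U') → U' = ⊥ ∨ U' = ⊤ := by
    intro U' hU'R
    by_cases hU' : U' = ⊥
    · exact Or.inl hU'
    right
    have hU'S : U'.map U.subtype ∈ 𝒰 := by
      refine ⟨?_, ?_, ?_⟩
      · intro h0
        apply hU'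
        rw [Submodule.eq_bot_iff]
        intro w hw
        have h1 : (w : W) ∈ U'.map U.subtype := ⟨w, hw, rfl⟩
        rw [h0] at h1
        exact Subtype.ext ((Submodule.mem_bot F).mp h1)
      · exact (Submodule.map_subtype_le U U').trans hUle
      · rintro z hz _ ⟨w, hw, rfl⟩
        exact ⟨R' ⟨z, hz⟩ w, hU'R _ w hw, hR' ⟨z, hz⟩ w⟩
    have hle : U'.map U.subtype ≤ U := Submodule.map_subtype_le U U'
    have heq : U'.map U.subtype = U := by
      by_contra hne
      exact hUmin _ hU'S (lt_of_le_of_ne hle hne)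
    rw [eq_top_iff]
    intro w _
    have hw : (w : W) ∈ U'.map U.subtype := by rw [heq]; exact w.2
    obtain ⟨w', hw', hww⟩ := hw
    have : w' = w := Subtype.ext hww
    rw [← this]; exact hw'
  -- transfer of commutation from `M` to `U`
  have htrans : ∀ u v : R, φ u * φ v = φ v * φ u → R' u * R' v = R' v * R' u := by
    intro u v h
    ext w
    have h1 := congrArg (fun A : Module.End F M => ((A ⟨(w : W), hUle w.2⟩ : M) : W)) h
    simp only [Module.End.mul_apply, hφ] at h1
    simp only [Module.End.mul_apply, hR']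
    exact h1
  set Z : Subgroup R := sqRad φ with hZ
  have hd : ExtraDataZ R' Z := by
    refine ⟨?_, ?_, ?_⟩
    · intro g hg
      refine schur_set (Set.range R') ?_ (R' g) ?_
      · intro U' hU'
        exact hirr U' (fun u w hw => hU' _ ⟨u, rfl⟩ w hw)
      · rintro _ ⟨v, rfl⟩
        exact htrans g v (hg v)
    · intro u v
      rw [hZ, mem_sqRad]
      intro t
      have h1 : (u * v * u⁻¹ * v⁻¹) * t = t * (u * v * u⁻¹ * v⁻¹) := by
        apply Subtype.ext
        have := hcl u u.2 v v.2 t t.2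
        rw [commutatorElement_def] at this
        simpa using this
      rw [← map_mul, h1, map_mul]
    · intro w hw
      rw [hZ, mem_sqRad] at hw
      push Not at hw
      obtain ⟨v, hv⟩ := hw
      refine ⟨v, ?_⟩
      obtain ⟨c, hc⟩ := hsc w w.2 v v.2
      -- on `M`: `φ w * φ v = c • (φ v * φ w)`
      have h1 : ∀ x : W, x ∈ M → ρ w (ρ v x) = c • ρ v (ρ w x) := by
        intro x hx
        have h2 : (w : Γ) * v = ⁅(w : Γ), (v : Γ)⁆ * (v * w) := by
          rw [commutatorElement_def]; group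
        have h3 : ρ w (ρ v x) = ρ ((w : Γ) * v) x := by rw [map_mul]; rfl
        have h4 : ρ v (ρ w x) = ρ ((v : Γ) * w) x := by rw [map_mul]; rfl
        rw [h3, h2, map_mul, Module.End.mul_apply, hc _ (by
          rw [map_mul, Module.End.mul_apply]
          exact hMR v v.2 _ (hMR w w.2 x hx)), h4]
      have hc1 : c ≠ 1 := by
        intro hc1
        apply hv
        ext x
        simp only [Module.End.mul_apply, hφ]
        rw [h1 x x.2, hc1, one_smul]
      intro hcomm
      apply hc1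
      have h5 : R' w * R' v = c • (R' v * R' w) := by
        ext x
        simp only [Module.End.mul_apply, hR', LinearMap.smul_apply, Submodule.coe_smul]
        exact h1 x (hUle x.2)
      rw [← hcomm, ← map_mul] at h5
      have h6 : (1 : F) • R' (v * w) = c • R' (v * w) := by rw [one_smul]; exact h5
      exact (smul_R_cancel R' (v * w) h6).symm
  have : Fintype R := Fintype.ofFinite R
  have hQK : (Fintype.card R : F) ≠ 0 := by
    rw [← Nat.card_eq_fintype_card]; exact hRF
  have hsq := finrank_sq_eqZ hd hirr hQK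
  refine ⟨Module.finrank F U, ?_⟩
  rw [hsq, Subgroup.card_eq_card_quotient_mul_card_subgroup Z]
  congr 1
  -- the radical, as a subtype of `Γ`
  have hco : ∀ a b : R, ((⁅a, b⁆ : R) : Γ) = ⁅(a : Γ), (b : Γ)⁆ := fun a b => rfl
  have hchar : ∀ u : R, u ∈ Z ↔ ∀ v ∈ R, ∀ w ∈ M, ρ ⁅(u : Γ), v⁆ w = w := by
    intro u
    rw [hZ, mem_sqRad]
    constructor
    · intro h v hv w hw
      have h1 := (sqRad_iff_comm φ u ⟨v, hv⟩).mp (h ⟨v, hv⟩)
      have h2 := congrArg (fun A : Module.End F M => ((A ⟨w, hw⟩ : M) : W)) h1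
      simp only [hφ, hco] at h2
      simpa using h2
    · intro h v
      rw [sqRad_iff_comm]
      ext w
      rw [hφ, hco]
      have := h v v.2 w w.2
      simpa using this
  refine Nat.card_congr ?_
  exact
    { toFun := fun u => ⟨(u : R), (u : R).2, (hchar u).mp u.2⟩
      invFun := fun u => ⟨⟨u.1, u.2.1⟩, (hchar ⟨u.1, u.2.1⟩).mpr u.2.2⟩
      left_inv := fun u => rfl
      right_inv := fun u => rfl }

end SQ

end Cfsg.Agent.Lib.helper75.PQ
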