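import Mathlib
import Cfsg.Agent.Lib.helper20.ProjVanish

/-!
helper70: piece P4 of S4427 (helper2's split): the class sums of the coefficients of an idempotent
with local coefficients vanish on `p`-singular elements.  This is helper20's
`sum_coeff_conj_eq_zero` (Lib/helper20/ProjVanish.lean) with the argument order of the request.
-/

namespace Cfsg.Agent.Lib.helper70

open Cfsg Cfsg.Agent.Lib.helper20

theorem sum_conj_coeff_eq_zero {G : Type*} [Group G] [Fintype G] {p : ℕ} {M : Ideal AlgInt}
    (hM : IsPModular p M) (ι : MonoidAlgebra ℂ G) (hloc : LocalCoeff M ι) (hidem : ι * ι = ι)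
    (g : G) (hg : p ∣ orderOf g) : ∑ h : G, ι.coeff (h⁻¹ * g * h) = 0 :=
  sum_coeff_conj_eq_zero hM ι hidem hloc g hg

end Cfsg.Agent.Lib.helper70
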