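import Mathlib
import Cfsg.Prelude.Def_GeometricClasses

/-!
# S5977 / S5978 block C, piece QK (helper70, racer copy)

`Q_K(k) := ⟨Q(Φ k), B(κ Φ k, Φ k) / (2 δ)⟩` is a nondegenerate quadratic form over
`K' = QuadraticAlgebra F δ 0`.
-/

set_option autoImplicit false

namespace Cfsg.Agent.Lib.helper2

open Cfsg.Geo Matrix

/-- QK (racer copy, verbatim statement) -/
theorem h70_qfc_qk_nondeg {F : Type*} [Field F] {ι : Type} [Fintype ι] [DecidableEq ι]
    (h2 : (2 : F) ≠ 0) (Q : (ι → F) → F) (hQ : IsNondegenerateQuadraticForm Q)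
    (δ : F) [Fact (∀ r : F, r ^ 2 ≠ δ + 0 * r)] (κ : Matrix ι ι F)
    (hκ : κ * κ = δ • (1 : Matrix ι ι F))
    (hsa : ∀ u v : ι → F, QuadraticMap.polar Q (κ *ᵥ u) v = QuadraticMap.polar Q u (κ *ᵥ v))
    (d : ℕ) (Φ : (Fin d → QuadraticAlgebra F δ 0) ≃+ (ι → F))
    (hΦ : ∀ (z : QuadraticAlgebra F δ 0) (k : Fin d → QuadraticAlgebra F δ 0),
        Φ (z • k) = z.re • Φ k + z.im • (κ *ᵥ Φ k)) :
    IsNondegenerateQuadraticForm
      (fun k : Fin d → QuadraticAlgebra F δ 0 =>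
        (⟨Q (Φ k), QuadraticMap.polar Q (κ *ᵥ Φ k) (Φ k) / (2 * δ)⟩ : QuadraticAlgebra F δ 0)) := by
  have hδ : δ ≠ 0 := by
    intro h
    have h0 := (Fact.out : ∀ r : F, r ^ 2 ≠ δ + 0 * r) 0
    apply h0
    rw [h]
    ring
  obtain ⟨hsm, hbil, hnd⟩ := hQ
  obtain ⟨hal, hsl, har, hsr⟩ := hbil
  obtain ⟨B, hBdef⟩ : ∃ B : (ι → F) → (ι → F) → F, B = QuadraticMap.polar Q := ⟨_, rfl⟩
  rw [← hBdef] at hal hsl har hsr hnd hsa
  have hsym : ∀ u v, B u v = B v u := by
    intro u v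
    rw [hBdef]
    exact QuadraticMap.polar_comm Q u v
  have hQadd : ∀ u v, Q (u + v) = Q u + Q v + B u v := by
    intro u v
    rw [hBdef]
    simp only [QuadraticMap.polar]
    ring
  have hBvv : ∀ v, B v v = 2 * Q v := by
    intro v
    have h1 : Q (v + v) = 4 * Q v := by
      have h3 : v + v = (2 : F) • v := (two_smul F v).symm
      rw [h3, hsm]
      ring
    have h4 := hQadd v v
    rw [h1] at h4
    linear_combination -h4
  have hκκ : ∀ v : ι → F, κ *ᵥ (κ *ᵥ v) = δ • v := by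
    intro v
    rw [Matrix.mulVec_mulVec, hκ, Matrix.smul_mulVec, Matrix.one_mulVec]
  have hκadd : ∀ u v : ι → F, κ *ᵥ (u + v) = κ *ᵥ u + κ *ᵥ v :=
    fun u v => Matrix.mulVec_add κ u v
  have hκsmul : ∀ (c : F) (v : ι → F), κ *ᵥ (c • v) = c • (κ *ᵥ v) :=
    fun c v => Matrix.mulVec_smul κ c v
  have hBκκ : ∀ u v, B (κ *ᵥ u) (κ *ᵥ v) = δ * B u v := by
    intro u v
    rw [hsa, hκκ, hsr]
  have hQκ : ∀ v, Q (κ *ᵥ v) = δ * Q v := by
    intro v
    have h1 := hBvv (κ *ᵥ v)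
    rw [hBκκ, hBvv] at h1
    have h3 : (2 : F) * Q (κ *ᵥ v) = 2 * (δ * Q v) := by linear_combination -h1
    exact mul_left_cancel₀ h2 h3
  -- the `K'`-valued form on `V` and its polar form
  obtain ⟨qv, hqv⟩ : ∃ qv : (ι → F) → QuadraticAlgebra F δ 0,
      ∀ v, qv v = ⟨Q v, B (κ *ᵥ v) v / (2 * δ)⟩ := ⟨_, fun v => rfl⟩
  obtain ⟨PB, hPB⟩ : ∃ PB : (ι → F) → (ι → F) → QuadraticAlgebra F δ 0,
      ∀ u v, PB u v = ⟨B u v, B (κ *ᵥ u) v / δ⟩ := ⟨_, fun u v => rfl⟩
  have hA : ∀ u v, qv (u + v) - qv u - qv v = PB u v := by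
    intro u v
    ext
    · simp only [hqv, hPB, QuadraticAlgebra.re_sub]
      rw [hQadd]
      ring
    · simp only [hqv, hPB, QuadraticAlgebra.im_sub, hκadd, hal, har]
      rw [hsa v u, hsym v (κ *ᵥ u)]
      field_simp
      ring
  have hBsm : ∀ (z : QuadraticAlgebra F δ 0) (v : ι → F),
      qv (z.re • v + z.im • (κ *ᵥ v)) = z ^ 2 * qv v := by
    intro z v
    ext
    · simp only [hqv, pow_two, QuadraticAlgebra.re_mul, QuadraticAlgebra.im_mul]
      rw [hQadd, hsm, hsm, hQκ]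
      simp only [hsl, hsr]
      rw [hsym v (κ *ᵥ v)]
      field_simp
      ring
    · simp only [hqv, pow_two, QuadraticAlgebra.re_mul, QuadraticAlgebra.im_mul, hκadd, hκsmul,
        hκκ, hal, har, hsl, hsr, hBκκ, hBvv, hQκ]
      rw [hsym v (κ *ᵥ v)]
      field_simp
      ring
  have hPBaddl : ∀ u u' v, PB (u + u') v = PB u v + PB u' v := by
    intro u u' v
    ext
    · simp only [hPB, QuadraticAlgebra.re_add, hal]
    · simp only [hPB, QuadraticAlgebra.im_add, hκadd, hal]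
      ring
  have hPBaddr : ∀ u v v', PB u (v + v') = PB u v + PB u v' := by
    intro u v v'
    ext
    · simp only [hPB, QuadraticAlgebra.re_add, har]
    · simp only [hPB, QuadraticAlgebra.im_add, har]
      ring
  have hPBsml : ∀ (z : QuadraticAlgebra F δ 0) (u v : ι → F),
      PB (z.re • u + z.im • (κ *ᵥ u)) v = z * PB u v := by
    intro z u v
    ext
    · simp only [hPB, QuadraticAlgebra.re_mul, hal, hsl]
      field_simp
    · simp only [hPB, QuadraticAlgebra.im_mul, hκadd, hκsmul, hκκ, hal, hsl]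
      field_simp
      ring
  have hPBsmr : ∀ (z : QuadraticAlgebra F δ 0) (u v : ι → F),
      PB u (z.re • v + z.im • (κ *ᵥ v)) = z * PB u v := by
    intro z u v
    ext
    · simp only [hPB, QuadraticAlgebra.re_mul, har, hsr]
      rw [← hsa]
      field_simp
    · simp only [hPB, QuadraticAlgebra.im_mul, har, hsr, hBκκ]
      field_simp
      ring
  suffices h : IsNondegenerateQuadraticForm
      (fun k : Fin d → QuadraticAlgebra F δ 0 => qv (Φ k)) by
    simpa only [hqv, hBdef] using h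
  have hpol : ∀ k k' : Fin d → QuadraticAlgebra F δ 0,
      QuadraticMap.polar (fun k : Fin d → QuadraticAlgebra F δ 0 => qv (Φ k)) k k' =
        PB (Φ k) (Φ k') := by
    intro k k'
    simp only [QuadraticMap.polar]
    rw [map_add]
    exact hA _ _
  refine ⟨?_, ⟨?_, ?_, ?_, ?_⟩, ?_⟩
  · intro z k
    show qv (Φ (z • k)) = z ^ 2 * qv (Φ k)
    rw [hΦ]
    exact hBsm z (Φ k)
  · intro x y v
    rw [hpol, hpol, hpol, map_add]
    exact hPBaddl _ _ _
  · intro z x v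
    rw [hpol, hpol, hΦ]
    exact hPBsml z _ _
  · intro v x y
    rw [hpol, hpol, hpol, map_add]
    exact hPBaddr _ _ _
  · intro z v x
    rw [hpol, hpol, hΦ]
    exact hPBsmr z _ _
  · intro k hk
    have hv : Φ k ≠ 0 := by
      intro h
      exact hk ((AddEquiv.map_eq_zero_iff Φ).mp h)
    obtain ⟨⟨x, hx⟩, ⟨y, hy⟩⟩ := hnd (Φ k) hv
    refine ⟨⟨Φ.symm x, ?_⟩, ⟨Φ.symm y, ?_⟩⟩
    · rw [hpol, AddEquiv.apply_symm_apply]
      intro h
      apply hx
      have h3 := congrArg QuadraticAlgebra.re h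
      simpa only [hPB, QuadraticAlgebra.re_zero] using h3
    · rw [hpol, AddEquiv.apply_symm_apply]
      intro h
      apply hy
      have h3 := congrArg QuadraticAlgebra.re h
      simpa only [hPB, QuadraticAlgebra.re_zero] using h3

end Cfsg.Agent.Lib.helper2
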