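import Mathlib
import Cfsg.Agent.Lib.helper60.S3806_CA

/-! S3806, piece C (helper70, race copy): `(s c)^p = s^p c^p` in the abelian setting. -/

set_option autoImplicit false
set_option maxHeartbeats 400000

namespace Cfsg.Agent.Lib.helper12.MC

/-- the recursion `q ↦ σ q + c` iterated `n` times from `0` is the geometric sum. -/
theorem h70_iter_eq_sum {M : Type*} [AddCommGroup M] (σ : M →+ M) (c : M) (n : ℕ) :
    (fun q : M => σ q + c)^[n] 0 = ∑ i ∈ Finset.range n, (⇑σ)^[i] c := by
  induction n with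
  | zero => simp
  | succ n ih =>
    rw [Function.iterate_succ_apply', ih, Finset.sum_range_succ', map_sum]
    simp only [Function.iterate_zero, id]
    congr 1
    apply Finset.sum_congr rfl
    intro i _
    rw [Function.iterate_succ_apply']

/-- additive core of piece C. -/
theorem h70_add_core {M : Type*} [AddCommGroup M] (p : ℕ) (hp : p.Prime) (σ : M →+ M)
    (B : AddSubgroup M) (hσB : ∀ b ∈ B, σ b ∈ B) (hBp : ∀ b ∈ B, p • b = 0) (c : M)
    (hcB : σ c - c ∈ B) (hnil : (fun v : M => σ v - v)^[p - 1] c = 0) :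
    (fun q : M => σ q + c)^[p] 0 = p • c := by
  rw [h70_iter_eq_sum]
  have hσe : ∃ σe : AddMonoid.End M, σe = σ := ⟨σ, rfl⟩
  obtain ⟨σe, hσe⟩ := hσe
  set D : AddMonoid.End M := σe - 1 with hD
  have hσ : σe = 1 + D := by rw [hD]; abel
  have hDapp : ∀ v : M, D v = σ v - v := fun v => by
    rw [hD, ← hσe]; rfl
  have hiter : ∀ (j : ℕ) (v : M), (D ^ j) v = (fun v : M => σ v - v)^[j] v := by
    intro j v
    rw [AddMonoid.End.coe_pow]
    have : (⇑D) = (fun v : M => σ v - v) := funext hDapp
    rw [this]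
  have hDB : ∀ b ∈ B, D b ∈ B := fun b hb => by
    rw [hDapp]; exact B.sub_mem (hσB b hb) hb
  have hmem : ∀ j : ℕ, 1 ≤ j → (D ^ j) c ∈ B := by
    intro j hj
    induction j with
    | zero => omega
    | succ j ih =>
      rcases Nat.eq_zero_or_pos j with h0 | h0
      · subst h0
        rw [pow_one, hDapp]; exact hcB
      · rw [pow_succ', AddMonoid.End.coe_mul, Function.comp_apply]
        exact hDB _ (ih h0)
  have key := Cfsg.Agent.Lib.helper12.MC.sum_pow_eq_choose D p
  rw [← hσ] at key
  let ev : AddMonoid.End M →+ M :=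
    { toFun := fun f => f c
      map_zero' := rfl
      map_add' := fun _ _ => rfl }
  have hev : ∀ f : AddMonoid.End M, ev f = f c := fun _ => rfl
  have key2 : ∑ i ∈ Finset.range p, (σe ^ i) c =
      ∑ m ∈ Finset.range p, ((p.choose (m + 1)) • D ^ m) c := by
    have := congrArg ev key
    rw [map_sum, map_sum] at this
    simpa only [hev] using this
  have hL : ∀ i : ℕ, (σe ^ i) c = (⇑σ)^[i] c := fun i => by
    rw [AddMonoid.End.coe_pow, hσe]; rfl
  rw [Finset.sum_congr rfl (fun i _ => hL i)] at key2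
  rw [key2]
  have hterm : ∀ m ∈ Finset.range p,
      ((p.choose (m + 1)) • D ^ m) c = if m = 0 then p • c else 0 := by
    intro m hm
    rw [Finset.mem_range] at hm
    have happ : ((p.choose (m + 1)) • D ^ m) c = (p.choose (m + 1)) • ((D ^ m) c) := rfl
    rw [happ]
    by_cases h0 : m = 0
    · subst h0
      simp
    · rw [if_neg h0]
      by_cases h1 : m = p - 1
      · have : m + 1 = p := by omega
        rw [this, Nat.choose_self, one_nsmul, hiter, h1, hnil]
      · have hdvd : p ∣ p.choose (m + 1) := hp.dvd_choose_self (by omega) (by omega)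
        obtain ⟨k, hk⟩ := hdvd
        rw [hk, mul_nsmul, hBp _ (hmem m (by omega)), nsmul_zero]
  rw [Finset.sum_congr rfl hterm, Finset.sum_ite_eq' (Finset.range p) 0 (fun _ => p • c)]
  rw [if_pos (Finset.mem_range.mpr hp.pos)]

/-- C (race copy, helper70): `(s c)^p = s^p c^p` for `c` in an abelian `s`-invariant subgroup `A`,
when `[c, s]` lies in an `s`-invariant subgroup `B ≤ A` of exponent `p` and
`[c, s, …, s] = 1` (`p - 1` times). -/
theorem h70_mul_pow_eq_of_abelian (p : ℕ) [Fact p.Prime] {T : Type*} [Group T] (A B : Subgroup T)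
    (hA : ∀ x ∈ A, ∀ y ∈ A, x * y = y * x) (s : T) (hsA : ∀ a ∈ A, s⁻¹ * a * s ∈ A)
    (hBA : B ≤ A) (hsB : ∀ b ∈ B, s⁻¹ * b * s ∈ B) (hBp : ∀ b ∈ B, b ^ p = 1)
    (c : T) (hc : c ∈ A) (hcB : c⁻¹ * (s⁻¹ * c * s) ∈ B)
    (hnil : (fun v : T => v⁻¹ * (s⁻¹ * v * s))^[p - 1] c = 1) :
    (s * c) ^ p = s ^ p * c ^ p := by
  have hp : p.Prime := Fact.out
  have hrec : ∀ n : ℕ, (s * c) ^ n = s ^ n * (fun q : T => s⁻¹ * q * s * c)^[n] 1 := by
    intro n
    induction n with
    | zero => simp
    | succ n ih =>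
      rw [pow_succ, ih, Function.iterate_succ_apply', pow_succ]
      group
  rw [hrec p]
  congr 1
  letI : AddCommGroup (Additive A) :=
    { (inferInstance : AddGroup (Additive A)) with
      add_comm := fun x y =>
        congrArg Additive.ofMul (Subtype.ext (hA _ (Additive.toMul x).2 _ (Additive.toMul y).2)) }
  let φ : Additive A → T := fun x => ((Additive.toMul x : A) : T)
  have hφA : ∀ x, φ x ∈ A := fun x => (Additive.toMul x).2
  have hφadd : ∀ x y, φ (x + y) = φ x * φ y := fun x y => rfl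
  have hφ0 : φ 0 = 1 := rfl
  have hφsub : ∀ x y, φ (x - y) = φ x * (φ y)⁻¹ := fun x y => by
    rw [sub_eq_add_neg, hφadd]; rfl
  have hφnsmul : ∀ (n : ℕ) x, φ (n • x) = φ x ^ n := fun n x => rfl
  have hφinj : ∀ x, φ x = 1 → x = 0 := fun x hx => by
    have h1 : (Additive.toMul x : A) = 1 := Subtype.ext hx
    have h2 : Additive.ofMul (Additive.toMul x) = Additive.ofMul (1 : A) := congrArg _ h1
    exact h2
  let σ : Additive A →+ Additive A :=
    { toFun := fun x => Additive.ofMul (⟨s⁻¹ * φ x * s, hsA _ (hφA x)⟩ : A)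
      map_zero' := by
        apply congrArg Additive.ofMul
        apply Subtype.ext
        show s⁻¹ * φ 0 * s = 1
        rw [hφ0]; group
      map_add' := fun x y => by
        apply congrArg Additive.ofMul
        apply Subtype.ext
        show s⁻¹ * φ (x + y) * s = (s⁻¹ * φ x * s) * (s⁻¹ * φ y * s)
        rw [hφadd]; group }
  have hφσ : ∀ x, φ (σ x) = s⁻¹ * φ x * s := fun x => rfl
  let Bm : AddSubgroup (Additive A) :=
    { carrier := {x | φ x ∈ B}
      zero_mem' := B.one_mem
      add_mem' := fun hx hy => B.mul_mem hx hy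
      neg_mem' := fun hx => B.inv_mem hx }
  have hBm : ∀ x, x ∈ Bm ↔ φ x ∈ B := fun x => Iff.rfl
  let c' : Additive A := Additive.ofMul (⟨c, hc⟩ : A)
  have hφc : φ c' = c := rfl
  -- commutation inside `A`
  have hcomm : ∀ v : Additive A, φ (σ v - v) = (φ v)⁻¹ * (s⁻¹ * φ v * s) := fun v => by
    rw [hφsub, hφσ]
    exact hA _ (hsA _ (hφA v)) _ (A.inv_mem (hφA v))
  have hiter : ∀ j : ℕ, φ ((fun v : Additive A => σ v - v)^[j] c') =
      (fun v : T => v⁻¹ * (s⁻¹ * v * s))^[j] c := by
    intro j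
    induction j with
    | zero => rfl
    | succ j ih =>
      rw [Function.iterate_succ_apply', Function.iterate_succ_apply', hcomm, ih]
  have hcore := h70_add_core p hp σ Bm
    (fun b hb => by rw [hBm] at hb ⊢; rw [hφσ]; exact hsB _ hb)
    (fun b hb => by
      rw [hBm] at hb
      apply hφinj
      rw [hφnsmul]
      exact hBp _ hb)
    c'
    (by rw [hBm, hcomm, hφc]; exact hcB)
    (by
      apply hφinj
      rw [hiter, hnil])
  have hrec2 : ∀ n : ℕ, (fun q : T => s⁻¹ * q * s * c)^[n] 1 =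
      φ ((fun q : Additive A => σ q + c')^[n] 0) := by
    intro n
    induction n with
    | zero => rfl
    | succ n ih =>
      rw [Function.iterate_succ_apply', Function.iterate_succ_apply', ih, hφadd, hφσ, hφc]
  rw [hrec2 p, hcore, hφnsmul, hφc]

end Cfsg.Agent.Lib.helper12.MC
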