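import Mathlib
set_option autoImplicit false
namespace Cfsg.Agent.Lib.helper70.S4067
open Subgroup MulAction
variable {G : Type*} [Group G] [Finite G]

theorem orbit_count_three_tier {A X : Type*} [Group A] [MulAction A X] [Finite X]
    (S T : Set X) (hST : S ⊆ T) (p : ℕ) (hp : 0 < p)
    (h1 : ∀ x, x ∉ S → p ≤ Nat.card (orbit A x))
    (h2 : ∀ x, x ∉ T → p ^ 2 ≤ Nat.card (orbit A x)) :
    p ^ 2 * Nat.card (orbitRel.Quotient A X) + p * Nat.card S + Nat.card T
      ≤ p ^ 2 * Nat.card S + p * Nat.card T + Nat.card X := by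
  classical
  have : Fintype X := Fintype.ofFinite X
  have : Fintype (orbitRel.Quotient A X) := Fintype.ofFinite _
  set w : X → ℕ := fun x => if x ∈ S then p ^ 2 else if x ∈ T then p else 1 with hw
  have hS : Nat.card S = ∑ x : X, if x ∈ S then 1 else 0 := by
    rw [Nat.card_eq_fintype_card, Fintype.card_subtype, Finset.card_filter]
  have hT : Nat.card T = ∑ x : X, if x ∈ T then 1 else 0 := by
    rw [Nat.card_eq_fintype_card, Fintype.card_subtype, Finset.card_filter]
  have hX : Nat.card X = ∑ _x : X, 1 := by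
    rw [Nat.card_eq_fintype_card]; simp
  have hid : (∑ x : X, w x) + p * Nat.card S + Nat.card T
      = p ^ 2 * Nat.card S + p * Nat.card T + Nat.card X := by
    rw [hS, hT, hX, Finset.mul_sum, Finset.mul_sum, Finset.mul_sum, ← Finset.sum_add_distrib,
      ← Finset.sum_add_distrib, ← Finset.sum_add_distrib, ← Finset.sum_add_distrib]
    refine Finset.sum_congr rfl fun x _ => ?_
    by_cases hxS : x ∈ S
    · have hxT := hST hxS
      simp [hw, hxS, hxT]
    · by_cases hxT : x ∈ T
      · simp [hw, hxS, hxT]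
      · simp [hw, hxS, hxT]
  have hw1 : ∀ x, 1 ≤ w x := by
    intro x
    simp only [hw]
    split_ifs
    · exact Nat.one_le_pow _ _ hp
    · exact hp
    · exact le_refl 1
  have hmain : p ^ 2 * Nat.card (orbitRel.Quotient A X) ≤ ∑ x : X, w x := by
    have e1 : p ^ 2 * Nat.card (orbitRel.Quotient A X)
        = ∑ _ω : orbitRel.Quotient A X, p ^ 2 := by
      simp [Nat.card_eq_fintype_card, mul_comm]
    rw [e1, ← Finset.sum_fiberwise (s := Finset.univ)
      (g := fun x : X => (Quotient.mk'' x : orbitRel.Quotient A X)) (f := w)]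
    refine Finset.sum_le_sum fun ω _ => ?_
    induction ω using Quotient.inductionOn' with
    | h x0 =>
    set F : Finset X := Finset.univ.filter
      (fun x : X => (Quotient.mk'' x : orbitRel.Quotient A X) = Quotient.mk'' x0) with hF
    have hmemF : ∀ y, y ∈ F ↔ y ∈ orbit A x0 := by
      intro y
      rw [hF, Finset.mem_filter]
      simp only [Finset.mem_univ, true_and]
      rw [Quotient.eq'', MulAction.orbitRel_apply]
    have hcardF : F.card = Nat.card (orbit A x0) := by
      rw [Nat.card_eq_fintype_card, Fintype.card_subtype]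
      congr 1
      ext y
      rw [hmemF]
      simp
    have horb : ∀ y ∈ F, Nat.card (orbit A y) = F.card := by
      intro y hy
      rw [hcardF, MulAction.orbit_eq_iff.mpr ((hmemF y).mp hy)]
    have hx0F : x0 ∈ F := (hmemF x0).mpr (MulAction.mem_orbit_self x0)
    by_cases c1 : ∃ y ∈ F, y ∈ S
    · obtain ⟨y, hyF, hyS⟩ := c1
      calc p ^ 2 = w y := by simp [hw, hyS]
        _ ≤ ∑ x ∈ F, w x := Finset.single_le_sum (f := w) (fun i _ => Nat.zero_le _) hyF
    · push Not at c1
      by_cases c2 : ∃ y ∈ F, y ∉ T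
      · obtain ⟨y, hyF, hyT⟩ := c2
        calc p ^ 2 ≤ Nat.card (orbit A y) := h2 y hyT
          _ = F.card := horb y hyF
          _ = ∑ _x ∈ F, 1 := by simp
          _ ≤ ∑ x ∈ F, w x := Finset.sum_le_sum fun x _ => hw1 x
      · push Not at c2
        have hpF : p ≤ F.card := by
          rw [← horb x0 hx0F]
          exact h1 x0 (c1 x0 hx0F)
        calc p ^ 2 = p * p := by ring
          _ ≤ F.card * p := Nat.mul_le_mul_right p hpF
          _ = ∑ _x ∈ F, p := by simp
          _ = ∑ x ∈ F, w x := by
            refine Finset.sum_congr rfl fun x hx => ?_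
            simp [hw, c1 x hx, c2 x hx]
  omega

end Cfsg.Agent.Lib.helper70.S4067
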