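import Mathlib
import Cfsg.Agent.Lib.helper89.S60Defs

/-!
# S6000 piece EX3 (racer copy by helper70): elements of order 3 of `N(R)` with traces 1 and -2
-/

set_option autoImplicit false

namespace Cfsg.Agent.Lib.helper89.S60

theorem h70_ex3_NM {A : Type*} [Ring A] (a b i : A) (ha : a * a = 1) (hb : b * b = 1)
    (hba : b * a = -(a * b)) (hii : i * i = -1) (hai : a * i = i * a) (hbi : b * i = i * b) :
    (1 + i * (a + b + i * (a * b))) * (1 - i * (a + b + i * (a * b))) = 1 + 1 + 1 + 1 ∧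
    (1 - i * (a + b + i * (a * b))) * (1 + i * (a + b + i * (a * b))) = 1 + 1 + 1 + 1 ∧
    (1 + i * (a + b + i * (a * b))) * (1 + i * (a + b + i * (a * b))) *
      (1 + i * (a + b + i * (a * b))) = -(1 + 1 + 1 + 1 + 1 + 1 + 1 + 1) := by
  have ha' : ∀ x : A, a * (a * x) = x := fun x => by rw [← mul_assoc, ha, one_mul]
  have hb' : ∀ x : A, b * (b * x) = x := fun x => by rw [← mul_assoc, hb, one_mul]
  have hii' : ∀ x : A, i * (i * x) = -x := fun x => by rw [← mul_assoc, hii, neg_mul, one_mul]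
  have hba' : ∀ x : A, b * (a * x) = -(a * (b * x)) := fun x => by
    rw [← mul_assoc, hba, neg_mul, mul_assoc]
  have hai' : ∀ x : A, a * (i * x) = i * (a * x) := fun x => by rw [← mul_assoc, hai, mul_assoc]
  have hbi' : ∀ x : A, b * (i * x) = i * (b * x) := fun x => by rw [← mul_assoc, hbi, mul_assoc]
  refine ⟨?_, ?_, ?_⟩
  · simp only [mul_add, add_mul, mul_sub, sub_mul, mul_neg, neg_mul, neg_neg, mul_one, one_mul,
      mul_assoc, ha, hb, hii, ha', hb', hii', hba, hba', hai, hai', hbi, hbi']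
    abel
  · simp only [mul_add, add_mul, mul_sub, sub_mul, mul_neg, neg_mul, neg_neg, mul_one, one_mul,
      mul_assoc, ha, hb, hii, ha', hb', hii', hba, hba', hai, hai', hbi, hbi']
    abel
  · simp only [mul_add, add_mul, mul_sub, sub_mul, mul_neg, neg_mul, neg_neg, mul_one, one_mul,
      mul_assoc, ha, hb, hii, ha', hb', hii', hba, hba', hai, hai', hbi, hbi']
    abel

theorem h70_ex3_conj {A : Type*} [Ring A] (a b i s : A) (ha : a * a = 1) (hb : b * b = 1)
    (hba : b * a = -(a * b)) (hii : i * i = -1) (hai : a * i = i * a) (hbi : b * i = i * b)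
    (his : i * s = s * i)
    (has : a * s = s * a ∨ a * s = -(s * a)) (hbs : b * s = s * b ∨ b * s = -(s * b)) :
    ∃ X : A, (X = s ∨ X = s * (a * b) ∨ X = -(s * (i * a)) ∨ X = -(s * (i * b))) ∧
      (1 + i * (a + b + i * (a * b))) * s * (1 - i * (a + b + i * (a * b))) = X + X + X + X := by
  have ha' : ∀ x : A, a * (a * x) = x := fun x => by rw [← mul_assoc, ha, one_mul]
  have hb' : ∀ x : A, b * (b * x) = x := fun x => by rw [← mul_assoc, hb, one_mul]
  have hii' : ∀ x : A, i * (i * x) = -x := fun x => by rw [← mul_assoc, hii, neg_mul, one_mul]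
  have hba' : ∀ x : A, b * (a * x) = -(a * (b * x)) := fun x => by
    rw [← mul_assoc, hba, neg_mul, mul_assoc]
  have hai' : ∀ x : A, a * (i * x) = i * (a * x) := fun x => by rw [← mul_assoc, hai, mul_assoc]
  have hbi' : ∀ x : A, b * (i * x) = i * (b * x) := fun x => by rw [← mul_assoc, hbi, mul_assoc]
  have his' : ∀ x : A, i * (s * x) = s * (i * x) := fun x => by rw [← mul_assoc, his, mul_assoc]
  rcases has with has | has <;> rcases hbs with hbs | hbs
  · refine ⟨s, Or.inl rfl, ?_⟩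
    have has' : ∀ x : A, a * (s * x) = s * (a * x) := fun x => by
      rw [← mul_assoc, has, mul_assoc]
    have hbs' : ∀ x : A, b * (s * x) = s * (b * x) := fun x => by
      rw [← mul_assoc, hbs, mul_assoc]
    simp only [mul_add, add_mul, mul_sub, sub_mul, mul_neg, neg_mul, neg_neg, mul_one, one_mul,
      mul_assoc, ha, hb, hii, ha', hb', hii', hba, hba', hai, hai', hbi, hbi', his, his',
      has, has', hbs, hbs']
    abel
  · refine ⟨s * (a * b), Or.inr (Or.inl rfl), ?_⟩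
    have has' : ∀ x : A, a * (s * x) = s * (a * x) := fun x => by
      rw [← mul_assoc, has, mul_assoc]
    have hbs' : ∀ x : A, b * (s * x) = -(s * (b * x)) := fun x => by
      rw [← mul_assoc, hbs, neg_mul, mul_assoc]
    simp only [mul_add, add_mul, mul_sub, sub_mul, mul_neg, neg_mul, neg_neg, mul_one, one_mul,
      mul_assoc, ha, hb, hii, ha', hb', hii', hba, hba', hai, hai', hbi, hbi', his, his',
      has, has', hbs, hbs']
    abel
  · refine ⟨-(s * (i * a)), Or.inr (Or.inr (Or.inl rfl)), ?_⟩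
    have has' : ∀ x : A, a * (s * x) = -(s * (a * x)) := fun x => by
      rw [← mul_assoc, has, neg_mul, mul_assoc]
    have hbs' : ∀ x : A, b * (s * x) = s * (b * x) := fun x => by
      rw [← mul_assoc, hbs, mul_assoc]
    simp only [mul_add, add_mul, mul_sub, sub_mul, mul_neg, neg_mul, neg_neg, mul_one, one_mul,
      mul_assoc, ha, hb, hii, ha', hb', hii', hba, hba', hai, hai', hbi, hbi', his, his',
      has, has', hbs, hbs']
    abel
  · refine ⟨-(s * (i * b)), Or.inr (Or.inr (Or.inr rfl)), ?_⟩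
    have has' : ∀ x : A, a * (s * x) = -(s * (a * x)) := fun x => by
      rw [← mul_assoc, has, neg_mul, mul_assoc]
    have hbs' : ∀ x : A, b * (s * x) = -(s * (b * x)) := fun x => by
      rw [← mul_assoc, hbs, neg_mul, mul_assoc]
    simp only [mul_add, add_mul, mul_sub, sub_mul, mul_neg, neg_mul, neg_neg, mul_one, one_mul,
      mul_assoc, ha, hb, hii, ha', hb', hii', hba, hba', hai, hai', hbi, hbi', his, his',
      has, has', hbs, hbs']
    abel

theorem h70_ex3_comm {A : Type*} [Ring A] (a b i y : A)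
    (hay : a * y = y * a) (hby : b * y = y * b) (hiy : i * y = y * i) :
    (1 + i * (a + b + i * (a * b))) * y = y * (1 + i * (a + b + i * (a * b))) := by
  have hay' : ∀ x : A, a * (y * x) = y * (a * x) := fun x => by rw [← mul_assoc, hay, mul_assoc]
  have hby' : ∀ x : A, b * (y * x) = y * (b * x) := fun x => by rw [← mul_assoc, hby, mul_assoc]
  have hiy' : ∀ x : A, i * (y * x) = y * (i * x) := fun x => by rw [← mul_assoc, hiy, mul_assoc]
  simp only [mul_add, add_mul, mul_one, one_mul, mul_assoc, hay, hay', hby, hby', hiy, hiy']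

theorem h70_ex3_cd {A : Type*} [Ring A] (t0 t1 t2 t3 i : A)
    (s0 : t0 * t0 = 1) (s1 : t1 * t1 = 1) (s2 : t2 * t2 = 1) (s3 : t3 * t3 = 1)
    (h10 : t1 * t0 = -(t0 * t1)) (h20 : t2 * t0 = -(t0 * t2)) (h21 : t2 * t1 = -(t1 * t2))
    (h30 : t3 * t0 = -(t0 * t3)) (h31 : t3 * t1 = -(t1 * t3)) (h32 : t3 * t2 = -(t2 * t3))
    (hii : i * i = -1) (hi0 : t0 * i = i * t0) (hi1 : t1 * i = i * t1) (hi2 : t2 * i = i * t2)
    (hi3 : t3 * i = i * t3) :
    (i * (t0 * (t1 * t2))) * (i * (t0 * (t1 * t2))) = 1 ∧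
    (i * (t0 * (t1 * t3))) * (i * (t0 * (t1 * t3))) = 1 ∧
    (i * (t0 * (t1 * t3))) * (i * (t0 * (t1 * t2))) =
      -((i * (t0 * (t1 * t2))) * (i * (t0 * (t1 * t3)))) ∧
    t0 * (i * (t0 * (t1 * t2))) = (i * (t0 * (t1 * t2))) * t0 ∧
    t1 * (i * (t0 * (t1 * t2))) = (i * (t0 * (t1 * t2))) * t1 ∧
    t0 * (i * (t0 * (t1 * t3))) = (i * (t0 * (t1 * t3))) * t0 ∧
    t1 * (i * (t0 * (t1 * t3))) = (i * (t0 * (t1 * t3))) * t1 := by
  have s0' : ∀ x : A, t0 * (t0 * x) = x := fun x => by rw [← mul_assoc, s0, one_mul]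
  have s1' : ∀ x : A, t1 * (t1 * x) = x := fun x => by rw [← mul_assoc, s1, one_mul]
  have s2' : ∀ x : A, t2 * (t2 * x) = x := fun x => by rw [← mul_assoc, s2, one_mul]
  have s3' : ∀ x : A, t3 * (t3 * x) = x := fun x => by rw [← mul_assoc, s3, one_mul]
  have hii' : ∀ x : A, i * (i * x) = -x := fun x => by rw [← mul_assoc, hii, neg_mul, one_mul]
  have h10' : ∀ x : A, t1 * (t0 * x) = -(t0 * (t1 * x)) := fun x => by
    rw [← mul_assoc, h10, neg_mul, mul_assoc]
  have h20' : ∀ x : A, t2 * (t0 * x) = -(t0 * (t2 * x)) := fun x => by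
    rw [← mul_assoc, h20, neg_mul, mul_assoc]
  have h21' : ∀ x : A, t2 * (t1 * x) = -(t1 * (t2 * x)) := fun x => by
    rw [← mul_assoc, h21, neg_mul, mul_assoc]
  have h30' : ∀ x : A, t3 * (t0 * x) = -(t0 * (t3 * x)) := fun x => by
    rw [← mul_assoc, h30, neg_mul, mul_assoc]
  have h31' : ∀ x : A, t3 * (t1 * x) = -(t1 * (t3 * x)) := fun x => by
    rw [← mul_assoc, h31, neg_mul, mul_assoc]
  have h32' : ∀ x : A, t3 * (t2 * x) = -(t2 * (t3 * x)) := fun x => by
    rw [← mul_assoc, h32, neg_mul, mul_assoc]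
  have hi0' : ∀ x : A, t0 * (i * x) = i * (t0 * x) := fun x => by rw [← mul_assoc, hi0, mul_assoc]
  have hi1' : ∀ x : A, t1 * (i * x) = i * (t1 * x) := fun x => by rw [← mul_assoc, hi1, mul_assoc]
  have hi2' : ∀ x : A, t2 * (i * x) = i * (t2 * x) := fun x => by rw [← mul_assoc, hi2, mul_assoc]
  have hi3' : ∀ x : A, t3 * (i * x) = i * (t3 * x) := fun x => by rw [← mul_assoc, hi3, mul_assoc]
  refine ⟨?_, ?_, ?_, ?_, ?_, ?_, ?_⟩ <;>
    simp only [mul_neg, neg_mul, neg_neg, mul_one, one_mul, mul_assoc, s0, s1, s2, s3, s0', s1',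
      s2', s3', hii, hii', h10, h20, h21, h30, h31, h32, h10', h20', h21', h30', h31', h32',
      hi0, hi1, hi2, hi3, hi0', hi1', hi2', hi3']

theorem h70_ex3_cube {A : Type*} [Ring A] (x y : A) (hyx : y * x = x * y)
    (hx : x * x * x = -1) (hy : y * y * y = -1) : (x * y) ^ 3 = 1 := by
  have hc : Commute x y := hyx.symm
  rw [hc.mul_pow, pow_succ, pow_two, pow_succ y, pow_two, hx, hy]
  simp

theorem h70_ex3_trace_anti {F : Type*} [Field F] (h2 : (2 : F) ≠ 0)
    (x y : Matrix (Fin 4) (Fin 4) F) (hxy : x * y = -(y * x)) (hy : y * y = 1) :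
    Matrix.trace x = 0 := by
  have h1 : x = -(y * x * y) := by
    calc x = x * (y * y) := by rw [hy, mul_one]
      _ = x * y * y := by rw [mul_assoc]
      _ = -(y * x * y) := by rw [hxy, neg_mul]
  have h3 : Matrix.trace (y * x * y) = Matrix.trace x := by
    rw [Matrix.trace_mul_comm, ← mul_assoc, hy, one_mul]
  have h4 : Matrix.trace x = -Matrix.trace x := by
    conv_lhs => rw [h1]
    rw [Matrix.trace_neg, h3]
  have h5 : (2 : F) * Matrix.trace x = 0 := by linear_combination h4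
  rcases mul_eq_zero.mp h5 with h | h
  · exact absurd h h2
  · exact h

open Matrix Cfsg Cfsg.Geo

theorem h70_ex3_norm_of_fwd {F : Type*} [Field F] (R : Subgroup (GL (Fin 4) F)) [Finite R]
    (g : GL (Fin 4) F) (h : ∀ s ∈ R, g * s * g⁻¹ ∈ R) : g ∈ subgroupNormalizer R := by
  rw [subgroupNormalizer, Subgroup.mem_normalizer_iff]
  intro x
  constructor
  · intro hx
    exact h x hx
  · intro hx
    let f : R → R := fun s => ⟨g * s * g⁻¹, h s s.2⟩
    have hinj : Function.Injective f := by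
      intro s1 s2 h12
      have h' : g * (s1 : GL (Fin 4) F) * g⁻¹ = g * (s2 : GL (Fin 4) F) * g⁻¹ :=
        congrArg Subtype.val h12
      exact Subtype.ext (mul_left_cancel (mul_right_cancel h'))
    have hsurj := Finite.surjective_of_injective hinj
    obtain ⟨s, hs⟩ := hsurj ⟨g * x * g⁻¹, hx⟩
    have h' : g * (s : GL (Fin 4) F) * g⁻¹ = g * x * g⁻¹ := congrArg Subtype.val hs
    have hx' : (s : GL (Fin 4) F) = x := mul_left_cancel (mul_right_cancel h')
    rw [← hx']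
    exact s.2

theorem h70_ex3_u {F : Type*} [Field F] (h2 : (2 : F) ≠ 0) (R : Subgroup (GL (Fin 4) F)) (w : F)
    (hG : Good R w) (a b : GL (Fin 4) F) (haR : a ∈ R) (hbR : b ∈ R)
    (ha : (a : Matrix (Fin 4) (Fin 4) F) * (a : Matrix (Fin 4) (Fin 4) F) = 1)
    (hb : (b : Matrix (Fin 4) (Fin 4) F) * (b : Matrix (Fin 4) (Fin 4) F) = 1)
    (hba : (b : Matrix (Fin 4) (Fin 4) F) * (a : Matrix (Fin 4) (Fin 4) F) =
      -((a : Matrix (Fin 4) (Fin 4) F) * (b : Matrix (Fin 4) (Fin 4) F))) :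
    ∃ u : GL (Fin 4) F, u ∈ subgroupNormalizer R ∧
      (u : Matrix (Fin 4) (Fin 4) F) * (u : Matrix (Fin 4) (Fin 4) F) *
        (u : Matrix (Fin 4) (Fin 4) F) = -1 ∧
      Matrix.trace (u : Matrix (Fin 4) (Fin 4) F) = 2 ∧
      (∀ y : Matrix (Fin 4) (Fin 4) F,
        (a : Matrix (Fin 4) (Fin 4) F) * y = y * (a : Matrix (Fin 4) (Fin 4) F) →
        (b : Matrix (Fin 4) (Fin 4) F) * y = y * (b : Matrix (Fin 4) (Fin 4) F) →
        (u : Matrix (Fin 4) (Fin 4) F) * y = y * (u : Matrix (Fin 4) (Fin 4) F)) ∧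
      (u : Matrix (Fin 4) (Fin 4) F) = (2⁻¹ : F) • (1 + (w • (1 : Matrix (Fin 4) (Fin 4) F)) *
        ((a : Matrix (Fin 4) (Fin 4) F) + (b : Matrix (Fin 4) (Fin 4) F) +
          (w • (1 : Matrix (Fin 4) (Fin 4) F)) *
            ((a : Matrix (Fin 4) (Fin 4) F) * (b : Matrix (Fin 4) (Fin 4) F)))) := by
  obtain ⟨z, hzR, hz⟩ := hG.wmem
  have hww := hG.wsq
  haveI : Finite R := Nat.finite_of_card_ne_zero (by rw [hG.card]; norm_num)
  set Am : Matrix (Fin 4) (Fin 4) F := (a : Matrix (Fin 4) (Fin 4) F) with hAm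
  set Bm : Matrix (Fin 4) (Fin 4) F := (b : Matrix (Fin 4) (Fin 4) F) with hBm
  set I : Matrix (Fin 4) (Fin 4) F := w • (1 : Matrix (Fin 4) (Fin 4) F) with hI
  have hzI : (z : Matrix (Fin 4) (Fin 4) F) = I := hz
  have hII : I * I = -1 := by
    rw [hI]
    simp only [smul_mul_assoc, mul_smul_comm, smul_smul, mul_one, hww]
    simp
  have hIc : ∀ y : Matrix (Fin 4) (Fin 4) F, y * I = I * y := by
    intro y
    rw [hI]
    simp only [smul_mul_assoc, mul_smul_comm, mul_one, one_mul]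
  have hIm : ∀ y : Matrix (Fin 4) (Fin 4) F, I * y = w • y := by
    intro y
    rw [hI, smul_mul_assoc, one_mul]
  set N : Matrix (Fin 4) (Fin 4) F := 1 + I * (Am + Bm + I * (Am * Bm)) with hN
  set M : Matrix (Fin 4) (Fin 4) F := 1 - I * (Am + Bm + I * (Am * Bm)) with hM
  obtain ⟨hNM, hMN, hNNN⟩ := h70_ex3_NM Am Bm I ha hb hba hII (hIc Am) (hIc Bm)
  have h4 : (2⁻¹ : F) * 2⁻¹ * 4 = 1 := by
    have h22 : (2 : F) * 2 = 4 := by norm_num
    rw [← h22]
    field_simp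
  have h8 : (2⁻¹ : F) * 2⁻¹ * 2⁻¹ * 8 = 1 := by
    have h222 : (2 : F) * 2 * 2 = 8 := by norm_num
    rw [← h222]
    field_simp
  have hquarter : ∀ X : Matrix (Fin 4) (Fin 4) F, ((2⁻¹ : F) * 2⁻¹) • (X + X + X + X) = X := by
    intro X
    have : ((2⁻¹ : F) * 2⁻¹) • (X + X + X + X) = ((2⁻¹ : F) * 2⁻¹ * 4) • X := by module
    rw [this, h4, one_smul]
  have heighth : ∀ X : Matrix (Fin 4) (Fin 4) F,
      ((2⁻¹ : F) * 2⁻¹ * 2⁻¹) • (X + X + X + X + X + X + X + X) = X := by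
    intro X
    have : ((2⁻¹ : F) * 2⁻¹ * 2⁻¹) • (X + X + X + X + X + X + X + X) =
        ((2⁻¹ : F) * 2⁻¹ * 2⁻¹ * 8) • X := by module
    rw [this, h8, one_smul]
  have huu' : ((2⁻¹ : F) • N) * ((2⁻¹ : F) • M) = 1 := by
    rw [smul_mul_assoc, mul_smul_comm, smul_smul, hNM]
    exact hquarter 1
  have hu'u : ((2⁻¹ : F) • M) * ((2⁻¹ : F) • N) = 1 := by
    rw [smul_mul_assoc, mul_smul_comm, smul_smul, hMN]
    exact hquarter 1
  set u : GL (Fin 4) F := ⟨(2⁻¹ : F) • N, (2⁻¹ : F) • M, huu', hu'u⟩ with hu_def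
  have huval : (u : Matrix (Fin 4) (Fin 4) F) = (2⁻¹ : F) • N := rfl
  have huinv : ((u⁻¹ : GL (Fin 4) F) : Matrix (Fin 4) (Fin 4) F) = (2⁻¹ : F) • M := rfl
  have hzz' : (z : Matrix (Fin 4) (Fin 4) F) * (z : Matrix (Fin 4) (Fin 4) F) = -1 := by
    rw [hzI]
    exact hII
  have hconj : ∀ s : GL (Fin 4) F, s ∈ R → u * s * u⁻¹ ∈ R := by
    intro s hs
    have hcomm_a : Am * (s : Matrix (Fin 4) (Fin 4) F) = (s : Matrix (Fin 4) (Fin 4) F) * Am ∨
        Am * (s : Matrix (Fin 4) (Fin 4) F) = -((s : Matrix (Fin 4) (Fin 4) F) * Am) :=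
      hG.comm a haR s hs
    have hcomm_b : Bm * (s : Matrix (Fin 4) (Fin 4) F) = (s : Matrix (Fin 4) (Fin 4) F) * Bm ∨
        Bm * (s : Matrix (Fin 4) (Fin 4) F) = -((s : Matrix (Fin 4) (Fin 4) F) * Bm) :=
      hG.comm b hbR s hs
    obtain ⟨X, hX, hNsM⟩ := h70_ex3_conj Am Bm I (s : Matrix (Fin 4) (Fin 4) F) ha hb hba hII
      (hIc Am) (hIc Bm) (hIc (s : Matrix (Fin 4) (Fin 4) F)).symm hcomm_a hcomm_b
    have hval : ((u * s * u⁻¹ : GL (Fin 4) F) : Matrix (Fin 4) (Fin 4) F) = X := by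
      rw [Units.val_mul, Units.val_mul, huval, huinv, smul_mul_assoc, smul_mul_assoc,
        mul_smul_comm, smul_smul, hNsM]
      exact hquarter X
    rcases hX with hX | hX | hX | hX
    · have : u * s * u⁻¹ = s := Units.ext (by rw [hval, hX])
      rw [this]
      exact hs
    · have : u * s * u⁻¹ = s * (a * b) := Units.ext (by
        rw [hval, hX]
        rfl)
      rw [this]
      exact R.mul_mem hs (R.mul_mem haR hbR)
    · have : u * s * u⁻¹ = z * z * (s * (z * a)) := Units.ext (by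
        rw [hval, hX]
        show _ = (z : Matrix (Fin 4) (Fin 4) F) * (z : Matrix (Fin 4) (Fin 4) F) *
          ((s : Matrix (Fin 4) (Fin 4) F) * ((z : Matrix (Fin 4) (Fin 4) F) * Am))
        rw [hzz', hzI, neg_mul, one_mul])
      rw [this]
      exact R.mul_mem (R.mul_mem hzR hzR) (R.mul_mem hs (R.mul_mem hzR haR))
    · have : u * s * u⁻¹ = z * z * (s * (z * b)) := Units.ext (by
        rw [hval, hX]
        show _ = (z : Matrix (Fin 4) (Fin 4) F) * (z : Matrix (Fin 4) (Fin 4) F) *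
          ((s : Matrix (Fin 4) (Fin 4) F) * ((z : Matrix (Fin 4) (Fin 4) F) * Bm))
        rw [hzz', hzI, neg_mul, one_mul])
      rw [this]
      exact R.mul_mem (R.mul_mem hzR hzR) (R.mul_mem hs (R.mul_mem hzR hbR))
  refine ⟨u, h70_ex3_norm_of_fwd R u hconj, ?_, ?_, ?_, rfl⟩
  · rw [huval]
    simp only [smul_mul_assoc, mul_smul_comm, smul_smul]
    rw [hNNN, smul_neg, ← mul_assoc, heighth 1]
  · rw [huval, Matrix.trace_smul, hN, hIm, hIm]
    have ta : Matrix.trace Am = 0 := by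
      refine h70_ex3_trace_anti h2 Am Bm ?_ hb
      rw [hba, neg_neg]
    have tb : Matrix.trace Bm = 0 := h70_ex3_trace_anti h2 Bm Am hba ha
    have tab : Matrix.trace (Am * Bm) = 0 := by
      refine h70_ex3_trace_anti h2 (Am * Bm) Am ?_ ha
      rw [mul_assoc, hba, mul_neg, ← mul_assoc, ha, one_mul]
    simp only [Matrix.trace_add, Matrix.trace_smul, Matrix.trace_one, ta, tb, tab]
    simp only [Fintype.card_fin, smul_eq_mul, add_zero, mul_zero]
    have : ((4 : ℕ) : F) = 2 * 2 := by norm_num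
    rw [this]
    field_simp
  · intro y hay hby
    rw [huval, smul_mul_assoc, mul_smul_comm]
    congr 1
    exact h70_ex3_comm Am Bm I y hay hby (hIc y).symm

/-- EX3 (L), racer copy by helper70: verbatim Skel statement of `s60_exists_three`. -/
theorem h70_s60_exists_three {F : Type*} [Field F] [Fintype F] (h2 : (2 : F) ≠ 0) (R : Subgroup (GL (Fin 4) F)) (w : F) (hG : Good R w) :
    ∃ hA hB : GL (Fin 4) F, hA ∈ subgroupNormalizer R ∧ hB ∈ subgroupNormalizer R ∧ hA ^ 3 = 1 ∧ hB ^ 3 = 1 ∧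
      Matrix.trace (hA : Matrix (Fin 4) (Fin 4) F) = 1 ∧ Matrix.trace (hB : Matrix (Fin 4) (Fin 4) F) = -2 := by
  obtain ⟨t, htR, htsq, htanti, -⟩ := hG.frame
  obtain ⟨z, hzR, hz⟩ := hG.wmem
  have hww := hG.wsq
  haveI : Finite R := Nat.finite_of_card_ne_zero (by rw [hG.card]; norm_num)
  have hzz : (z : Matrix (Fin 4) (Fin 4) F) * (z : Matrix (Fin 4) (Fin 4) F) = -1 := by
    rw [hz]
    simp only [smul_mul_assoc, mul_smul_comm, smul_smul, mul_one, hww]
    simp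
  have hzc : ∀ y : Matrix (Fin 4) (Fin 4) F,
      y * (z : Matrix (Fin 4) (Fin 4) F) = (z : Matrix (Fin 4) (Fin 4) F) * y := by
    intro y
    rw [hz]
    simp only [smul_mul_assoc, mul_smul_comm, mul_one, one_mul]
  obtain ⟨u1, hu1N, hu1c, hu1t, hu1comm, -⟩ := h70_ex3_u h2 R w hG (t 0) (t 1) (htR 0) (htR 1)
    (htsq 0) (htsq 1) (htanti 1 0 (by decide))
  obtain ⟨hcc, hdd, hdc, hc0, hc1, hd0, hd1⟩ := h70_ex3_cd (t 0 : Matrix (Fin 4) (Fin 4) F)
    (t 1 : Matrix (Fin 4) (Fin 4) F) (t 2 : Matrix (Fin 4) (Fin 4) F)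
    (t 3 : Matrix (Fin 4) (Fin 4) F) (z : Matrix (Fin 4) (Fin 4) F)
    (htsq 0) (htsq 1) (htsq 2) (htsq 3) (htanti 1 0 (by decide)) (htanti 2 0 (by decide))
    (htanti 2 1 (by decide)) (htanti 3 0 (by decide)) (htanti 3 1 (by decide))
    (htanti 3 2 (by decide)) hzz (hzc _) (hzc _) (hzc _) (hzc _)
  have hcR : z * (t 0 * (t 1 * t 2)) ∈ R :=
    R.mul_mem hzR (R.mul_mem (htR 0) (R.mul_mem (htR 1) (htR 2)))
  have hdR : z * (t 0 * (t 1 * t 3)) ∈ R :=
    R.mul_mem hzR (R.mul_mem (htR 0) (R.mul_mem (htR 1) (htR 3)))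
  obtain ⟨u2, hu2N, hu2c, -, hu2comm, hu2val⟩ := h70_ex3_u h2 R w hG (z * (t 0 * (t 1 * t 2)))
    (z * (t 0 * (t 1 * t 3))) hcR hdR hcc hdd hdc
  obtain ⟨C, hC⟩ : ∃ C : Matrix (Fin 4) (Fin 4) F,
      C = ((z * (t 0 * (t 1 * t 2)) : GL (Fin 4) F) : Matrix (Fin 4) (Fin 4) F) := ⟨_, rfl⟩
  obtain ⟨D, hD⟩ : ∃ D : Matrix (Fin 4) (Fin 4) F,
      D = ((z * (t 0 * (t 1 * t 3)) : GL (Fin 4) F) : Matrix (Fin 4) (Fin 4) F) := ⟨_, rfl⟩
  obtain ⟨U1, hU1⟩ : ∃ U1 : Matrix (Fin 4) (Fin 4) F,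
      U1 = (u1 : Matrix (Fin 4) (Fin 4) F) := ⟨_, rfl⟩
  rw [← hC, ← hD] at hu2comm hu2val
  rw [← hU1] at hu1c hu1t hu1comm
  have hcc' : C * C = 1 := by rw [hC]; exact hcc
  have hdd' : D * D = 1 := by rw [hD]; exact hdd
  have hdc' : D * C = -(C * D) := by rw [hC, hD]; exact hdc
  have h1c : U1 * C = C * U1 := by
    refine hu1comm C ?_ ?_
    · rw [hC]; exact hc0
    · rw [hC]; exact hc1
  have h1d : U1 * D = D * U1 := by
    refine hu1comm D ?_ ?_
    · rw [hD]; exact hd0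
    · rw [hD]; exact hd1
  have h21 : (u2 : Matrix (Fin 4) (Fin 4) F) * U1 = U1 * (u2 : Matrix (Fin 4) (Fin 4) F) :=
    hu2comm U1 h1c.symm h1d.symm
  have hccx : ∀ x : Matrix (Fin 4) (Fin 4) F, C * (C * x) = x := fun x => by
    rw [← mul_assoc, hcc', one_mul]
  have hdcx : ∀ x : Matrix (Fin 4) (Fin 4) F, D * (C * x) = -(C * (D * x)) := fun x => by
    rw [← mul_assoc, hdc', neg_mul, mul_assoc]
  have h1cx : ∀ x : Matrix (Fin 4) (Fin 4) F, U1 * (C * x) = C * (U1 * x) := fun x => by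
    rw [← mul_assoc, h1c, mul_assoc]
  have h1dx : ∀ x : Matrix (Fin 4) (Fin 4) F, U1 * (D * x) = D * (U1 * x) := fun x => by
    rw [← mul_assoc, h1d, mul_assoc]
  have tc : Matrix.trace (U1 * C) = 0 := by
    refine h70_ex3_trace_anti h2 (U1 * C) D ?_ hdd'
    simp only [mul_assoc, mul_neg, neg_mul, neg_neg, h1c, h1cx, h1d, h1dx, hdc', hdcx, hcc', hccx]
  have td : Matrix.trace (U1 * D) = 0 := by
    refine h70_ex3_trace_anti h2 (U1 * D) C ?_ hcc'
    simp only [mul_assoc, mul_neg, neg_mul, neg_neg, h1c, h1cx, h1d, h1dx, hdc', hdcx, hcc', hccx]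
  have tcd : Matrix.trace (U1 * (C * D)) = 0 := by
    refine h70_ex3_trace_anti h2 (U1 * (C * D)) C ?_ hcc'
    simp only [mul_assoc, mul_neg, neg_mul, neg_neg, h1c, h1cx, h1d, h1dx, hdc', hdcx, hcc', hccx]
  have hzzR : z * z ∈ R := R.mul_mem hzR hzR
  refine ⟨u1 * u2, z * z * u1, (subgroupNormalizer R).mul_mem hu1N hu2N,
    (subgroupNormalizer R).mul_mem ?_ hu1N, ?_, ?_, ?_, ?_⟩
  · exact h70_ex3_norm_of_fwd R (z * z)
      (fun s hs => R.mul_mem (R.mul_mem hzzR hs) (R.inv_mem hzzR))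
  · apply Units.ext
    rw [Units.val_pow_eq_pow_val, Units.val_mul, Units.val_one, ← hU1]
    exact h70_ex3_cube _ _ h21 hu1c hu2c
  · apply Units.ext
    rw [Units.val_pow_eq_pow_val, Units.val_mul, Units.val_mul, hzz, neg_mul, one_mul,
      Units.val_one, Odd.neg_pow (show Odd (3 : ℕ) from ⟨1, rfl⟩), pow_succ, pow_two, ← hU1, hu1c, neg_neg]
  · rw [Units.val_mul, hu2val, ← hU1]
    simp only [mul_smul_comm, mul_add, mul_one, smul_mul_assoc, one_mul, Matrix.trace_smul,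
      Matrix.trace_add]
    rw [hu1t, tc, td, tcd]
    simp only [smul_eq_mul, add_zero, mul_zero]
    exact inv_mul_cancel₀ h2
  · rw [Units.val_mul, Units.val_mul, hzz, neg_mul, one_mul, Matrix.trace_neg, ← hU1, hu1t]

end Cfsg.Agent.Lib.helper89.S60
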