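import Cfsg.Agent.Lib.helper76.SM_G1
import Cfsg.Agent.Lib.helper89.SM_G2
import Cfsg.Agent.Lib.helper53.SM_G4
import Cfsg.Agent.Lib.helper53.SM_W1
import Cfsg.Agent.Lib.helper31.SM_O1
import Cfsg.Agent.Lib.helper78.SM_O3
import Cfsg.Agent.Lib.helper78.SM_O4
import Cfsg.Agent.Lib.helper56.SM_O5
import Cfsg.Agent.Lib.helper71.SM_O6
import Cfsg.Agent.Lib.helper43.SM_T1
import Cfsg.Agent.Lib.helper85.SM_T2
import Cfsg.Agent.Lib.helper43.SM_T3
import Cfsg.Agent.Lib.helper32.SM_T4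
import Cfsg.Agent.Lib.helper8.SM_T5
import Cfsg.Agent.Lib.helper85.SM_T6a
import Cfsg.Agent.Lib.helper9.SM_T6b
import Cfsg.Agent.S3335
import Mathlib

set_option autoImplicit false
set_option maxHeartbeats 400000
open Cfsg Cfsg.Agent.S3335

namespace Cfsg.Agent.Lib.helper70.SM

universe u

/-- Commuting of involutions whose product is an involution. -/
theorem h70_comm_of_sq {G : Type*} [Group G] {a b : G} (ha : a ^ 2 = 1) (hb : b ^ 2 = 1)
    (h : (a * b) ^ 2 = 1) : a * b = b * a := by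
  have ha' : a⁻¹ = a := inv_eq_of_mul_eq_one_right (by rw [← pow_two]; exact ha)
  have hb' : b⁻¹ = b := inv_eq_of_mul_eq_one_right (by rw [← pow_two]; exact hb)
  have h2 : (a * b)⁻¹ = a * b := inv_eq_of_mul_eq_one_right (by rw [← pow_two]; exact h)
  rw [← h2, mul_inv_rev, ha', hb']

/-- Far generators of the presented group commute. -/
theorem h70_x_comm (k : ℕ) (i j : Fin (k + 1)) (hi : 1 ≤ i.val) (hij : i.val + 1 < j.val) :
    x k i * x k j = x k j * x k i :=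
  h70_comm_of_sq (x_sq k i hi) (x_sq k j (by omega)) (x_far k i j hij)

/-- Exact lifts when the kernel has odd order. -/
theorem h70_exists_exact_lifts_odd {Γ : Type u} [Group Γ] [Finite Γ] (k : ℕ) (hk : k = 2 ∨ 5 ≤ k)
    (π : Γ →* PresentedGroup (rels k)) (hπ : Function.Surjective π)
    (hc : π.ker ≤ Subgroup.center Γ) (hodd : Odd (Nat.card π.ker)) :
    ∃ y : Fin (k + 1) → Γ, (∀ i, π (y i) = x k i) ∧
      (∀ i : Fin (k + 1), i.val = 0 → y i ^ 3 = 1) ∧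
      (∀ i : Fin (k + 1), 1 ≤ i.val → y i ^ 2 = 1) ∧
      (∀ i j : Fin (k + 1), j.val = i.val + 1 → (y i * y j) ^ 3 = 1) ∧
      (∀ i j : Fin (k + 1), i.val + 1 < j.val → (y i * y j) ^ 2 = 1) := by
  obtain ⟨y, hy, h1, h2, hinv⟩ := exists_lifts_odd k (by omega) π hπ hc hodd
  have h4' : ∀ i j : Fin (k + 1), 1 ≤ i.val → i.val + 1 < j.val → (y i * y j) ^ 2 = 1 := by
    intro i j hi hij
    apply odd_invol_pow π hc hodd _ _ (h2 i hi) (h2 j (by omega)) 2
    rw [hy, hy]; exact x_far k i j hij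
  refine ⟨y, hy, h1, h2, ?_, ?_⟩
  · intro i j hij
    by_cases hi : i.val = 0
    · apply odd_a4 π hc hodd _ _ (h1 i hi) (h2 j (by omega))
      rw [hy, hy]; exact x_adj k i j hij
    · apply odd_invol_pow π hc hodd _ _ (h2 i (by omega)) (h2 j (by omega)) 3
      rw [hy, hy]; exact x_adj k i j hij
  · intro i j hij
    by_cases hi : i.val = 0
    · exact odd_far_zero k hk π hc hodd y hy h1 h2 hinv h4' i j hi hij
    · exact h4' i j (by omega) hij

/-- An odd central kernel inside the commutator subgroup is trivial. -/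
theorem h70_odd_ker_trivial {Γ : Type u} [Group Γ] [Finite Γ] (k : ℕ) (hk : k = 1 ∨ k = 2 ∨ 5 ≤ k)
    (π : Γ →* PresentedGroup (rels k)) (hπ : Function.Surjective π)
    (hc : π.ker ≤ Subgroup.center Γ) (hd : π.ker ≤ commutator Γ)
    (hodd : Odd (Nat.card π.ker)) : π.ker = ⊥ := by
  rcases hk with rfl | hk
  · exact h71_odd_ker_trivial_one π hπ hc hd hodd
  · obtain ⟨y, hy, h1, h2, h3, h4⟩ := h70_exists_exact_lifts_odd k hk π hπ hc hodd
    have hle := ker_le_of_lifts k π hπ hc hd ⊥ bot_le y hy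
      (fun i hi => by rw [h1 i hi]; exact Subgroup.one_mem _)
      (fun i hi => by rw [h2 i hi]; exact Subgroup.one_mem _)
      (fun i j hij => by rw [h3 i j hij]; exact Subgroup.one_mem _)
      (fun i j hij => by rw [h4 i j hij]; exact Subgroup.one_mem _)
    exact le_bot_iff.mp hle

/-- Lifts with all relators in `{1, z}` when the kernel is a 2-group. -/
theorem h70_exists_lifts_two_full {Γ : Type u} [Group Γ] [Finite Γ] (k : ℕ) (hk : 1 ≤ k)
    (π : Γ →* PresentedGroup (rels k)) (hπ : Function.Surjective π)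
    (hc : π.ker ≤ Subgroup.center Γ) (h2 : IsPGroup 2 π.ker) :
    ∃ (y : Fin (k + 1) → Γ) (z : Γ), z ∈ π.ker ∧ z ^ 2 = 1 ∧ (∀ i, π (y i) = x k i) ∧
      (∀ i : Fin (k + 1), i.val = 0 → y i ^ 3 = 1) ∧
      (∀ i : Fin (k + 1), 1 ≤ i.val → y i ^ 2 = z) ∧
      (∀ i j : Fin (k + 1), j.val = i.val + 1 → (y i * y j) ^ 3 = 1) ∧
      (∀ i j : Fin (k + 1), i.val + 1 < j.val → (y i * y j) ^ 2 = z) := by
  obtain ⟨y, hy, h1, h3⟩ := exists_lifts_two k π hπ hc h2
  have hk0 : 0 < k + 1 := by omega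
  have hk1 : 1 < k + 1 := by omega
  have hx1 : π (y ⟨1, hk1⟩) ^ 2 = 1 := by rw [hy]; exact x_sq k _ (le_refl _)
  obtain ⟨hzz, hzc⟩ := two_a4 π hc h2 (y ⟨0, hk0⟩) (y ⟨1, hk1⟩) (h1 _ rfl) hx1 (h3 _ _ rfl)
  obtain ⟨z, hz⟩ : ∃ z, z = y ⟨1, hk1⟩ ^ 2 := ⟨_, rfl⟩
  rw [← hz] at hzz hzc
  have hzk : z ∈ π.ker := by rw [MonoidHom.mem_ker, hz, map_pow]; exact hx1
  have hzcen : ∀ g : Γ, z * g = g * z := fun g => (Subgroup.mem_center_iff.mp (hc hzk) g).symm
  have hzinv : z⁻¹ = z := inv_eq_of_mul_eq_one_right (by rw [← pow_two]; exact hzz)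
  have hsq : ∀ (n : ℕ) (i : Fin (k + 1)), i.val = n + 1 → y i ^ 2 = z := by
    intro n
    induction n with
    | zero =>
      intro i hi
      have : i = ⟨1, hk1⟩ := Fin.ext hi
      rw [this, hz]
    | succ n ih =>
      intro i hi
      have hn : n + 1 < k + 1 := by have := i.isLt; omega
      have e := two_adj_sq π hc h2 (y ⟨n + 1, hn⟩) (y i)
        (by rw [hy]; exact x_sq k _ (by simp))
        (by rw [hy]; exact x_sq k i (by omega))
        (h3 ⟨n + 1, hn⟩ i (by simp; omega))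
      rw [e, ih ⟨n + 1, hn⟩ rfl, hzinv]
  have hsq' : ∀ i : Fin (k + 1), 1 ≤ i.val → y i ^ 2 = z := fun i hi => hsq (i.val - 1) i (by omega)
  refine ⟨y, z, hzk, hzz, hy, h1, hsq', h3, ?_⟩
  intro i j hij
  by_cases hi : i.val = 0
  · rw [two_far_zero π hc h2 (y i) (y j) (h1 i hi) (by rw [hy]; exact x_sq k j (by omega))
      (by rw [hy, hy]; exact x_far k i j hij)]
    exact hsq' j (by omega)
  · have hi1 : 1 ≤ i.val := by omega
    have hk2 : 2 < k + 1 := by have := j.isLt; omega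
    have hk3 : 3 < k + 1 := by have := j.isLt; omega
    -- the commutator of far lifts is central
    have hcm : ∀ a b : Fin (k + 1), 1 ≤ a.val → a.val + 1 < b.val →
        y a * y b * (y a)⁻¹ * (y b)⁻¹ ∈ π.ker := by
      intro a b ha hab
      rw [MonoidHom.mem_ker]
      simp only [map_mul, map_inv, hy]
      rw [h70_x_comm k a b ha hab]
      group
    have e1 : (y i * y j) ^ 2 = y i * y j * (y i)⁻¹ * (y j)⁻¹ := by
      obtain ⟨c, hcdef⟩ : ∃ c, c = y i * y j * (y i)⁻¹ * (y j)⁻¹ := ⟨_, rfl⟩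
      have hck : c ∈ π.ker := hcdef ▸ hcm i j hi1 hij
      have hc1 : y i * y j = c * (y j * y i) := by rw [hcdef]; group
      have hc2 : (y i * y j) ^ 2 = c * (y j * (y i ^ 2) * y j) := by
        rw [pow_two]
        nth_rewrite 1 [hc1]
        rw [pow_two]
        simp only [mul_assoc]
      rw [hc2, hsq' i hi1, ← hzcen (y j), mul_assoc z, ← pow_two, hsq' j (by omega), ← pow_two,
        hzz, mul_one, hcdef]
    rw [e1, far_comm_const k π hc y hy ⟨1, hk1⟩ ⟨3, hk3⟩ rfl rfl i j hi1 hij]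
    obtain ⟨h, hh1, hh2⟩ := h9_exists_conj k ⟨0, hk0⟩ ⟨1, hk1⟩ ⟨2, hk2⟩ ⟨3, hk3⟩ rfl rfl rfl rfl
    obtain ⟨t, rfl⟩ := hπ h
    have key := comm_eq_of_conj π hc (y ⟨1, hk1⟩) (y ⟨0, hk0⟩ * y ⟨1, hk1⟩ * (y ⟨0, hk0⟩)⁻¹)
      (y ⟨1, hk1⟩ * y ⟨3, hk3⟩) (y ⟨2, hk2⟩ * (y ⟨1, hk1⟩ * y ⟨3, hk3⟩) * (y ⟨2, hk2⟩)⁻¹) t
      (by
        simp only [map_mul, map_inv, hy]
        exact a4_comm (x k ⟨0, hk0⟩) (x k ⟨1, hk1⟩) (x_cube k _ rfl) (x_sq k _ (le_refl _))
          (x_adj k _ _ rfl))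
      (by simp only [map_mul, hy]; exact hh1.symm)
      (by simp only [map_mul, map_inv, hy]; exact hh2.symm)
    have w := word_identity (y ⟨1, hk1⟩) (y ⟨2, hk2⟩) (y ⟨3, hk3⟩) z hzcen hzz
      (hsq' _ (le_refl _)) (hsq' _ (by simp)) (hsq' _ (by simp)) (h3 _ _ rfl) (h3 _ _ rfl)
      (fun g => (Subgroup.mem_center_iff.mp
        (hc (hcm ⟨1, hk1⟩ ⟨3, hk3⟩ (le_refl _) (by simp))) g).symm)
    rw [← w, key, ← hzc]

/-- The kernel has order at most two. -/
theorem h70_ker_card_le_two {Γ : Type u} [Group Γ] [Finite Γ] (k : ℕ)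
    (hk : k = 1 ∨ k = 2 ∨ 5 ≤ k)
    (π : Γ →* PresentedGroup (rels k)) (hπ : Function.Surjective π)
    (hc : π.ker ≤ Subgroup.center Γ) (hd : π.ker ≤ commutator Γ) : Nat.card π.ker ≤ 2 := by
  have h2 : IsPGroup 2 π.ker :=
    h89_ker_isPGroup_two_of_odd
      (fun Δ _ _ ρ hρ hρc hρd hρo => h70_odd_ker_trivial k hk ρ hρ hρc hρd hρo) π hπ hc hd
  obtain ⟨y, z, hzk, hzz, hy, h1, hsq, h3, h4⟩ :=
    h70_exists_lifts_two_full k (by omega) π hπ hc h2
  have hle := ker_le_of_lifts k π hπ hc hd (Subgroup.zpowers z)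
    (by rw [Subgroup.zpowers_le]; exact hzk) y hy
    (fun i hi => by rw [h1 i hi]; exact Subgroup.one_mem _)
    (fun i hi => by rw [hsq i hi]; exact Subgroup.mem_zpowers z)
    (fun i j hij => by rw [h3 i j hij]; exact Subgroup.one_mem _)
    (fun i j hij => by rw [h4 i j hij]; exact Subgroup.mem_zpowers z)
  calc Nat.card π.ker ≤ Nat.card (Subgroup.zpowers z) := Subgroup.card_le_of_le hle
    _ = orderOf z := Nat.card_zpowers z
    _ ≤ 2 := Nat.le_of_dvd (by norm_num) (orderOf_dvd_of_pow_eq_one hzz)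

end Cfsg.Agent.Lib.helper70.SM
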