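import Mathlib
import Cfsg.Agent.Lib.helper70.OrderCount
import Cfsg.Agent.Lib.helper70.Frob
import Cfsg.Agent.Lib.helper70.Miller
import Cfsg.Agent.Lib.helper92.TT15b
import Cfsg.Agent.Lib.helper2.SylowExtra

set_option autoImplicit false
set_option linter.unusedSectionVars false

/-!
# Odd-order groups with three same-order-type values: the counting part

`ocnt G m` is the number of elements of order `m`.  `SOT G a b` says that `G` has odd order and
that every `ocnt G m` (`m ≠ 1`) is `0`, `a` or `b`, where `a ≠ b`.  We show that then at most two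
primes divide `|G|`, and that with exactly two primes every nonidentity element has prime order.
-/

namespace Cfsg.Agent.Lib.helper70

/-- the number of elements of order `m`. -/
noncomputable def ocnt (G : Type*) [Group G] (m : ℕ) : ℕ := Nat.card {g : G // orderOf g = m}

section

variable {G : Type*} [Group G] [Finite G]

theorem ocnt_pos_of_prime {p : ℕ} (hp : p.Prime) (hpG : p ∣ Nat.card G) : 0 < ocnt G p := by
  have : Fact p.Prime := ⟨hp⟩
  obtain ⟨x, hx⟩ := exists_prime_orderOf_dvd_card' p hpG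
  have : Nonempty {g : G // orderOf g = p} := ⟨⟨x, hx⟩⟩
  exact Nat.card_pos

theorem ocnt_pos_of_orderOf (g : G) : 0 < ocnt G (orderOf g) := by
  have : Nonempty {x : G // orderOf x = orderOf g} := ⟨⟨g, rfl⟩⟩
  exact Nat.card_pos

theorem ocnt_frob_prime {p : ℕ} (hp : p.Prime) (hpG : p ∣ Nat.card G) : p ∣ 1 + ocnt G p := by
  have h1 := frobenius_dvd (G := G) p hpG
  rwa [card_pow_prime_eq p hp] at h1

theorem ocnt_frob_mul {p q : ℕ} (hp : p.Prime) (hq : q.Prime) (hpq : p ≠ q)
    (hpG : p ∣ Nat.card G) (hqG : q ∣ Nat.card G) :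
    p * q ∣ 1 + ocnt G p + ocnt G q + ocnt G (p * q) := by
  have hcop : Nat.Coprime p q := (Nat.coprime_primes hp hq).mpr hpq
  have h1 := frobenius_dvd (G := G) (p * q) (hcop.mul_dvd_of_dvd_of_dvd hpG hqG)
  rwa [card_pow_prime_mul_eq p q hp hq hpq] at h1

theorem ocnt_frob_sq {p : ℕ} (hp : p.Prime) (hpG : p ^ 2 ∣ Nat.card G) :
    p ^ 2 ∣ 1 + ocnt G p + ocnt G (p ^ 2) := by
  have h1 := frobenius_dvd (G := G) (p ^ 2) hpG
  rwa [card_pow_prime_sq_eq p hp] at h1

/-- the elements of order `1`, `p`, `q`, `p * q` are at most `|G|` many. -/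
theorem ocnt_sum_le {p q : ℕ} (hp : p.Prime) (hq : q.Prime) (hpq : p ≠ q) :
    1 + ocnt G p + ocnt G q + ocnt G (p * q) ≤ Nat.card G := by
  have h1 := card_pow_prime_mul_eq (G := G) p q hp hq hpq
  have h2 : Nat.card {g : G // g ^ (p * q) = 1} ≤ Nat.card G :=
    Nat.card_le_card_of_injective _ Subtype.val_injective
  unfold ocnt
  omega

/-- **fixed points**: if `q` does not divide the number of elements of order `m`, a Sylow
`q`-subgroup centralizes some element of order `m`. -/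
theorem exists_fixed_of_not_dvd {q : ℕ} [Fact q.Prime] (Q : Sylow q G) (m : ℕ)
    (h : ¬ q ∣ ocnt G m) :
    ∃ g : G, orderOf g = m ∧ ∀ y ∈ (Q : Subgroup G), y * g = g * y := by
  have hmod := Cfsg.Agent.Lib.helper92.TT15.conj_card_modEq q (Q : Subgroup G) Q.isPGroup'
    {g : G | orderOf g = m} (by
      intro r _ s hs
      simp only [Set.mem_ofPred_eq] at hs ⊢
      have h1 := MulEquiv.orderOf_eq (MulAut.conj r) s
      rw [MulAut.conj_apply] at h1
      rw [h1, hs])
  have hS : ({g : G | orderOf g = m} : Set G).ncard = ocnt G m := by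
    rw [← Nat.card_coe_set_eq]
    rfl
  rw [hS] at hmod
  by_contra hcon
  push Not at hcon
  have hF : {s : G | s ∈ {g : G | orderOf g = m} ∧ ∀ r ∈ (Q : Subgroup G), r * s * r⁻¹ = s} = ∅ := by
    ext s
    simp only [Set.mem_ofPred_eq, Set.mem_empty_iff_false, iff_false, not_and]
    intro hs hfix
    obtain ⟨y, hy, hne⟩ := hcon s hs
    exact hne (mul_inv_eq_iff_eq_mul.mp (hfix y hy))
  rw [hF, Set.ncard_empty] at hmod
  exact h ((Nat.modEq_zero_iff_dvd).mp hmod)

/-- if `p` does not divide the number of elements of order `r`, then every element of order `p`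
commutes with an element of order `r`, so there are at least twice as many elements of order
`p * r` as of order `p`. -/
theorem two_mul_le_ocnt_mul {p r : ℕ} (hp : p.Prime) (hr : r.Prime) (hpr : p ≠ r) (hr3 : 3 ≤ r)
    (h : ¬ p ∣ ocnt G r) : 2 * ocnt G p ≤ ocnt G (p * r) := by
  classical
  have : Fact p.Prime := ⟨hp⟩
  obtain ⟨P⟩ : Nonempty (Sylow p G) := inferInstance
  obtain ⟨y₀, hy₀, hcomm⟩ := exists_fixed_of_not_dvd P r h
  have hex : ∀ x : {g : G // orderOf g = p}, ∃ y : G, orderOf y = r ∧ Commute x.1 y := by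
    rintro ⟨x, hx⟩
    have hR : IsPGroup p (Subgroup.zpowers x) :=
      IsPGroup.of_card (n := 1) (by rw [Nat.card_zpowers, hx, pow_one])
    obtain ⟨v, hv⟩ :=
      Cfsg.Agent.Lib.helper2.exists_conj_mem_sylow_of_isPGroup P (Subgroup.zpowers x) hR
    have h1 := hcomm _ (hv x (Subgroup.mem_zpowers x))
    refine ⟨v * y₀ * v⁻¹, ?_, ?_⟩
    · have h2 := MulEquiv.orderOf_eq (MulAut.conj v) y₀
      rw [MulAut.conj_apply] at h2
      rw [h2, hy₀]
    · show x * (v * y₀ * v⁻¹) = v * y₀ * v⁻¹ * x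
      calc x * (v * y₀ * v⁻¹) = v * ((v⁻¹ * x * v) * y₀) * v⁻¹ := by group
        _ = v * (y₀ * (v⁻¹ * x * v)) * v⁻¹ := by rw [h1]
        _ = v * y₀ * v⁻¹ * x := by group
  choose Y hYo hYc using hex
  have hcop : Nat.Coprime p r := (Nat.coprime_primes hp hr).mpr hpr
  have hpow : ∀ (x : {g : G // orderOf g = p}) (i : Fin 2),
      orderOf ((Y x) ^ ((i : ℕ) + 1)) = r := by
    intro x i
    have hc : (orderOf (Y x)).Coprime ((i : ℕ) + 1) := by
      rw [hYo x, hr.coprime_iff_not_dvd]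
      intro hdvd
      have h1 := Nat.le_of_dvd (Nat.succ_pos _) hdvd
      have h2 := i.2
      omega
    rw [hc.orderOf_pow, hYo x]
  have hinj : Function.Injective (fun w : {g : G // orderOf g = p} × Fin 2 =>
      (⟨(w.1.1, (Y w.1) ^ ((w.2 : ℕ) + 1)), w.1.2, hpow w.1 w.2, (hYc w.1).pow_right _⟩ :
        {w : G × G // orderOf w.1 = p ∧ orderOf w.2 = r ∧ Commute w.1 w.2})) := by
    rintro ⟨x, i⟩ ⟨x', i'⟩ hEq
    have h1 := congrArg Subtype.val hEq
    simp only [Prod.mk.injEq] at h1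
    obtain ⟨h2, h3⟩ := h1
    have hx : x = x' := Subtype.ext h2
    subst hx
    have h4 := pow_injOn_Iio_orderOf (x := Y x)
      (Set.mem_Iio.mpr (by rw [hYo x]; have := i.2; omega))
      (Set.mem_Iio.mpr (by rw [hYo x]; have := i'.2; omega)) h3
    have h5 : i = i' := Fin.ext (by omega)
    rw [h5]
  have hcard := Nat.card_le_card_of_injective _ hinj
  rw [Nat.card_prod, Nat.card_fin, ← card_orderOf_mul_coprime p r hcop] at hcard
  unfold ocnt
  omega

end

/-- the same-order-type hypothesis with values `a ≠ b` (besides `1`) for a group of odd order. -/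
structure SOT (G : Type*) [Group G] (a b : ℕ) : Prop where
  odd : Odd (Nat.card G)
  ne : a ≠ b
  val : ∀ m : ℕ, m ≠ 1 → ocnt G m = 0 ∨ ocnt G m = a ∨ ocnt G m = b

section

variable {G : Type*} [Group G] [Finite G] {a b : ℕ}

theorem SOT.symm (h : SOT G a b) : SOT G b a :=
  ⟨h.odd, h.ne.symm, fun m hm => by
    rcases h.val m hm with h1 | h1 | h1
    · exact Or.inl h1
    · exact Or.inr (Or.inr h1)
    · exact Or.inr (Or.inl h1)⟩

theorem SOT.three_le (h : SOT G a b) {p : ℕ} (hp : p.Prime) (hpG : p ∣ Nat.card G) : 3 ≤ p := by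
  have h2 : p ≠ 2 := by
    rintro rfl
    exact (Nat.not_even_iff_odd.mpr h.odd) (even_iff_two_dvd.mpr hpG)
  have := hp.two_le
  omega

theorem SOT.val_prime (h : SOT G a b) {p : ℕ} (hp : p.Prime) (hpG : p ∣ Nat.card G) :
    ocnt G p = a ∨ ocnt G p = b := by
  rcases h.val p hp.one_lt.ne' with h1 | h1
  · have := ocnt_pos_of_prime hp hpG
    omega
  · exact h1

end

theorem card_pow_prime_pow_of_no_sq {G : Type*} [Group G] [Finite G] {r k : ℕ} (hr : r.Prime)
    (hk : 0 < k) (hno : ∀ g : G, orderOf g ≠ r ^ 2) :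
    Nat.card {g : G // g ^ (r ^ k) = 1} = 1 + ocnt G r := by
  have h1 := card_pow_prime_eq (G := G) r hr
  unfold ocnt
  rw [← h1]
  apply Nat.card_congr
  apply Equiv.subtypeEquivRight
  intro g
  constructor
  · intro hg
    obtain ⟨i, hi, hio⟩ := (Nat.dvd_prime_pow hr).mp (orderOf_dvd_of_pow_eq_one hg)
    have hi1 : i ≤ 1 := by
      by_contra hcon
      push Not at hcon
      obtain ⟨x, hx⟩ := exists_orderOf_eq_prime_pow_of_le r hr g i 2 hcon hio
      exact hno x hx
    apply orderOf_dvd_iff_pow_eq_one.mp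
    rw [hio]
    calc r ^ i ∣ r ^ 1 := pow_dvd_pow r hi1
      _ = r := pow_one r
  · intro hg
    obtain ⟨k', rfl⟩ : ∃ k', k = k' + 1 := ⟨k - 1, by omega⟩
    rw [pow_succ', pow_mul, hg, one_pow]

section

variable {G : Type*} [Group G] [Finite G] {a b : ℕ}

theorem not_dvd_of_dvd_one_add {r n : ℕ} (hr : r.Prime) (h : r ∣ 1 + n) : ¬ r ∣ n := by
  intro hd
  have h1 : r ∣ 1 := (Nat.dvd_add_left hd).mp h
  exact hr.one_lt.ne' (Nat.dvd_one.mp h1)

theorem dvd_of_dvd_add_self {r n : ℕ} (hr : r.Prime) (hr3 : 3 ≤ r) (h : r ∣ n + n) : r ∣ n := by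
  have h1 : r ∣ 2 * n := by rw [two_mul]; exact h
  have hcop : Nat.Coprime r 2 := by
    rw [hr.coprime_iff_not_dvd]
    intro hd
    have := Nat.le_of_dvd (by norm_num) hd
    omega
  exact hcop.dvd_of_dvd_mul_left h1

theorem SOT.lemA_aux (h : SOT G a b) {p q : ℕ} (hp : p.Prime) (hq : q.Prime) (hpq : p ≠ q)
    (hpG : p ∣ Nat.card G) (hqG : q ∣ Nat.card G) (hsp : ocnt G p = a) (hsq : ocnt G q = a) :
    False := by
  have hp3 := h.three_le hp hpG
  have ha0 : 0 < a := by rw [← hsp]; exact ocnt_pos_of_prime hp hpG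
  have f1 : p ∣ 1 + a := by have := ocnt_frob_prime hp hpG; rwa [hsp] at this
  have G1 : ∀ r r' : ℕ, r.Prime → r'.Prime → r ≠ r' → r ∣ Nat.card G → r' ∣ Nat.card G →
      ocnt G r = a → ocnt G r' = a → ¬ r ∣ a ∧ ¬ r ∣ b := by
    intro r r' hr hr' hne hrG hr'G hsr hsr'
    have hr3 := h.three_le hr hrG
    have g1 : r ∣ 1 + a := by have := ocnt_frob_prime hr hrG; rwa [hsr] at this
    have hra : ¬ r ∣ a := not_dvd_of_dvd_one_add hr g1
    have g2 := ocnt_frob_mul hr hr' hne hrG hr'G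
    rw [hsr, hsr'] at g2
    have g3 : r ∣ 1 + a + a + ocnt G (r * r') := (Dvd.intro _ rfl).trans g2
    have g4 : r ∣ a + ocnt G (r * r') := by
      have e : 1 + a + a + ocnt G (r * r') = (1 + a) + (a + ocnt G (r * r')) := by ring
      rw [e] at g3
      exact (Nat.dvd_add_right g1).mp g3
    have hne1 : r * r' ≠ 1 := by
      have := hr.one_lt
      have := hr'.pos
      nlinarith
    rcases h.val (r * r') hne1 with g5 | g5 | g5
    · rw [g5, add_zero] at g4
      exact absurd g4 hra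
    · rw [g5] at g4
      exact absurd (dvd_of_dvd_add_self hr hr3 g4) hra
    · refine ⟨hra, ?_⟩
      intro hd
      rw [g5] at g4
      exact hra ((Nat.dvd_add_left hd).mp g4)
  obtain ⟨hpa, hpb⟩ := G1 p q hp hq hpq hpG hqG hsp hsq
  by_cases hex : ∃ r : ℕ, r.Prime ∧ r ∣ Nat.card G ∧ ocnt G r = b
  · obtain ⟨r, hr, hrG, hsr⟩ := hex
    have hrp : p ≠ r := by
      rintro rfl
      rw [hsp] at hsr
      exact h.ne hsr
    have hr3 := h.three_le hr hrG
    have k1 := two_mul_le_ocnt_mul hp hr hrp hr3 (by rw [hsr]; exact hpb)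
    rw [hsp] at k1
    have hne1 : p * r ≠ 1 := by
      have := hp.one_lt
      have := hr.pos
      nlinarith
    have k2 : ocnt G (p * r) = b := by
      rcases h.val (p * r) hne1 with g5 | g5 | g5
      · omega
      · omega
      · exact g5
    have k3 := ocnt_frob_mul hp hr hrp hpG hrG
    rw [hsp, hsr, k2] at k3
    have k4 : p ∣ 1 + a + b + b := (Dvd.intro _ rfl).trans k3
    have k5 : p ∣ b + b := by
      have e : 1 + a + b + b = (1 + a) + (b + b) := by ring
      rw [e] at k4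
      exact (Nat.dvd_add_right f1).mp k4
    exact hpb (dvd_of_dvd_add_self hp hp3 k5)
  · push Not at hex
    have hall : ∀ r : ℕ, r.Prime → r ∣ Nat.card G → ocnt G r = a := fun r hr hrG => by
      rcases h.val_prime hr hrG with g | g
      · exact g
      · exact absurd g (hex r hr hrG)
    have hdiv : Nat.card G ∣ 1 + a := by
      rw [Nat.dvd_iff_prime_pow_dvd_dvd]
      intro r k hr hrk
      rcases Nat.eq_zero_or_pos k with rfl | hk
      · simp
      have hrG : r ∣ Nat.card G := (dvd_pow_self r hk.ne').trans hrk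
      have hsr := hall r hr hrG
      obtain ⟨hra, hrb⟩ : ¬ r ∣ a ∧ ¬ r ∣ b := by
        by_cases hrp : r = p
        · subst hrp
          exact ⟨hpa, hpb⟩
        · exact G1 r p hr hp hrp hrG hpG hsr hsp
      have m3 : r ∣ 1 + a := by have := ocnt_frob_prime hr hrG; rwa [hsr] at this
      have hno : ∀ g : G, orderOf g ≠ r ^ 2 := by
        intro g hg
        have hsqG : r ^ 2 ∣ Nat.card G := by rw [← hg]; exact orderOf_dvd_natCard g
        have m1 := ocnt_frob_sq hr hsqG
        rw [hsr] at m1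
        have m2 : r ∣ 1 + a + ocnt G (r ^ 2) := (dvd_pow_self r (by norm_num)).trans m1
        have m4 : r ∣ ocnt G (r ^ 2) := (Nat.dvd_add_right m3).mp m2
        have m5 : 0 < ocnt G (r ^ 2) := by rw [← hg]; exact ocnt_pos_of_orderOf g
        have hne1 : r ^ 2 ≠ 1 := by
          have := hr.one_lt
          nlinarith
        rcases h.val (r ^ 2) hne1 with g5 | g5 | g5
        · omega
        · rw [g5] at m4; exact hra m4
        · rw [g5] at m4; exact hrb m4
      have m6 := frobenius_dvd (G := G) (r ^ k) hrk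
      rw [card_pow_prime_pow_of_no_sq hr hk hno] at m6
      rwa [hsr] at m6
    have hle := ocnt_sum_le (G := G) hp hq hpq
    rw [hsp, hsq] at hle
    have := Nat.le_of_dvd (by omega) hdiv
    omega

/-- distinct primes have different numbers of elements. -/
theorem SOT.ocnt_prime_ne (h : SOT G a b) {p q : ℕ} (hp : p.Prime) (hq : q.Prime) (hpq : p ≠ q)
    (hpG : p ∣ Nat.card G) (hqG : q ∣ Nat.card G) : ocnt G p ≠ ocnt G q := by
  intro heq
  rcases h.val_prime hp hpG with h1 | h1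
  · exact h.lemA_aux hp hq hpq hpG hqG h1 (by rw [← heq]; exact h1)
  · exact h.symm.lemA_aux hp hq hpq hpG hqG h1 (by rw [← heq]; exact h1)

/-- at most two primes divide the order. -/
theorem SOT.card_primeFactors_le (h : SOT G a b) : (Nat.card G).primeFactors.card ≤ 2 := by
  by_contra hcon
  push Not at hcon
  obtain ⟨p, q, r, hp, hq, hr, hpq, hpr, hqr⟩ := Finset.two_lt_card_iff.mp hcon
  obtain ⟨hp1, hp2, _⟩ := Nat.mem_primeFactors.mp hp
  obtain ⟨hq1, hq2, _⟩ := Nat.mem_primeFactors.mp hq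
  obtain ⟨hr1, hr2, _⟩ := Nat.mem_primeFactors.mp hr
  have e1 := h.ocnt_prime_ne hp1 hq1 hpq hp2 hq2
  have e2 := h.ocnt_prime_ne hp1 hr1 hpr hp2 hr2
  have e3 := h.ocnt_prime_ne hq1 hr1 hqr hq2 hr2
  rcases h.val_prime hp1 hp2 with h1 | h1 <;> rcases h.val_prime hq1 hq2 with h2 | h2 <;>
    rcases h.val_prime hr1 hr2 with h3 | h3 <;> omega

theorem SOT.ocnt_mul_eq_zero (h : SOT G a b) {p q : ℕ} (hp : p.Prime) (hq : q.Prime)
    (hpq : p ≠ q) (hpG : p ∣ Nat.card G) (hqG : q ∣ Nat.card G) (hsp : ocnt G p = a)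
    (hsq : ocnt G q = b) : ocnt G (p * q) = 0 := by
  have hp3 := h.three_le hp hpG
  have hq3 := h.three_le hq hqG
  have ha0 : 0 < a := by rw [← hsp]; exact ocnt_pos_of_prime hp hpG
  have hb0 : 0 < b := by rw [← hsq]; exact ocnt_pos_of_prime hq hqG
  have f1 : p ∣ 1 + a := by have := ocnt_frob_prime hp hpG; rwa [hsp] at this
  have f2 : q ∣ 1 + b := by have := ocnt_frob_prime hq hqG; rwa [hsq] at this
  have f3 := ocnt_frob_mul hp hq hpq hpG hqG
  rw [hsp, hsq] at f3
  have hne1 : p * q ≠ 1 := by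
    have := hp.one_lt
    have := hq.pos
    nlinarith
  rcases h.val (p * q) hne1 with g | g | g
  · exact g
  · exfalso
    rw [g] at f3
    have k1 : p ∣ 1 + a + b + a := (Dvd.intro _ rfl).trans f3
    have k2 : p ∣ b + a := by
      have e : 1 + a + b + a = (1 + a) + (b + a) := by ring
      rw [e] at k1
      exact (Nat.dvd_add_right f1).mp k1
    have hpa : ¬ p ∣ a := not_dvd_of_dvd_one_add hp f1
    have hpb : ¬ p ∣ b := fun hd => hpa ((Nat.dvd_add_right hd).mp k2)
    have k3 := two_mul_le_ocnt_mul hp hq hpq hq3 (by rw [hsq]; exact hpb)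
    rw [hsp, g] at k3
    omega
  · exfalso
    rw [g] at f3
    have k1 : q ∣ 1 + a + b + b := (Dvd.intro_left _ rfl).trans f3
    have k2 : q ∣ a + b := by
      have e : 1 + a + b + b = (1 + b) + (a + b) := by ring
      rw [e] at k1
      exact (Nat.dvd_add_right f2).mp k1
    have hqb : ¬ q ∣ b := not_dvd_of_dvd_one_add hq f2
    have hqa : ¬ q ∣ a := fun hd => hqb ((Nat.dvd_add_right hd).mp k2)
    have k3 := two_mul_le_ocnt_mul hq hp hpq.symm hp3 (by rw [hsp]; exact hqa)
    rw [hsq, mul_comm q p, g] at k3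
    omega

theorem SOT.no_sq (h : SOT G a b) {p q : ℕ} (hp : p.Prime) (hq : q.Prime)
    (hpq : p ≠ q) (hpG : p ∣ Nat.card G) (hqG : q ∣ Nat.card G) (hsp : ocnt G p = a)
    (hsq : ocnt G q = b) : ∀ g : G, orderOf g ≠ p ^ 2 := by
  intro g₀ hg₀
  have hsqG : p ^ 2 ∣ Nat.card G := by rw [← hg₀]; exact orderOf_dvd_natCard g₀
  have f1 : p ∣ 1 + a := by have := ocnt_frob_prime hp hpG; rwa [hsp] at this
  have f2 : q ∣ 1 + b := by have := ocnt_frob_prime hq hqG; rwa [hsq] at this
  have hpa : ¬ p ∣ a := not_dvd_of_dvd_one_add hp f1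
  have hqb : ¬ q ∣ b := not_dvd_of_dvd_one_add hq f2
  have m1 := ocnt_frob_sq hp hsqG
  rw [hsp] at m1
  have m2 : p ∣ 1 + a + ocnt G (p ^ 2) := (dvd_pow_self p (by norm_num)).trans m1
  have m4 : p ∣ ocnt G (p ^ 2) := (Nat.dvd_add_right f1).mp m2
  have m5 : 0 < ocnt G (p ^ 2) := by rw [← hg₀]; exact ocnt_pos_of_orderOf g₀
  have hne1 : p ^ 2 ≠ 1 := by
    have := hp.one_lt
    nlinarith
  have m6 : ocnt G (p ^ 2) = b := by
    rcases h.val (p ^ 2) hne1 with g5 | g5 | g5
    · omega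
    · rw [g5] at m4; exact absurd m4 hpa
    · exact g5
  have : Fact q.Prime := ⟨hq⟩
  obtain ⟨Q⟩ : Nonempty (Sylow q G) := inferInstance
  obtain ⟨g, hg, hcomm⟩ := exists_fixed_of_not_dvd Q (p ^ 2) (by rw [m6]; exact hqb)
  have hQcard : q ∣ Nat.card (Q : Subgroup G) := by
    rw [Sylow.card_eq_multiplicity]
    exact dvd_pow_self q (Nat.Prime.factorization_pos_of_dvd hq Nat.card_pos.ne' hqG).ne'
  obtain ⟨⟨y, hyQ⟩, hy⟩ := exists_prime_orderOf_dvd_card' q hQcard
  have hyo : orderOf y = q := by rw [← hy, ← Subgroup.orderOf_coe]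
  have hgp : orderOf (g ^ p) = p := by
    rw [orderOf_pow_of_dvd hp.ne_zero (by rw [hg]; exact dvd_pow_self p (by norm_num)), hg,
      pow_two, Nat.mul_div_cancel _ hp.pos]
  have hc0 : Commute g y := (hcomm y hyQ).symm
  have hc : Commute (g ^ p) y := hc0.pow_left p
  have ho : orderOf (g ^ p * y) = p * q := by
    rw [hc.orderOf_mul_eq_mul_orderOf_of_coprime
      (by rw [hgp, hyo]; exact (Nat.coprime_primes hp hq).mpr hpq), hgp, hyo]
  have h0 := h.ocnt_mul_eq_zero hp hq hpq hpG hqG hsp hsq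
  have hpos : 0 < ocnt G (p * q) := by rw [← ho]; exact ocnt_pos_of_orderOf _
  omega

theorem SOT.orderOf_eq_aux (h : SOT G a b) {p q : ℕ} (hp : p.Prime) (hq : q.Prime)
    (hpq : p ≠ q) (hpf : (Nat.card G).primeFactors = {p, q}) (hsp : ocnt G p = a)
    (hsq : ocnt G q = b) : ∀ g : G, g ≠ 1 → orderOf g = p ∨ orderOf g = q := by
  have hpG : p ∣ Nat.card G := by
    have h1 : p ∈ (Nat.card G).primeFactors := by rw [hpf]; simp
    exact (Nat.mem_primeFactors.mp h1).2.1
  have hqG : q ∣ Nat.card G := by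
    have h1 : q ∈ (Nat.card G).primeFactors := by rw [hpf]; simp
    exact (Nat.mem_primeFactors.mp h1).2.1
  have h0 := h.ocnt_mul_eq_zero hp hq hpq hpG hqG hsp hsq
  have hno_pq : ∀ g : G, orderOf g ≠ p * q := by
    intro g hg
    have hpos : 0 < ocnt G (p * q) := by rw [← hg]; exact ocnt_pos_of_orderOf _
    omega
  have hno_p := h.no_sq hp hq hpq hpG hqG hsp hsq
  have hno_q := h.symm.no_sq hq hp hpq.symm hqG hpG hsq hsp
  have hmem : ∀ r : ℕ, r.Prime → r ∣ Nat.card G → r = p ∨ r = q := by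
    intro r hr hrG
    have h1 : r ∈ (Nat.card G).primeFactors :=
      Nat.mem_primeFactors.mpr ⟨hr, hrG, Nat.card_pos.ne'⟩
    rw [hpf] at h1
    simpa using h1
  intro g hg1
  have hn1 : orderOf g ≠ 1 := by rwa [ne_eq, orderOf_eq_one_iff]
  have hn0 : orderOf g ≠ 0 := (orderOf_pos g).ne'
  have hnG : orderOf g ∣ Nat.card G := orderOf_dvd_natCard g
  have key : ∀ r : ℕ, r.Prime → r ∣ orderOf g → (r = p ∨ r = q) → orderOf g = r := by
    intro r hr hrn hrpq
    obtain ⟨k, hk⟩ := hrn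
    by_cases hk1 : k = 1
    · rw [hk, hk1, mul_one]
    exfalso
    obtain ⟨r₂, hr₂, hr₂k⟩ := Nat.exists_prime_and_dvd hk1
    have hdvd : r * r₂ ∣ orderOf g := by rw [hk]; exact Nat.mul_dvd_mul_left r hr₂k
    have hr₂pq := hmem r₂ hr₂ ((Dvd.intro_left _ rfl).trans (hdvd.trans hnG))
    have hx := orderOf_pow_orderOf_div hn0 hdvd
    rcases hrpq with rfl | rfl <;> rcases hr₂pq with rfl | rfl
    · exact hno_p _ (by rw [hx, pow_two])
    · exact hno_pq _ hx
    · exact hno_pq _ (by rw [hx, mul_comm])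
    · exact hno_q _ (by rw [hx, pow_two])
  obtain ⟨r, hr, hrn⟩ := Nat.exists_prime_and_dvd hn1
  have hrpq := hmem r hr (hrn.trans hnG)
  have h2 := key r hr hrn hrpq
  rcases hrpq with rfl | rfl
  · exact Or.inl h2
  · exact Or.inr h2

/-- with exactly two primes `p`, `q` dividing the order, every nonidentity element has order `p`
or `q`. -/
theorem SOT.orderOf_eq (h : SOT G a b) {p q : ℕ} (hp : p.Prime) (hq : q.Prime)
    (hpq : p ≠ q) (hpf : (Nat.card G).primeFactors = {p, q}) :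
    ∀ g : G, g ≠ 1 → orderOf g = p ∨ orderOf g = q := by
  have hpG : p ∣ Nat.card G := by
    have h1 : p ∈ (Nat.card G).primeFactors := by rw [hpf]; simp
    exact (Nat.mem_primeFactors.mp h1).2.1
  have hqG : q ∣ Nat.card G := by
    have h1 : q ∈ (Nat.card G).primeFactors := by rw [hpf]; simp
    exact (Nat.mem_primeFactors.mp h1).2.1
  have hne := h.ocnt_prime_ne hp hq hpq hpG hqG
  rcases h.val_prime hp hpG with h1 | h1 <;> rcases h.val_prime hq hqG with h2 | h2
  · exact absurd (h1.trans h2.symm) hne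
  · exact h.orderOf_eq_aux hp hq hpq hpf h1 h2
  · exact h.symm.orderOf_eq_aux hp hq hpq hpf h1 h2
  · exact absurd (h1.trans h2.symm) hne

end

end Cfsg.Agent.Lib.helper70
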