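import Mathlib
import Cfsg.Prelude.Def_Solvable
import Cfsg.Agent.Lib.helper70.SOT3A
import Cfsg.Agent.Lib.helper1.Fpf
import Cfsg.Agent.Lib.lead.Hall
import Cfsg.Agent.Lib.helper4.BurnsidePQ
import Cfsg.Agent.Lib.helper13.SylowIn

set_option autoImplicit false
set_option linter.unusedSectionVars false

/-!
# Odd-order groups with three same-order-type values: the structural part

A group in which every nonidentity element has order `r` or `t` (two primes) and which has a
nontrivial normal abelian `r`-subgroup has a Sylow `t`-subgroup of order `t` that is a Frobenius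
complement.  The key step is a norm (averaging) argument (`norm_arg`).
-/

namespace Cfsg.Agent.Lib.helper70

/-- the ordered product `∏_{j<k} θ(u^j) n`. -/
def nprod {A Γ : Type*} [Group A] [Group Γ] (θ : Γ →* MulAut A) (u : Γ) (n : A) : ℕ → A
  | 0 => 1
  | k + 1 => nprod θ u n k * θ (u ^ k) n

theorem norm_identity {G : Type*} [Group G] (N : Subgroup G) [N.Normal] (u : G) (n : N) (k : ℕ) :
    ((nprod (MulAut.conjNormal : G →* MulAut N) u n k : N) : G) * u ^ k = ((n : G) * u) ^ k := by
  induction k with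
  | zero => simp [nprod]
  | succ k ih =>
    rw [pow_succ ((n : G) * u), ← ih]
    show ((nprod MulAut.conjNormal u n k * (MulAut.conjNormal (u ^ k)) n : N) : G) * u ^ (k + 1) = _
    rw [Subgroup.coe_mul, MulAut.conjNormal_apply, pow_succ]
    group

/-- **norm argument**: `T` acts on the abelian group `A` without fixed points, `g` normalizes `T`
and no `g ^ j` (`0 < j < r`) centralizes a nonidentity element of `T`; if all the norms
`∏_{j<r} θ((h g h⁻¹)^j) n` vanish, then `A` has exponent dividing `|T|`. -/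
theorem norm_arg {A Γ : Type*} [Group A] (hA : ∀ a b : A, a * b = b * a) [Group Γ]
    (θ : Γ →* MulAut A) (T : Subgroup Γ) [Fintype T] (g : Γ)
    (hgT : ∀ h ∈ T, g * h * g⁻¹ ∈ T) (r : ℕ)
    (h1 : ∃ x ∈ T, ∀ m : A, θ x m = m → m = 1)
    (h2 : ∀ j, 0 < j → j < r → ∀ h ∈ T, h * g ^ j = g ^ j * h → h = 1)
    (h3 : ∀ h ∈ T, ∀ n : A, nprod θ (h * g * h⁻¹) n r = 1) (hr : 0 < r) :
    ∀ n : A, n ^ Fintype.card T = 1 := by
  classical
  let _ : CommGroup A := { (inferInstance : Group A) with mul_comm := hA }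
  have hnp : ∀ (u : Γ) (n : A) (k : ℕ), nprod θ u n k = ∏ j ∈ Finset.range k, θ (u ^ j) n := by
    intro u n k
    induction k with
    | zero => simp [nprod]
    | succ k ih => rw [Finset.prod_range_succ, ← ih]; rfl
  have hS : ∀ n : A, ∏ h : T, θ (h : Γ) n = 1 := by
    intro n
    obtain ⟨x, hx, hfix⟩ := h1
    apply hfix
    rw [map_prod]
    have e : ∀ h : T, θ x (θ (h : Γ) n) = θ (((⟨x, hx⟩ : T) * h : T) : Γ) n := by
      intro h
      rw [Subgroup.coe_mul, map_mul, MulAut.mul_apply]
    simp only [e]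
    exact Equiv.prod_comp (Equiv.mulLeft (⟨x, hx⟩ : T)) (fun h : T => θ (h : Γ) n)
  have hgj : ∀ (j : ℕ), ∀ h ∈ T, g ^ j * h * (g ^ j)⁻¹ ∈ T := by
    intro j
    induction j with
    | zero => intro h hh; simpa using hh
    | succ j ih =>
      intro h hh
      have e : g ^ (j + 1) * h * (g ^ (j + 1))⁻¹ = g ^ j * (g * h * g⁻¹) * (g ^ j)⁻¹ := by
        rw [pow_succ]; group
      rw [e]; exact ih _ (hgT h hh)
  have hB : ∀ j, 0 < j → j < r → ∀ n : A,
      ∏ h : T, θ ((h : Γ) * g ^ j * (h : Γ)⁻¹) n = 1 := by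
    intro j hj0 hjr n
    have hmem : ∀ h : T, (h : Γ) * g ^ j * (h : Γ)⁻¹ * (g ^ j)⁻¹ ∈ T := by
      intro h
      have h1' := hgj j _ (T.inv_mem h.2)
      have e : (h : Γ) * g ^ j * (h : Γ)⁻¹ * (g ^ j)⁻¹ =
          (h : Γ) * (g ^ j * (h : Γ)⁻¹ * (g ^ j)⁻¹) := by group
      rw [e]; exact T.mul_mem h.2 h1'
    have hφ : Function.Injective (fun h : T => (⟨_, hmem h⟩ : T)) := by
      intro h h' hEq
      have e1 : (h : Γ) * g ^ j * (h : Γ)⁻¹ * (g ^ j)⁻¹ =
          (h' : Γ) * g ^ j * (h' : Γ)⁻¹ * (g ^ j)⁻¹ := congrArg Subtype.val hEq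
      have e3 : (h : Γ) * g ^ j * (h : Γ)⁻¹ = (h' : Γ) * g ^ j * (h' : Γ)⁻¹ :=
        mul_right_cancel e1
      have e2 : ((h' : Γ)⁻¹ * h) * g ^ j = g ^ j * ((h' : Γ)⁻¹ * h) := by
        calc ((h' : Γ)⁻¹ * h) * g ^ j = (h' : Γ)⁻¹ * ((h : Γ) * g ^ j * (h : Γ)⁻¹) * h := by
              group
          _ = (h' : Γ)⁻¹ * ((h' : Γ) * g ^ j * (h' : Γ)⁻¹) * h := by rw [e3]
          _ = g ^ j * ((h' : Γ)⁻¹ * h) := by group
      have e4 := h2 j hj0 hjr _ (T.mul_mem (T.inv_mem h'.2) h.2) e2
      exact Subtype.ext (inv_mul_eq_one.mp e4).symm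
    have hφb := Finite.injective_iff_bijective.mp hφ
    have e5 : ∀ h : T, θ ((h : Γ) * g ^ j * (h : Γ)⁻¹) n =
        θ (((⟨_, hmem h⟩ : T) : T) : Γ) (θ (g ^ j) n) := by
      intro h
      have e6 : (h : Γ) * g ^ j * (h : Γ)⁻¹ =
          (h : Γ) * g ^ j * (h : Γ)⁻¹ * (g ^ j)⁻¹ * g ^ j := by group
      rw [← MulAut.mul_apply, ← map_mul]
      exact congrArg (fun w => θ w n) e6
    simp only [e5]
    rw [hφb.prod_comp (fun h : T => θ (h : Γ) (θ (g ^ j) n))]
    exact hS _
  intro n
  have hmain : ∏ h : T, ∏ j ∈ Finset.range r, θ (((h : Γ) * g * (h : Γ)⁻¹) ^ j) n = 1 := by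
    apply Finset.prod_eq_one
    intro h _
    rw [← hnp]
    exact h3 h h.2 n
  rw [Finset.prod_comm] at hmain
  obtain ⟨r', rfl⟩ : ∃ r', r = r' + 1 := ⟨r - 1, by omega⟩
  rw [Finset.prod_range_succ'] at hmain
  have hz : ∏ k ∈ Finset.range r', ∏ h : T, θ (((h : Γ) * g * (h : Γ)⁻¹) ^ (k + 1)) n = 1 := by
    apply Finset.prod_eq_one
    intro k hk
    have hk' := Finset.mem_range.mp hk
    have h4 := hB (k + 1) (Nat.succ_pos k) (by omega) n
    simpa only [conj_pow] using h4
  rw [hz, one_mul] at hmain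
  simpa using hmain

/-- a group whose nonidentity elements have order `r` or `t` and which has a nontrivial normal
abelian `r`-subgroup has a Frobenius complement of order `t`. -/
theorem frob_compl_of_prime_orders {G : Type*} [Group G] [Finite G] {r t : ℕ} (hr : r.Prime)
    (ht : t.Prime) (hrt : r ≠ t) (hord : ∀ g : G, g ≠ 1 → orderOf g = r ∨ orderOf g = t)
    (N : Subgroup G) [N.Normal] (hN1 : N ≠ ⊥) (hNc : ∀ a ∈ N, ∀ b ∈ N, a * b = b * a)
    (hNr : ∀ n ∈ N, n ^ r = 1) (htG : t ∣ Nat.card G) :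
    ∃ C : Subgroup G, Cfsg.IsFrobeniusComplement C ∧ (Nat.card C).Prime := by
  classical
  have : Fact r.Prime := ⟨hr⟩
  have : Fact t.Prime := ⟨ht⟩
  have no_comm : ∀ x y : G, orderOf x = t → orderOf y = r → ¬ x * y = y * x := by
    intro x y hx hy hc
    have hc' : Commute x y := hc
    have ho : orderOf (x * y) = t * r := by
      rw [hc'.orderOf_mul_eq_mul_orderOf_of_coprime
        (by rw [hx, hy]; exact (Nat.coprime_primes ht hr).mpr hrt.symm), hx, hy]
    have h1t := ht.one_lt
    have h1r := hr.one_lt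
    have hne : x * y ≠ 1 := by
      intro h1
      rw [h1, orderOf_one] at ho
      nlinarith
    rcases hord _ hne with h1 | h1
    · rw [ho] at h1
      nlinarith
    · rw [ho] at h1
      nlinarith
  have hNo : ∀ n ∈ N, n ≠ 1 → orderOf n = r := fun n hn hn1 => orderOf_eq_prime (hNr n hn) hn1
  -- `t ^ 2` does not divide `|G|`
  have hno : ¬ t ^ 2 ∣ Nat.card G := by
    intro hdvd
    obtain ⟨A, hA⟩ := Sylow.exists_subgroup_card_pow_prime t hdvd
    have : IsMulCommutative N := ⟨⟨fun a b => Subtype.ext (hNc a a.2 b b.2)⟩⟩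
    have hAo : ∀ a ∈ A, a ≠ 1 → orderOf a = t := by
      intro a ha ha1
      have h1 : orderOf a ∣ t ^ 2 := by
        rw [← hA]
        have h2 := orderOf_dvd_natCard (⟨a, ha⟩ : A)
        rwa [Subgroup.orderOf_mk] at h2
      rcases hord a ha1 with h2 | h2
      · exfalso
        rw [h2] at h1
        exact hrt ((Nat.prime_dvd_prime_iff_eq hr ht).mp (hr.dvd_of_dvd_pow h1))
      · exact h2
    have hcyc := Cfsg.Agent.Lib.helper1.fpf_cyclic A N hN1
      (by rw [Subgroup.normalizer_eq_top]; exact le_top)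
      (by
        intro a ha ha1
        rw [eq_bot_iff]
        intro n hn
        obtain ⟨hnN, hnC⟩ := Subgroup.mem_inf.mp hn
        rw [Subgroup.mem_bot]
        by_contra hn1
        have hc : a * n = n * a := by
          rw [Subgroup.mem_centralizer_iff] at hnC
          exact hnC a (Set.mem_singleton a)
        exact no_comm a n (hAo a ha ha1) (hNo n hnN hn1) hc)
      (Or.inr ⟨t, t, ht, ht, by rw [hA, pow_two]⟩)
    obtain ⟨g, hg⟩ := hcyc.exists_generator
    have hgo : orderOf g = t ^ 2 := by rw [orderOf_eq_card_of_forall_mem_zpowers hg, hA]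
    have hgo' : orderOf (g : G) = t ^ 2 := by rw [Subgroup.orderOf_coe]; exact hgo
    have h1t := ht.one_lt
    have hg1 : (g : G) ≠ 1 := by
      intro h1
      rw [h1, orderOf_one] at hgo'
      nlinarith
    rcases hord _ hg1 with h2 | h2
    · rw [hgo'] at h2
      have h3 : t ∣ r := by rw [← h2]; exact dvd_pow_self t (by norm_num)
      exact hrt ((Nat.prime_dvd_prime_iff_eq ht hr).mp h3).symm
    · rw [hgo'] at h2
      nlinarith
  obtain ⟨T⟩ : Nonempty (Sylow t G) := inferInstance
  have hcT : Nat.card (T : Subgroup G) = t := by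
    rw [Sylow.card_eq_multiplicity]
    have hf1 : 1 ≤ (Nat.card G).factorization t :=
      (ht.pow_dvd_iff_le_factorization Nat.card_pos.ne').mp (by rwa [pow_one])
    have hf2 : ¬ 2 ≤ (Nat.card G).factorization t := fun h2 =>
      hno ((ht.pow_dvd_iff_le_factorization Nat.card_pos.ne').mpr h2)
    have hf : (Nat.card G).factorization t = 1 := by omega
    rw [hf, pow_one]
  have hTo : ∀ h ∈ (T : Subgroup G), h ≠ 1 → orderOf h = t := by
    intro h hh hh1
    have h1 : orderOf h ∣ t := by
      rw [← hcT]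
      have h2 := orderOf_dvd_natCard (⟨h, hh⟩ : (T : Subgroup G))
      rwa [Subgroup.orderOf_mk] at h2
    rcases (Nat.dvd_prime ht).mp h1 with h2 | h2
    · exact absurd (orderOf_eq_one_iff.mp h2) hh1
    · exact h2
  obtain ⟨x, hxT, hx1⟩ : ∃ x ∈ (T : Subgroup G), x ≠ 1 := by
    have hTb : (T : Subgroup G) ≠ ⊥ := by
      intro hb
      rw [hb, Subgroup.card_bot] at hcT
      exact ht.one_lt.ne hcT
    obtain ⟨⟨x, hx⟩, hx1⟩ := (Subgroup.ne_bot_iff_exists_ne_one).mp hTb
    exact ⟨x, hx, fun h1 => hx1 (Subtype.ext h1)⟩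
  have hxo := hTo x hxT hx1
  -- the normalizer of `T` is `T`
  have hNT : ∀ g : G, (∀ h ∈ (T : Subgroup G), g * h * g⁻¹ ∈ (T : Subgroup G)) →
      g ∈ (T : Subgroup G) := by
    intro g hgN
    by_contra hgT
    have hg1 : g ≠ 1 := by
      rintro rfl
      exact hgT (T : Subgroup G).one_mem
    have hgn : g ∈ Subgroup.normalizer ((T : Subgroup G) : Set G) :=
      Cfsg.Agent.Lib.helper13.mem_normalizer_of_forall_conj_mem hgN
    rcases hord g hg1 with hgo | hgo
    swap
    · have h1 : IsPGroup t (Subgroup.zpowers g) :=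
        IsPGroup.of_card (n := 1) (by rw [Nat.card_zpowers, hgo, pow_one])
      have h2 := IsPGroup.inf_normalizer_sylow h1 T
      have h3 : g ∈ Subgroup.zpowers g ⊓ Subgroup.normalizer (T : Set G) :=
        ⟨Subgroup.mem_zpowers g, hgn⟩
      rw [h2] at h3
      exact hgT h3.2
    · have hfin : ∀ n : N, n ^ Nat.card (T : Subgroup G) = 1 := by
        have := Fintype.ofFinite (T : Subgroup G)
        have key := norm_arg (A := ↥N) (fun a b => Subtype.ext (hNc a a.2 b b.2))
          (MulAut.conjNormal : G →* MulAut N) (T : Subgroup G) g hgN r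
          (by
            refine ⟨x, hxT, ?_⟩
            intro m hm
            have h1 := congrArg Subtype.val hm
            rw [MulAut.conjNormal_apply] at h1
            by_contra hm1
            have hm1' : (m : G) ≠ 1 := fun h2 => hm1 (Subtype.ext h2)
            exact no_comm x m hxo (hNo m m.2 hm1') (mul_inv_eq_iff_eq_mul.mp h1))
          (by
            intro j hj0 hjr h hh hc
            by_contra hh1
            have hcop : (orderOf g).Coprime j := by
              rw [hgo, hr.coprime_iff_not_dvd]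
              intro hd
              have := Nat.le_of_dvd hj0 hd
              omega
            have hgj : orderOf (g ^ j) = r := by rw [hcop.orderOf_pow, hgo]
            exact no_comm h (g ^ j) (hTo h hh hh1) hgj hc)
          (by
            intro h hh n
            have hid := norm_identity N (h * g * h⁻¹) n r
            have huo : orderOf (h * g * h⁻¹) = r := by
              have h2 := MulEquiv.orderOf_eq (MulAut.conj h) g
              rw [MulAut.conj_apply] at h2
              rw [h2, hgo]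
            have hur : (h * g * h⁻¹) ^ r = 1 := by rw [← huo]; exact pow_orderOf_eq_one _
            rw [hur, mul_one] at hid
            have hw : ((n : G) * (h * g * h⁻¹)) ^ r = 1 := by
              by_cases hw1 : (n : G) * (h * g * h⁻¹) = 1
              · rw [hw1, one_pow]
              · rcases hord _ hw1 with h2 | h2
                · rw [← h2]; exact pow_orderOf_eq_one _
                · exfalso
                  have h3 : (((n : G) * (h * g * h⁻¹)) ^ r) ^ r = 1 := by
                    rw [← hid]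
                    exact hNr _ (nprod (MulAut.conjNormal : G →* MulAut N) (h * g * h⁻¹) n r).2
                  have h4 : orderOf ((n : G) * (h * g * h⁻¹)) ∣ r * r :=
                    orderOf_dvd_of_pow_eq_one (by rw [pow_mul]; exact h3)
                  rw [h2] at h4
                  have h6 : t ∣ r := by
                    rcases (Nat.Prime.dvd_mul ht).mp h4 with h5 | h5 <;> exact h5
                  exact hrt ((Nat.prime_dvd_prime_iff_eq ht hr).mp h6).symm
            rw [hw] at hid
            exact Subtype.ext hid)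
          hr.pos
        intro n
        rw [Nat.card_eq_fintype_card]
        exact key n
      obtain ⟨⟨n, hn⟩, hn1⟩ := (Subgroup.ne_bot_iff_exists_ne_one).mp hN1
      have hn1' : n ≠ 1 := fun h1 => hn1 (Subtype.ext h1)
      have e1 := hfin ⟨n, hn⟩
      have e2 : n ^ t = 1 := by
        have h1 := congrArg Subtype.val e1
        rwa [Subgroup.coe_pow, hcT] at h1
      have e3 : n ^ r = 1 := hNr n hn
      have e4 := Nat.dvd_gcd (orderOf_dvd_of_pow_eq_one e2) (orderOf_dvd_of_pow_eq_one e3)
      rw [(Nat.coprime_primes ht hr).mpr hrt.symm] at e4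
      exact hn1' (orderOf_eq_one_iff.mp (Nat.dvd_one.mp e4))
  refine ⟨(T : Subgroup G), ⟨?_, ?_, ?_⟩, by rw [hcT]; exact ht⟩
  · intro hb
    rw [hb, Subgroup.card_bot] at hcT
    exact ht.one_lt.ne hcT
  · intro htop
    obtain ⟨⟨n, hn⟩, hn1⟩ := (Subgroup.ne_bot_iff_exists_ne_one).mp hN1
    have hn1' : n ≠ 1 := fun h1 => hn1 (Subtype.ext h1)
    have h1 : orderOf n ∣ t := by
      rw [← hcT, htop, Subgroup.card_top]
      exact orderOf_dvd_natCard n
    rw [hNo n hn hn1'] at h1
    exact hrt ((Nat.prime_dvd_prime_iff_eq hr ht).mp h1)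
  · intro g hgT
    rw [eq_bot_iff]
    intro y hy
    rw [Subgroup.mem_bot]
    by_contra hy1
    obtain ⟨hyT, hyg⟩ := Subgroup.mem_inf.mp hy
    rw [Subgroup.mem_pointwise_smul_iff_inv_smul_mem] at hyg
    have hyg' : g⁻¹ * y * g ∈ (T : Subgroup G) := by
      have e : (MulAut.conj g)⁻¹ • y = g⁻¹ * y * g := by
        rw [← map_inv, MulAut.smul_def, MulAut.conj_apply, inv_inv]
      rwa [e] at hyg
    have hyo := hTo y hyT hy1
    have hTz : Subgroup.zpowers y = (T : Subgroup G) :=
      Subgroup.eq_of_le_of_card_ge (Subgroup.zpowers_le.mpr hyT)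
        (by rw [Nat.card_zpowers, hyo, hcT])
    apply hgT
    have h1 : g⁻¹ ∈ (T : Subgroup G) := by
      apply hNT
      intro h hh
      rw [← hTz] at hh
      obtain ⟨k, rfl⟩ := Subgroup.mem_zpowers_iff.mp hh
      have e : g⁻¹ * y ^ k * g⁻¹⁻¹ = (g⁻¹ * y * g) ^ k := by
        have h2 := map_zpow (MulAut.conj g⁻¹) y k
        simp only [MulAut.conj_apply, inv_inv] at h2
        rw [inv_inv]
        exact h2
      rw [e]
      exact Subgroup.zpow_mem _ hyg' k
    have h2 := Subgroup.inv_mem _ h1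
    rwa [inv_inv] at h2

theorem sot_of_values {G : Type*} [Group G] [Finite G] (hodd : Odd (Nat.card G)) {x y : ℕ}
    (hxy : x ≠ y)
    (hval : ∀ g : G, g ≠ 1 → ocnt G (orderOf g) = 1 ∨ ocnt G (orderOf g) = x ∨
      ocnt G (orderOf g) = y) : SOT G x y := by
  refine ⟨hodd, hxy, ?_⟩
  intro m hm
  by_cases hex : ∃ g : G, orderOf g = m
  · obtain ⟨g, rfl⟩ := hex
    have hg1 : g ≠ 1 := by
      rintro rfl
      exact hm orderOf_one
    have h3 : 3 ≤ orderOf g := by
      have h1 : Odd (orderOf g) := Odd.of_dvd_nat hodd (orderOf_dvd_natCard g)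
      obtain ⟨k, hk⟩ := h1
      have h2 : orderOf g ≠ 1 := by rwa [ne_eq, orderOf_eq_one_iff]
      omega
    have h4 : 2 ≤ ocnt G (orderOf g) := two_le_natCard_orderOf g h3
    rcases hval g hg1 with h2 | h2 | h2
    · omega
    · exact Or.inr (Or.inl h2)
    · exact Or.inr (Or.inr h2)
  · push Not at hex
    exact Or.inl (natCard_orderOf_eq_zero m hex)

theorem sot_of_ncard {G : Type*} [Group G] [Finite G] (hodd : Odd (Nat.card G))
    (h : (((fun m : ℕ => Nat.card {g : G // orderOf g = m}) ''
      Set.range (orderOf : G → ℕ))).ncard = 3) : ∃ a b : ℕ, SOT G a b := by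
  obtain ⟨x, y, z, hxy, hxz, hyz, hT⟩ := Set.ncard_eq_three.mp h
  have h1 : (1 : ℕ) ∈ (fun m : ℕ => Nat.card {g : G // orderOf g = m}) ''
      Set.range (orderOf : G → ℕ) := ⟨1, ⟨1, orderOf_one⟩, natCard_orderOf_one⟩
  have hval : ∀ g : G, ocnt G (orderOf g) = x ∨ ocnt G (orderOf g) = y ∨
      ocnt G (orderOf g) = z := by
    intro g
    have h2 : ocnt G (orderOf g) ∈ (fun m : ℕ => Nat.card {g : G // orderOf g = m}) ''
        Set.range (orderOf : G → ℕ) := ⟨orderOf g, ⟨g, rfl⟩, rfl⟩
    rw [hT] at h2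
    simpa using h2
  rw [hT] at h1
  simp only [Set.mem_insert_iff, Set.mem_singleton_iff] at h1
  rcases h1 with h1 | h1 | h1
  · refine ⟨y, z, sot_of_values hodd hyz fun g _ => ?_⟩
    rcases hval g with h2 | h2 | h2
    · exact Or.inl (h2.trans h1.symm)
    · exact Or.inr (Or.inl h2)
    · exact Or.inr (Or.inr h2)
  · refine ⟨x, z, sot_of_values hodd hxz fun g _ => ?_⟩
    rcases hval g with h2 | h2 | h2
    · exact Or.inr (Or.inl h2)
    · exact Or.inl (h2.trans h1.symm)
    · exact Or.inr (Or.inr h2)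
  · refine ⟨x, y, sot_of_values hodd hxy fun g _ => ?_⟩
    rcases hval g with h2 | h2 | h2
    · exact Or.inr (Or.inl h2)
    · exact Or.inr (Or.inr h2)
    · exact Or.inl (h2.trans h1.symm)

universe u

/-- **Main theorem** (odd order, three same-order-type values). -/
theorem sot_main {G : Type u} [Group G] [Finite G] (hodd : Odd (Nat.card G))
    (h : (((fun m : ℕ => Nat.card {g : G // orderOf g = m}) ''
      Set.range (orderOf : G → ℕ))).ncard = 3) :
    (Nat.card G).primeFactors.card ≤ 2 ∧
      ((Nat.card G).primeFactors.card = 2 →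
        (∀ (p : ℕ) [Fact p.Prime] (P : Sylow p G), p ∣ Nat.card G →
          Monoid.exponent ↥(P : Subgroup G) = p) ∧
        ∃ C : Subgroup G, Cfsg.IsFrobeniusComplement C ∧ (Nat.card ↥C).Prime) := by
  obtain ⟨a, b, hS⟩ := sot_of_ncard hodd h
  refine ⟨hS.card_primeFactors_le, fun hc => ?_⟩
  obtain ⟨p, q, hpq, hpf⟩ := Finset.card_eq_two.mp hc
  have hpm : p ∈ (Nat.card G).primeFactors := by rw [hpf]; simp
  have hqm : q ∈ (Nat.card G).primeFactors := by rw [hpf]; simp
  obtain ⟨hp, hpG, _⟩ := Nat.mem_primeFactors.mp hpm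
  obtain ⟨hq, hqG, _⟩ := Nat.mem_primeFactors.mp hqm
  have hord := hS.orderOf_eq hp hq hpq hpf
  constructor
  · intro r _ R hrG
    have hr : r.Prime := Fact.out
    have hRcard : r ∣ Nat.card (R : Subgroup G) := by
      rw [Sylow.card_eq_multiplicity]
      exact dvd_pow_self r (Nat.Prime.factorization_pos_of_dvd hr Nat.card_pos.ne' hrG).ne'
    have hpow : ∀ x : (R : Subgroup G), x ^ r = 1 := by
      intro x
      by_cases hx1 : (x : G) = 1
      · have : x = 1 := Subtype.ext hx1
        rw [this, one_pow]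
      · obtain ⟨k, hk⟩ := (IsPGroup.iff_orderOf.mp R.isPGroup') x
        have hk0 : k ≠ 0 := by
          rintro rfl
          rw [pow_zero, orderOf_eq_one_iff] at hk
          exact hx1 (by rw [hk]; rfl)
        have hrx : r ∣ orderOf (x : G) := by
          rw [Subgroup.orderOf_coe, hk]
          exact dvd_pow_self r hk0
        have hxo : orderOf (x : G) = r := by
          rcases hord _ hx1 with h2 | h2
          · rw [h2] at hrx ⊢
            exact ((Nat.prime_dvd_prime_iff_eq hr hp).mp hrx).symm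
          · rw [h2] at hrx ⊢
            exact ((Nat.prime_dvd_prime_iff_eq hr hq).mp hrx).symm
        apply Subtype.ext
        rw [Subgroup.coe_pow]
        have h5 := pow_orderOf_eq_one (x : G)
        rw [hxo] at h5
        exact h5
    have h1 : Monoid.exponent ↥(R : Subgroup G) ∣ r :=
      Monoid.exponent_dvd_of_forall_pow_eq_one hpow
    rcases (Nat.dvd_prime hr).mp h1 with h2 | h2
    · exfalso
      have h3 : Subsingleton ↥(R : Subgroup G) := Monoid.exp_eq_one_iff.mp h2
      have h4 : Nat.card ↥(R : Subgroup G) = 1 := Nat.card_unique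
      rw [h4] at hRcard
      exact hr.one_lt.ne' (Nat.dvd_one.mp hRcard)
    · exact h2
  · have e := Nat.prod_factorization_pow_eq_self (Nat.card_pos (α := G)).ne'
    rw [Finsupp.prod, Nat.support_factorization, hpf, Finset.prod_pair hpq] at e
    have hsolv : Group.IsSolvable G :=
      Cfsg.Agent.Lib.helper4.isSolvable_of_card_eq_prime_pow_mul_prime_pow p q _ _ hp hq e.symm
    have hnt : Nontrivial G := by
      rw [← Finite.one_lt_card_iff_nontrivial]
      have := Nat.le_of_dvd Nat.card_pos hpG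
      have := hp.one_lt
      omega
    obtain ⟨r, N, hr, hNn, hN1, hNc, hNr⟩ :=
      Cfsg.Agent.Lib.lead.solvable_exists_normal_abelian hsolv hnt
    have hNc' : ∀ a ∈ N, ∀ b ∈ N, a * b = b * a := fun a ha b hb =>
      congrArg Subtype.val (mul_comm' (⟨a, ha⟩ : N) ⟨b, hb⟩)
    obtain ⟨⟨n, hn⟩, hn1⟩ := (Subgroup.ne_bot_iff_exists_ne_one).mp hN1
    have hn1' : n ≠ 1 := fun h1 => hn1 (Subtype.ext h1)
    have : Fact r.Prime := ⟨hr⟩
    have hno : orderOf n = r := orderOf_eq_prime (hNr n hn) hn1'
    rcases hord n hn1' with h2 | h2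
    · have hrp : r = p := hno.symm.trans h2
      subst hrp
      exact frob_compl_of_prime_orders hr hq hpq hord N hN1 hNc' hNr hqG
    · have hrq : r = q := hno.symm.trans h2
      subst hrq
      exact frob_compl_of_prime_orders hr hp hpq.symm (fun g hg => (hord g hg).symm) N hN1 hNc'
        hNr hpG

end Cfsg.Agent.Lib.helper70
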