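import Mathlib
import Cfsg.Agent.Lib.helper70.SOT3B

set_option autoImplicit false
set_option linter.unusedSectionVars false

/-!
# Three same-order-type values: counting tools for groups of even order

* `totient_dvd_ocnt`, `even_ocnt`: the number of elements of order `m ≥ 3` is even.
* `totient_mul_le_ocnt_mul`: if `p ∤ #{elements of order m}` (`p` prime, coprime to `m`) then
  `φ(m) * #{order p} ≤ #{order p * m}`.
* `ocnt_add_three_le`: three distinct orders.
* `solvable_of_primeFactors_card_le_two`: Burnside's `p^a q^b` theorem in `primeFactors` form.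
* `SOTE G a b`: every `ocnt G m` with `m ≥ 3` is `0`, `a` or `b` (`a ≠ b`).
  `SOTE.primeFactors_card_le`: with an element of order `2 ^ (n + 2)` where `2 ^ (n + 3)` is the
  full power of `2` dividing `|G|`, at most one odd prime divides `|G|`.
-/

namespace Cfsg.Agent.Lib.helper70

universe u

section tools

variable {G : Type*} [Group G] [Finite G]

theorem totient_dvd_ocnt (m : ℕ) : Nat.totient m ∣ ocnt G m := by
  classical
  cases nonempty_fintype G
  unfold ocnt
  rw [natCard_subtype_eq_card_filter]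
  rw [card_eq_totient_mul_card_image_zpowers m (Finset.univ.filter (fun g : G => orderOf g = m))
    (fun x hx => (Finset.mem_filter.mp hx).2)
    (fun x hx x' hx' => by
      rw [Finset.mem_filter] at hx ⊢
      refine ⟨Finset.mem_univ _, ?_⟩
      rw [← hx.2, ← Nat.card_zpowers, hx', Nat.card_zpowers])]
  exact Dvd.intro _ rfl

theorem even_ocnt {m : ℕ} (hm : 3 ≤ m) : Even (ocnt G m) :=
  (Nat.totient_even (by omega)).trans_dvd (totient_dvd_ocnt m)

theorem dvd_of_eq_add {p X Y Z : ℕ} (hX : p ∣ X) (hY : p ∣ Y) (e : X = Y + Z) : p ∣ Z := by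
  subst e
  exact (Nat.dvd_add_right hY).mp hX

/-- the elements of three distinct orders are at most `|G|` many. -/
theorem ocnt_add_three_le {m1 m2 m3 : ℕ} (h12 : m1 ≠ m2) (h13 : m1 ≠ m3) (h23 : m2 ≠ m3) :
    ocnt G m1 + ocnt G m2 + ocnt G m3 ≤ Nat.card G := by
  have hinj : Function.Injective (fun x : {g : G // orderOf g = m1} ⊕
      ({g : G // orderOf g = m2} ⊕ {g : G // orderOf g = m3}) =>
      (Sum.elim Subtype.val (Sum.elim Subtype.val Subtype.val) x : G)) := by
    rintro (x | x | x) (y | y | y) hxy <;> simp only [Sum.elim_inl, Sum.elim_inr] at hxy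
    · rw [Subtype.ext hxy]
    · exact absurd (x.2.symm.trans ((congrArg orderOf hxy).trans y.2)) h12
    · exact absurd (x.2.symm.trans ((congrArg orderOf hxy).trans y.2)) h13
    · exact absurd (x.2.symm.trans ((congrArg orderOf hxy).trans y.2)) h12.symm
    · rw [Subtype.ext hxy]
    · exact absurd (x.2.symm.trans ((congrArg orderOf hxy).trans y.2)) h23
    · exact absurd (x.2.symm.trans ((congrArg orderOf hxy).trans y.2)) h13.symm
    · exact absurd (x.2.symm.trans ((congrArg orderOf hxy).trans y.2)) h23.symm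
    · rw [Subtype.ext hxy]
  have hcard := Nat.card_le_card_of_injective _ hinj
  rw [Nat.card_sum, Nat.card_sum] at hcard
  unfold ocnt
  omega

/-- if `p` does not divide the number of elements of order `m` (`p` prime, coprime to `m`), then
every element of order `p` commutes with an element of order `m`, so there are at least
`φ(m)` times as many elements of order `p * m` as of order `p`. -/
theorem totient_mul_le_ocnt_mul {p m : ℕ} (hp : p.Prime) (hcop : Nat.Coprime p m)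
    (h : ¬ p ∣ ocnt G m) : m.totient * ocnt G p ≤ ocnt G (p * m) := by
  classical
  have : Fact p.Prime := ⟨hp⟩
  obtain ⟨P⟩ : Nonempty (Sylow p G) := inferInstance
  obtain ⟨y₀, hy₀, hcomm⟩ := exists_fixed_of_not_dvd P m h
  have hex : ∀ x : {g : G // orderOf g = p}, ∃ y : G, orderOf y = m ∧ Commute x.1 y := by
    rintro ⟨x, hx⟩
    have hR : IsPGroup p (Subgroup.zpowers x) :=
      IsPGroup.of_card (n := 1) (by rw [Nat.card_zpowers, hx, pow_one])
    obtain ⟨v, hv⟩ :=
      Cfsg.Agent.Lib.helper2.exists_conj_mem_sylow_of_isPGroup P (Subgroup.zpowers x) hR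
    have h1 := hcomm _ (hv x (Subgroup.mem_zpowers x))
    refine ⟨v * y₀ * v⁻¹, ?_, ?_⟩
    · have h2 := MulEquiv.orderOf_eq (MulAut.conj v) y₀
      rw [MulAut.conj_apply] at h2
      rw [h2, hy₀]
    · show x * (v * y₀ * v⁻¹) = v * y₀ * v⁻¹ * x
      calc x * (v * y₀ * v⁻¹) = v * ((v⁻¹ * x * v) * y₀) * v⁻¹ := by group
        _ = v * (y₀ * (v⁻¹ * x * v)) * v⁻¹ := by rw [h1]
        _ = v * y₀ * v⁻¹ * x := by group
  choose Y hYo hYc using hex
  let T : Finset ℕ := (Finset.range m).filter (fun j => m.Coprime j)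
  have hT : T.card = m.totient := (Nat.totient_eq_card_coprime m).symm
  have hpow : ∀ (x : {g : G // orderOf g = p}) (j : T), orderOf ((Y x) ^ (j : ℕ)) = m := by
    intro x j
    have hj := (Finset.mem_filter.mp j.2).2
    have hc : (orderOf (Y x)).Coprime (j : ℕ) := by rw [hYo x]; exact hj
    rw [hc.orderOf_pow, hYo x]
  have hinj : Function.Injective (fun w : {g : G // orderOf g = p} × T =>
      (⟨(w.1.1, (Y w.1) ^ (w.2 : ℕ)), w.1.2, hpow w.1 w.2, (hYc w.1).pow_right _⟩ :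
        {w : G × G // orderOf w.1 = p ∧ orderOf w.2 = m ∧ Commute w.1 w.2})) := by
    rintro ⟨x, i⟩ ⟨x', i'⟩ hEq
    have h1 := congrArg Subtype.val hEq
    simp only [Prod.mk.injEq] at h1
    obtain ⟨h2, h3⟩ := h1
    have hx : x = x' := Subtype.ext h2
    subst hx
    have hi := Finset.mem_range.mp (Finset.mem_filter.mp i.2).1
    have hi' := Finset.mem_range.mp (Finset.mem_filter.mp i'.2).1
    have h4 := pow_injOn_Iio_orderOf (x := Y x)
      (Set.mem_Iio.mpr (by rw [hYo x]; exact hi))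
      (Set.mem_Iio.mpr (by rw [hYo x]; exact hi')) h3
    have h5 : i = i' := Subtype.ext h4
    rw [h5]
  have hcard := Nat.card_le_card_of_injective _ hinj
  rw [Nat.card_prod, Nat.card_eq_finsetCard, hT, ← card_orderOf_mul_coprime p m hcop] at hcard
  unfold ocnt
  rw [mul_comm]
  exact hcard

/-- Frobenius' theorem at `2 * p` and `4 * p`. -/
theorem dvd_ocnt_four_add {p : ℕ} (hp : p.Prime) (hp2 : p ≠ 2) (hpG : p ∣ Nat.card G)
    (h4G : 4 ∣ Nat.card G) : p ∣ ocnt G 4 + ocnt G (4 * p) := by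
  have hc2 : Nat.Coprime 2 p := (Nat.coprime_primes Nat.prime_two hp).mpr hp2.symm
  have hc4 : Nat.Coprime 4 p := by
    have h := Nat.Coprime.pow_left 2 hc2
    norm_num at h
    exact h
  have h2G : 2 ∣ Nat.card G := dvd_trans (by norm_num) h4G
  have f2 := frobenius_dvd (G := G) (2 * p) (hc2.mul_dvd_of_dvd_of_dvd h2G hpG)
  rw [card_pow_prime_mul_eq 2 p Nat.prime_two hp hp2.symm] at f2
  have f4 := frobenius_dvd (G := G) (4 * p) (hc4.mul_dvd_of_dvd_of_dvd h4G hpG)
  rw [card_pow_four_mul_prime_eq p hp hp2] at f4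
  have g2 := dvd_trans (dvd_mul_left p 2) f2
  have g4 := dvd_trans (dvd_mul_left p 4) f4
  unfold ocnt
  exact dvd_of_eq_add g4 g2 (by ring)

theorem primeFactors_card_le_two {N : ℕ}
    (h : ∀ p q : ℕ, p.Prime → q.Prime → p ≠ 2 → q ≠ 2 → p ≠ q → p ∣ N → q ∣ N → False) :
    N.primeFactors.card ≤ 2 := by
  by_contra hcon
  push Not at hcon
  obtain ⟨p, q, r, hp, hq, hr, hpq, hpr, hqr⟩ := Finset.two_lt_card_iff.mp hcon
  obtain ⟨hp1, hp2, _⟩ := Nat.mem_primeFactors.mp hp
  obtain ⟨hq1, hq2, _⟩ := Nat.mem_primeFactors.mp hq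
  obtain ⟨hr1, hr2, _⟩ := Nat.mem_primeFactors.mp hr
  by_cases hp' : p = 2
  · have hq' : q ≠ 2 := fun e => hpq (hp'.trans e.symm)
    have hr' : r ≠ 2 := fun e => hpr (hp'.trans e.symm)
    exact h q r hq1 hr1 hq' hr' hqr hq2 hr2
  · by_cases hq' : q = 2
    · have hr' : r ≠ 2 := fun e => hqr (hq'.trans e.symm)
      exact h p r hp1 hr1 hp' hr' hpr hp2 hr2
    · exact h p q hp1 hq1 hp' hq' hpq hp2 hq2

/-- if all orders `≥ 3` that occur have the same number `w` of elements, at most one odd prime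
divides `|G|`. -/
theorem b1_aux {w : ℕ} (hval : ∀ m : ℕ, 3 ≤ m → ocnt G m = 0 ∨ ocnt G m = w) {p q : ℕ}
    (hp : p.Prime) (hq : q.Prime) (hp2 : p ≠ 2) (hq2 : q ≠ 2) (hpq : p ≠ q)
    (hpG : p ∣ Nat.card G) (hqG : q ∣ Nat.card G) : False := by
  have hp3 : 3 ≤ p := by have := hp.two_le; omega
  have hq3 : 3 ≤ q := by have := hq.two_le; omega
  have hsp : ocnt G p = w := by
    rcases hval p hp3 with h1 | h1
    · have := ocnt_pos_of_prime hp hpG; omega
    · exact h1
  have hsq : ocnt G q = w := by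
    rcases hval q hq3 with h1 | h1
    · have := ocnt_pos_of_prime hq hqG; omega
    · exact h1
  have f1 : p ∣ 1 + w := by have := ocnt_frob_prime hp hpG; rwa [hsp] at this
  have na := not_dvd_of_dvd_one_add hp f1
  have f2 := ocnt_frob_mul hp hq hpq hpG hqG
  rw [hsp, hsq] at f2
  have f3 : p ∣ 1 + w + w + ocnt G (p * q) := dvd_trans (dvd_mul_right p q) f2
  rcases hval (p * q) (by nlinarith) with h1 | h1
  · rw [h1] at f3
    exact na (dvd_of_eq_add f3 f1 (by ring))
  · rw [h1] at f3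
    exact na (dvd_of_dvd_add_self hp hp3 (dvd_of_eq_add f3 f1 (by ring)))

end tools

/-- Burnside's `p^a q^b` theorem: a finite group whose order has at most two prime divisors is
solvable. -/
theorem solvable_of_primeFactors_card_le_two {G : Type u} [Group G] [Finite G]
    (h : (Nat.card G).primeFactors.card ≤ 2) : Group.IsSolvable G := by
  have hn : Nat.card G ≠ 0 := Nat.card_pos.ne'
  have hprod := Nat.prod_factorization_pow_eq_self hn
  rw [Finsupp.prod, Nat.support_factorization] at hprod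
  have h3 : (Nat.card G).primeFactors.card = 0 ∨ (Nat.card G).primeFactors.card = 1 ∨
      (Nat.card G).primeFactors.card = 2 := by omega
  rcases h3 with h0 | h1 | h2
  · rw [Finset.card_eq_zero] at h0
    rw [h0, Finset.prod_empty] at hprod
    exact Cfsg.Agent.Lib.helper4.isSolvable_of_card_prime_pow (p := 2) (a := 0) Nat.prime_two
      (by rw [← hprod, pow_zero])
  · obtain ⟨p, hp⟩ := Finset.card_eq_one.mp h1
    have hpm : p ∈ (Nat.card G).primeFactors := by rw [hp]; simp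
    rw [hp, Finset.prod_singleton] at hprod
    exact Cfsg.Agent.Lib.helper4.isSolvable_of_card_prime_pow (Nat.prime_of_mem_primeFactors hpm)
      hprod.symm
  · obtain ⟨p, q, hpq, hpf⟩ := Finset.card_eq_two.mp h2
    have hpm : p ∈ (Nat.card G).primeFactors := by rw [hpf]; simp
    have hqm : q ∈ (Nat.card G).primeFactors := by rw [hpf]; simp
    rw [hpf, Finset.prod_pair hpq] at hprod
    exact Cfsg.Agent.Lib.helper4.isSolvable_of_card_eq_prime_pow_mul_prime_pow p q _ _
      (Nat.prime_of_mem_primeFactors hpm) (Nat.prime_of_mem_primeFactors hqm) hprod.symm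

/-- the same-order-type hypothesis for the orders `≥ 3`, with values `a ≠ b`. -/
structure SOTE (G : Type*) [Group G] (a b : ℕ) : Prop where
  ne : a ≠ b
  val : ∀ m : ℕ, 3 ≤ m → ocnt G m = 0 ∨ ocnt G m = a ∨ ocnt G m = b

section sote

variable {G : Type*} [Group G] [Finite G] {a b : ℕ}

theorem SOTE.symm (h : SOTE G a b) : SOTE G b a :=
  ⟨h.ne.symm, fun m hm => by
    rcases h.val m hm with h1 | h1 | h1
    · exact Or.inl h1
    · exact Or.inr (Or.inr h1)
    · exact Or.inr (Or.inl h1)⟩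

theorem SOTE.val_prime (h : SOTE G a b) {p : ℕ} (hp : p.Prime) (hp2 : p ≠ 2)
    (hpG : p ∣ Nat.card G) : ocnt G p = a ∨ ocnt G p = b := by
  have hp3 : 3 ≤ p := by have := hp.two_le; omega
  rcases h.val p hp3 with h1 | h1
  · have := ocnt_pos_of_prime hp hpG
    omega
  · exact h1

/-- two odd primes with different numbers of elements: then there are not as many elements of
order `4` as of order `p`. -/
theorem SOTE.beta_aux (h : SOTE G a b) {p q : ℕ} (hp : p.Prime) (hq : q.Prime) (hp2 : p ≠ 2)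
    (hq2 : q ≠ 2) (hpG : p ∣ Nat.card G) (hqG : q ∣ Nat.card G) (h4G : 4 ∣ Nat.card G)
    (hsp : ocnt G p = a) (hsq : ocnt G q = b) (hs4 : ocnt G 4 = a) : False := by
  have hp3 : 3 ≤ p := by have := hp.two_le; omega
  have hq3 : 3 ≤ q := by have := hq.two_le; omega
  have hpq : p ≠ q := by
    rintro rfl
    exact h.ne (hsp.symm.trans hsq)
  have ha0 : 0 < a := by rw [← hsp]; exact ocnt_pos_of_prime hp hpG
  have f1 : p ∣ 1 + a := by have := ocnt_frob_prime hp hpG; rwa [hsp] at this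
  have hpa : ¬ p ∣ a := not_dvd_of_dvd_one_add hp f1
  have f4 := dvd_ocnt_four_add hp hp2 hpG h4G
  rw [hs4] at f4
  have h4p : ocnt G (4 * p) = b := by
    rcases h.val (4 * p) (by omega) with h1 | h1 | h1
    · rw [h1, add_zero] at f4; exact absurd f4 hpa
    · rw [h1] at f4; exact absurd (dvd_of_dvd_add_self hp hp3 f4) hpa
    · exact h1
  rw [h4p] at f4
  have hpb : ¬ p ∣ b := fun hb => hpa (dvd_of_eq_add f4 hb (by ring))
  have h2 := two_mul_le_ocnt_mul hp hq hpq hq3 (by rw [hsq]; exact hpb)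
  rw [hsp] at h2
  have hpqv : ocnt G (p * q) = b := by
    rcases h.val (p * q) (by nlinarith) with h1 | h1 | h1
    · omega
    · omega
    · exact h1
  have f2 := ocnt_frob_mul hp hq hpq hpG hqG
  rw [hsp, hsq, hpqv] at f2
  have f3 : p ∣ 1 + a + b + b := dvd_trans (dvd_mul_right p q) f2
  have f5 : p ∣ b + b := dvd_of_eq_add f3 f1 (by ring)
  exact hpb (dvd_of_dvd_add_self hp hp3 f5)

/-- all odd primes have the same number `a` of elements, and there is an element of order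
`2 ^ (n + 2)`, half the order of a Sylow `2`-subgroup: impossible with two odd primes. -/
theorem SOTE.gamma_aux (h : SOTE G a b) {p q : ℕ} (hp : p.Prime) (hq : q.Prime) (hp2 : p ≠ 2)
    (hq2 : q ≠ 2) (hpq : p ≠ q) (hpG : p ∣ Nat.card G) (hqG : q ∣ Nat.card G)
    (hsame : ∀ r : ℕ, r.Prime → r ≠ 2 → r ∣ Nat.card G → ocnt G r = a)
    {n : ℕ} (x₀ : G) (hx₀ : orderOf x₀ = 2 ^ (n + 2))
    (hS : ∀ k : ℕ, 2 ^ k ∣ Nat.card G → k ≤ n + 3) : False := by
  have hp3 : 3 ≤ p := by have := hp.two_le; omega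
  have hq3 : 3 ≤ q := by have := hq.two_le; omega
  have ha0 : 0 < a := by rw [← hsame p hp hp2 hpG]; exact ocnt_pos_of_prime hp hpG
  have F1 : ∀ r : ℕ, r.Prime → r ≠ 2 → r ∣ Nat.card G → r ∣ 1 + a := by
    intro r hr hr2 hrG
    have := ocnt_frob_prime hr hrG
    rwa [hsame r hr hr2 hrG] at this
  have Na : ∀ r : ℕ, r.Prime → r ≠ 2 → r ∣ Nat.card G → ¬ r ∣ a := fun r hr hr2 hrG =>
    not_dvd_of_dvd_one_add hr (F1 r hr hr2 hrG)
  have G1 : ∀ r r' : ℕ, r.Prime → r'.Prime → r ≠ 2 → r' ≠ 2 → r ≠ r' → r ∣ Nat.card G →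
      r' ∣ Nat.card G → ¬ r ∣ b ∧ ocnt G (r * r') = b := by
    intro r r' hr hr' hr2 hr'2 hrr' hrG hr'G
    have hr3 : 3 ≤ r := by have := hr.two_le; omega
    have hr'3 : 3 ≤ r' := by have := hr'.two_le; omega
    have f2 := ocnt_frob_mul hr hr' hrr' hrG hr'G
    rw [hsame r hr hr2 hrG, hsame r' hr' hr'2 hr'G] at f2
    have f3 : r ∣ 1 + a + a + ocnt G (r * r') := dvd_trans (dvd_mul_right r r') f2
    have f1 := F1 r hr hr2 hrG
    have na := Na r hr hr2 hrG
    rcases h.val (r * r') (by nlinarith) with h1 | h1 | h1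
    · rw [h1] at f3
      exact absurd (dvd_of_eq_add f3 f1 (by ring)) na
    · rw [h1] at f3
      have h5 : r ∣ a + a := dvd_of_eq_add f3 f1 (by ring)
      exact absurd (dvd_of_dvd_add_self hr hr3 h5) na
    · rw [h1] at f3
      have f5 : r ∣ a + b := dvd_of_eq_add f3 f1 (by ring)
      exact ⟨fun hb => na (dvd_of_eq_add f5 hb (by ring)), h1⟩
  have Nb : ∀ r : ℕ, r.Prime → r ≠ 2 → r ∣ Nat.card G → ¬ r ∣ b := by
    intro r hr hr2 hrG
    by_cases hrp : r = p
    · subst hrp; exact (G1 r q hr hq hr2 hq2 hpq hrG hqG).1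
    · exact (G1 r p hr hp hr2 hp2 hrp hrG hpG).1
  have Nsq : ∀ r : ℕ, r.Prime → r ≠ 2 → r ∣ Nat.card G → ∀ g : G, orderOf g ≠ r ^ 2 := by
    intro r hr hr2 hrG g hg
    have hr3 : 3 ≤ r := by have := hr.two_le; omega
    have hdvd : r ^ 2 ∣ Nat.card G := by rw [← hg]; exact orderOf_dvd_natCard g
    have f2 := ocnt_frob_sq hr hdvd
    rw [hsame r hr hr2 hrG] at f2
    have f3 : r ∣ 1 + a + ocnt G (r ^ 2) := dvd_trans (dvd_pow_self r (by norm_num)) f2
    have f4 : r ∣ ocnt G (r ^ 2) := dvd_of_eq_add f3 (F1 r hr hr2 hrG) rfl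
    have hpos : 0 < ocnt G (r ^ 2) := by rw [← hg]; exact ocnt_pos_of_orderOf g
    rcases h.val (r ^ 2) (by nlinarith) with h1 | h1 | h1
    · omega
    · rw [h1] at f4; exact Na r hr hr2 hrG f4
    · rw [h1] at f4; exact Nb r hr hr2 hrG f4
  have Pw : ∀ r k : ℕ, r.Prime → r ≠ 2 → r ^ k ∣ Nat.card G → r ^ k ∣ 1 + a := by
    intro r k hr hr2 hrk
    rcases Nat.eq_zero_or_pos k with hk | hk
    · subst hk; simp
    · have hrG : r ∣ Nat.card G := dvd_trans (dvd_pow_self r hk.ne') hrk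
      have f := frobenius_dvd (G := G) (r ^ k) hrk
      rw [card_pow_prime_pow_of_no_sq hr hk (Nsq r hr hr2 hrG), hsame r hr hr2 hrG] at f
      exact f
  have hdvd : Nat.card G ∣ 2 ^ (n + 3) * (1 + a) := by
    rw [Nat.dvd_iff_prime_pow_dvd_dvd]
    intro r k hr hrk
    by_cases hr2 : r = 2
    · subst hr2
      exact dvd_mul_of_dvd_left (pow_dvd_pow 2 (hS k hrk)) _
    · exact dvd_mul_of_dvd_right (Pw r k hr hr2 hrk) _
  have hle : Nat.card G ≤ 2 ^ (n + 3) * (1 + a) := Nat.le_of_dvd (by positivity) hdvd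
  have hE4 : 4 ≤ 2 ^ (n + 2) := by
    calc 4 = 2 ^ 2 := by norm_num
      _ ≤ 2 ^ (n + 2) := Nat.pow_le_pow_right (by norm_num) (by omega)
  have hEpos : 0 < ocnt G (2 ^ (n + 2)) := by rw [← hx₀]; exact ocnt_pos_of_orderOf x₀
  have NE : ∀ r : ℕ, r.Prime → r ≠ 2 → r ∣ Nat.card G → ¬ r ∣ ocnt G (2 ^ (n + 2)) := by
    intro r hr hr2 hrG
    rcases h.val (2 ^ (n + 2)) (by omega) with h1 | h1 | h1
    · omega
    · rw [h1]; exact Na r hr hr2 hrG
    · rw [h1]; exact Nb r hr hr2 hrG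
  have htot : (2 ^ (n + 2)).totient = 2 ^ (n + 1) := by
    rw [show n + 2 = (n + 1) + 1 from rfl, Nat.totient_prime_pow_succ Nat.prime_two]
    simp
  have hcop2 : ∀ r : ℕ, r.Prime → r ≠ 2 → Nat.Coprime r (2 ^ (n + 2)) := by
    intro r hr hr2
    exact Nat.Coprime.pow_right _ ((Nat.coprime_primes hr Nat.prime_two).mpr hr2)
  have hE2 : 2 ≤ 2 ^ (n + 1) := by
    calc 2 = 2 ^ 1 := by norm_num
      _ ≤ 2 ^ (n + 1) := Nat.pow_le_pow_right (by norm_num) (by omega)
  have B2 : ∀ r : ℕ, r.Prime → r ≠ 2 → r ∣ Nat.card G → ocnt G (r * 2 ^ (n + 2)) = b := by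
    intro r hr hr2 hrG
    have hr3 : 3 ≤ r := by have := hr.two_le; omega
    have f := totient_mul_le_ocnt_mul hr (hcop2 r hr hr2) (NE r hr hr2 hrG)
    rw [htot, hsame r hr hr2 hrG] at f
    have h2 : 2 * a ≤ 2 ^ (n + 1) * a := Nat.mul_le_mul_right a hE2
    rcases h.val (r * 2 ^ (n + 2)) (by nlinarith) with h1 | h1 | h1
    · omega
    · omega
    · exact h1
  have hcop3 : Nat.Coprime p (q * 2 ^ (n + 2)) :=
    Nat.Coprime.mul_right ((Nat.coprime_primes hp hq).mpr hpq) (hcop2 p hp hp2)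
  have f := totient_mul_le_ocnt_mul hp hcop3 (by rw [B2 q hq hq2 hqG]; exact Nb p hp hp2 hpG)
  rw [Nat.totient_mul (hcop2 q hq hq2), Nat.totient_prime hq, htot, hsame p hp hp2 hpG] at f
  have h2 : 2 ^ (n + 2) * a ≤ (q - 1) * 2 ^ (n + 1) * a := by
    apply Nat.mul_le_mul_right
    have h3 : 2 ≤ q - 1 := by omega
    calc 2 ^ (n + 2) = 2 * 2 ^ (n + 1) := by ring
      _ ≤ (q - 1) * 2 ^ (n + 1) := Nat.mul_le_mul_right _ h3
  have h4 : 4 * a ≤ 2 ^ (n + 2) * a := Nat.mul_le_mul_right a hE4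
  have hEpos' : 0 < 2 ^ (n + 2) := by positivity
  have hm3 : 3 ≤ p * (q * 2 ^ (n + 2)) := by
    have h5 : 3 * 1 ≤ p * (q * 2 ^ (n + 2)) :=
      Nat.mul_le_mul hp3 (Nat.mul_pos hq.pos hEpos')
    omega
  have B3 : ocnt G (p * (q * 2 ^ (n + 2))) = b := by
    rcases h.val (p * (q * 2 ^ (n + 2))) hm3 with h1 | h1 | h1
    · omega
    · omega
    · exact h1
  rw [B3] at f
  have hsum := ocnt_add_three_le (G := G) (m1 := p * 2 ^ (n + 2)) (m2 := q * 2 ^ (n + 2))
    (m3 := p * (q * 2 ^ (n + 2)))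
    (fun e => hpq (Nat.eq_of_mul_eq_mul_right hEpos' e))
    (fun e => by
      have e1 := Nat.eq_of_mul_eq_mul_left hp.pos e
      have e2 : 1 * 2 ^ (n + 2) = q * 2 ^ (n + 2) := by rw [one_mul]; exact e1
      have e3 := Nat.eq_of_mul_eq_mul_right hEpos' e2
      omega)
    (fun e => by
      have e2 : 1 * (q * 2 ^ (n + 2)) = p * (q * 2 ^ (n + 2)) := by rw [one_mul]; exact e
      have e3 := Nat.eq_of_mul_eq_mul_right (Nat.mul_pos hq.pos hEpos') e2
      omega)
  rw [B2 p hp hp2 hpG, B2 q hq hq2 hqG, B3] at hsum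
  have hexp : 2 ^ (n + 3) * (1 + a) = 2 * 2 ^ (n + 2) + 2 * (2 ^ (n + 2) * a) := by ring
  rw [hexp] at hle
  have key : 2 ^ (n + 2) * a ≤ 2 ^ (n + 2) * 2 := by omega
  have ha2 : a ≤ 2 := Nat.le_of_mul_le_mul_left key hEpos'
  have hp_le : p ≤ 1 + a := Nat.le_of_dvd (by omega) (F1 p hp hp2 hpG)
  have hq_le : q ≤ 1 + a := Nat.le_of_dvd (by omega) (F1 q hq hq2 hqG)
  omega

/-- with an element of order `4` and an element of order `2 ^ (n + 2)`, where `2 ^ (n + 3)` is
the full power of `2` in `|G|`: at most one odd prime divides `|G|`. -/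
theorem SOTE.primeFactors_card_le (h : SOTE G a b) (h4G : 4 ∣ Nat.card G) (y : G)
    (hy : orderOf y = 4) {n : ℕ} (x₀ : G) (hx₀ : orderOf x₀ = 2 ^ (n + 2))
    (hS : ∀ k : ℕ, 2 ^ k ∣ Nat.card G → k ≤ n + 3) : (Nat.card G).primeFactors.card ≤ 2 := by
  apply primeFactors_card_le_two
  intro p q hp hq hp2 hq2 hpq hpG hqG
  have h4pos : 0 < ocnt G 4 := by rw [← hy]; exact ocnt_pos_of_orderOf y
  have hs4 : ocnt G 4 = a ∨ ocnt G 4 = b := by
    rcases h.val 4 (by norm_num) with h1 | h1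
    · omega
    · exact h1
  have beta : ∀ r r' : ℕ, r.Prime → r'.Prime → r ≠ 2 → r' ≠ 2 → r ∣ Nat.card G →
      r' ∣ Nat.card G → ocnt G r ≠ ocnt G r' → False := by
    intro r r' hr hr' hr2 hr'2 hrG hr'G hne
    rcases h.val_prime hr hr2 hrG with h1 | h1 <;>
      rcases h.val_prime hr' hr'2 hr'G with h2 | h2
    · exact hne (h1.trans h2.symm)
    · rcases hs4 with h3 | h3
      · exact h.beta_aux hr hr' hr2 hr'2 hrG hr'G h4G h1 h2 h3
      · exact h.symm.beta_aux hr' hr hr'2 hr2 hr'G hrG h4G h2 h1 h3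
    · rcases hs4 with h3 | h3
      · exact h.beta_aux hr' hr hr'2 hr2 hr'G hrG h4G h2 h1 h3
      · exact h.symm.beta_aux hr hr' hr2 hr'2 hrG hr'G h4G h1 h2 h3
    · exact hne (h1.trans h2.symm)
  have hall : ∀ r : ℕ, r.Prime → r ≠ 2 → r ∣ Nat.card G → ocnt G r = ocnt G p := by
    intro r hr hr2 hrG
    by_contra hne
    exact beta r p hr hp hr2 hp2 hrG hpG hne
  rcases h.val_prime hp hp2 hpG with h1 | h1
  · exact h.gamma_aux hp hq hp2 hq2 hpq hpG hqG
      (fun r hr hr2 hrG => (hall r hr hr2 hrG).trans h1) x₀ hx₀ hS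
  · exact h.symm.gamma_aux hp hq hp2 hq2 hpq hpG hqG
      (fun r hr hr2 hrG => (hall r hr hr2 hrG).trans h1) x₀ hx₀ hS

end sote

end Cfsg.Agent.Lib.helper70
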