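import Mathlib
import Cfsg.Agent.Lib.helper70.SOT3C
import Cfsg.Agent.Lib.helper70.Basic
import Cfsg.Agent.Lib.helper59.UniqueOrderP
import Cfsg.Agent.Lib.helper25.Fus2

set_option autoImplicit false
set_option linter.unusedSectionVars false

/-!
# A finite group with exactly three same-order-type values is solvable

Odd order: `SOT.card_primeFactors_le` and Burnside.  Even order with more than one involution:
all orders `≥ 3` share one value, so at most one odd prime divides `|G|`.  Even order with a
unique involution: a Sylow `2`-subgroup is cyclic (normal `2`-complement, which inherits the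
hypothesis) or generalized quaternion (`SOTE.primeFactors_card_le`).
-/

namespace Cfsg.Agent.Lib.helper70

universe u

theorem uniqueOrderP_of_unique_involution {G : Type*} [Group G] (z : G)
    (hz : ∀ g : G, orderOf g = 2 → g = z) (S : Subgroup G) :
    Cfsg.Agent.Lib.helper59.UniqueOrderP 2 S := by
  have key : ∀ H : Subgroup S, Nat.card H = 2 → ∀ x : S, x ∈ H ↔ (x = 1 ∨ (x : G) = z) := by
    intro H hH x
    have hord : ∀ y : S, y ∈ H → y ≠ 1 → (y : G) = z := by
      intro y hy hy1
      apply hz
      have h1 : orderOf y ∣ 2 := by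
        rw [← hH]; exact Subgroup.orderOf_dvd_natCard H hy
      have h2 : orderOf y ≠ 1 := by rwa [ne_eq, orderOf_eq_one_iff]
      rw [Subgroup.orderOf_coe]
      rcases (Nat.dvd_prime Nat.prime_two).mp h1 with h3 | h3
      · exact absurd h3 h2
      · exact h3
    constructor
    · intro hx
      by_cases hx1 : x = 1
      · exact Or.inl hx1
      · exact Or.inr (hord x hx hx1)
    · rintro (rfl | hxz)
      · exact one_mem H
      · have hfin : Finite H := Nat.finite_of_card_ne_zero (by rw [hH]; norm_num)
        have hnt : Nontrivial H := by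
          rw [← Finite.one_lt_card_iff_nontrivial, hH]; norm_num
        obtain ⟨y, hy1⟩ := exists_ne (1 : H)
        have h4 := hord y.1 y.2 (fun h => hy1 (Subtype.ext h))
        have h5 : x = y.1 := Subtype.ext (hxz.trans h4.symm)
        rw [h5]; exact y.2
  intro H K hH hK
  ext x
  rw [key H hH, key K hK]

/-- a normal `2`-complement inherits the same-order-type hypothesis. -/
theorem sot_of_sote_normal_compl {G : Type*} [Group G] [Finite G] {a b : ℕ} (h : SOTE G a b)
    (K : Subgroup G) [K.Normal] (hK : (Nat.card K).Coprime 2) {k : ℕ} (hidx : K.index = 2 ^ k) :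
    SOT K a b := by
  have hoddK : Odd (Nat.card K) := Nat.coprime_two_right.mp hK
  refine ⟨hoddK, h.ne, ?_⟩
  intro m hm
  by_cases hmodd : Odd m
  · have hm3 : 3 ≤ m := by obtain ⟨j, hj⟩ := hmodd; omega
    have e : ocnt K m = ocnt G m := by
      unfold ocnt
      apply Nat.card_congr
      refine Equiv.ofBijective
        (fun g => (⟨g.1.1, by rw [Subgroup.orderOf_coe]; exact g.2⟩ : {g : G // orderOf g = m}))
        ⟨?_, ?_⟩
      · intro g g' hgg'
        have h5 : (g.1 : G) = (g'.1 : G) := by
          have h6 := congrArg Subtype.val hgg'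
          exact h6
        exact Subtype.ext (Subtype.ext h5)
      · rintro ⟨g, hg⟩
        have hgK : g ∈ K := by
          apply mem_of_pow_mem_of_coprime K (m := 2 ^ k) (n := m)
          · exact Nat.Coprime.pow_left k (Nat.coprime_two_left.mpr hmodd)
          · rw [← hidx]; exact Subgroup.pow_index_mem K g
          · rw [← hg, pow_orderOf_eq_one]; exact one_mem K
        exact ⟨⟨⟨g, hgK⟩, by rw [← Subgroup.orderOf_coe]; exact hg⟩, rfl⟩
    rw [e]
    exact h.val m hm3
  · left
    apply natCard_orderOf_eq_zero
    intro g hg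
    apply hmodd
    rw [← hg]
    exact Odd.of_dvd_nat hoddK (orderOf_dvd_natCard g)

/-- unique involution + same-order-type values `a ≠ b` for the orders `≥ 3` => solvable. -/
theorem solvable_of_sote {G : Type u} [Group G] [Finite G] {a b : ℕ} (h : SOTE G a b)
    (z : G) (hz : ∀ g : G, orderOf g = 2 → g = z) : Group.IsSolvable G := by
  have : Fact (Nat.Prime 2) := ⟨Nat.prime_two⟩
  obtain ⟨S⟩ : Nonempty (Sylow 2 G) := inferInstance
  have hU := uniqueOrderP_of_unique_involution z hz (S : Subgroup G)
  rcases Cfsg.Agent.Lib.helper59.cyclic_or_quaternion_rel_of_uniqueOrderP S.isPGroup' hU with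
    hcyc | ⟨n, x, y, hx, hcard, -, -, -⟩
  · have hnpc := Cfsg.Agent.Lib.helper25.hasNormalPComplement_of_cyclic_fusion S (S : Subgroup G)
      hcyc le_rfl (fun a ha g hg => mul_mem ha (inv_mem hg))
    obtain ⟨P, K, hKn, hc⟩ := hnpc
    have h1 : Nat.card K * Nat.card P = Nat.card G := hc.card_mul_card
    have hKcop : (Nat.card K).Coprime 2 := by
      have h2 : Nat.card P * (P : Subgroup G).index = Nat.card G := Subgroup.card_mul_index _
      have h3 : Nat.card K = (P : Subgroup G).index := by
        have hpos : 0 < Nat.card P := Nat.card_pos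
        apply Nat.eq_of_mul_eq_mul_left hpos
        rw [h2, mul_comm, h1]
      rw [h3]
      exact ((Nat.Prime.coprime_iff_not_dvd Nat.prime_two).2 P.not_dvd_index).symm
    obtain ⟨k, hk⟩ : ∃ k, K.index = 2 ^ k := by
      have h2 : Nat.card K * K.index = Nat.card G := Subgroup.card_mul_index _
      have h3 : K.index = Nat.card P := Nat.eq_of_mul_eq_mul_left Nat.card_pos (h2.trans h1.symm)
      obtain ⟨j, hj⟩ := IsPGroup.iff_card.1 P.isPGroup'
      exact ⟨j, h3.trans hj⟩
    have hsot := sot_of_sote_normal_compl h K hKcop hk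
    have hKs : Group.IsSolvable K := solvable_of_primeFactors_card_le_two hsot.card_primeFactors_le
    have hQs : Group.IsSolvable (G ⧸ K) :=
      Cfsg.Agent.Lib.helper4.isSolvable_of_card_prime_pow Nat.prime_two
        (by rw [← Subgroup.index_eq_card, hk])
    exact Group.isSolvable_of_ker_le_range K.subtype (QuotientGroup.mk' K) (by simp)
  · have hx₀ : orderOf (x : G) = 2 ^ (n + 2) := by rw [Subgroup.orderOf_coe]; exact hx
    have hS : ∀ k, 2 ^ k ∣ Nat.card G → k ≤ n + 3 := by
      intro k hk
      have h1 : 2 ^ k ∣ Nat.card (S : Subgroup G) := S.pow_dvd_card_of_pow_dvd_card hk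
      rw [hcard] at h1
      exact (Nat.pow_dvd_pow_iff_le_right (by norm_num)).mp h1
    have h4G : 4 ∣ Nat.card G := by
      have h1 : 2 ^ 2 ∣ 2 ^ (n + 3) := pow_dvd_pow 2 (by omega)
      rw [← hcard] at h1
      have h2 : (4 : ℕ) ∣ Nat.card (S : Subgroup G) := by
        norm_num at h1
        exact h1
      exact dvd_trans h2 (Subgroup.card_subgroup_dvd_card _)
    obtain ⟨y4, hy4⟩ := exists_orderOf_eq_prime_pow_of_le 2 Nat.prime_two (x : G) (n + 2) 2
      (by omega) hx₀
    exact solvable_of_primeFactors_card_le_two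
      (h.primeFactors_card_le h4G y4 (by rw [hy4]; norm_num) (x : G) hx₀ hS)

theorem values_of_ncard {G : Type*} [Group G] [Finite G]
    (h : (((fun m : ℕ => Nat.card {g : G // orderOf g = m}) ''
      Set.range (orderOf : G → ℕ))).ncard = 3) :
    ∃ a b : ℕ, a ≠ b ∧ ∀ g : G, ocnt G (orderOf g) = 1 ∨ ocnt G (orderOf g) = a ∨
      ocnt G (orderOf g) = b := by
  obtain ⟨x, y, z, hxy, hxz, hyz, hT⟩ := Set.ncard_eq_three.mp h
  have h1 : (1 : ℕ) ∈ (fun m : ℕ => Nat.card {g : G // orderOf g = m}) ''
      Set.range (orderOf : G → ℕ) := ⟨1, ⟨1, orderOf_one⟩, natCard_orderOf_one⟩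
  have hval : ∀ g : G, ocnt G (orderOf g) = x ∨ ocnt G (orderOf g) = y ∨
      ocnt G (orderOf g) = z := by
    intro g
    have h2 : ocnt G (orderOf g) ∈ (fun m : ℕ => Nat.card {g : G // orderOf g = m}) ''
        Set.range (orderOf : G → ℕ) := ⟨orderOf g, ⟨g, rfl⟩, rfl⟩
    rw [hT] at h2
    simpa using h2
  rw [hT] at h1
  simp only [Set.mem_insert_iff, Set.mem_singleton_iff] at h1
  rcases h1 with h1 | h1 | h1
  · refine ⟨y, z, hyz, fun g => ?_⟩
    rcases hval g with h2 | h2 | h2
    · exact Or.inl (h2.trans h1.symm)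
    · exact Or.inr (Or.inl h2)
    · exact Or.inr (Or.inr h2)
  · refine ⟨x, z, hxz, fun g => ?_⟩
    rcases hval g with h2 | h2 | h2
    · exact Or.inr (Or.inl h2)
    · exact Or.inl (h2.trans h1.symm)
    · exact Or.inr (Or.inr h2)
  · refine ⟨x, y, hxy, fun g => ?_⟩
    rcases hval g with h2 | h2 | h2
    · exact Or.inr (Or.inl h2)
    · exact Or.inr (Or.inr h2)
    · exact Or.inl (h2.trans h1.symm)

/-- **Main theorem**: a finite group whose numbers of elements of each order take exactly three
values is solvable. -/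
theorem solvable_of_ncard_three {G : Type u} [Group G] [Finite G]
    (h : (((fun m : ℕ => Nat.card {g : G // orderOf g = m}) ''
      Set.range (orderOf : G → ℕ))).ncard = 3) : Group.IsSolvable G := by
  by_cases hodd : Odd (Nat.card G)
  · obtain ⟨a, b, hS⟩ := sot_of_ncard hodd h
    exact solvable_of_primeFactors_card_le_two hS.card_primeFactors_le
  · have h2G : 2 ∣ Nat.card G := even_iff_two_dvd.mp (Nat.not_odd_iff_even.mp hodd)
    obtain ⟨a, b, hab, hval⟩ := values_of_ncard h
    have f2 := ocnt_frob_prime (G := G) Nat.prime_two h2G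
    have hval3 : ∀ m, 3 ≤ m → ocnt G m = 0 ∨ ocnt G m = a ∨ ocnt G m = b := by
      intro m hm
      by_cases hex : ∃ g : G, orderOf g = m
      · obtain ⟨g, rfl⟩ := hex
        have hev := even_ocnt (G := G) hm
        rcases hval g with h1 | h1
        · rw [h1] at hev; exact absurd hev (by decide)
        · exact Or.inr h1
      · push Not at hex
        exact Or.inl (natCard_orderOf_eq_zero m hex)
    by_cases h21 : ocnt G 2 = 1
    · have hsote : SOTE G a b := ⟨hab, hval3⟩
      have h1 : Nat.card {g : G // orderOf g = 2} = 1 := h21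
      rw [Nat.card_eq_one_iff_unique] at h1
      obtain ⟨hsub, ⟨z⟩⟩ := h1
      exact solvable_of_sote hsote z.1
        (fun g hg => congrArg Subtype.val (hsub.elim ⟨g, hg⟩ z))
    · have : Fact (Nat.Prime 2) := ⟨Nat.prime_two⟩
      obtain ⟨t, ht⟩ := exists_prime_orderOf_dvd_card' (G := G) 2 h2G
      have hv2 := hval t
      rw [ht] at hv2
      have hodd2 : ¬ Even (ocnt G 2) := by
        intro he
        obtain ⟨j, hj⟩ := he
        obtain ⟨i, hi⟩ := f2
        omega
      have key : ∀ w w' : ℕ, ocnt G 2 = w' →
          (∀ m, 3 ≤ m → ocnt G m = 0 ∨ ocnt G m = w' ∨ ocnt G m = w) → Group.IsSolvable G := by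
        intro w w' hw' hv
        apply solvable_of_primeFactors_card_le_two
        apply primeFactors_card_le_two
        intro p q hp hq hp2 hq2 hpq hpG hqG
        refine b1_aux (G := G) (w := w) ?_ hp hq hp2 hq2 hpq hpG hqG
        intro m hm
        rcases hv m hm with h1 | h1 | h1
        · exact Or.inl h1
        · exfalso
          apply hodd2
          rw [hw', ← h1]
          exact even_ocnt hm
        · exact Or.inr h1
      rcases hv2 with h1 | h1 | h1
      · exact absurd h1 h21
      · exact key b a h1 hval3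
      · refine key a b h1 (fun m hm => ?_)
        rcases hval3 m hm with h | h | h
        · exact Or.inl h
        · exact Or.inr (Or.inr h)
        · exact Or.inr (Or.inl h)

end Cfsg.Agent.Lib.helper70
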