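import Mathlib

set_option autoImplicit false

namespace Cfsg.Agent.Lib.helper44.SUW

/-- FSIG (S), race copy by helper70 (prefixed name; statement verbatim from the S2335 skeleton). -/
theorem h70_sigma_facts {K : Type*} [Field K] [Fintype K] {q : ℕ} (hK : Fintype.card K = q ^ 2)
    (σ : K →+* K) (hσ : ∀ x, σ x = x ^ q) :
    (∀ x, σ (σ x) = x) ∧ σ ≠ RingHom.id K := by
  classical
  have hq2 : 2 ≤ q := by
    have h1 : 1 < Fintype.card K := Fintype.one_lt_card
    rw [hK] at h1
    by_contra h
    have hq : q = 0 ∨ q = 1 := by omega
    rcases hq with rfl | rfl <;> simp at h1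
  constructor
  · intro x
    rw [hσ, hσ, ← pow_mul, ← sq, ← hK, FiniteField.pow_card]
  · intro hid
    have hall : ∀ x : K, x ^ q = x := by
      intro x
      have h := hσ x
      rw [hid, RingHom.id_apply] at h
      exact h.symm
    have hne : (Polynomial.X ^ q - Polynomial.X : Polynomial K) ≠ 0 :=
      FiniteField.X_pow_card_sub_X_ne_zero K (by omega)
    have hdeg : (Polynomial.X ^ q - Polynomial.X : Polynomial K).natDegree = q :=
      FiniteField.X_pow_card_sub_X_natDegree_eq K (by omega)
    have hsub : (Finset.univ : Finset K).val ⊆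
        (Polynomial.X ^ q - Polynomial.X : Polynomial K).roots := by
      intro x _
      rw [Polynomial.mem_roots hne, Polynomial.IsRoot.def]
      simp [hall x]
    have hcard := Polynomial.card_le_degree_of_subset_roots hsub
    rw [hdeg, Finset.card_univ, hK] at hcard
    nlinarith
end Cfsg.Agent.Lib.helper44.SUW
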