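import Mathlib
import Cfsg.Prelude.Def_Classical
import Cfsg.Prelude.Def_GeometricClasses
import Cfsg.Agent.Lib.helper49.WittIso
import Cfsg.Agent.Lib.helper53.SfoBINREP

/-!
# S5977 / S5978 block A, piece ROTJ (helper70, racer copy)

A rotation of the plane `<e, x e>` (`x * x = -1`): commutes with `x`, determinant `1`,
spinor sign `-1`.
-/

set_option autoImplicit false

namespace Cfsg.Agent.Lib.helper59.Sfk

open Matrix Cfsg.Geo
open Cfsg.Agent.Lib.helper49 (detHom spinorSign)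

/-- ROTJ (racer copy, verbatim statement) -/
theorem h70_sfk_rot_neg {F : Type*} [Field F] [Fintype F] {ι : Type} [Fintype ι] [DecidableEq ι]
    (h2 : (2 : F) ≠ 0) (Q : QuadraticForm F (ι → F))
    (hQ : (QuadraticMap.polarBilin Q).Nondegenerate)
    (x : GL ι F) (hx : x ∈ Cfsg.isometryGroup F (⇑Q))
    (hxx : (x : Matrix ι ι F) * (x : Matrix ι ι F) = -1) (e : ι → F) (he : Q e ≠ 0) :
    ∃ r : ↥(Cfsg.isometryGroup F (⇑Q)),
      ((r : GL ι F) : Matrix ι ι F) * (x : Matrix ι ι F) =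
        (x : Matrix ι ι F) * ((r : GL ι F) : Matrix ι ι F) ∧
      detHom (⇑Q) r = 1 ∧ spinorSign (⇑Q) r = -1 := by
  classical
  obtain ⟨X, hX⟩ : ∃ X : Matrix ι ι F, X = (x : Matrix ι ι F) := ⟨_, rfl⟩
  rw [← hX] at hxx ⊢
  have hQx : ∀ v, Q (X *ᵥ v) = Q v := by
    intro v
    rw [hX]
    exact Cfsg.Agent.Lib.helper49.isometry_apply (⇑Q) ⟨x, hx⟩ v
  have hBx : ∀ v w, QuadraticMap.polar Q (X *ᵥ v) (X *ᵥ w) = QuadraticMap.polar Q v w := by
    intro v w
    rw [hX]
    exact Cfsg.Agent.Lib.helper49.isometry_polar Q ⟨x, hx⟩ v w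
  have hxxv : ∀ v : ι → F, X *ᵥ (X *ᵥ v) = -v := by
    intro v
    rw [Matrix.mulVec_mulVec, hxx, Matrix.neg_mulVec, Matrix.one_mulVec]
  -- `B(x e, w)` and `B(e, x w)`
  have hPX : ∀ w, QuadraticMap.polar Q e (X *ᵥ w) = - QuadraticMap.polar Q (X *ᵥ e) w := by
    intro w
    have h := hBx e (X *ᵥ w)
    rw [hxxv, QuadraticMap.polar_neg_right] at h
    exact h.symm
  have hQX : ∀ w, QuadraticMap.polar Q (X *ᵥ e) (X *ᵥ w) = QuadraticMap.polar Q e w :=
    fun w => hBx e w
  have hB0 : QuadraticMap.polar Q e (X *ᵥ e) = 0 := by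
    have h := hPX e
    rw [QuadraticMap.polar_comm Q (X *ᵥ e) e] at h
    have h3 : (2 : F) * QuadraticMap.polar Q e (X *ᵥ e) = 0 := by linear_combination h
    exact (mul_eq_zero.mp h3).resolve_left h2
  have hBee : QuadraticMap.polar Q e e = 2 * Q e := by
    rw [QuadraticMap.polar_self]
    simp
  -- a nonzero `c` of the other square class
  have hchar : ringChar F ≠ 2 := by
    intro h
    apply h2
    have h3 := CharP.cast_eq_zero F (ringChar F)
    rw [h] at h3
    exact_mod_cast h3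
  obtain ⟨c, hc0, hc⟩ : ∃ c : F, c ≠ 0 ∧ (IsSquare c ↔ ¬ IsSquare (Q e)) := by
    by_cases hsq : IsSquare (Q e)
    · obtain ⟨ν, hν⟩ := FiniteField.exists_nonsquare hchar
      refine ⟨ν, ?_, ?_⟩
      · rintro rfl
        exact hν ⟨0, by simp⟩
      · constructor
        · intro h
          exact absurd h hν
        · intro h
          exact absurd hsq h
    · exact ⟨1, one_ne_zero, ⟨fun _ => hsq, fun _ => ⟨1, by simp⟩⟩⟩
  obtain ⟨s, t, hst⟩ := Cfsg.Agent.Lib.helper24.sfo_bin_rep h2 1 1 (c / Q e) one_ne_zero one_ne_zero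
  have hτ : s ^ 2 + t ^ 2 = c / Q e := by linear_combination hst
  have hτ0 : s ^ 2 + t ^ 2 ≠ 0 := by
    rw [hτ]
    exact div_ne_zero hc0 he
  obtain ⟨u', hu'def⟩ : ∃ u' : ι → F, u' = s • e + t • (X *ᵥ e) := ⟨_, rfl⟩
  have hU : ∀ w, QuadraticMap.polar Q u' w =
      s * QuadraticMap.polar Q e w + t * QuadraticMap.polar Q (X *ᵥ e) w := by
    intro w
    rw [hu'def, QuadraticMap.polar_add_left, QuadraticMap.polar_smul_left,
      QuadraticMap.polar_smul_left]
    simp only [smul_eq_mul]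
  have hQu' : Q u' = (s ^ 2 + t ^ 2) * Q e := by
    rw [hu'def, QuadraticMap.map_add Q, QuadraticMap.map_smul Q, QuadraticMap.map_smul Q, hQx,
      QuadraticMap.polar_smul_left, QuadraticMap.polar_smul_right, hB0]
    simp only [smul_eq_mul]
    ring
  have hu'0 : Q u' ≠ 0 := by
    rw [hQu']
    exact mul_ne_zero hτ0 he
  have hQu'c : Q u' = c := by
    rw [hQu', hτ]
    field_simp
  have hEU : QuadraticMap.polar Q e u' = 2 * s * Q e := by
    rw [hu'def, QuadraticMap.polar_add_right, QuadraticMap.polar_smul_right,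
      QuadraticMap.polar_smul_right, hB0, hBee]
    simp only [smul_eq_mul]
    ring
  -- the rotation
  refine ⟨Cfsg.Agent.Lib.helper49.reflG Q e he * Cfsg.Agent.Lib.helper49.reflG Q u' hu'0, ?_, ?_, ?_⟩
  · -- commutation
    have hRw : ∀ w : ι → F,
        Cfsg.reflectionMatrix (⇑Q) e *ᵥ (Cfsg.reflectionMatrix (⇑Q) u' *ᵥ w) =
          w - ((Q u')⁻¹ * (s * QuadraticMap.polar Q e w + t * QuadraticMap.polar Q (X *ᵥ e) w)) • u'
            - ((Q e)⁻¹ * (QuadraticMap.polar Q e w -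
                ((Q u')⁻¹ * (s * QuadraticMap.polar Q e w + t * QuadraticMap.polar Q (X *ᵥ e) w)) *
                  (2 * s * Q e))) • e := by
      intro w
      rw [Cfsg.Agent.Lib.helper49.refl_mulVec,
        Cfsg.Agent.Lib.helper49.refl_mulVec, QuadraticMap.polar_sub_right,
        QuadraticMap.polar_smul_right, hU, hEU]
      simp only [smul_eq_mul]
    have hval : ((Cfsg.Agent.Lib.helper49.reflG Q e he * Cfsg.Agent.Lib.helper49.reflG Q u' hu'0 :
        ↥(Cfsg.isometryGroup F (⇑Q))) : GL ι F).val =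
        Cfsg.reflectionMatrix (⇑Q) e * Cfsg.reflectionMatrix (⇑Q) u' := rfl
    show ((Cfsg.Agent.Lib.helper49.reflG Q e he * Cfsg.Agent.Lib.helper49.reflG Q u' hu'0 :
        ↥(Cfsg.isometryGroup F (⇑Q))) : GL ι F).val * X = X *
        ((Cfsg.Agent.Lib.helper49.reflG Q e he * Cfsg.Agent.Lib.helper49.reflG Q u' hu'0 :
        ↥(Cfsg.isometryGroup F (⇑Q))) : GL ι F).val
    rw [hval]
    apply Matrix.toLin'.injective
    apply LinearMap.ext
    intro v
    simp only [Matrix.toLin'_mul, LinearMap.comp_apply, Matrix.toLin'_apply]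
    rw [hRw, hRw, hPX, hQX,
      Matrix.mulVec_sub, Matrix.mulVec_sub, Matrix.mulVec_smul, Matrix.mulVec_smul]
    have hXu' : X *ᵥ u' = s • (X *ᵥ e) - t • e := by
      rw [hu'def, Matrix.mulVec_add, Matrix.mulVec_smul, Matrix.mulVec_smul, hxxv]
      simp only [smul_neg]
      abel
    rw [hXu', hQu', hu'def]
    ext i
    simp only [Pi.sub_apply, Pi.add_apply, Pi.smul_apply, smul_eq_mul]
    field_simp
    ring
  · rw [map_mul, Cfsg.Agent.Lib.helper49.detHom_reflG, Cfsg.Agent.Lib.helper49.detHom_reflG]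
    simp
  · rw [map_mul]
    by_cases hsq : IsSquare (Q e)
    · have hnc : ¬ IsSquare (Q u') := by
        rw [hQu'c]
        intro h
        exact (hc.mp h) hsq
      rw [(Cfsg.Agent.Lib.helper49.spinorSign_refl h2 Q e he).1 hsq,
        (Cfsg.Agent.Lib.helper49.spinorSign_refl h2 Q u' hu'0).2 hnc]
      simp
    · have hnc : IsSquare (Q u') := by
        rw [hQu'c]
        exact hc.mpr hsq
      rw [(Cfsg.Agent.Lib.helper49.spinorSign_refl h2 Q e he).2 hsq,
        (Cfsg.Agent.Lib.helper49.spinorSign_refl h2 Q u' hu'0).1 hnc]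
      simp

end Cfsg.Agent.Lib.helper59.Sfk
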