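import Mathlib
import Cfsg.Agent.Lib.helper38.TN3
import Cfsg.Agent.Lib.helper53.TNPerm
import Cfsg.Agent.Lib.helper70.Basic

/-!
helper70: PIECE F of S4415 (helper38's split): a "type I" subgroup gives a monomial frame.
-/

namespace Cfsg.Agent.Lib.helper70

open Cfsg.Agent.Lib.helper38.TN

/-- A group of permutations of three points, normalized by a 3-cycle and without elements acting
as a 3-cycle, fixes the points. -/
theorem tnf_fix_of_perm {Γ X : Type*} [Group Γ] [MulAction Γ X] (R : Subgroup Γ) (b : Γ)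
    (hbR : ∀ r ∈ R, b * r * b⁻¹ ∈ R)
    (h3 : ∀ r ∈ R, ∀ x : X, (r * r * r) • x = x → r • x = x)
    (s₁ s₂ s₃ : X) (h12 : s₁ ≠ s₂) (h23 : s₂ ≠ s₃) (h13 : s₁ ≠ s₃)
    (hb1 : b • s₁ = s₂) (hb2 : b • s₂ = s₃) (hb3' : b • s₃ = s₁)
    (hperm : ∀ r ∈ R, ∀ x : X, (x = s₁ ∨ x = s₂ ∨ x = s₃) →
      (r • x = s₁ ∨ r • x = s₂ ∨ r • x = s₃)) :
    ∀ r ∈ R, r • s₁ = s₁ := by
  have hno1 : ∀ g ∈ R, g • s₁ = s₂ → g • s₂ = s₃ → g • s₃ = s₁ → False := by
    intro g hg e1 e2 e3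
    have h := h3 g hg s₁ (by rw [mul_smul, mul_smul, e1, e2, e3])
    exact h12 (h.symm.trans e1)
  have hno2 : ∀ g ∈ R, g • s₁ = s₃ → g • s₃ = s₂ → g • s₂ = s₁ → False := by
    intro g hg e1 e2 e3
    have h := h3 g hg s₁ (by rw [mul_smul, mul_smul, e1, e2, e3])
    exact h13 (h.symm.trans e1)
  have hbi1 : b⁻¹ • s₁ = s₃ := by rw [inv_smul_eq_iff, hb3']
  have hbi2 : b⁻¹ • s₂ = s₁ := by rw [inv_smul_eq_iff, hb1]
  have hbi3 : b⁻¹ • s₃ = s₂ := by rw [inv_smul_eq_iff, hb2]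
  intro r hr
  have hinj : ∀ x y : X, r • x = r • y → x = y := fun x y h => (smul_left_cancel_iff r).mp h
  have hr' : b * r * b⁻¹ ∈ R := hbR r hr
  have hrr' : r * (b * r * b⁻¹) ∈ R := R.mul_mem hr hr'
  have conj_smul : ∀ x : X, (b * r * b⁻¹) • x = b • r • b⁻¹ • x := fun x => by
    rw [mul_smul, mul_smul]
  rcases hperm r hr s₁ (Or.inl rfl) with e1 | e1 | e1
  · exact e1
  · exfalso
    rcases hperm r hr s₂ (Or.inr (Or.inl rfl)) with e2 | e2 | e2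
    · rcases hperm r hr s₃ (Or.inr (Or.inr rfl)) with e3 | e3 | e3
      · exact h23 (hinj _ _ (e2.trans e3.symm))
      · exact h13 (hinj _ _ (e1.trans e3.symm))
      · refine hno1 (r * (b * r * b⁻¹)) hrr' ?_ ?_ ?_
        · rw [mul_smul, conj_smul, hbi1, e3, hb3', e1]
        · rw [mul_smul, conj_smul, hbi2, e1, hb2, e3]
        · rw [mul_smul, conj_smul, hbi3, e2, hb1, e2]
    · exact h12 (hinj _ _ (e1.trans e2.symm))
    · rcases hperm r hr s₃ (Or.inr (Or.inr rfl)) with e3 | e3 | e3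
      · exact hno1 r hr e1 e2 e3
      · exact h13 (hinj _ _ (e1.trans e3.symm))
      · exact h23 (hinj _ _ (e2.trans e3.symm))
  · exfalso
    rcases hperm r hr s₂ (Or.inr (Or.inl rfl)) with e2 | e2 | e2
    · rcases hperm r hr s₃ (Or.inr (Or.inr rfl)) with e3 | e3 | e3
      · exact h23 (hinj _ _ (e2.trans e3.symm))
      · exact hno2 r hr e1 e3 e2
      · exact h13 (hinj _ _ (e1.trans e3.symm))
    · rcases hperm r hr s₃ (Or.inr (Or.inr rfl)) with e3 | e3 | e3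
      · refine hno1 (r * (b * r * b⁻¹)) hrr' ?_ ?_ ?_
        · rw [mul_smul, conj_smul, hbi1, e3, hb1, e2]
        · rw [mul_smul, conj_smul, hbi2, e1, hb3', e1]
        · rw [mul_smul, conj_smul, hbi3, e2, hb2, e3]
      · exact h23 (hinj _ _ (e2.trans e3.symm))
      · exact h13 (hinj _ _ (e1.trans e3.symm))
    · exact h12 (hinj _ _ (e1.trans e2.symm))

section TNFsec

variable {G : Type*} [Group G] {V : Type*} [AddCommGroup V] [Module (ZMod 3) V]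

/-- The action of `G` on the submodules of `V` through `ρ`. -/
@[reducible] def tnfAct (ρ : Representation (ZMod 3) G V) :
    MulAction G (Submodule (ZMod 3) V) where
  smul g N := N.map (ρ g)
  one_smul N := by
    show N.map (ρ 1) = N
    rw [map_one]
    exact Submodule.map_id N
  mul_smul g h N := by
    show N.map (ρ (g * h)) = (N.map (ρ h)).map (ρ g)
    rw [map_mul]
    exact Submodule.map_comp (ρ h) (ρ g) N

theorem tnf_map_span (ρ : Representation (ZMod 3) G V) (g : G) (w : V) :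
    (Submodule.span (ZMod 3) {w}).map (ρ g) = Submodule.span (ZMod 3) {ρ g w} := by
  rw [Submodule.map_span, Set.image_singleton]

theorem tnf_span_eq {x w : V} (hx : x ∈ Submodule.span (ZMod 3) {w}) (hx0 : x ≠ 0) :
    Submodule.span (ZMod 3) {x} = Submodule.span (ZMod 3) {w} := by
  obtain ⟨c, rfl⟩ := Submodule.mem_span_singleton.mp hx
  have hc : c ≠ 0 := by
    rintro rfl
    exact hx0 (zero_smul _ _)
  exact Submodule.span_singleton_smul_eq (IsUnit.mk0 c hc) w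

/-- Common eigenvectors of the four-group lie on a weight line or in the fixed space. -/
theorem tnf_eig {ρ : Representation (ZMod 3) G V} {b q₁ q₂ q₃ : G} {u₁ u₂ u₃ : V}
    (F : Frame ρ b q₁ q₂ q₃ u₁ u₂ u₃) {x : V} {ε₁ ε₂ : ZMod 3} (h1 : ε₁ = 1 ∨ ε₁ = -1)
    (h2 : ε₂ = 1 ∨ ε₂ = -1) (e1 : ρ q₁ x = ε₁ • x) (e2 : ρ q₂ x = ε₂ • x) :
    x ∈ Submodule.span (ZMod 3) {u₁} ∨ x ∈ Submodule.span (ZMod 3) {u₂} ∨
      x ∈ Submodule.span (ZMod 3) {u₃} ∨ x ∈ fixQ ρ q₁ q₂ := by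
  rcases h1 with rfl | rfl <;> rcases h2 with rfl | rfl <;>
    simp only [one_smul, neg_one_smul] at e1 e2
  · exact Or.inr (Or.inr (Or.inr ⟨e1, e2⟩))
  · obtain ⟨c, hc⟩ := F.line x e1 e2
    exact Or.inl (Submodule.mem_span_singleton.mpr ⟨c, hc.symm⟩)
  · have e3 : ρ q₃ x = -x := by rw [← F.tri.a12, e2, e1]
    obtain ⟨c, hc⟩ := F.rot.line x e2 e3
    exact Or.inr (Or.inl (Submodule.mem_span_singleton.mpr ⟨c, hc.symm⟩))
  · have e3 : ρ q₃ x = x := by rw [← F.tri.a12, e2, map_neg, e1, neg_neg]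
    obtain ⟨c, hc⟩ := F.rot.rot.line x e3 e1
    exact Or.inr (Or.inr (Or.inl (Submodule.mem_span_singleton.mpr ⟨c, hc.symm⟩)))

/-- Two different frame vectors are not proportional. -/
theorem tnf_not_mem {ρ : Representation (ZMod 3) G V} {b q₁ q₂ q₃ : G} {u₁ u₂ u₃ : V}
    (F : Frame ρ b q₁ q₂ q₃ u₁ u₂ u₃) :
    u₁ ∉ Submodule.span (ZMod 3) {u₂} ∧ u₁ ∉ Submodule.span (ZMod 3) {u₃} ∧
      u₂ ∉ Submodule.span (ZMod 3) {u₃} ∧ u₂ ∉ Submodule.span (ZMod 3) {u₁} := by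
  refine ⟨?_, ?_, ?_, ?_⟩
  · intro hm
    obtain ⟨c, hc⟩ := Submodule.mem_span_singleton.mp hm
    have h0 : (1 : ZMod 3) • u₁ + (-c) • u₂ + (0 : ZMod 3) • u₃ + 0 = 0 := by
      rw [← hc]; module
    exact one_ne_zero (F.indep (Submodule.zero_mem _) h0).1
  · intro hm
    obtain ⟨c, hc⟩ := Submodule.mem_span_singleton.mp hm
    have h0 : (1 : ZMod 3) • u₁ + (0 : ZMod 3) • u₂ + (-c) • u₃ + 0 = 0 := by
      rw [← hc]; module
    exact one_ne_zero (F.indep (Submodule.zero_mem _) h0).1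
  · intro hm
    obtain ⟨c, hc⟩ := Submodule.mem_span_singleton.mp hm
    have h0 : (0 : ZMod 3) • u₁ + (1 : ZMod 3) • u₂ + (-c) • u₃ + 0 = 0 := by
      rw [← hc]; module
    exact one_ne_zero (F.indep (Submodule.zero_mem _) h0).2.1
  · intro hm
    obtain ⟨c, hc⟩ := Submodule.mem_span_singleton.mp hm
    have h0 : (-c) • u₁ + (1 : ZMod 3) • u₂ + (0 : ZMod 3) • u₃ + 0 = 0 := by
      rw [← hc]; module
    exact one_ne_zero (F.indep (Submodule.zero_mem _) h0).2.1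

end TNFsec

section TNFmain

variable {G : Type*} [Group G] [Finite G] {V : Type*} [AddCommGroup V] [Module (ZMod 3) V]
  [Finite V]
variable {ρ : Representation (ZMod 3) G V} {R : Subgroup G} {b q₁ q₂ q₃ : G} {u₁ u₂ u₃ : V}

/-- **PIECE F of S4415.** -/
theorem typeI_mono (h : Ctx ρ R b q₁ q₂ q₃ u₁ u₂ u₃) (hR : RIrr ρ R) (hT : TypeI R b) :
    ∃ (p₁ p₂ p₃ : G) (w₁ w₂ w₃ w₄ : V), Ctx ρ R b p₁ p₂ p₃ w₁ w₂ w₃ ∧ CLine ρ p₁ p₂ w₄ ∧
      ∀ r ∈ R, ∀ i : Fin 4, ∃ j : Fin 4, ∃ ε : ZMod 3,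
        ρ r (![w₁, w₂, w₃, w₄] i) = ε • ![w₁, w₂, w₃, w₄] j := by
  classical
  obtain ⟨E₁, ⟨hE1R, hE1conj, hE1b⟩, hexp, a, haE, hab⟩ := hT
  have F := h.frame
  have hb3 : b ^ 3 = 1 := F.b3
  have hinv : ∀ x ∈ E₁, x⁻¹ = x := fun x hx => inv_eq_of_mul_eq_one_left (hexp x hx)
  have hcomm : ∀ x ∈ E₁, ∀ y ∈ E₁, x * y = y * x := by
    intro x hx y hy
    calc x * y = (x * y)⁻¹ := (hinv _ (E₁.mul_mem hx hy)).symm
      _ = y⁻¹ * x⁻¹ := mul_inv_rev x y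
      _ = y * x := by rw [hinv x hx, hinv y hy]
  have hbbb : b * b * b = 1 := by rw [← hb3, pow_succ, pow_two]
  have hbbbi : b⁻¹ * (b⁻¹ * b⁻¹) = 1 := by
    have h1 : (b * b * b)⁻¹ = 1 := by rw [hbbb, inv_one]
    simpa only [mul_inv_rev] using h1
  have hconj_mul : ∀ x y : G, b * (x * y) * b⁻¹ = (b * x * b⁻¹) * (b * y * b⁻¹) := by
    intro x y; group
  have ha₁E : b * a * b⁻¹ ∈ E₁ := hE1b a haE
  have ha₂E : b * (b * a * b⁻¹) * b⁻¹ ∈ E₁ := hE1b _ ha₁E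
  have hba₂ : b * (b * (b * a * b⁻¹) * b⁻¹) * b⁻¹ = a := by
    calc b * (b * (b * a * b⁻¹) * b⁻¹) * b⁻¹ = (b * b * b) * a * (b⁻¹ * (b⁻¹ * b⁻¹)) := by
          simp only [mul_assoc]
      _ = a := by rw [hbbb, hbbbi, one_mul, mul_one]
  obtain ⟨a₁, ha₁⟩ : ∃ a₁, a₁ = b * a * b⁻¹ := ⟨_, rfl⟩
  rw [← ha₁] at ha₁E ha₂E hba₂ hab
  obtain ⟨a₂, ha₂⟩ : ∃ a₂, a₂ = b * a₁ * b⁻¹ := ⟨_, rfl⟩
  rw [← ha₂] at ha₂E hba₂
  have hp₁E : a * a₁ ∈ E₁ := E₁.mul_mem haE ha₁E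
  have hp₂E : a₁ * a₂ ∈ E₁ := E₁.mul_mem ha₁E ha₂E
  have T : Tri b (a * a₁) (a₁ * a₂) (a₂ * a) := by
    refine ⟨hexp _ hp₁E, ?_, ?_, ?_, ?_, ?_, ?_⟩
    · calc a * a₁ * (a₁ * a₂) = a * (a₁ * a₁) * a₂ := by simp only [mul_assoc]
        _ = a * a₂ := by rw [hexp a₁ ha₁E, mul_one]
        _ = a₂ * a := hcomm a haE a₂ ha₂E
    · calc a₁ * a₂ * (a * a₁) = a * a₁ * (a₁ * a₂) := hcomm _ hp₂E _ hp₁E
        _ = a * (a₁ * a₁) * a₂ := by simp only [mul_assoc]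
        _ = a * a₂ := by rw [hexp a₁ ha₁E, mul_one]
        _ = a₂ * a := hcomm a haE a₂ ha₂E
    · rw [hconj_mul, ← ha₁, ← ha₂]
    · rw [hconj_mul, ← ha₂, hba₂]
    · rw [hconj_mul, hba₂, ← ha₁]
    · intro h1
      have h2 : a₁ = a⁻¹ := eq_inv_of_mul_eq_one_right h1
      rw [hinv a haE] at h2
      exact hab h2
  have hp₁R : a * a₁ ∈ R := hE1R hp₁E
  have hact : ∃ v, ρ (a * a₁) v ≠ v := by
    by_contra hcon
    push Not at hcon
    exact T.ne (h.faith _ hp₁R hcon)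
  obtain ⟨w₁, w₂, w₃, F'⟩ := exists_frame T hb3 hact F.j1 F.j2
  have h' : Ctx ρ R b (a * a₁) (a₁ * a₂) (a₂ * a) w₁ w₂ w₃ :=
    ⟨F', hp₁R, h.bR, h.faith, h.cop, h.solv, h.gen, h.irr⟩
  -- eigenvector property of the images of the frame vectors
  have key : ∀ g ∈ E₁, ∀ r ∈ R, ∀ x : V, (x = w₁ ∨ x = w₂ ∨ x = w₃) →
      ∃ ε : ZMod 3, (ε = 1 ∨ ε = -1) ∧ ρ g (ρ r x) = ε • ρ r x := by
    intro g hg r hr x hx
    have hg' : r⁻¹ * g * r ∈ E₁ := by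
      have h1 := hE1conj r⁻¹ (R.inv_mem hr) g hg
      rwa [inv_inv] at h1
    have hc1 : r⁻¹ * g * r * (a * a₁) = a * a₁ * (r⁻¹ * g * r) := hcomm _ hg' _ hp₁E
    have hc2 : r⁻¹ * g * r * (a₁ * a₂) = a₁ * a₂ * (r⁻¹ * g * r) := hcomm _ hg' _ hp₂E
    obtain ⟨d1, d2, d3, -⟩ := F'.comm_diag hc1 hc2
    have hgr : ∀ v, ρ g (ρ r v) = ρ r (ρ (r⁻¹ * g * r) v) := by
      intro v
      have e : g * r = r * (r⁻¹ * g * r) := by group
      rw [← rho_mul, ← rho_mul, ← e]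
    rcases hx with rfl | rfl | rfl
    · obtain ⟨ε, hε, e⟩ := d1
      exact ⟨ε, hε, by rw [hgr, e, map_smul]⟩
    · obtain ⟨ε, hε, e⟩ := d2
      exact ⟨ε, hε, by rw [hgr, e, map_smul]⟩
    · obtain ⟨ε, hε, e⟩ := d3
      exact ⟨ε, hε, by rw [hgr, e, map_smul]⟩
  have hcls : ∀ r ∈ R, ∀ x : V, (x = w₁ ∨ x = w₂ ∨ x = w₃) →
      ρ r x ∈ Submodule.span (ZMod 3) {w₁} ∨ ρ r x ∈ Submodule.span (ZMod 3) {w₂} ∨
        ρ r x ∈ Submodule.span (ZMod 3) {w₃} ∨ ρ r x ∈ fixQ ρ (a * a₁) (a₁ * a₂) := by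
    intro r hr x hx
    obtain ⟨ε₁, h1, e1⟩ := key _ hp₁E r hr x hx
    obtain ⟨ε₂, h2, e2⟩ := key _ hp₂E r hr x hx
    exact tnf_eig F' h1 h2 e1 e2
  have hwne : ∀ x : V, (x = w₁ ∨ x = w₂ ∨ x = w₃) → x ≠ 0 := by
    rintro x (rfl | rfl | rfl)
    · exact F'.u1
    · exact F'.u2
    · exact F'.u3
  have hrne : ∀ (r : G) (x : V), x ≠ 0 → ρ r x ≠ 0 := by
    intro r x hx h0
    exact hx (rho_inj ρ r (by rw [h0, map_zero]))
  have hline : ∀ r ∈ R, ∀ x : V, (x = w₁ ∨ x = w₂ ∨ x = w₃) →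
      Submodule.span (ZMod 3) {ρ r x} = Submodule.span (ZMod 3) {w₁} ∨
      Submodule.span (ZMod 3) {ρ r x} = Submodule.span (ZMod 3) {w₂} ∨
      Submodule.span (ZMod 3) {ρ r x} = Submodule.span (ZMod 3) {w₃} ∨
      ρ r x ∈ fixQ ρ (a * a₁) (a₁ * a₂) := by
    intro r hr x hx
    have hne := hrne r x (hwne x hx)
    rcases hcls r hr x hx with hm | hm | hm | hm
    · exact Or.inl (tnf_span_eq hm hne)
    · exact Or.inr (Or.inl (tnf_span_eq hm hne))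
    · exact Or.inr (Or.inr (Or.inl (tnf_span_eq hm hne)))
    · exact Or.inr (Or.inr (Or.inr hm))
  obtain ⟨n12, n13, n23, n21⟩ := tnf_not_mem F'
  have hs12 : Submodule.span (ZMod 3) {w₁} ≠ Submodule.span (ZMod 3) {w₂} := by
    intro he
    exact n12 (he ▸ Submodule.mem_span_singleton_self w₁)
  have hs23 : Submodule.span (ZMod 3) {w₂} ≠ Submodule.span (ZMod 3) {w₃} := by
    intro he
    exact n23 (he ▸ Submodule.mem_span_singleton_self w₂)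
  have hs13 : Submodule.span (ZMod 3) {w₁} ≠ Submodule.span (ZMod 3) {w₃} := by
    intro he
    exact n13 (he ▸ Submodule.mem_span_singleton_self w₁)
  -- the action on submodules
  letI : MulAction G (Submodule (ZMod 3) V) := tnfAct ρ
  have hsm : ∀ (g : G) (w : V),
      g • Submodule.span (ZMod 3) {w} = Submodule.span (ZMod 3) {ρ g w} :=
    fun g w => tnf_map_span ρ g w
  have h3 : ∀ r ∈ R, ∀ x : Submodule (ZMod 3) V, (r * r * r) • x = x → r • x = x := by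
    intro r hr x hx
    have hord : (orderOf r).Coprime 3 := by
      have h1 : orderOf r ∣ Nat.card ↥R := by
        have h2 := orderOf_dvd_natCard (⟨r, hr⟩ : ↥R)
        rwa [Subgroup.orderOf_mk] at h2
      exact Nat.Coprime.coprime_dvd_left h1 h.cop
    have hmem : r ∈ MulAction.stabilizer G x :=
      mem_of_pow_mem_of_coprime (MulAction.stabilizer G x) (m := 3) (n := orderOf r) hord.symm
        (by rw [MulAction.mem_stabilizer_iff, pow_succ, pow_two]; exact hx)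
        (by rw [pow_orderOf_eq_one]; exact one_mem _)
    exact MulAction.mem_stabilizer_iff.mp hmem
  have hb1 : b • Submodule.span (ZMod 3) {w₁} = Submodule.span (ZMod 3) {w₂} := by
    rw [hsm, F'.bu1]
  have hb2 : b • Submodule.span (ZMod 3) {w₂} = Submodule.span (ZMod 3) {w₃} := by
    rw [hsm, F'.bu2]
  have hb3' : b • Submodule.span (ZMod 3) {w₃} = Submodule.span (ZMod 3) {w₁} := by
    rw [hsm, F'.bu3]
  have himg : ∀ r ∈ R, ∀ x : Submodule (ZMod 3) V,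
      (x = r • Submodule.span (ZMod 3) {w₁} ∨ x = r • Submodule.span (ZMod 3) {w₂} ∨
        x = r • Submodule.span (ZMod 3) {w₃}) →
      ∃ w : V, (w = w₁ ∨ w = w₂ ∨ w = w₃) ∧ x = Submodule.span (ZMod 3) {ρ r w} := by
    rintro r hr x (rfl | rfl | rfl)
    · exact ⟨w₁, Or.inl rfl, hsm r w₁⟩
    · exact ⟨w₂, Or.inr (Or.inl rfl), hsm r w₂⟩
    · exact ⟨w₃, Or.inr (Or.inr rfl), hsm r w₃⟩
  have hfix : ∀ r ∈ R, ∀ x : Submodule (ZMod 3) V,
      (x = r • Submodule.span (ZMod 3) {w₁} ∨ x = r • Submodule.span (ZMod 3) {w₂} ∨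
        x = r • Submodule.span (ZMod 3) {w₃}) →
      x ≠ Submodule.span (ZMod 3) {w₁} → x ≠ Submodule.span (ZMod 3) {w₂} →
      x ≠ Submodule.span (ZMod 3) {w₃} → b • x = x := by
    intro r hr x hx n1 n2 n3
    obtain ⟨w, hw, rfl⟩ := himg r hr x hx
    rcases hline r hr w hw with e | e | e | e
    · exact absurd e n1
    · exact absurd e n2
    · exact absurd e n3
    · rw [hsm, F'.cfix _ e.1 e.2]
  obtain ⟨x₀, hx₀⟩ := Cfsg.Agent.Lib.helper53.perm_lemma R b hb3 h.bR h3 _ _ _ hs12 hs23 hs13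
    hb1 hb2 hb3' hfix
  have hmem3 : ∀ (r : G) (w : V), (w = w₁ ∨ w = w₂ ∨ w = w₃) →
      (Submodule.span (ZMod 3) {ρ r w} = r • Submodule.span (ZMod 3) {w₁} ∨
       Submodule.span (ZMod 3) {ρ r w} = r • Submodule.span (ZMod 3) {w₂} ∨
       Submodule.span (ZMod 3) {ρ r w} = r • Submodule.span (ZMod 3) {w₃}) := by
    rintro r w (rfl | rfl | rfl)
    · exact Or.inl (hsm r _).symm
    · exact Or.inr (Or.inl (hsm r _).symm)
    · exact Or.inr (Or.inr (hsm r _).symm)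
  by_cases hA : ∀ r ∈ R, ∀ w : V, (w = w₁ ∨ w = w₂ ∨ w = w₃) →
      (Submodule.span (ZMod 3) {ρ r w} = Submodule.span (ZMod 3) {w₁} ∨
       Submodule.span (ZMod 3) {ρ r w} = Submodule.span (ZMod 3) {w₂} ∨
       Submodule.span (ZMod 3) {ρ r w} = Submodule.span (ZMod 3) {w₃})
  · exfalso
    have hperm : ∀ r ∈ R, ∀ x : Submodule (ZMod 3) V,
        (x = Submodule.span (ZMod 3) {w₁} ∨ x = Submodule.span (ZMod 3) {w₂} ∨
          x = Submodule.span (ZMod 3) {w₃}) →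
        (r • x = Submodule.span (ZMod 3) {w₁} ∨ r • x = Submodule.span (ZMod 3) {w₂} ∨
          r • x = Submodule.span (ZMod 3) {w₃}) := by
      rintro r hr x (rfl | rfl | rfl)
      · rw [hsm]; exact hA r hr w₁ (Or.inl rfl)
      · rw [hsm]; exact hA r hr w₂ (Or.inr (Or.inl rfl))
      · rw [hsm]; exact hA r hr w₃ (Or.inr (Or.inr rfl))
    have hfixed := tnf_fix_of_perm R b h.bR h3 _ _ _ hs12 hs23 hs13 hb1 hb2 hb3' hperm
    have hinv1 : ∀ r ∈ R, ∀ v ∈ Submodule.span (ZMod 3) {w₁},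
        ρ r v ∈ Submodule.span (ZMod 3) {w₁} := by
      intro r hr v hv
      have h1 : ρ r v ∈ (Submodule.span (ZMod 3) {w₁}).map (ρ r) :=
        Submodule.mem_map_of_mem hv
      have h2 : (Submodule.span (ZMod 3) {w₁}).map (ρ r) = Submodule.span (ZMod 3) {w₁} :=
        hfixed r hr
      rwa [h2] at h1
    rcases hR _ hinv1 with hbot | htop
    · have h1 : w₁ ∈ Submodule.span (ZMod 3) {w₁} := Submodule.mem_span_singleton_self w₁
      rw [hbot, Submodule.mem_bot] at h1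
      exact F'.u1 h1
    · exact n21 (htop ▸ Submodule.mem_top)
  · push Not at hA
    obtain ⟨r₀, hr₀, w₀, hw₀, m1, m2, m3⟩ := hA
    have hw₄fix : ρ r₀ w₀ ∈ fixQ ρ (a * a₁) (a₁ * a₂) := by
      rcases hline r₀ hr₀ w₀ hw₀ with e | e | e | e
      · exact absurd e m1
      · exact absurd e m2
      · exact absurd e m3
      · exact e
    have hw₄ne : ρ r₀ w₀ ≠ 0 := hrne r₀ w₀ (hwne w₀ hw₀)
    have hx₀eq : Submodule.span (ZMod 3) {ρ r₀ w₀} = x₀ := by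
      rcases hx₀ r₀ hr₀ _ (hmem3 r₀ w₀ hw₀) with e | e | e | e
      · exact absurd e m1
      · exact absurd e m2
      · exact absurd e m3
      · exact e
    have hmono3 : ∀ r ∈ R, ∀ w : V, (w = w₁ ∨ w = w₂ ∨ w = w₃) →
        ∃ w' : V, (w' = w₁ ∨ w' = w₂ ∨ w' = w₃ ∨ w' = ρ r₀ w₀) ∧
          ∃ ε : ZMod 3, ρ r w = ε • w' := by
      intro r hr w hw
      have hself : ρ r w ∈ Submodule.span (ZMod 3) {ρ r w} :=
        Submodule.mem_span_singleton_self _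
      rcases hx₀ r hr _ (hmem3 r w hw) with e | e | e | e
      · rw [e] at hself
        obtain ⟨ε, hε⟩ := Submodule.mem_span_singleton.mp hself
        exact ⟨w₁, Or.inl rfl, ε, hε.symm⟩
      · rw [e] at hself
        obtain ⟨ε, hε⟩ := Submodule.mem_span_singleton.mp hself
        exact ⟨w₂, Or.inr (Or.inl rfl), ε, hε.symm⟩
      · rw [e] at hself
        obtain ⟨ε, hε⟩ := Submodule.mem_span_singleton.mp hself
        exact ⟨w₃, Or.inr (Or.inr (Or.inl rfl)), ε, hε.symm⟩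
      · rw [e, ← hx₀eq] at hself
        obtain ⟨ε, hε⟩ := Submodule.mem_span_singleton.mp hself
        exact ⟨ρ r₀ w₀, Or.inr (Or.inr (Or.inr rfl)), ε, hε.symm⟩
    have hmono4 : ∀ r ∈ R, ∀ w : V, (w = w₁ ∨ w = w₂ ∨ w = w₃ ∨ w = ρ r₀ w₀) →
        ∃ w' : V, (w' = w₁ ∨ w' = w₂ ∨ w' = w₃ ∨ w' = ρ r₀ w₀) ∧
          ∃ ε : ZMod 3, ρ r w = ε • w' := by
      rintro r hr w (rfl | rfl | rfl | rfl)
      · exact hmono3 r hr _ (Or.inl rfl)
      · exact hmono3 r hr _ (Or.inr (Or.inl rfl))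
      · exact hmono3 r hr _ (Or.inr (Or.inr rfl))
      · have h1 := hmono3 (r * r₀) (R.mul_mem hr hr₀) w₀ hw₀
        rwa [rho_mul] at h1
    have hWinv : ∀ r ∈ R, ∀ v ∈ Submodule.span (ZMod 3) ({w₁, w₂, w₃, ρ r₀ w₀} : Set V),
        ρ r v ∈ Submodule.span (ZMod 3) ({w₁, w₂, w₃, ρ r₀ w₀} : Set V) := by
      intro r hr v hv
      have h1 : (Submodule.span (ZMod 3) ({w₁, w₂, w₃, ρ r₀ w₀} : Set V)).map (ρ r) ≤
          Submodule.span (ZMod 3) ({w₁, w₂, w₃, ρ r₀ w₀} : Set V) := by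
        rw [Submodule.map_span_le]
        intro m hm
        have hm' : m = w₁ ∨ m = w₂ ∨ m = w₃ ∨ m = ρ r₀ w₀ := by simpa using hm
        obtain ⟨w', hw', ε, hε⟩ := hmono4 r hr m hm'
        rw [hε]
        apply Submodule.smul_mem
        apply Submodule.subset_span
        simpa using hw'
      exact h1 (Submodule.mem_map_of_mem hv)
    have hWtop : Submodule.span (ZMod 3) ({w₁, w₂, w₃, ρ r₀ w₀} : Set V) = ⊤ := by
      rcases hR _ hWinv with hbot | htop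
      · exfalso
        have h1 : w₁ ∈ Submodule.span (ZMod 3) ({w₁, w₂, w₃, ρ r₀ w₀} : Set V) :=
          Submodule.subset_span (by simp)
        rw [hbot, Submodule.mem_bot] at h1
        exact F'.u1 h1
      · exact htop
    have hcl : CLine ρ (a * a₁) (a₁ * a₂) (ρ r₀ w₀) := by
      refine ⟨hw₄ne, hw₄fix.1, hw₄fix.2, ?_⟩
      intro v hv1 hv2
      have hv : v ∈ Submodule.span (ZMod 3) ({w₁, w₂, w₃, ρ r₀ w₀} : Set V) := by
        rw [hWtop]; exact Submodule.mem_top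
      rw [Submodule.mem_span_insert] at hv
      obtain ⟨c₁, z₁, hz₁, rfl⟩ := hv
      rw [Submodule.mem_span_insert] at hz₁
      obtain ⟨c₂, z₂, hz₂, rfl⟩ := hz₁
      rw [Submodule.mem_span_insert] at hz₂
      obtain ⟨c₃, z₃, hz₃, rfl⟩ := hz₂
      obtain ⟨c₄, rfl⟩ := Submodule.mem_span_singleton.mp hz₃
      have hfixv : c₁ • w₁ + (c₂ • w₂ + (c₃ • w₃ + c₄ • ρ r₀ w₀)) ∈
          fixQ ρ (a * a₁) (a₁ * a₂) := ⟨hv1, hv2⟩
      have hd : c₄ • ρ r₀ w₀ - (c₁ • w₁ + (c₂ • w₂ + (c₃ • w₃ + c₄ • ρ r₀ w₀))) ∈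
          fixQ ρ (a * a₁) (a₁ * a₂) :=
        Submodule.sub_mem _ (Submodule.smul_mem _ _ hw₄fix) hfixv
      have h0 : c₁ • w₁ + c₂ • w₂ + c₃ • w₃ +
          (c₄ • ρ r₀ w₀ - (c₁ • w₁ + (c₂ • w₂ + (c₃ • w₃ + c₄ • ρ r₀ w₀)))) = 0 := by abel
      obtain ⟨-, -, -, hz⟩ := F'.indep hd h0
      exact ⟨c₄, (sub_eq_zero.mp hz).symm⟩
    refine ⟨a * a₁, a₁ * a₂, a₂ * a, w₁, w₂, w₃, ρ r₀ w₀, h', hcl, ?_⟩
    intro r hr i
    have hval : (![w₁, w₂, w₃, ρ r₀ w₀] i = w₁ ∨ ![w₁, w₂, w₃, ρ r₀ w₀] i = w₂ ∨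
        ![w₁, w₂, w₃, ρ r₀ w₀] i = w₃ ∨ ![w₁, w₂, w₃, ρ r₀ w₀] i = ρ r₀ w₀) := by
      fin_cases i
      · exact Or.inl rfl
      · exact Or.inr (Or.inl rfl)
      · exact Or.inr (Or.inr (Or.inl rfl))
      · exact Or.inr (Or.inr (Or.inr rfl))
    obtain ⟨w', hw', ε, hε⟩ := hmono4 r hr _ hval
    have hidx : ∃ j : Fin 4, ![w₁, w₂, w₃, ρ r₀ w₀] j = w' := by
      rcases hw' with rfl | rfl | rfl | rfl
      · exact ⟨0, rfl⟩
      · exact ⟨1, rfl⟩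
      · exact ⟨2, rfl⟩
      · exact ⟨3, rfl⟩
    obtain ⟨j, hj⟩ := hidx
    exact ⟨j, ε, by rw [hj]; exact hε⟩

end TNFmain

end Cfsg.Agent.Lib.helper70
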