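import Mathlib
import Cfsg.Agent.Lib.helper38.TN2

/-!
helper70: PIECE L of S4415 (helper38's split): Jordan structure of `b` on `E = E₀ ⊕ E₁`.
-/

namespace Cfsg.Agent.Lib.helper70

open Cfsg.Agent.Lib.helper38.TN

theorem tnl_dec2 : ∀ x x' : ZMod 3, ∃ c c' : ZMod 3, (c ≠ 0 ∨ c' ≠ 0) ∧ c * x + c' * x' = 0 := by
  decide +kernel

theorem tnl_dec3 : ∀ a₁ a₂ a₃ b₁ b₂ b₃ : ZMod 3, ∃ α β γ : ZMod 3, (α ≠ 0 ∨ β ≠ 0 ∨ γ ≠ 0) ∧
    α * a₁ + β * a₂ + γ * a₃ = 0 ∧ α * b₁ + β * b₂ + γ * b₃ = 0 := by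
  decide +kernel

theorem tnl_three {E : Type*} [AddCommGroup E] [Module (ZMod 3) E] (x : E) : x + x + x = 0 := by
  have h : (3 : ZMod 3) • x = 0 := by
    rw [show (3 : ZMod 3) = 0 from by decide, zero_smul]
  rw [← h, show (3 : ZMod 3) = 1 + 1 + 1 from by decide, add_smul, add_smul, one_smul]

theorem jordan_E {S : Type*} [Group S] {E : Type*} [AddCommGroup E] [Module (ZMod 3) E] [Finite E]
    (ρ : Representation (ZMod 3) S E) (b : S) (hb3 : b ^ 3 = 1) (E₀ E₁ : Submodule (ZMod 3) E)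
    (hE01 : E₀ ⊓ E₁ = ⊥) (hE01' : E₀ ⊔ E₁ = ⊤) (hE1 : ∀ v ∈ E₁, ρ b v = v)
    (hE0inv : ∀ v ∈ E₀, ρ b v ∈ E₀) (hE0 : Nat.card ↥E₀ = 27)
    (hind : ∃ v ∈ E₀, ρ b (ρ b v - v) - (ρ b v - v) ≠ 0) :
    (∀ v v' : E, ∃ c c' : ZMod 3, (c ≠ 0 ∨ c' ≠ 0) ∧
        c • nb ρ b (nb ρ b v) + c' • nb ρ b (nb ρ b v') = 0) ∧
    (∀ v₁ v₂ v₃ : E, ∃ α β γ : ZMod 3, (α ≠ 0 ∨ β ≠ 0 ∨ γ ≠ 0) ∧
        α • nb ρ b v₁ + β • nb ρ b v₂ + γ • nb ρ b v₃ = 0) := by
  -- the nilpotent operator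
  set N : E →ₗ[ZMod 3] E := ρ b - LinearMap.id with hN
  have hNapp : ∀ v, N v = ρ b v - v := fun v => rfl
  have hnb : ∀ v, nb ρ b v = N v := fun v => rfl
  have hb : ∀ v, ρ b (ρ b (ρ b v)) = v := by
    intro v
    have h1 : ρ (b ^ 3) = ρ b * (ρ b * ρ b) := by
      rw [pow_succ, pow_two, map_mul, map_mul, mul_assoc]
    rw [hb3, map_one] at h1
    have h2 := congrArg (fun f : Module.End (ZMod 3) E => f v) h1
    simp only [Module.End.one_apply, Module.End.mul_apply] at h2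
    exact h2.symm
  have hN3 : ∀ v, N (N (N v)) = 0 := by
    intro v
    simp only [hNapp, map_sub, hb]
    have h := tnl_three (ρ b v - ρ b (ρ b v))
    rw [← h]
    abel
  have hN0 : ∀ v ∈ E₀, N v ∈ E₀ := by
    intro v hv
    rw [hNapp]
    exact E₀.sub_mem (hE0inv v hv) hv
  have hN1 : ∀ v ∈ E₁, N v = 0 := by
    intro v hv
    rw [hNapp, hE1 v hv, sub_self]
  obtain ⟨v₀, hv₀, hne⟩ := hind
  have hne' : N (N v₀) ≠ 0 := hne
  -- independence of v₀, N v₀, N² v₀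
  have hindep : ∀ x y z : ZMod 3, x • v₀ + y • N v₀ + z • N (N v₀) = 0 →
      x = 0 ∧ y = 0 ∧ z = 0 := by
    intro x y z h
    have h1 := congrArg (fun w => N (N w)) h
    simp only [map_add, map_smul, hN3, map_zero, smul_zero, add_zero] at h1
    have hx : x = 0 := by
      rcases smul_eq_zero.mp h1 with h2 | h2
      · exact h2
      · exact absurd h2 hne'
    subst hx
    have h2 := congrArg (fun w => N w) h
    simp only [map_add, map_smul, hN3, map_zero, smul_zero, add_zero, zero_smul, zero_add] at h2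
    have hy : y = 0 := by
      rcases smul_eq_zero.mp h2 with h3 | h3
      · exact h3
      · exact absurd h3 hne'
    subst hy
    simp only [zero_smul, zero_add] at h
    have hz : z = 0 := by
      rcases smul_eq_zero.mp h with h3 | h3
      · exact h3
      · exact absurd h3 hne'
    exact ⟨rfl, rfl, hz⟩
  -- the parametrization of E₀
  let φ : ZMod 3 × ZMod 3 × ZMod 3 → ↥E₀ := fun t =>
    ⟨t.1 • v₀ + t.2.1 • N v₀ + t.2.2 • N (N v₀),
      E₀.add_mem (E₀.add_mem (E₀.smul_mem _ hv₀) (E₀.smul_mem _ (hN0 v₀ hv₀)))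
        (E₀.smul_mem _ (hN0 _ (hN0 v₀ hv₀)))⟩
  have hφinj : Function.Injective φ := by
    rintro ⟨x, y, z⟩ ⟨x', y', z'⟩ h
    have h1 : x • v₀ + y • N v₀ + z • N (N v₀) = x' • v₀ + y' • N v₀ + z' • N (N v₀) :=
      congrArg Subtype.val h
    have h2 : (x - x') • v₀ + (y - y') • N v₀ + (z - z') • N (N v₀) = 0 := by
      rw [sub_smul, sub_smul, sub_smul]
      have h3 := sub_eq_zero.mpr h1
      rw [← h3]
      abel
    obtain ⟨hx, hy, hz⟩ := hindep _ _ _ h2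
    rw [sub_eq_zero.mp hx, sub_eq_zero.mp hy, sub_eq_zero.mp hz]
  have hcard : Nat.card ↥E₀ ≤ Nat.card (ZMod 3 × ZMod 3 × ZMod 3) := by
    rw [hE0, Nat.card_prod, Nat.card_prod, Nat.card_zmod]
  have hφsurj : Function.Surjective φ := (hφinj.bijective_of_nat_card_le hcard).2
  -- N v and N² v in terms of N v₀, N² v₀
  have hrepr : ∀ v : E, ∃ x y : ZMod 3, N v = x • N v₀ + y • N (N v₀) ∧
      N (N v) = x • N (N v₀) := by
    intro v
    have hv : v ∈ E₀ ⊔ E₁ := by rw [hE01']; exact Submodule.mem_top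
    obtain ⟨e₀, he₀, e₁, he₁, rfl⟩ := Submodule.mem_sup.mp hv
    obtain ⟨⟨x, y, z⟩, ht⟩ := hφsurj ⟨e₀, he₀⟩
    have he : e₀ = x • v₀ + y • N v₀ + z • N (N v₀) := (congrArg Subtype.val ht).symm
    refine ⟨x, y, ?_, ?_⟩
    · rw [map_add, hN1 e₁ he₁, add_zero, he]
      simp only [map_add, map_smul, hN3, smul_zero, add_zero]
    · rw [map_add, hN1 e₁ he₁, add_zero, he]
      simp only [map_add, map_smul, hN3, smul_zero, add_zero, map_zero]
  constructor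
  · intro v v'
    obtain ⟨x, y, -, hx2⟩ := hrepr v
    obtain ⟨x', y', -, hx2'⟩ := hrepr v'
    obtain ⟨c, c', hc, hcc⟩ := tnl_dec2 x x'
    refine ⟨c, c', hc, ?_⟩
    rw [hnb v, hnb v', hnb, hnb, hx2, hx2', smul_smul, smul_smul, ← add_smul, hcc, zero_smul]
  · intro v₁ v₂ v₃
    obtain ⟨a₁, b₁, h1, -⟩ := hrepr v₁
    obtain ⟨a₂, b₂, h2, -⟩ := hrepr v₂
    obtain ⟨a₃, b₃, h3, -⟩ := hrepr v₃
    obtain ⟨α, β, γ, hne3, ha, hb'⟩ := tnl_dec3 a₁ a₂ a₃ b₁ b₂ b₃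
    refine ⟨α, β, γ, hne3, ?_⟩
    rw [hnb, hnb, hnb, h1, h2, h3]
    have key : α • (a₁ • N v₀ + b₁ • N (N v₀)) + β • (a₂ • N v₀ + b₂ • N (N v₀)) +
        γ • (a₃ • N v₀ + b₃ • N (N v₀)) =
        (α * a₁ + β * a₂ + γ * a₃) • N v₀ + (α * b₁ + β * b₂ + γ * b₃) • N (N v₀) := by
      module
    rw [key, ha, hb', zero_smul, zero_smul, add_zero]

end Cfsg.Agent.Lib.helper70
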