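import Mathlib
import Cfsg.Prelude.Def_OddOrderLocal
import Cfsg.Agent.Lib.helper6.TV_X4
import Cfsg.Agent.Lib.helper6.TV_X5
import Cfsg.Agent.Lib.helper70.TV_X3

set_option autoImplicit false
set_option maxHeartbeats 400000

/-!
# S1383 piece XA (helper70): core of `p3_lemma` (statement of X2 as a hypothesis)
-/

namespace Cfsg.Agent.Lib.helper70.TV

open Cfsg Subgroup

variable {G : Type*} [Group G]

/-- conjugation action of `K ≤ N_G(P)` (centralizing `Z(P)`) on the subgroups of order `p ^ 2`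
between `Z(P)` and `P`. -/
def h70_act (p : ℕ) (P K : Subgroup G) (hKP : K ≤ normalizer (P : Set G))
    (hKZ : ∀ k ∈ K, ∀ z ∈ P ⊓ centralizer (P : Set G), k * z = z * k) :
    MulAction ↥K
      {A : Subgroup G // P ⊓ centralizer (P : Set G) ≤ A ∧ A ≤ P ∧ Nat.card A = p ^ 2} where
  smul k A := ⟨A.1.map (MulAut.conj (k : G)).toMonoidHom, by
      intro z hz
      rw [Subgroup.mem_map]
      refine ⟨z, A.2.1 hz, ?_⟩
      show (k : G) * z * (k : G)⁻¹ = z
      rw [hKZ k k.2 z hz]; group, by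
      intro x hx
      rw [Subgroup.mem_map] at hx
      obtain ⟨y, hy, rfl⟩ := hx
      exact (mem_normalizer_iff.mp (hKP k.2) y).mp (A.2.2.1 hy), by
      rw [Subgroup.card_map_of_injective (MulAut.conj (k : G)).injective]
      exact A.2.2.2⟩
  one_smul A := by
    apply Subtype.ext
    show A.1.map (MulAut.conj ((1 : ↥K) : G)).toMonoidHom = A.1
    ext x
    simp [Subgroup.mem_map]
  mul_smul k k' A := by
    apply Subtype.ext
    show A.1.map (MulAut.conj ((k * k' : ↥K) : G)).toMonoidHom =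
      (A.1.map (MulAut.conj (k' : G)).toMonoidHom).map (MulAut.conj (k : G)).toMonoidHom
    ext x
    simp [Subgroup.mem_map, mul_assoc]

/-- **XA core**: `p3_lemma` with the statement of X2 (for this `P`) as a hypothesis. -/
theorem p3_lemma_core [Finite G] (p : ℕ) [Fact p.Prime] (P K : Subgroup G)
    (hP : Nat.card P = p ^ 3) (hPna : ¬ IsMulCommutative ↥P)
    (hX2 : ∀ (A : Subgroup G), P ⊓ centralizer (P : Set G) ≤ A → A ≤ P → Nat.card A = p ^ 2 →
      ∀ k : G, k ∈ normalizer (P : Set G) → k ∈ normalizer (A : Set G) →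
      (∀ z ∈ P ⊓ centralizer (P : Set G), k * z = z * k) → (orderOf k).Coprime p →
      ∀ x ∈ P, k ^ (p - 1) * x = x * k ^ (p - 1))
    (hKP : K ≤ normalizer (P : Set G)) (hKc : IsCyclic ↥K)
    (hKodd : Odd (Nat.card K)) (hcop : (Nat.card K).Coprime p)
    (hfix : ∀ k ∈ K, k ≠ 1 → P ⊓ centralizer ({k} : Set G) ≤ P ⊓ centralizer (P : Set G))
    (hKZ : ∀ k ∈ K, ∀ z ∈ P ⊓ centralizer (P : Set G), k * z = z * k) :
    Nat.card K ∣ p - 1 ∨ Nat.card K ∣ p + 1 := by
  classical
  have hp : p.Prime := Fact.out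
  -- an element of `K` centralizing `P` is trivial
  have hcentP : ∀ k ∈ K, (∀ x ∈ P, k * x = x * k) → k = 1 := by
    intro k hk hc
    by_contra hk1
    apply hPna
    have hle := hfix k hk hk1
    have hPZ : ∀ x ∈ P, x ∈ centralizer (P : Set G) := by
      intro x hx
      have hxk : x ∈ P ⊓ centralizer ({k} : Set G) := by
        refine Subgroup.mem_inf.mpr ⟨hx, ?_⟩
        rw [mem_centralizer_iff]
        intro y hy
        have hy' : y = k := hy
        rw [hy']; exact hc x hx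
      exact (Subgroup.mem_inf.mp (hle hxk)).2
    exact ⟨⟨fun a b => Subtype.ext ((mem_centralizer_iff.mp (hPZ b b.2)) a a.2)⟩⟩
  by_cases hcase : ∃ h ∈ K, h ≠ 1 ∧ ∃ A : Subgroup G, P ⊓ centralizer (P : Set G) ≤ A ∧ A ≤ P ∧
      Nat.card A = p ^ 2 ∧ h ∈ normalizer (A : Set G)
  · obtain ⟨h, hhK, hh1, A, hZA, hAP, hA, hhA⟩ := hcase
    left
    have hnc : ¬ ∀ x ∈ P, h * x = x * h := fun hc => hh1 (hcentP h hhK hc)
    have hoh : orderOf h ∣ Nat.card K := by
      have h1 := orderOf_dvd_natCard (⟨h, hhK⟩ : ↥K)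
      rwa [Subgroup.orderOf_mk] at h1
    have hodd : Odd (orderOf h) := Odd.of_dvd_nat hKodd hoh
    have hcoph : (orderOf h).Coprime p := Nat.Coprime.coprime_dvd_left hoh hcop
    obtain ⟨g₀, hg₀⟩ := hKc.exists_generator
    have hKcomm : ∀ x ∈ K, ∀ y ∈ K, x * y = y * x := by
      intro x hx y hy
      obtain ⟨i, hi⟩ := Subgroup.mem_zpowers_iff.mp (hg₀ ⟨x, hx⟩)
      obtain ⟨j, hj⟩ := Subgroup.mem_zpowers_iff.mp (hg₀ ⟨y, hy⟩)
      have hx' : x = (g₀ : G) ^ i := by
        have := congrArg Subtype.val hi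
        simpa using this.symm
      have hy' : y = (g₀ : G) ^ j := by
        have := congrArg Subtype.val hj
        simpa using this.symm
      rw [hx', hy', ← zpow_add, ← zpow_add, add_comm]
    have hKA : ∀ g ∈ K, g ∈ normalizer (A : Set G) := fun g hg =>
      p3_eigen p P A hP hPna hZA hAP hA h g (hKP hhK) (hKP hg) hhA (hKcomm h hhK g hg)
        (hKZ h hhK) hodd hcoph hnc
    have hord : orderOf (g₀ : G) = Nat.card K := by
      rw [Subgroup.orderOf_coe]; exact orderOf_eq_card_of_forall_mem_zpowers hg₀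
    have hcop₀ : (orderOf (g₀ : G)).Coprime p := hord ▸ hcop
    have hx2 := hX2 A hZA hAP hA g₀ (hKP g₀.2) (hKA g₀ g₀.2) (hKZ g₀ g₀.2) hcop₀
    have h1 : (g₀ : G) ^ (p - 1) = 1 := hcentP _ (K.pow_mem g₀.2 _) hx2
    have h2 := orderOf_dvd_of_pow_eq_one h1
    rw [hord] at h2
    exact h2
  · push Not at hcase
    right
    letI := h70_act p P K hKP hKZ
    have hfree : ∀ (k : ↥K)
        (A : {A : Subgroup G // P ⊓ centralizer (P : Set G) ≤ A ∧ A ≤ P ∧ Nat.card A = p ^ 2}),
        k • A = A → k = 1 := by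
      intro k A hkA
      by_contra hk1
      have hk1' : (k : G) ≠ 1 := fun h => hk1 (Subtype.ext h)
      have h1 : A.1.map (MulAut.conj (k : G)).toMonoidHom = A.1 := congrArg Subtype.val hkA
      have hn : (k : G) ∈ normalizer (A.1 : Set G) := by
        apply h70_mem_normalizer_of_conj_le
        intro a ha
        rw [← h1, Subgroup.mem_map]
        exact ⟨a, ha, rfl⟩
      exact hcase k k.2 hk1' A.1 A.2.1 A.2.2.1 A.2.2.2 hn
    have hdvd := Cfsg.Agent.Lib.helper6.TV.card_dvd_of_free hfree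
    rw [Cfsg.Agent.Lib.helper6.TV.p3_count p P hP hPna] at hdvd
    exact hdvd

end Cfsg.Agent.Lib.helper70.TV
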