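import Mathlib
import Cfsg.Prelude.Def_OddOrderLocal
import Cfsg.Agent.Lib.helper49.TV_X2
import Cfsg.Agent.Lib.helper70.TV_XAcore

set_option autoImplicit false
set_option maxHeartbeats 400000

/-!
# S1383 piece XA (helper70): `p3_lemma` (verbatim Skel statement)
-/

namespace Cfsg.Agent.Lib.helper70.TV

open Cfsg Subgroup

variable {G : Type*} [Group G]

/-- **XA** (pure; assembly of X1-X5). `P` non-abelian of order `p ^ 3`, `K` a cyclic group of odd
order prime to `p` normalizing `P`, centralizing `Z(P)`, with `C_P(k) ≤ Z(P)` for all `k ∈ K#`.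
Then `|K|` divides `p - 1` or `p + 1`.
(If some `h ∈ K#` normalizes a subgroup `A`, `Z(P) ≤ A ≤ P`, `|A| = p ^ 2`, then by X3 all of `K`
does, and by X2 a generator `g` has `g ^ (p - 1)` centralizing `P`, so `g ^ (p - 1) = 1`.
Otherwise `K` acts freely by conjugation on the `p + 1` such subgroups: X4, X5.) -/
theorem p3_lemma [Finite G] (p : ℕ) [Fact p.Prime] (P K : Subgroup G) (hP : Nat.card P = p ^ 3)
    (hPna : ¬ IsMulCommutative ↥P) (hKP : K ≤ normalizer (P : Set G)) (hKc : IsCyclic ↥K)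
    (hKodd : Odd (Nat.card K)) (hcop : (Nat.card K).Coprime p)
    (hfix : ∀ k ∈ K, k ≠ 1 → P ⊓ centralizer ({k} : Set G) ≤ P ⊓ centralizer (P : Set G))
    (hKZ : ∀ k ∈ K, ∀ z ∈ P ⊓ centralizer (P : Set G), k * z = z * k) :
    Nat.card K ∣ p - 1 ∨ Nat.card K ∣ p + 1 :=
  p3_lemma_core p P K hP hPna
    (fun A hZA hAP hA k hkP hkA hkZ hcopk =>
      Cfsg.Agent.Lib.helper49.TV.p3_stab p P A hP hPna hZA hAP hA k hkP hkA hkZ hcopk)
    hKP hKc hKodd hcop hfix hKZ

end Cfsg.Agent.Lib.helper70.TV
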